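import Groth.Agent.MiscFlat6.FiniteOverOpen

/-!
# Finiteness over a neighbourhood of a generic point with finite fibre
-/

set_option autoImplicit false
universe u

open CategoryTheory Limits AlgebraicGeometry TopologicalSpace Topology

namespace MiscFlat6

/-- A point without proper generization in the closure of a quasi-compact open lies in it. -/
theorem mem_of_mem_closure {X : Scheme.{u}} [IsAffine X] {O : X.Opens} (hO : IsCompact (O : Set X)) {z : X}
    (hz : ∀ x, x ⤳ z → x = z) (hzc : z ∈ closure (O : Set X)) : z ∈ O := by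
  classical
  by_contra hzO
  have hX := isAffineOpen_top X
  obtain ⟨t, ht⟩ := hO.elim_finite_subcover (fun g : {g : Γ(X, ⊤) // X.basicOpen g ≤ O} => (X.basicOpen g.1 : Set X))
    (fun g => (X.basicOpen g.1).2) (fun x hx => by
      obtain ⟨g, hg, hxg⟩ := hX.exists_basicOpen_le (V := O) ⟨x, hx⟩ trivial
      exact Set.mem_iUnion.mpr ⟨⟨g, hg⟩, hxg⟩)
  let p := hX.primeIdealOf ⟨z, trivial⟩
  have e1 : hX.fromSpec.base p = z := hX.fromSpec_primeIdealOf ⟨z, trivial⟩
  have hp : p.asIdeal ∈ minimalPrimes Γ(X, ⊤) := by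
    rw [← PrimeSpectrum.isMin_iff]
    intro q hq
    have hs := ((PrimeSpectrum.le_iff_specializes q p).mp hq).map hX.fromSpec.continuous
    rw [e1] at hs
    rw [show q = p from hX.fromSpec.isOpenEmbedding.injective ((hz _ hs).trans e1.symm)]
  have key : ∀ g : {g : Γ(X, ⊤) // X.basicOpen g ≤ O}, ∃ W : X.Opens, z ∈ W ∧ Disjoint (W : Set X) (X.basicOpen g.1) := by
    intro g
    have hg : g.1 ∈ p.asIdeal := by
      by_contra h
      apply hzO
      have h1 : p ∈ hX.fromSpec ⁻¹ᵁ X.basicOpen g.1 := by rw [hX.fromSpec_preimage_basicOpen]; exact h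
      exact g.2 (e1 ▸ (h1 : hX.fromSpec.base p ∈ X.basicOpen g.1))
    obtain ⟨s, hs, n, hn⟩ := exists_notMem_isNilpotent_mul hp hg
    refine ⟨X.basicOpen s, ?_, ?_⟩
    · have h1 : p ∈ hX.fromSpec ⁻¹ᵁ X.basicOpen s := by rw [hX.fromSpec_preimage_basicOpen]; exact hs
      exact e1 ▸ (h1 : hX.fromSpec.base p ∈ X.basicOpen s)
    · have hbot : (X.basicOpen s ⊓ X.basicOpen g.1 : X.Opens) = ⊥ := by
        rw [← Scheme.basicOpen_mul, ← Scheme.basicOpen_pow X (s * g.1) (Nat.succ_pos n), pow_succ, hn, zero_mul,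
          Scheme.basicOpen_zero]
      exact Set.disjoint_iff_inter_eq_empty.mpr (congrArg SetLike.coe hbot)
  choose W hW hWd using key
  obtain ⟨w, hwW, hwO⟩ := mem_closure_iff.mp hzc (⋂ g ∈ t, (W g : Set X))
    (t.finite_toSet.isOpen_biInter fun g _ => (W g).2) (Set.mem_iInter₂.mpr fun g _ => hW g)
  obtain ⟨g, hgt, hwg⟩ := Set.mem_iUnion₂.mp (ht hwO)
  exact Set.disjoint_left.mp (hWd g) (Set.mem_iInter₂.mp hwW g hgt) hwg

/-- A generic point avoids the bad sets of a quasi-separated morphism. -/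
theorem notMem_badSet {Y X : Scheme.{u}} [IsAffine X] (f : Y ⟶ X) [QuasiSeparated f] {n : ℕ} (V : Fin n → Y.Opens)
    (hfin : ∀ i, IsFinite ((V i).ι ≫ f)) (η : X) (hη : ∀ x, x ⤳ η → x = η) (i j : Fin n) :
    η ∉ badSet f V i j := by
  rintro ⟨z, ⟨hzc, hzj⟩, hz⟩
  haveI : QuasiSeparatedSpace Y := quasiSeparatedSpace_of_quasiSeparated f
  have haff : ∀ k, IsAffineOpen (V k) := fun k => haveI := hfin k; isAffine_of_isAffineHom ((V k).ι ≫ f)
  haveI : IsAffine (V i : Scheme.{u}) := haff i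
  haveI := hfin i
  refine hzj (mem_of_mem_closure ?_ (fun x hx => ?_) hzc)
  · have hcpt : IsCompact ((V i : Set Y) ∩ V j) :=
      QuasiSeparatedSpace.inter_isCompact _ _ (V i).2 (haff i).isCompact (V j).2 (haff j).isCompact
    refine ((V i).ι.isOpenEmbedding.isInducing.isCompact_iff).mpr ?_
    convert hcpt using 1
    ext y
    constructor
    · rintro ⟨w, hw, rfl⟩; exact ⟨w.2, hw⟩
    · rintro ⟨h1, h2⟩; exact ⟨⟨y, h1⟩, h2, rfl⟩
  · have hd := (locallyQuasiFinite_iff_isDiscrete_preimage_singleton (f := (V i).ι ≫ f)).mp inferInstance η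
    have hxη : ((V i).ι ≫ f).base x = η := hη _ (hz ▸ hx.map ((V i).ι ≫ f).continuous)
    haveI := isDiscrete_iff_discreteTopology.mp hd
    have hsp : (⟨x, hxη⟩ : ((V i).ι ≫ f).base ⁻¹' {η}) ⤳ ⟨z, hz⟩ := (subtype_specializes_iff _ _).mpr hx
    exact congrArg Subtype.val (hsp.eq)

end MiscFlat6
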