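import Groth.Agent.QCohLib.Vanishing
import Groth.Agent.QCohLib.SerreCrit
import Groth.Prelude.Def_RelSpec2
import Groth.Agent.QCohLib.QCoh
import Mathlib
universe u
open CategoryTheory CategoryTheory.Limits AlgebraicGeometry TopologicalSpace Opposite
noncomputable section
set_option autoImplicit false
namespace MiscFlat6

/-- direct images under affine morphisms keep epimorphisms -/
theorem epi_dirImg_map {X S : Scheme.{u}} (f : X ⟶ S) [IsAffineHom f] (F G : X.Modules) (hF : Coh.IsQCoh F) (hG : Coh.IsQCoh G)
    (v : F ⟶ G) [Epi v] : Epi ((AMod.dirImg f).map v) := by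
  haveI := hF; haveI := hG
  have h : Epi ((Scheme.Modules.pushforward f).map v) := by
    refine QCohLib.epi_of_surjective_on_affines _ fun V s p hp => ?_
    obtain ⟨V', hV', hp', hle⟩ := Opens.isBasis_iff_nbhd.mp S.isBasis_affineOpens hp
    let T : ShortComplex X.Modules := ShortComplex.mk (kernel.ι v) v (kernel.condition v)
    have hT : T.ShortExact :=
      { exact := ShortComplex.exact_of_f_is_kernel _ (kernelIsKernel v)
        mono_f := inferInstanceAs (Mono (kernel.ι v))
        epi_g := inferInstanceAs (Epi v) }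
    haveI : Coh.IsQCoh T.X₁ := QCohLib.isQCoh_kernel v
    obtain ⟨t, ht⟩ := QCohLib.app_surjective_of_affine hT (hV'.preimage f)
      ((((Scheme.Modules.pushforward f).obj G).presheaf.map (homOfLE hle).op) s)
    exact ⟨V', hle, hp', t, ht⟩
  haveI : (AMod.toOS (RelSpec.QCAlg.directImage f)).Faithful :=
    ⟨fun {M N} {a b} hab => by
      apply SheafOfModules.hom_ext
      apply PresheafOfModules.hom_ext
      intro U
      ext m
      exact congrArg (fun φ : (AMod.toOS (RelSpec.QCAlg.directImage f)).obj M ⟶
        (AMod.toOS (RelSpec.QCAlg.directImage f)).obj N => φ.val.app U m) hab⟩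
  exact Functor.epi_of_epi_map (F := AMod.toOS (RelSpec.QCAlg.directImage f)) (show Epi ((AMod.dirImg f ⋙ AMod.toOS _).map v) by rw [AMod.toOS_dirImg]; exact h)

end MiscFlat6
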