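import Groth.Agent.MiscFlat6.RelAmpleComp

universe v u
open CategoryTheory CategoryTheory.Limits AlgebraicGeometry TopologicalSpace
open AmpleLib AmpleThLib
open TwistLib (genSet)

noncomputable section

namespace MiscFlat6

theorem isSeparated_of_affine_cover {X : Scheme.{u}} {ι : Type v} (U : ι → X.Opens) (hU : iSup U = ⊤)
    (haff : ∀ i, IsAffineOpen (U i)) (hinter : ∀ i j, IsAffineOpen (U i ⊓ U j))
    (hgen : ∀ (i j) (R : Subring Γ(X, U i ⊓ U j)),
      (∀ a, X.presheaf.map (homOfLE (inf_le_left : U i ⊓ U j ≤ U i)).op a ∈ R) →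
      (∀ a, X.presheaf.map (homOfLE (inf_le_right : U i ⊓ U j ≤ U j)).op a ∈ R) → R = ⊤) :
    X.IsSeparated := by
  let f := X.toSpecΓ
  let 𝒰 := X.openCoverOfIsOpenCover U hU
  haveI : ∀ i, IsAffine (𝒰.X i) := haff
  haveI := HasAffineProperty.isLocal_affineProperty @IsClosedImmersion
  have hd := AffineTargetMorphismProperty.diagonal_of_openCover_source
    (Q := fun X _ f _ ↦ IsAffine X ∧ Function.Surjective (f.appTop)) f 𝒰 ?_
  · haveI : IsSeparated f := by
      rw [IsSeparated.isSeparated_eq_diagonal_isClosedImmersion]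
      exact (HasAffineProperty.iff_of_isAffine (P := MorphismProperty.diagonal @IsClosedImmersion) (f := f)).mpr hd
    exact ⟨by rw [← terminal.comp_from f]; infer_instance⟩
  intro (i : ι) (j : ι)
  let P : Scheme.{u} := pullback (U i).ι (U j).ι
  let j₀ : P ⟶ X := pullback.fst (U i).ι (U j).ι ≫ (U i).ι
  have hj₀ : j₀ = pullback.snd (U i).ι (U j).ι ≫ (U j).ι := pullback.condition
  have hr : j₀.opensRange = U i ⊓ U j := by
    refine Opens.ext ((IsOpenImmersion.range_pullback_to_base_of_left (U i).ι (U j).ι).trans ?_)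
    simp
  haveI : IsAffine ((j₀.opensRange : X.Opens) : Scheme.{u}) := hr ▸ hinter i j
  haveI : IsAffine P := .of_isIso j₀.isoOpensRange.hom
  refine ⟨‹IsAffine P›, ?_⟩
  let m := pullback.mapDesc (𝒰.f i) (𝒰.f j) f
  let R₀ : Subring Γ(P, ⊤) := m.appTop.hom.range
  have htop : (⊤ : P.Opens) ≤ j₀ ⁻¹ᵁ (U i ⊓ U j) := fun x _ => hr.le ⟨x, rfl⟩
  let ψ := j₀.appLE (U i ⊓ U j) ⊤ htop
  have hψ : Function.Surjective ψ := by
    intro a
    haveI := j₀.isIso_app (U i ⊓ U j) hr.ge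
    obtain ⟨b, hb⟩ := (ConcreteCategory.bijective_of_isIso (j₀.app (U i ⊓ U j))).2
      (P.presheaf.map (homOfLE le_top).op a)
    refine ⟨b, ?_⟩
    have hψ' : ψ = j₀.app (U i ⊓ U j) ≫ P.presheaf.map (homOfLE htop).op := rfl
    rw [hψ', CommRingCat.comp_apply, hb, ← CommRingCat.comp_apply, ← Functor.map_comp]
    exact congrArg (fun k : Γ(P, ⊤) ⟶ Γ(P, ⊤) => k a)
      ((congrArg P.presheaf.map (Subsingleton.elim _ (𝟙 _))).trans (P.presheaf.map_id _))
  suffices h : R₀.comap ψ.hom = ⊤ by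
    intro a
    obtain ⟨b, rfl⟩ := hψ a
    exact (h ▸ Subring.mem_top b : b ∈ R₀.comap ψ.hom)
  refine hgen i j _ (fun a => ?_) (fun a => ?_)
  · show ψ _ ∈ R₀
    refine ⟨(pullback.fst (𝒰.f i ≫ f) (𝒰.f j ≫ f)).appTop ((U i).ι.appLE (U i) ⊤ (by simp) a), ?_⟩
    rw [← CommRingCat.comp_apply _ ψ, Scheme.Hom.map_appLE]
    have hm : m ≫ pullback.fst _ _ = pullback.fst (U i).ι (U j).ι :=
      (pullback.lift_fst _ _ _).trans (Category.comp_id _)
    refine (congrArg (fun k : P ⟶ (U i : Scheme.{u}) => k.appTop ((U i).ι.appLE (U i) ⊤ (by simp) a)) hm).trans ?_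
    rw [← CommRingCat.comp_apply]
    refine congrArg (fun k : Γ(X, U i) ⟶ Γ(P, ⊤) => k a) ?_
    rw [Scheme.Hom.appTop, ← Scheme.Hom.appLE_eq_app]
    exact Scheme.Hom.appLE_comp_appLE _ _ _ _ _ _ _
  · show ψ _ ∈ R₀
    refine ⟨(pullback.snd (𝒰.f i ≫ f) (𝒰.f j ≫ f)).appTop ((U j).ι.appLE (U j) ⊤ (by simp) a), ?_⟩
    rw [← CommRingCat.comp_apply _ ψ, Scheme.Hom.map_appLE]
    have hm : m ≫ pullback.snd _ _ = pullback.snd (U i).ι (U j).ι :=
      (pullback.lift_snd _ _ _).trans (Category.comp_id _)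
    refine (congrArg (fun k : P ⟶ (U j : Scheme.{u}) => k.appTop ((U j).ι.appLE (U j) ⊤ (by simp) a)) hm).trans ?_
    rw [← CommRingCat.comp_apply]
    refine congrArg (fun k : Γ(X, U j) ⟶ Γ(P, ⊤) => k a) ?_
    rw [Scheme.Hom.appTop, ← Scheme.Hom.appLE_eq_app]
    refine (Scheme.Hom.appLE_comp_appLE _ _ _ _ _ _ _).trans ?_
    simp only [hj₀]
    rfl

theorem isSeparated_of_isAmple {X : Scheme.{u}} {L : X.Modules} (hA : CohB1.IsAmple L) : X.IsSeparated := by
  have hL := hA.1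
  obtain ⟨-, hloc⟩ := (isAmple_iff (hL := hL)).mp hA
  choose n V hn hV hxV haff using hloc
  have key : ∀ x y, ∃ (b : Γ(X, V x)) (c : Γ(X, V y)), V x ⊓ V y = X.basicOpen b ∧
      X.presheaf.map (homOfLE (inf_le_left : V x ⊓ V y ≤ V x)).op b *
        X.presheaf.map (homOfLE (inf_le_right : V x ⊓ V y ≤ V y)).op c = 1 := by
    intro x y
    obtain ⟨σ, hσ⟩ := (hV x).mul_right (hn y)
    obtain ⟨τ, hτ⟩ := (mul_comm (n y) (n x)) ▸ (hV y).mul_right (hn x)
    have hM := tensorPow_isInvertible hL (n x * n y)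
    have gσ := TwistLib.genSet_genOn hM σ
    have gτ := TwistLib.genSet_genOn hM τ
    revert hσ hτ
    generalize V x = A, V y = B
    rintro rfl rfl
    obtain ⟨b, hb⟩ := exists_coeff τ gσ
    obtain ⟨c, hc⟩ := exists_coeff σ gτ
    refine ⟨b, c, (inf_comm _ _).trans (mem_genSet_coeff hM τ gσ hb), ?_⟩
    have h1 := congrArg (res _ (inf_le_left : genSet hM σ ⊓ genSet hM τ ≤ genSet hM σ)) hb
    have h2 := congrArg (res _ (inf_le_right : genSet hM σ ⊓ genSet hM τ ≤ genSet hM τ)) hc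
    rw [res_smul, res_res, res_res] at h1 h2
    rw [← h1, smul_smul] at h2
    refine ((gσ.res inf_le_left) _ le_rfl).1 ?_
    dsimp only
    rw [res_refl, one_smul, res_res]
    exact (congrArg (· • _) (mul_comm _ _)).trans h2
  refine isSeparated_of_affine_cover V (eq_top_iff.mpr fun x _ => Opens.mem_iSup.mpr ⟨x, hxV x⟩) haff
    (fun x y => ?_) fun x y R hl hr => eq_top_iff.2 fun z _ => ?_
  · obtain ⟨b, c, h, -⟩ := key x y
    rw [h]; exact (haff x).basicOpen b
  · obtain ⟨b, c, h, hbc⟩ := key x y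
    have hle : X.basicOpen b ≤ V x := Scheme.basicOpen_le _ _
    let z' : Γ(X, X.basicOpen b) := X.presheaf.map (eqToHom h.symm).op z
    haveI := (haff x).isLocalization_basicOpen b
    obtain ⟨⟨a, ⟨_, k, rfl⟩⟩, ha⟩ := IsLocalization.surj (Submonoid.powers b) z'
    have ha' := congrArg (X.presheaf.map (eqToHom h).op) ha
    simp only [map_mul, RingHom.algebraMap_toAlgebra, z', ← CommRingCat.comp_apply, ← Functor.map_comp,
      ← op_comp, eqToHom_trans, eqToHom_refl, op_id, CategoryTheory.Functor.map_id, CommRingCat.id_apply] at ha'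
    replace ha' : z * X.presheaf.map (homOfLE (inf_le_left : V x ⊓ V y ≤ V x)).op (b ^ k) =
        X.presheaf.map (homOfLE (inf_le_left : V x ⊓ V y ≤ V x)).op a := ha'
    have hz : z = X.presheaf.map (homOfLE (inf_le_left : V x ⊓ V y ≤ V x)).op a *
        X.presheaf.map (homOfLE (inf_le_right : V x ⊓ V y ≤ V y)).op (c ^ k) := by
      rw [← ha', mul_assoc, map_pow, map_pow, ← mul_pow, hbc, one_pow, mul_one]
    rw [hz]
    exact mul_mem (hl a) (hr _)

end MiscFlat6
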