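import Groth.Agent.MiscFlat6.SectionDescent
import Groth.Agent.MiscFlat6.AmpleSep
import Groth.Agent.AmpleThLib.Ample

/-!
# Fpqc descent of ampleness
-/

universe u
open CategoryTheory CategoryTheory.Limits AlgebraicGeometry TopologicalSpace Opposite
open AmpleLib AmpleThLib
open TwistLib (genSet)
open KFlatLib (pb puSec)

noncomputable section

namespace MiscFlat6

theorem isAmple_of_isAmple_pb_fpqc {X Y Y' : Scheme.{u}} [IsAffine Y] [IsAffine Y'] (f : X ⟶ Y) (g : Y' ⟶ Y)
    [QuasiCompact f] [Flat g] [Surjective g] {L : X.Modules} (hL : PicF.IsInvertible L)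
    (hA : CohB1.IsAmple (pb (pullback.fst f g) L)) : CohB1.IsAmple L := by
  classical
  let p := pullback.fst f g
  haveI : CompactSpace X := QuasiCompact.compactSpace_of_compactSpace f
  haveI : CompactSpace ↥(pullback f g) := hA.2.1
  haveI := AmpleThLib.quasiSeparatedSpace_of_isAmple hA
  haveI : IsAffineHom g := inferInstance
  haveI : IsAffineHom p := MorphismProperty.pullback_fst _ _ inferInstance
  haveI : Surjective p := MorphismProperty.pullback_fst _ _ inferInstance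
  haveI : QuasiSeparatedSpace X := ⟨fun A B hA hAc hB hBc => by
    have h := QuasiSeparatedSpace.inter_isCompact _ _ (hA.preimage p.continuous) (p.isCompact_preimage (U := ⟨A, hA⟩) hAc)
      (hB.preimage p.continuous) (p.isCompact_preimage (U := ⟨B, hB⟩) hBc)
    rw [show A ∩ B = p '' (p ⁻¹' (A ∩ B)) from (Set.image_preimage_eq _ p.surjective).symm]
    exact h.image p.continuous⟩
  haveI : QuasiSeparated f := quasiSeparated_iff_quasiSeparatedSpace f |>.mpr inferInstance
  refine (AmpleThLib.isAmple_iff (hL := hL)).mpr ⟨inferInstance, fun x => ?_⟩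
  obtain ⟨x', rfl⟩ := p.surjective x
  obtain ⟨U', e₀', hxU', he₀'⟩ := TwistLib.exists_genOn hL (p x')
  obtain ⟨U, hU, hxU, hUU'⟩ := exists_isAffineOpen_mem_and_subset hxU'
  obtain ⟨n, V, hn, ⟨τ₁, hτ₁⟩, hxV, -, hVle⟩ :=
    exists_locus_le (AmpleDevLib.isInvertible_pb p hL) hA (W := p ⁻¹ᵁ U) (x := x') hxU
  obtain ⟨φ₁, -⟩ := AmpleDevLib.exists_pullPowIso p hL n
  let M := CohB1.tensorPow L n
  have hM : PicF.IsInvertible M := tensorPow_isInvertible hL n
  let τ : Γ(pb p M, ⊤) := φ₁.inv.app ⊤ τ₁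
  have hτ : genSet (AmpleDevLib.isInvertible_pb p hM) τ = V :=
    (genSet_iso _ (AmpleDevLib.isInvertible_pb p hM) φ₁.symm τ₁).trans hτ₁
  -- the closed complement
  let I := Scheme.IdealSheafData.vanishingIdeal ⟨(U : Set X)ᶜ, U.2.isClosed_compl⟩
  let i := I.subschemeι
  have hrange : Set.range i = (U : Set X)ᶜ := by
    rw [Scheme.IdealSheafData.range_subschemeι]; simp [I]
  let ρ := pullback.snd i p
  haveI : IsClosedImmersion ρ := MorphismProperty.pullback_snd _ _ inferInstance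
  have hρU : ∀ z, p (ρ z) ∉ U := fun z hz => by
    have h1 : p (ρ z) ∈ Set.range i := ⟨pullback.fst i p z, by
      rw [← Scheme.Hom.comp_apply, pullback.condition, Scheme.Hom.comp_apply]⟩
    rw [hrange] at h1
    exact h1 hz
  -- finitely many charts
  have hloc : ∀ y : X, ∃ (W : X.Opens) (e : Γ(M, W)), y ∈ W ∧ GenOn M e ∧ IsAffineOpen W := by
    intro y
    obtain ⟨W', e, hy, he⟩ := TwistLib.exists_genOn hM y
    obtain ⟨W, hW, hyW, hWW'⟩ := exists_isAffineOpen_mem_and_subset hy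
    exact ⟨W, res M hWW' e, hyW, he.res hWW', hW⟩
  choose W e hmem hgen haff using hloc
  obtain ⟨S, hS⟩ := isCompact_univ.elim_finite_subcover (fun y => (W y : Set X))
    (fun y => (W y).2) fun y _ => Set.mem_iUnion.mpr ⟨y, hmem y⟩
  choose c hc using fun j : S => exists_coeff τ (AmpleDevLib.puSec_genOn p (hgen j.1))
  have hnil : ∀ j : S, IsNilpotent (ρ.app _ (c j)) := by
    intro j
    refine (Scheme.isNilpotent_iff_basicOpen_eq_bot_of_isCompact
      (((haff j.1).preimage p).preimage ρ).isCompact _).mpr ?_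
    rw [← Scheme.preimage_basicOpen, ← mem_genSet_coeff (AmpleDevLib.isInvertible_pb p hM) τ (AmpleDevLib.puSec_genOn p (hgen j.1)) (hc j), hτ]
    exact eq_bot_iff.mpr fun z hz => hρU z (hVle hz.1)
  choose N hN using hnil
  let k := Finset.univ.sum N + 1
  obtain ⟨φ, hφ⟩ := AmpleDevLib.exists_pullPowIso p hM k
  have hMk : PicF.IsInvertible (CohB1.tensorPow M k) := tensorPow_isInvertible hM k
  let σ : Γ(pb p (CohB1.tensorPow M k), ⊤) := φ.inv.app ⊤ (pS τ k)
  have hσV : genSet (AmpleDevLib.isInvertible_pb p hMk) σ = V :=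
    (genSet_iso _ (AmpleDevLib.isInvertible_pb p hMk) φ.symm (pS τ k)).trans
      ((genSet_pS _ τ (Nat.succ_pos _)).trans hτ)
  have hcoef : ∀ j : S, c j ^ k • puSec p (pS (e j.1) k) = res _ le_top σ := by
    intro j
    have h1 := congrArg (fun z => φ.inv.app (p ⁻¹ᵁ W j.1) (pS z k)) (hc j)
    simp only [pS_smul, QCohLib.app_smul, ← pS_res] at h1
    rw [show φ.inv.app (p ⁻¹ᵁ W j.1) (pS (puSec p (e j.1)) k) = puSec p (pS (e j.1) k) from
      (congrArg _ (hφ ⟨W j.1, e j.1, hgen j.1⟩).symm).trans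
        congr($(congrArg (fun ψ => Scheme.Modules.Hom.app ψ (p ⁻¹ᵁ W j.1)) φ.hom_inv_id) _)] at h1
    exact h1.trans (QCohLib.app_map φ.inv _ _)
  have hzero : puSec ρ σ = 0 := by
    refine TwistLib.mod_ext (pb ρ (pb p (CohB1.tensorPow M k))) fun z _ => ?_
    obtain ⟨j, hj, hzj⟩ := Set.mem_iUnion₂.mp (hS (Set.mem_univ (p (ρ z))))
    have h2 := congrArg (puSec ρ) (hcoef ⟨j, hj⟩)
    rw [TwistLib.puSec_smul, TwistLib.puSec_res ρ, map_pow,
      pow_eq_zero_of_le ((Finset.single_le_sum (fun q _ => Nat.zero_le (N q)) (Finset.mem_univ _)).trans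
        (Nat.le_succ _)) (hN ⟨j, hj⟩), zero_smul] at h2
    rw [map_zero, ← AmpleLib.germ_res _ (ρ.preimage_mono (le_top : p ⁻¹ᵁ W j ≤ ⊤)) (puSec ρ σ) (x := z) hzj,
      ← h2, map_zero]
  obtain ⟨s, hs0, hxs⟩ := exists_section_of_flat_baseChange (IsPullback.of_hasPullback f g)
    (IsPullback.of_hasPullback i p) hMk σ hzero (x' := x') (hσV.ge hxV)
  have hsU : genSet hMk s ≤ U := fun y hy => by
    by_contra hyU
    obtain ⟨z, rfl⟩ : y ∈ Set.range i := hrange.ge hyU
    have h1 : z ∈ i ⁻¹ᵁ genSet hMk s := hy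
    rw [← AmpleDevLib.genSet_puSec i hMk s] at h1
    have h2 : genSet (AmpleDevLib.isInvertible_pb i hMk) (puSec i s : Γ(pb i (CohB1.tensorPow M k), ⊤)) = ⊥ :=
      (congrArg (genSet _) (show (puSec i s : Γ(pb i (CohB1.tensorPow M k), ⊤)) = 0 from hs0)).trans
        (genSet_eq_bot_of_zero _)
    rw [h2] at h1
    exact h1
  obtain ⟨r, hr⟩ := exists_coeff s (pS_genOn (pS_genOn (he₀'.res hUU') n) k)
  have haffs : IsAffineOpen (genSet hMk s) := by
    rw [← inf_eq_left.mpr hsU, mem_genSet_coeff hMk s (pS_genOn (pS_genOn (he₀'.res hUU') n) k) hr]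
    exact hU.basicOpen r
  obtain ⟨ψ, -⟩ := exists_powIso hL n k
  exact ⟨n * k, genSet hMk s, Nat.mul_pos hn (Nat.succ_pos _),
    ⟨ψ.hom.app ⊤ s, genSet_iso _ _ ψ s⟩, hxs, haffs⟩

end MiscFlat6
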