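import Groth.Agent.MiscFlat6.AmpleTensor
import Groth.Agent.QCohLib.Gen

universe u
open CategoryTheory CategoryTheory.Limits AlgebraicGeometry TopologicalSpace
open AmpleLib AmpleThLib
open TwistLib (genSet)
open KFlatLib (pb puSec)

noncomputable section

namespace MiscFlat6

variable {X : Scheme.{u}}

theorem isGloballyGenerated_of_genSections {M : X.Modules} (hM : PicF.IsInvertible M)
    (h : ∀ x : X, ∃ σ : Γ(M, ⊤), x ∈ genSet hM σ) : Curv2.IsGloballyGenerated M := by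
  refine ⟨Γ(M, ⊤), M.freeHomEquiv.symm (fun j => QCohLib.toSections M j),
    Preadditive.epi_of_cancel_zero _ fun {N : X.Modules} (q : M ⟶ N) hq => ?_⟩
  have hglob : ∀ j : Γ(M, ⊤), q.app ⊤ j = 0 := fun j => by
    have h1 : QCohLib.unitHom M j ≫ q = 0 := by
      rw [← QCohLib.ιFree_comp (fun j : Γ(M, ⊤) => j) j]
      exact (Category.assoc _ _ _).trans ((congr_arg _ hq).trans comp_zero)
    have h2 := congr_arg (fun φ : Coh.structureModule X ⟶ N => φ.app ⊤ (1 : Γ(X, ⊤))) h1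
    change q.app ⊤ ((QCohLib.unitHom M j).app ⊤ (1 : Γ(X, ⊤))) = 0 at h2
    rwa [QCohLib.unitHom_app, one_smul, show M.presheaf.map (homOfLE (le_top : ⊤ ≤ (⊤ : X.Opens))).op j
      = j from QCohLib.toSections_top M j] at h2
  apply Scheme.Modules.hom_ext
  intro V
  refine ConcreteCategory.hom_ext _ _ fun t => TwistLib.mod_ext N fun x hx => ?_
  obtain ⟨σ, hσ⟩ := h x
  let W := V ⊓ genSet hM σ
  have hg : GenOn M (res M (le_top : W ≤ ⊤) σ) := by
    have := (TwistLib.genSet_genOn hM σ).res (inf_le_right : W ≤ genSet hM σ)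
    rwa [res_res] at this
  obtain ⟨c, hc⟩ := (hg W le_rfl).2 (res M (inf_le_left : W ≤ V) t)
  dsimp only at hc
  rw [res_refl] at hc
  have h3 : res N (inf_le_left : W ≤ V) (q.app V t) = 0 := by
    refine (QCohLib.app_map q (homOfLE (inf_le_left : W ≤ V)) t).symm.trans ?_
    refine (congrArg (q.app W) hc.symm).trans ?_
    rw [QCohLib.app_smul]
    refine (congrArg (c • ·) ((QCohLib.app_map q (homOfLE (le_top : W ≤ ⊤)) σ).trans ?_)).trans (smul_zero c)
    rw [hglob, map_zero]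
  change N.presheaf.germ V x hx (q.app V t) = N.presheaf.germ V x hx 0
  rw [map_zero, ← AmpleLib.germ_res N (inf_le_left : W ≤ V) (q.app V t) ⟨hx, hσ⟩, h3, map_zero]

variable {L L' : X.Modules}

theorem nonempty_twistIso (hL : PicF.IsInvertible L) (hL' : PicF.IsInvertible L') (r m k : ℕ) :
    Nonempty (CohB1.tensorMod (CohB1.tensorMod (CohB1.tensorPow L r) L') (CohB1.tensorPow (CohB1.tensorPow L m) k) ≅
      CohB1.tensorMod (CohB1.tensorPow L (r + m * k)) L') := by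
  let g : ∀ p : Gens L × Gens L', Γ(L, p.1.1 ⊓ p.2.1) := fun p => res L inf_le_left p.1.2.1
  let h : ∀ p : Gens L × Gens L', Γ(L', p.1.1 ⊓ p.2.1) := fun p => res L' inf_le_right p.2.2.1
  have hg : ∀ p, GenOn L (g p) := fun p => p.1.2.2.res _
  have hh : ∀ p, GenOn L' (h p) := fun p => p.2.2.2.res _
  refine ⟨(exists_iso_gens (fun p : Gens L × Gens L' => p.1.1 ⊓ p.2.1)
    (fun p => shT (shT (pS (g p) r) (h p)) (pS (pS (g p) m) k)) (fun p => shT (pS (g p) (r + m * k)) (h p))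
    (fun x => by
      obtain ⟨a, ha⟩ := gens_cover hL x
      obtain ⟨b, hb⟩ := gens_cover hL' x
      exact ⟨⟨a, b⟩, ha, hb⟩)
    (fun p => shT_genOn (shT_genOn (pS_genOn (hg p) r) (hh p)) (pS_genOn (pS_genOn (hg p) m) k))
    (fun p => shT_genOn (pS_genOn (hg p) _) (hh p)) ?_).choose⟩
  intro p q V hp hq
  obtain ⟨c, hc⟩ := ((hg p) V hp).2 (res L hq (g q))
  obtain ⟨d, hd⟩ := ((hh p) V hp).2 (res L' hq (h q))
  dsimp only at hc hd
  refine ⟨c ^ (r + m * k) * d, ?_, ?_⟩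
  · simp only [shT_res, pS_res, ← hc, ← hd, pS_smul, shT_smul]
    congr 1
    rw [← pow_mul, pow_add]
    ring
  · simp only [shT_res, pS_res, ← hc, ← hd, pS_smul, shT_smul]

theorem nonempty_succTwistIso (hL : PicF.IsInvertible L) (hL' : PicF.IsInvertible L') (j : ℕ) :
    Nonempty (CohB1.tensorMod L (CohB1.tensorMod (CohB1.tensorPow L j) L') ≅
      CohB1.tensorMod (CohB1.tensorPow L (j + 1)) L') := by
  let g : ∀ p : Gens L × Gens L', Γ(L, p.1.1 ⊓ p.2.1) := fun p => res L inf_le_left p.1.2.1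
  let h : ∀ p : Gens L × Gens L', Γ(L', p.1.1 ⊓ p.2.1) := fun p => res L' inf_le_right p.2.2.1
  have hg : ∀ p, GenOn L (g p) := fun p => p.1.2.2.res _
  have hh : ∀ p, GenOn L' (h p) := fun p => p.2.2.2.res _
  refine ⟨(exists_iso_gens (fun p : Gens L × Gens L' => p.1.1 ⊓ p.2.1)
    (fun p => shT (g p) (shT (pS (g p) j) (h p))) (fun p => shT (pS (g p) (j + 1)) (h p))
    (fun x => by
      obtain ⟨a, ha⟩ := gens_cover hL x
      obtain ⟨b, hb⟩ := gens_cover hL' x
      exact ⟨⟨a, b⟩, ha, hb⟩)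
    (fun p => shT_genOn (hg p) (shT_genOn (pS_genOn (hg p) j) (hh p)))
    (fun p => shT_genOn (pS_genOn (hg p) _) (hh p)) ?_).choose⟩
  intro p q V hp hq
  obtain ⟨c, hc⟩ := ((hg p) V hp).2 (res L hq (g q))
  obtain ⟨d, hd⟩ := ((hh p) V hp).2 (res L' hq (h q))
  dsimp only at hc hd
  refine ⟨c ^ (j + 1) * d, ?_, ?_⟩
  · simp only [shT_res, pS_res, ← hc, ← hd, pS_smul, shT_smul]
    congr 1
    ring
  · simp only [shT_res, pS_res, ← hc, ← hd, pS_smul, shT_smul]

/-- ample ⊗ (pointwise generated by a power) is ample -/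
theorem isAmple_tensor_of_generated (hL : CohB1.IsAmple L) (hL' : PicF.IsInvertible L')
    (h : ∀ x : X, ∃ (n : ℕ) (W : X.Opens), 0 < n ∧ IsLocus hL' n W ∧ x ∈ W) :
    CohB1.IsAmple (CohB1.tensorMod L L') := by
  haveI : CompactSpace X := hL.2.1
  haveI := AmpleThLib.quasiSeparatedSpace_of_isAmple hL
  refine isAmple_of_quasiAffine_loci (tensorMod_isInvertible hL.1 hL') fun x => ?_
  obtain ⟨m, V, hm, hV, hxV, hVa⟩ := ((isAmple_iff (hL := hL.1)).mp hL).2 x
  obtain ⟨n, W, hn, hW, hxW⟩ := h x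
  have hW' : IsLocus hL' (m * n) W := mul_comm n m ▸ hW.mul_right hm
  refine ⟨m * n, V ⊓ W, Nat.mul_pos hm hn, isLocus_tensor hL.1 hL' (hV.mul_right hn) hW', ⟨hxV, hxW⟩, ?_⟩
  haveI : IsAffine (V : Scheme.{u}) := hVa
  obtain ⟨τ, hτ⟩ := hW'
  have hc : IsCompact ((V ⊓ W : X.Opens) : Set X) := by
    rw [← hτ]
    exact isCompact_inter_genSet (tensorPow_isInvertible hL' (m * n)) τ hVa
  exact RichLib.QA.isQuasiAffine_of_le inf_le_left hc inferInstance

/-- twists by high powers of an ample module have sections generating at each point -/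
theorem exists_gen_twist (hL : CohB1.IsAmple L) (hL' : PicF.IsInvertible L') :
    ∃ N : ℕ, ∀ n, N ≤ n → ∀ x : X, ∃ σ : Γ(CohB1.tensorMod (CohB1.tensorPow L n) L', ⊤),
      x ∈ genSet (tensorMod_isInvertible (tensorPow_isInvertible hL.1 n) hL') σ := by
  classical
  haveI : CompactSpace X := hL.2.1
  haveI := AmpleThLib.quasiSeparatedSpace_of_isAmple hL
  have hloc : ∀ x : X, ∃ (T : X.Opens) (N : ℕ), x ∈ T ∧ ∀ n, N ≤ n →
      ∃ σ : Γ(CohB1.tensorMod (CohB1.tensorPow L n) L', ⊤),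
        T ≤ genSet (tensorMod_isInvertible (tensorPow_isInvertible hL.1 n) hL') σ := by
    intro x
    obtain ⟨U, e, hxU, he⟩ := TwistLib.exists_genOn hL.1 x
    obtain ⟨U', e', hxU', he'⟩ := TwistLib.exists_genOn hL' x
    obtain ⟨m, T, hm, ⟨t, rfl⟩, hxT, -, hTU⟩ := exists_locus_le hL.1 hL (W := U ⊓ U') ⟨hxU, hxU'⟩
    have hK := tensorPow_isInvertible hL.1 m
    let T := genSet hK t
    have hTe : T ≤ U := hTU.trans inf_le_left
    have hTe' : T ≤ U' := hTU.trans inf_le_right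
    choose N hN using fun r : Fin m => exists_extend_mixed
      (tensorMod_isInvertible (tensorPow_isInvertible hL.1 r.1) hL') hK t
      (shT (pS (res L hTe e) r.1) (res L' hTe' e'))
    refine ⟨T, m * Finset.univ.sum N + m, hxT, fun n hn => ?_⟩
    obtain ⟨r, k, hk, rfl⟩ : ∃ (r : Fin m) (k : ℕ), N r ≤ k ∧ n = r.1 + m * k := by
      refine ⟨⟨n % m, Nat.mod_lt n hm⟩, n / m, ?_, (Nat.mod_add_div n m).symm⟩
      rw [Nat.le_div_iff_mul_le hm]
      have := Finset.single_le_sum (fun i _ => Nat.zero_le (N i)) (Finset.mem_univ (⟨n % m, Nat.mod_lt n hm⟩ : Fin m))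
      calc _ ≤ (Finset.univ.sum N) * m := Nat.mul_le_mul_right m this
        _ ≤ n := by rw [mul_comm]; omega
    obtain ⟨u, hu⟩ := hN r k hk
    obtain ⟨φ⟩ := nonempty_twistIso hL.1 hL' r.1 m k
    have hMK := tensorMod_isInvertible (tensorMod_isInvertible (tensorPow_isInvertible hL.1 r.1) hL')
      (tensorPow_isInvertible hK k)
    refine ⟨φ.hom.app ⊤ u, ?_⟩
    rw [genSet_iso hMK _ φ u]
    intro y hy
    have hgen := shT_genOn (shT_genOn (pS_genOn (he.res hTe) r.1) (he'.res hTe'))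
      (show GenOn (CohB1.tensorPow (CohB1.tensorPow L m) k)
        (res _ (le_top : T ≤ ⊤) (pS t k)) by rw [pS_res]; exact pS_genOn (TwistLib.genSet_genOn hK t) k)
    show GenAt _ u (show y ∈ (⊤ : X.Opens) from trivial)
    rw [← genAt_res (le_top : T ≤ ⊤) u hy, hu]
    exact hgen.genAt hy
  choose T N hxT hN using hloc
  obtain ⟨S, hS⟩ := isCompact_univ.elim_finite_subcover (fun x => (T x : Set X)) (fun x => (T x).2)
    fun x _ => Set.mem_iUnion.mpr ⟨x, hxT x⟩
  refine ⟨S.sum N, fun n hn x => ?_⟩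
  obtain ⟨y, hy, hxy⟩ := Set.mem_iUnion₂.mp (hS (Set.mem_univ x))
  obtain ⟨σ, hσ⟩ := hN y n (le_trans (Finset.single_le_sum (fun i _ => Nat.zero_le (N i)) hy) hn)
  exact ⟨σ, hσ hxy⟩

theorem eventually_ample_globallyGenerated (hL : CohB1.IsAmple L) (hL' : PicF.IsInvertible L') :
    ∃ n₀ : ℕ, 0 < n₀ ∧ ∀ n, n₀ ≤ n → CohB1.IsAmple (CohB1.tensorMod (CohB1.tensorPow L n) L') ∧
      Curv2.IsGloballyGenerated (CohB1.tensorMod (CohB1.tensorPow L n) L') := by
  obtain ⟨N, hN⟩ := exists_gen_twist hL hL'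
  refine ⟨N + 1, Nat.succ_pos _, fun n hn => ⟨?_, isGloballyGenerated_of_genSections
    (tensorMod_isInvertible (tensorPow_isInvertible hL.1 n) hL') (hN n (by omega))⟩⟩
  obtain ⟨j, rfl⟩ : ∃ j, n = j + 1 := ⟨n - 1, by omega⟩
  have hM := tensorMod_isInvertible (tensorPow_isInvertible hL.1 j) hL'
  have h1 : CohB1.IsAmple (CohB1.tensorMod L (CohB1.tensorMod (CohB1.tensorPow L j) L')) := by
    refine isAmple_tensor_of_generated hL hM fun x => ?_
    obtain ⟨σ, hσ⟩ := hN j (by omega) x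
    exact ⟨1, genSet hM σ, one_pos, ⟨pS σ 1, genSet_pS hM σ one_pos⟩, hσ⟩
  obtain ⟨φ⟩ := nonempty_succTwistIso hL.1 hL' j
  exact AmpleDevLib.isAmple_of_iso h1.1 (tensorMod_isInvertible (tensorPow_isInvertible hL.1 (j + 1)) hL') φ h1

end MiscFlat6
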