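import Groth.Agent.MiscFlat6.RelAmpleLocal
import Groth.Agent.KFlatLib.PullTensor

universe u
open CategoryTheory CategoryTheory.Limits AlgebraicGeometry TopologicalSpace
open AmpleLib AmpleThLib
open TwistLib (genSet)
open KFlatLib (pb puSec)

noncomputable section

namespace MiscFlat6

variable {X : Scheme.{u}} {A B : X.Modules}

theorem exists_tensorPowIso (hA : PicF.IsInvertible A) (hB : PicF.IsInvertible B) (n : ℕ) :
    Nonempty (CohB1.tensorMod (CohB1.tensorPow A n) (CohB1.tensorPow B n) ≅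
      CohB1.tensorPow (CohB1.tensorMod A B) n) := by
  let g : ∀ p : Gens A × Gens B, Γ(A, p.1.1 ⊓ p.2.1) := fun p => res A inf_le_left p.1.2.1
  let h : ∀ p : Gens A × Gens B, Γ(B, p.1.1 ⊓ p.2.1) := fun p => res B inf_le_right p.2.2.1
  have hg : ∀ p, GenOn A (g p) := fun p => p.1.2.2.res _
  have hh : ∀ p, GenOn B (h p) := fun p => p.2.2.2.res _
  refine ⟨(exists_iso_gens (fun p : Gens A × Gens B => p.1.1 ⊓ p.2.1)
    (fun p => shT (pS (g p) n) (pS (h p) n)) (fun p => pS (shT (g p) (h p)) n)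
    (fun x => by
      obtain ⟨a, ha⟩ := gens_cover hA x
      obtain ⟨b, hb⟩ := gens_cover hB x
      exact ⟨⟨a, b⟩, ha, hb⟩)
    (fun p => shT_genOn (pS_genOn (hg p) n) (pS_genOn (hh p) n))
    (fun p => pS_genOn (shT_genOn (hg p) (hh p)) n) ?_).choose⟩
  intro p q V hp hq
  obtain ⟨c, hc⟩ := ((hg p) V hp).2 (res A hq (g q))
  obtain ⟨d, hd⟩ := ((hh p) V hp).2 (res B hq (h q))
  dsimp only at hc hd
  refine ⟨c ^ n * d ^ n, ?_, ?_⟩
  · rw [shT_res, shT_res, pS_res, pS_res, pS_res, pS_res, ← hc, ← hd, pS_smul, pS_smul, shT_smul]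
  · rw [pS_res, pS_res, shT_res, shT_res, ← hc, ← hd, shT_smul, pS_smul, mul_pow]

theorem isLocus_tensor (hA : PicF.IsInvertible A) (hB : PicF.IsInvertible B) {n : ℕ} {V W : X.Opens}
    (hV : IsLocus hA n V) (hW : IsLocus hB n W) : IsLocus (tensorMod_isInvertible hA hB) n (V ⊓ W) := by
  obtain ⟨σ, rfl⟩ := hV
  obtain ⟨τ, rfl⟩ := hW
  obtain ⟨φ⟩ := exists_tensorPowIso hA hB n
  exact ⟨φ.hom.app ⊤ (shT σ τ), (genSet_iso (tensorMod_isInvertible (tensorPow_isInvertible hA n)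
    (tensorPow_isInvertible hB n)) _ φ _).trans (mem_genSet_shT _ _ σ τ)⟩

theorem isAmple_tensor (hA : CohB1.IsAmple A) (hB : CohB1.IsAmple B) : CohB1.IsAmple (CohB1.tensorMod A B) := by
  haveI : CompactSpace X := hA.2.1
  haveI := isSeparated_of_isAmple hA
  obtain ⟨-, hla⟩ := (isAmple_iff (hL := hA.1)).mp hA
  obtain ⟨-, hlb⟩ := (isAmple_iff (hL := hB.1)).mp hB
  refine (isAmple_iff (hL := tensorMod_isInvertible hA.1 hB.1)).mpr ⟨inferInstance, fun x => ?_⟩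
  obtain ⟨m, V, hm, hV, hxV, hVa⟩ := hla x
  obtain ⟨n, W, hn, hW, hxW, hWa⟩ := hlb x
  exact ⟨m * n, V ⊓ W, Nat.mul_pos hm hn,
    isLocus_tensor hA.1 hB.1 (hV.mul_right hn) (mul_comm n m ▸ hW.mul_right hm), ⟨hxV, hxW⟩, hVa.inf hWa⟩

theorem isLocus_pb {X' : Scheme.{u}} (g : X' ⟶ X) (hA : PicF.IsInvertible A) {n : ℕ} {V : X.Opens}
    (hV : IsLocus hA n V) : IsLocus (AmpleDevLib.isInvertible_pb g hA) n (g ⁻¹ᵁ V) := by
  obtain ⟨σ, rfl⟩ := hV
  obtain ⟨φ, -⟩ := AmpleDevLib.exists_pullPowIso g hA n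
  refine ⟨φ.hom.app ⊤ (puSec g σ : Γ(pb g (CohB1.tensorPow A n), ⊤)), ?_⟩
  rw [← AmpleDevLib.genSet_puSec g (tensorPow_isInvertible hA n) σ]
  exact genSet_iso (AmpleDevLib.isInvertible_pb g (tensorPow_isInvertible hA n)) _ φ _

/-- quasi-affine loci suffice -/
theorem isAmple_of_quasiAffine_loci [CompactSpace X] [QuasiSeparatedSpace X] {M : X.Modules}
    (hM : PicF.IsInvertible M)
    (h : ∀ x : X, ∃ (n : ℕ) (V : X.Opens), 0 < n ∧ IsLocus hM n V ∧ x ∈ V ∧ Scheme.IsQuasiAffine (V : Scheme.{u})) :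
    CohB1.IsAmple M := by
  refine (isAmple_iff (hL := hM)).mpr ⟨inferInstance, fun x => ?_⟩
  obtain ⟨d, T, hd, ⟨t, rfl⟩, hxT, hqa⟩ := h x
  haveI := hqa
  let T := genSet (tensorPow_isInvertible hM d) t
  obtain ⟨_, ⟨_, ⟨r, hr, rfl⟩, rfl⟩, hxr, -⟩ :=
    (Scheme.IsQuasiAffine.isBasis_basicOpen (T : Scheme.{u})).exists_subset_of_mem_open
      (Set.mem_univ (⟨x, hxT⟩ : T)) isOpen_univ
  let q : Γ(X, T) := T.topIso.hom r
  have hq : IsAffineOpen (X.basicOpen q) ∧ x ∈ X.basicOpen q := by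
    have he : T.ι ''ᵁ T.toScheme.basicOpen r = X.basicOpen q := by
      simp only [q, Scheme.image_basicOpen, Scheme.Opens.ι_appIso, Iso.refl_inv,
        Scheme.Opens.topIso_hom, Scheme.basicOpen_res]
      exact ((inf_eq_right.mpr ((X.basicOpen_le _).trans T.ι_image_top.le)).symm.trans
        (X.basicOpen_res (V := T) r (eqToHom T.ι_image_top.symm).op).symm)
    rw [← he]
    exact ⟨hr.image_of_isOpenImmersion T.ι, ⟨x, hxT⟩, hxr, rfl⟩
  obtain ⟨N, hN⟩ := exists_extend hM (r := 0) t q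
  obtain ⟨u, hu⟩ := hN N le_rfl
  have hgen : GenOn _ (mul hM (m := 0) (show Γ(CohB1.tensorPow M 0, T) from (1 : Γ(X, T)))
      (res _ le_top (tPow hM t N))) :=
    mul_genOn hM (one_genOn _) (tPow_genOn hM t le_rfl N)
  have hcoef : q • mul hM (m := 0) (show Γ(CohB1.tensorPow M 0, T) from (1 : Γ(X, T)))
      (res _ le_top (tPow hM t N)) = res _ le_top u := by
    rw [hu]
    have e := mul_smul_smul hM (m := 0) q 1 (show Γ(CohB1.tensorPow M 0, T) from (1 : Γ(X, T)))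
      (res _ le_top (tPow hM t N))
    rw [one_smul, mul_one] at e
    rw [← e]
    exact congrArg (fun z : Γ(CohB1.tensorPow M 0, T) => mul hM z (res _ le_top (tPow hM t N))) (mul_one q)
  have hl := AmpleThLib.mem_genSet_coeff (tensorPow_isInvertible hM (0 + d * N)) u hgen hcoef
  exact ⟨0 + d * N + d, X.basicOpen q, by omega, ⟨mul hM u t, (genSet_mul hM u t).trans hl⟩, hq.2, hq.1⟩

theorem isAmple_externalTensor {X Y S : Scheme.{u}} [QuasiSeparatedSpace S] (f : X ⟶ S) (g : Y ⟶ S)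
    {L : X.Modules} {N : Y.Modules} (hL : CohB1.IsAmple L) (hN : CohB1.IsAmple N) :
    CohB1.IsAmple (CohB1.tensorMod (pb (pullback.fst f g) L) (pb (pullback.snd f g) N)) := by
  haveI : CompactSpace X := hL.2.1
  haveI : CompactSpace Y := hN.2.1
  haveI := isSeparated_of_isAmple hL
  haveI := isSeparated_of_isAmple hN
  haveI : IsSeparated f := IsSeparated.of_comp f (terminal.from _)
  haveI : IsSeparated g := IsSeparated.of_comp g (terminal.from _)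
  haveI : QuasiCompact g := quasiCompact_of_compactSpace g
  haveI : CompactSpace ↥(pullback f g) := inferInstance
  haveI : (pullback f g).IsSeparated := ⟨by
    rw [← terminal.comp_from (pullback.fst f g)]
    infer_instance⟩
  have hA := AmpleDevLib.isInvertible_pb (pullback.fst f g) hL.1
  have hB := AmpleDevLib.isInvertible_pb (pullback.snd f g) hN.1
  refine isAmple_of_quasiAffine_loci (tensorMod_isInvertible hA hB) fun z => ?_
  obtain ⟨m, V, hm, hV, hxV, hVa⟩ := ((isAmple_iff (hL := hL.1)).mp hL).2 (pullback.fst f g z)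
  obtain ⟨n, W, hn, hW, hxW, hWa⟩ := ((isAmple_iff (hL := hN.1)).mp hN).2 (pullback.snd f g z)
  refine ⟨m * n, _, Nat.mul_pos hm hn, isLocus_tensor hA hB (isLocus_pb _ hL.1 (hV.mul_right hn))
    (isLocus_pb _ hN.1 (mul_comm n m ▸ hW.mul_right hm)), ⟨hxV, hxW⟩, ?_⟩
  let T : (pullback f g).Opens := pullback.fst f g ⁻¹ᵁ V ⊓ pullback.snd f g ⁻¹ᵁ W
  haveI : IsAffine (V : Scheme.{u}) := hVa
  haveI : IsAffine (W : Scheme.{u}) := hWa
  let P' := pullback (V.ι ≫ f) (W.ι ≫ g)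
  let j : P' ⟶ pullback f g := pullback.map _ _ _ _ V.ι W.ι (𝟙 S) (Category.comp_id _) (Category.comp_id _)
  have hj : j.opensRange = T := by
    refine Opens.ext ((Scheme.Pullback.range_map _ _ f g V.ι W.ι (𝟙 S) (Category.comp_id _) (Category.comp_id _)).trans ?_)
    simp [T, Scheme.Opens.range_ι]
  haveI : QuasiCompact (W.ι ≫ g) := quasiCompact_of_compactSpace _
  let k := pullback.mapDesc (V.ι ≫ f) (W.ι ≫ g) (terminal.from S)
  haveI : IsImmersion k := inferInstanceAs (IsImmersion (pullback.mapDesc (V.ι ≫ f) (W.ι ≫ g) (terminal.from S)))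
  haveI : QuasiCompact k := quasiCompact_of_compactSpace k
  haveI : Scheme.IsQuasiAffine P' := .of_isImmersion k
  exact RichLib.QA.isQuasiAffine_of_iso ((IsOpenImmersion.isoOfRangeEq j T.ι (by
    rw [Scheme.Opens.range_ι, ← hj]; rfl))).inv

theorem isAmple_restrict_tensor {U : Scheme.{u}} (j : U ⟶ X) [IsOpenImmersion j] (hA : PicF.IsInvertible A)
    (hB : PicF.IsInvertible B) (h : CohB1.IsAmple (CohB1.tensorMod (A.restrict j) (B.restrict j))) :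
    CohB1.IsAmple ((CohB1.tensorMod A B).restrict j) := by
  let eA := (Scheme.Modules.restrictFunctorIsoPullback j).app A
  let eB := (Scheme.Modules.restrictFunctorIsoPullback j).app B
  let e : CohB1.tensorMod (A.restrict j) (B.restrict j) ≅ (CohB1.tensorMod A B).restrict j :=
    PicGrp.tensorModIso eA eB ≪≫ (asIso (KFlatLib.pullθ j A B)).symm ≪≫
      ((Scheme.Modules.restrictFunctorIsoPullback j).app _).symm
  exact AmpleDevLib.isAmple_of_iso h.1 (restrict_isInvertible (tensorMod_isInvertible hA hB) j) e h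

theorem isRelAmple_tensor {Y : Scheme.{u}} (f : X ⟶ Y) (hA : RelAmple.IsRelAmple f A)
    (hB : RelAmple.IsRelAmple f B) : RelAmple.IsRelAmple f (CohB1.tensorMod A B) :=
  ⟨hA.1, fun V => isAmple_restrict_tensor _ (invertible_of_relAmple hA) (invertible_of_relAmple hB)
    (isAmple_tensor (hA.2 V) (hB.2 V))⟩

theorem isRelAmple_externalTensor {X₁ X₂ Y₁ Y₂ S : Scheme.{u}} (a₁ : Y₁ ⟶ S) (a₂ : Y₂ ⟶ S) (f₁ : X₁ ⟶ Y₁)
    (f₂ : X₂ ⟶ Y₂) [QuasiCompact f₁] [QuasiCompact f₂] {L₁ : X₁.Modules} {L₂ : X₂.Modules}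
    (h₁ : RelAmple.IsRelAmple f₁ L₁) (h₂ : RelAmple.IsRelAmple f₂ L₂) :
    RelAmple.IsRelAmple (pullback.map (f₁ ≫ a₁) (f₂ ≫ a₂) a₁ a₂ f₁ f₂ (𝟙 S) (Category.comp_id (f₁ ≫ a₁))
        (Category.comp_id (f₂ ≫ a₂)))
      (CohB1.tensorMod (pb (pullback.fst (f₁ ≫ a₁) (f₂ ≫ a₂)) L₁) (pb (pullback.snd (f₁ ≫ a₁) (f₂ ≫ a₂)) L₂)) := by
  let m := pullback.map (f₁ ≫ a₁) (f₂ ≫ a₂) a₁ a₂ f₁ f₂ (𝟙 S) (Category.comp_id _) (Category.comp_id _)
  haveI : QuasiCompact m :=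
    MorphismProperty.pullbackMap (P := @QuasiCompact) ‹QuasiCompact f₁› ‹QuasiCompact f₂› rfl rfl
  let p₁ := pullback.fst (f₁ ≫ a₁) (f₂ ≫ a₂)
  let p₂ := pullback.snd (f₁ ≫ a₁) (f₂ ≫ a₂)
  have hA := AmpleDevLib.isInvertible_pb p₁ (invertible_of_relAmple h₁)
  have hB := AmpleDevLib.isInvertible_pb p₂ (invertible_of_relAmple h₂)
  have hM := tensorMod_isInvertible hA hB
  refine isRelAmple_of_local m fun y => ?_
  obtain ⟨O, hO, hyO, -⟩ := exists_isAffineOpen_mem_and_subset (U := ⊤) (x := a₁ (pullback.fst a₁ a₂ y)) trivial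
  have hy₂ : a₂ (pullback.snd a₁ a₂ y) ∈ O := by
    rw [← Scheme.Hom.comp_apply, ← pullback.condition, Scheme.Hom.comp_apply]; exact hyO
  obtain ⟨U₁, hU₁, hy₁', hUO₁⟩ := exists_isAffineOpen_mem_and_subset (U := a₁ ⁻¹ᵁ O) (x := pullback.fst a₁ a₂ y) hyO
  obtain ⟨U₂, hU₂, hy₂', hUO₂⟩ := exists_isAffineOpen_mem_and_subset (U := a₂ ⁻¹ᵁ O) (x := pullback.snd a₁ a₂ y) hy₂
  refine ⟨pullback.fst a₁ a₂ ⁻¹ᵁ U₁ ⊓ pullback.snd a₁ a₂ ⁻¹ᵁ U₂, ⟨hy₁', hy₂'⟩, fun W hW hWU => ?_⟩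
  haveI : IsAffine (O : Scheme.{u}) := hO
  let B₁ : X₁.Opens := f₁ ⁻¹ᵁ U₁
  let B₂ : X₂.Opens := f₂ ⁻¹ᵁ U₂
  let b₁ := (f₁ ≫ a₁).resLE O B₁ (fun x hx => hUO₁ hx)
  let b₂ := (f₂ ≫ a₂).resLE O B₂ (fun x hx => hUO₂ hx)
  have hb₁ : b₁ ≫ O.ι = B₁.ι ≫ f₁ ≫ a₁ := Scheme.Hom.resLE_comp_ι _ _
  have hb₂ : b₂ ≫ O.ι = B₂.ι ≫ f₂ ≫ a₂ := Scheme.Hom.resLE_comp_ι _ _
  let j := pullback.map b₁ b₂ (f₁ ≫ a₁) (f₂ ≫ a₂) B₁.ι B₂.ι O.ι hb₁ hb₂
  have hext := isAmple_externalTensor b₁ b₂ (h₁.2 ⟨U₁, hU₁⟩) (h₂.2 ⟨U₂, hU₂⟩)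
  have e₁ : j ≫ p₁ = pullback.fst b₁ b₂ ≫ B₁.ι := pullback.lift_fst _ _ _
  have e₂ : j ≫ p₂ = pullback.snd b₁ b₂ ≫ B₂.ι := pullback.lift_snd _ _ _
  let i₁ : pb (pullback.fst b₁ b₂) (L₁.restrict B₁.ι) ≅ (pb p₁ L₁).restrict j :=
    (Scheme.Modules.pullback _).mapIso ((Scheme.Modules.restrictFunctorIsoPullback B₁.ι).app L₁) ≪≫
      (Scheme.Modules.pullbackComp _ B₁.ι).app L₁ ≪≫ (Scheme.Modules.pullbackCongr e₁.symm).app L₁ ≪≫
      ((Scheme.Modules.pullbackComp j p₁).app L₁).symm ≪≫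
      ((Scheme.Modules.restrictFunctorIsoPullback j).app _).symm
  let i₂ : pb (pullback.snd b₁ b₂) (L₂.restrict B₂.ι) ≅ (pb p₂ L₂).restrict j :=
    (Scheme.Modules.pullback _).mapIso ((Scheme.Modules.restrictFunctorIsoPullback B₂.ι).app L₂) ≪≫
      (Scheme.Modules.pullbackComp _ B₂.ι).app L₂ ≪≫ (Scheme.Modules.pullbackCongr e₂.symm).app L₂ ≪≫
      ((Scheme.Modules.pullbackComp j p₂).app L₂).symm ≪≫
      ((Scheme.Modules.restrictFunctorIsoPullback j).app _).symm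
  have h2 : CohB1.IsAmple (CohB1.tensorMod ((pb p₁ L₁).restrict j) ((pb p₂ L₂).restrict j)) :=
    AmpleDevLib.isAmple_of_iso hext.1 (tensorMod_isInvertible (restrict_isInvertible hA j) (restrict_isInvertible hB j))
      (PicGrp.tensorModIso i₁ i₂) hext
  have h3 := isAmple_restrict_tensor j hA hB h2
  refine isAmple_restrict_of_le hM (B := j.opensRange) ?_ (m.isCompact_preimage hW.isCompact)
    (isAmple_restrict_congr hM j j.opensRange.ι (Scheme.Opens.opensRange_ι _).symm h3)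
  intro z hz
  show z ∈ Set.range j
  rw [show Set.range j = _ from Scheme.Pullback.range_map b₁ b₂ (f₁ ≫ a₁) (f₂ ≫ a₂) B₁.ι B₂.ι O.ι hb₁ hb₂]
  have h4 := hWU hz
  have q₁ : pullback.fst a₁ a₂ (m z) = f₁ (p₁ z) := by
    rw [← Scheme.Hom.comp_apply, show m ≫ pullback.fst a₁ a₂ = p₁ ≫ f₁ from pullback.lift_fst _ _ _,
      Scheme.Hom.comp_apply]
  have q₂ : pullback.snd a₁ a₂ (m z) = f₂ (p₂ z) := by
    rw [← Scheme.Hom.comp_apply, show m ≫ pullback.snd a₁ a₂ = p₂ ≫ f₂ from pullback.lift_snd _ _ _,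
      Scheme.Hom.comp_apply]
  refine ⟨?_, ?_⟩
  · rw [Set.mem_preimage, Scheme.Opens.range_ι]
    exact (q₁ ▸ h4.1 : f₁ (p₁ z) ∈ U₁)
  · rw [Set.mem_preimage, Scheme.Opens.range_ι]
    exact (q₂ ▸ h4.2 : f₂ (p₂ z) ∈ U₂)

end MiscFlat6
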