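import Mathlib
import Groth.Agent.AlgSpLib.FpqcMore
import Groth.Agent.AlgSpLib.AffineFpqc
import Groth.Agent.SubDescLib.Fpqc
import Groth.Agent.S5132
import Groth.Prelude.Def_Mor2

universe u
open CategoryTheory CategoryTheory.Limits AlgebraicGeometry

namespace MiscFlat6

theorem desc_quasiCompact : MorphismProperty.DescendsAlong (@QuasiCompact : MorphismProperty Scheme.{u})
    (@Surjective ⊓ @Flat ⊓ @QuasiCompact) :=
  haveI := Groth.Agent.S5132.result.{u}
  ⟨fun sq hq h => MorphismProperty.of_isPullback_of_descendsAlong (P := @QuasiCompact)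
    (Q := @Surjective ⊓ @QuasiCompact) sq ⟨hq.1.1, hq.2⟩ h⟩

theorem desc_quasiSeparated : MorphismProperty.DescendsAlong (@QuasiSeparated : MorphismProperty Scheme.{u})
    (@Surjective ⊓ @Flat ⊓ @QuasiCompact) := by
  haveI := desc_quasiCompact.{u}
  rw [quasiSeparated_eq_diagonal_is_quasiCompact]
  infer_instance

theorem desc_isSeparated : MorphismProperty.DescendsAlong (@IsSeparated : MorphismProperty Scheme.{u})
    (@Surjective ⊓ @Flat ⊓ @QuasiCompact) := by
  rw [IsSeparated.isSeparated_eq_diagonal_isClosedImmersion]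
  infer_instance

theorem desc_isProper : MorphismProperty.DescendsAlong (@IsProper : MorphismProperty Scheme.{u})
    (@Surjective ⊓ @Flat ⊓ @QuasiCompact) := by
  haveI := desc_isSeparated.{u}
  rw [isProper_eq]
  exact AlgSpLib.descendsAlong_inf

theorem desc_lqf : MorphismProperty.DescendsAlong
    (@LocallyQuasiFinite ⊓ @LocallyOfFiniteType : MorphismProperty Scheme.{u})
    (@Surjective ⊓ @Flat ⊓ @QuasiCompact) := AlgSpLib.descendsAlong_inf

theorem desc_finLocFree :
    MorphismProperty.DescendsAlong (fun _ _ f => Mor2.IsFinLocFree f : MorphismProperty Scheme.{u})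
      (@Surjective ⊓ @Flat ⊓ @QuasiCompact : MorphismProperty Scheme.{u}) ∧
    ∀ d : ℕ, MorphismProperty.DescendsAlong
      (fun _ _ f => Mor2.IsFinLocFreeOfDeg d f : MorphismProperty Scheme.{u})
      (@Surjective ⊓ @Flat ⊓ @QuasiCompact : MorphismProperty Scheme.{u}) := by
  refine ⟨⟨fun sq hq ⟨h₁, h₂, h₃⟩ => ?_⟩, fun d => ⟨fun {A X Y Z fst snd f g} sq hq ⟨⟨h₁, h₂, h₃⟩, h₄⟩ => ?_⟩⟩
  · exact ⟨MorphismProperty.of_isPullback_of_descendsAlong (P := @IsFinite) sq hq h₁,
      MorphismProperty.of_isPullback_of_descendsAlong (P := @Flat) sq hq h₂,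
      MorphismProperty.of_isPullback_of_descendsAlong (P := @LocallyOfFinitePresentation) sq hq h₃⟩
  · haveI hg₁ : IsFinite g := MorphismProperty.of_isPullback_of_descendsAlong (P := @IsFinite) sq hq h₁
    haveI hg₂ : Flat g := MorphismProperty.of_isPullback_of_descendsAlong (P := @Flat) sq hq h₂
    haveI hg₃ : LocallyOfFinitePresentation g :=
      MorphismProperty.of_isPullback_of_descendsAlong (P := @LocallyOfFinitePresentation) sq hq h₃
    refine ⟨⟨hg₁, hg₂, hg₃⟩, fun z => ?_⟩
    obtain ⟨x, hx⟩ := hq.1.1.surj z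
    rw [← hx, ← Scheme.Hom.finrank_of_isPullback snd fst g f sq.flip x]
    exact h₄ x

theorem desc_qcImmersion : MorphismProperty.DescendsAlong
    (@IsImmersion ⊓ @QuasiCompact : MorphismProperty Scheme.{u})
    (@Surjective ⊓ @Flat ⊓ @QuasiCompact) := by
  refine MorphismProperty.DescendsAlong.mk' fun {X Y Z} f g _ hf hg => ?_
  haveI := desc_quasiCompact.{u}
  haveI hq : QuasiCompact g := MorphismProperty.of_pullback_fst_of_descendsAlong
    (P := @QuasiCompact) (Q := @Surjective ⊓ @Flat ⊓ @QuasiCompact) hf hg.2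
  refine ⟨?_, hq⟩
  haveI : IsImmersion (pullback.fst f g) := hg.1
  haveI : IsImmersion (pullback.snd g f) := by
    rw [← pullbackSymmetry_hom_comp_fst g f]
    infer_instance
  obtain ⟨⟨hs, hfl⟩, hc⟩ := hf
  haveI : Surjective f := hs
  haveI : Flat f := hfl
  haveI : QuasiCompact f := hc
  haveI : DescLib.Fpqc f := inferInstance
  exact Groth.Agent.SubDesc.isImmersion_of_fpqc g f

end MiscFlat6
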