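import Groth.Agent.MiscFlat6.AmpleSep

universe u
open CategoryTheory CategoryTheory.Limits AlgebraicGeometry TopologicalSpace
open AmpleLib AmpleThLib
open TwistLib (genSet)
open KFlatLib (pb puSec)

noncomputable section

namespace MiscFlat6

theorem isAmple_restrict_congr {X A B : Scheme.{u}} {L : X.Modules} (hL : PicF.IsInvertible L)
    (i : A ⟶ X) (j : B ⟶ X) [IsOpenImmersion i] [IsOpenImmersion j] (hr : i.opensRange = j.opensRange)
    (hA : CohB1.IsAmple (L.restrict i)) : CohB1.IsAmple (L.restrict j) := by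
  haveI : CompactSpace A := hA.2.1
  haveI := AmpleThLib.quasiSeparatedSpace_of_isAmple hA
  have hr' : Set.range i = Set.range j := congrArg (fun U : X.Opens => (U : Set X)) hr
  haveI : CompactSpace B := (Scheme.homeoOfIso (IsOpenImmersion.isoOfRangeEq i j hr')).compactSpace
  exact isAmple_restrict_of_comp hL i j (IsOpenImmersion.isoOfRangeEq i j hr').inv
    (IsOpenImmersion.isoOfRangeEq_inv_fac i j hr') hA

theorem isAmple_restrict_restrict {X A B : Scheme.{u}} {L : X.Modules} (hL : PicF.IsInvertible L)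
    (i : A ⟶ X) (j : B ⟶ A) [IsOpenImmersion i] [IsOpenImmersion j] :
    CohB1.IsAmple ((L.restrict i).restrict j) ↔ CohB1.IsAmple (L.restrict (j ≫ i)) := by
  have h1 := restrict_isInvertible (restrict_isInvertible hL i) j
  have h2 := restrict_isInvertible hL (j ≫ i)
  exact ⟨AmpleDevLib.isAmple_of_iso h1 h2 ((Scheme.Modules.restrictFunctorComp j i).app L).symm,
    AmpleDevLib.isAmple_of_iso h2 h1 ((Scheme.Modules.restrictFunctorComp j i).app L)⟩

theorem isAmple_restrict_of_le {X : Scheme.{u}} {L : X.Modules} (hL : PicF.IsInvertible L)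
    {A B : X.Opens} (hle : A ≤ B) (hc : IsCompact (A : Set X)) (hB : CohB1.IsAmple (L.restrict B.ι)) :
    CohB1.IsAmple (L.restrict A.ι) := by
  haveI : CompactSpace (A : Scheme.{u}) := isCompact_iff_compactSpace.mp hc
  haveI := AmpleThLib.quasiSeparatedSpace_of_isAmple hB
  exact isAmple_restrict_of_comp hL B.ι A.ι (X.homOfLE hle) (X.homOfLE_ι hle) hB

/-- gluing along basic opens of an affine base -/
theorem isAmple_preimage_of_basicOpen {X Y : Scheme.{u}} (f : X ⟶ Y) [QuasiCompact f] [QuasiSeparated f]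
    {L : X.Modules} (hL : PicF.IsInvertible L) {V : Y.Opens} (hV : IsAffineOpen V)
    (hloc : ∀ y ∈ V, ∃ h : Γ(Y, V), y ∈ Y.basicOpen h ∧ CohB1.IsAmple (L.restrict (f ⁻¹ᵁ Y.basicOpen h).ι)) :
    CohB1.IsAmple (L.restrict (f ⁻¹ᵁ V).ι) := by
  let U : X.Opens := f ⁻¹ᵁ V
  have hLU := restrict_isInvertible hL U.ι
  haveI : IsAffine (V : Scheme.{u}) := hV
  haveI : CompactSpace (U : Scheme.{u}) := isCompact_iff_compactSpace.mp (f.isCompact_preimage hV.isCompact)
  haveI : QuasiSeparatedSpace (U : Scheme.{u}) := quasiSeparatedSpace_of_quasiSeparated (f ∣_ V)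
  refine isAmple_of_basicOpen_cover hLU fun x => ?_
  obtain ⟨h, hxh, hA⟩ := hloc (f x.1) x.2
  let q : Γ((U : Scheme.{u}), ⊤) := U.topIso.inv (f.app V h)
  have hq : U.ι ''ᵁ (U : Scheme.{u}).basicOpen q = f ⁻¹ᵁ Y.basicOpen h := by
    simp only [q, Scheme.image_basicOpen, Scheme.Opens.ι_appIso, Iso.refl_inv, Scheme.Opens.topIso_inv,
      Scheme.preimage_basicOpen]
    exact X.basicOpen_res_eq (f.app V h) (eqToHom U.ι_image_top).op
  refine ⟨q, ?_, ?_⟩
  · have hx : x.1 ∈ U.ι ''ᵁ (U : Scheme.{u}).basicOpen q := hq.ge hxh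
    obtain ⟨z, hz, hzx⟩ := hx
    exact U.ι.isOpenEmbedding.injective (hzx : U.ι z = U.ι x) ▸ hz
  · rw [isAmple_restrict_restrict hL]
    refine isAmple_restrict_congr hL (f ⁻¹ᵁ Y.basicOpen h).ι _ ?_ hA
    rw [Scheme.Opens.opensRange_ι, Scheme.Hom.opensRange_comp, Scheme.Opens.opensRange_ι, hq]

theorem quasiSeparated_of_local {X Y : Scheme.{u}} (f : X ⟶ Y) {L : X.Modules}
    (h : ∀ y : Y, ∃ W : Y.Opens, y ∈ W ∧
      ∀ V : Y.Opens, IsAffineOpen V → V ≤ W → CohB1.IsAmple (L.restrict (f ⁻¹ᵁ V).ι)) :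
    QuasiSeparated f := by
  choose W hyW hA using h
  have hsup : ⨆ V : {V : Y.affineOpens // ∃ y, V.1 ≤ W y}, V.1.1 = ⊤ := by
    refine eq_top_iff.mpr fun y _ => ?_
    obtain ⟨V, hV, hyV, hVW⟩ := exists_isAffineOpen_mem_and_subset (U := W y) (x := y) (hyW y)
    exact Opens.mem_iSup.mpr ⟨⟨⟨V, hV⟩, y, hVW⟩, hyV⟩
  rw [IsZariskiLocalAtTarget.iff_of_iSup_eq_top (P := @QuasiSeparated) _ hsup]
  rintro ⟨V, y, hVW⟩
  haveI : IsAffine (V.1 : Scheme.{u}) := V.2
  rw [quasiSeparated_iff_quasiSeparatedSpace]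
  exact AmpleThLib.quasiSeparatedSpace_of_isAmple (hA y V.1 V.2 hVW)

theorem isInvertible_of_local {X Y : Scheme.{u}} (f : X ⟶ Y) {L : X.Modules}
    (h : ∀ y : Y, ∃ W : Y.Opens, y ∈ W ∧
      ∀ V : Y.Opens, IsAffineOpen V → V ≤ W → CohB1.IsAmple (L.restrict (f ⁻¹ᵁ V).ι)) :
    PicF.IsInvertible L := by
  intro x
  obtain ⟨W, hyW, hA⟩ := h (f x)
  obtain ⟨V, hV, hxV, hVW⟩ := exists_isAffineOpen_mem_and_subset (U := W) (x := f x) hyW
  let U : X.Opens := f ⁻¹ᵁ V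
  obtain ⟨A, hxA, ⟨e⟩⟩ := (hA V hV hVW).1 ⟨x, hxV⟩
  let k := U.ι.isoImage A
  have hk : k.inv ≫ A.ι ≫ U.ι = (U.ι ''ᵁ A).ι := by
    rw [Iso.inv_comp_eq]
    exact (U.ι.isoImage_hom_ι A).symm
  obtain ⟨e₀⟩ := nonempty_restrict_structureModule (X := (A : Scheme.{u})) k.inv
  exact ⟨U.ι ''ᵁ A, ⟨⟨x, hxV⟩, hxA, rfl⟩,
    ⟨(Scheme.Modules.restrictFunctorCongr hk.symm).app L ≪≫
      (Scheme.Modules.restrictFunctorComp k.inv (A.ι ≫ U.ι)).app L ≪≫
      (Scheme.Modules.restrictFunctor k.inv).mapIso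
        ((Scheme.Modules.restrictFunctorComp A.ι U.ι).app L ≪≫ e) ≪≫ e₀⟩⟩

theorem isRelAmple_of_local {X Y : Scheme.{u}} (f : X ⟶ Y) [QuasiCompact f] {L : X.Modules}
    (h : ∀ y : Y, ∃ W : Y.Opens, y ∈ W ∧
      ∀ V : Y.Opens, IsAffineOpen V → V ≤ W → CohB1.IsAmple (L.restrict (f ⁻¹ᵁ V).ι)) :
    RelAmple.IsRelAmple f L := by
  haveI := quasiSeparated_of_local f h
  have hL := isInvertible_of_local f h
  refine ⟨‹_›, fun V => isAmple_preimage_of_basicOpen f hL V.2 fun y hy => ?_⟩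
  obtain ⟨W, hyW, hA⟩ := h y
  obtain ⟨q, hqW, hyq⟩ := V.2.exists_basicOpen_le (V := W) ⟨y, hyW⟩ hy
  exact ⟨q, hyq, hA _ (V.2.basicOpen q) hqW⟩

theorem invertible_of_relAmple {X Y : Scheme.{u}} {f : X ⟶ Y} {L : X.Modules} (hR : RelAmple.IsRelAmple f L) :
    PicF.IsInvertible L :=
  isInvertible_of_local f fun y => ⟨⊤, trivial, fun V hV _ => hR.2 ⟨V, hV⟩⟩

theorem isRelAmple_iff_isAmple {X Y : Scheme.{u}} [IsAffine Y] (f : X ⟶ Y) [QuasiCompact f] (L : X.Modules) :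
    RelAmple.IsRelAmple f L ↔ CohB1.IsAmple L := by
  constructor
  · intro hR
    have hL := invertible_of_relAmple hR
    haveI : IsIso (f ⁻¹ᵁ (⊤ : Y.Opens)).ι := (inferInstance : IsIso (Scheme.topIso X).hom)
    exact isAmple_of_restrict_iso hL (f ⁻¹ᵁ (⊤ : Y.Opens)).ι (hR.2 ⟨⊤, isAffineOpen_top Y⟩)
  · intro hA
    haveI : CompactSpace X := hA.2.1
    haveI := AmpleThLib.quasiSeparatedSpace_of_isAmple hA
    refine ⟨‹_›, fun V => ?_⟩
    haveI : QuasiCompact (f ⁻¹ᵁ V.1).ι := by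
      haveI : CompactSpace ((f ⁻¹ᵁ V.1 : X.Opens) : Scheme.{u}) :=
        isCompact_iff_compactSpace.mp (f.isCompact_preimage V.2.isCompact)
      exact quasiCompact_of_compactSpace _
    exact AmpleDevLib.isAmple_of_iso
      (AmpleDevLib.isInvertible_pb _ hA.1) (restrict_isInvertible hA.1 (f ⁻¹ᵁ V.1).ι)
      ((Scheme.Modules.restrictFunctorIsoPullback (f ⁻¹ᵁ V.1).ι).app L).symm
      (isAmple_pb_of_isQuasiAffine _ (RichLib.QA.of_isImmersion _) hA)

theorem isRelAmple_iff_openCover {X Y : Scheme.{u}} (f : X ⟶ Y) [QuasiCompact f] (L : X.Modules) {ι : Type*}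
    (U : ι → Y.Opens) (hU : ⨆ i, U i = ⊤) :
    RelAmple.IsRelAmple f L ↔ ∀ i, RelAmple.IsRelAmple (f ∣_ (U i)) (L.restrict (f ⁻¹ᵁ (U i)).ι) := by
  have hrange : ∀ (i : ι) (V : (U i : Scheme.{u}).Opens),
      (((f ∣_ U i) ⁻¹ᵁ V).ι ≫ (f ⁻¹ᵁ U i).ι).opensRange = f ⁻¹ᵁ ((U i).ι ''ᵁ V) := fun i V => by
    rw [Scheme.Hom.opensRange_comp, Scheme.Opens.opensRange_ι, image_morphismRestrict_preimage]
  constructor
  · intro hR i
    have hL := invertible_of_relAmple hR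
    refine ⟨inferInstance, fun V => ?_⟩
    rw [isAmple_restrict_restrict hL]
    exact isAmple_restrict_congr hL (f ⁻¹ᵁ ((U i).ι ''ᵁ V.1)).ι _
      (by rw [Scheme.Opens.opensRange_ι, hrange]) (hR.2 ⟨_, V.2.image_of_isOpenImmersion (U i).ι⟩)
  · intro h
    have hcov : ∀ y : Y, ∃ i, y ∈ U i := fun y => Opens.mem_iSup.mp (hU.ge trivial)
    have hL : PicF.IsInvertible L := by
      intro x
      obtain ⟨i, hi⟩ := hcov (f x)
      let W : X.Opens := f ⁻¹ᵁ U i
      obtain ⟨A, hxA, ⟨e⟩⟩ := invertible_of_relAmple (h i) ⟨x, hi⟩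
      let k := W.ι.isoImage A
      have hk : k.inv ≫ A.ι ≫ W.ι = (W.ι ''ᵁ A).ι := by
        rw [Iso.inv_comp_eq]
        exact (W.ι.isoImage_hom_ι A).symm
      obtain ⟨e₀⟩ := nonempty_restrict_structureModule (X := (A : Scheme.{u})) k.inv
      exact ⟨W.ι ''ᵁ A, ⟨⟨x, hi⟩, hxA, rfl⟩,
        ⟨(Scheme.Modules.restrictFunctorCongr hk.symm).app L ≪≫
          (Scheme.Modules.restrictFunctorComp k.inv (A.ι ≫ W.ι)).app L ≪≫
          (Scheme.Modules.restrictFunctor k.inv).mapIso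
            ((Scheme.Modules.restrictFunctorComp A.ι W.ι).app L ≪≫ e) ≪≫ e₀⟩⟩
    refine isRelAmple_of_local f fun y => ?_
    obtain ⟨i, hi⟩ := hcov y
    refine ⟨U i, hi, fun V hV hVU => ?_⟩
    have hV' : IsAffineOpen ((U i).ι ⁻¹ᵁ V) := by
      rw [← (U i).ι.isAffineOpen_iff_of_isOpenImmersion]
      convert hV using 1
      rw [Scheme.Hom.image_preimage_eq_opensRange_inf, Scheme.Opens.opensRange_ι, inf_eq_right.mpr hVU]
    have h1 := (h i).2 ⟨_, hV'⟩
    rw [isAmple_restrict_restrict hL] at h1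
    refine isAmple_restrict_congr hL _ _ ?_ h1
    rw [Scheme.Opens.opensRange_ι, hrange, Scheme.Hom.image_preimage_eq_opensRange_inf,
      Scheme.Opens.opensRange_ι, inf_eq_right.mpr hVU]

theorem isSeparated_of_isRelAmple {X S : Scheme.{u}} (f : X ⟶ S) {L : X.Modules} (hR : RelAmple.IsRelAmple f L) :
    IsSeparated f := by
  rw [IsZariskiLocalAtTarget.iff_of_iSup_eq_top (P := @IsSeparated) _ (iSup_affineOpens_eq_top S)]
  intro V
  haveI := isSeparated_of_isAmple (hR.2 V)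
  exact IsSeparated.of_comp (f ∣_ V.1) (terminal.from _) |> id

theorem isRelAmple_tensorPow_iff {X Y : Scheme.{u}} (f : X ⟶ Y) {L : X.Modules} (hL : PicF.IsInvertible L)
    {n : ℕ} (hn : 0 < n) : RelAmple.IsRelAmple f L ↔ RelAmple.IsRelAmple f (CohB1.tensorPow L n) := by
  refine and_congr_right fun _ => forall_congr' fun V => ?_
  let j := (f ⁻¹ᵁ V.1).ι
  obtain ⟨φ, -⟩ := exists_restrIso hL j n
  have hj := restrict_isInvertible hL j
  have h1 := tensorPow_isInvertible hj n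
  have h2 := restrict_isInvertible (tensorPow_isInvertible hL n) j
  rw [isAmple_tensorPow_iff hj hn]
  exact ⟨AmpleDevLib.isAmple_of_iso h1 h2 φ, AmpleDevLib.isAmple_of_iso h2 h1 φ.symm⟩

theorem isAmple_iff_isBasis {X : Scheme.{u}} [CompactSpace X] (L : X.Modules) (hL : PicF.IsInvertible L) :
    CohB1.IsAmple L ↔ TopologicalSpace.Opens.IsBasis
      {U : X.Opens | ∃ (n : ℕ) (s : Coh.structureModule X ⟶ CohB1.tensorPow L (n + 1)),
        U = CohB1.genLocus _ s} := by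
  constructor
  · intro hA
    haveI := AmpleThLib.quasiSeparatedSpace_of_isAmple hA
    have h := isAmple_iff_isTopologicalBasis hL hA
    unfold TopologicalSpace.Opens.IsBasis
    convert h using 1
    ext U
    simp only [Set.mem_image, Set.mem_setOf_eq]
    constructor
    · rintro ⟨_, ⟨n, s, rfl⟩, rfl⟩; exact ⟨n, s, rfl⟩
    · rintro ⟨n, s, rfl⟩; exact ⟨_, ⟨n, s, rfl⟩, rfl⟩
  · intro hB
    refine (isAmple_iff (hL := hL)).mpr ⟨inferInstance, fun x => ?_⟩
    obtain ⟨U, e, hxU, he⟩ := TwistLib.exists_genOn hL x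
    obtain ⟨A, hA, hxA, hAU⟩ := exists_isAffineOpen_mem_and_subset hxU
    obtain ⟨_, ⟨n, s, rfl⟩, hxs, hsA⟩ := Opens.isBasis_iff_nbhd.mp hB hxA
    rw [genLocus_hom (tensorPow_isInvertible hL (n + 1))] at hxs hsA
    have hg := pS_genOn (he.res hAU) (n + 1)
    obtain ⟨c, hc⟩ := exists_coeff (s.app ⊤ (1 : Γ(X, ⊤))) hg
    have h1 := mem_genSet_coeff (tensorPow_isInvertible hL (n + 1)) _ hg hc
    rw [inf_eq_left.mpr hsA] at h1
    exact ⟨n + 1, _, n.succ_pos, ⟨_, rfl⟩, hxs, h1 ▸ hA.basicOpen c⟩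

theorem isRelAmple_baseChange {X Y Y' : Scheme.{u}} (f : X ⟶ Y) [QuasiCompact f] (g : Y' ⟶ Y)
    {L : X.Modules} (hR : RelAmple.IsRelAmple f L) :
    RelAmple.IsRelAmple (pullback.snd f g) ((Scheme.Modules.pullback (pullback.fst f g)).obj L) := by
  have hL := invertible_of_relAmple hR
  have hM := AmpleDevLib.isInvertible_pb (pullback.fst f g) hL
  refine isRelAmple_of_local _ fun y => ?_
  obtain ⟨V, hV, hyV, -⟩ := exists_isAffineOpen_mem_and_subset (U := ⊤) (x := g y) trivial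
  refine ⟨g ⁻¹ᵁ V, hyV, fun W hW hWV => ?_⟩
  let B : X.Opens := f ⁻¹ᵁ V
  let a := f ∣_ V
  let b := g.resLE V W hWV
  haveI : IsAffine (V : Scheme.{u}) := hV
  haveI : IsAffine (W : Scheme.{u}) := hW
  have ha : a ≫ V.ι = B.ι ≫ f := morphismRestrict_ι f V
  have hb : b ≫ V.ι = W.ι ≫ g := g.resLE_comp_ι hWV
  let j := pullback.map a b f g B.ι W.ι V.ι ha hb
  have hrange : j.opensRange = pullback.snd f g ⁻¹ᵁ W := by
    refine Opens.ext ((Scheme.Pullback.range_map a b f g B.ι W.ι V.ι ha hb).trans ?_)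
    ext z
    simp only [Set.mem_inter_iff, Set.mem_preimage, Scheme.Opens.range_ι, SetLike.mem_coe]
    refine ⟨And.right, fun hz => ⟨?_, hz⟩⟩
    show f (pullback.fst f g z) ∈ V
    rw [← Scheme.Hom.comp_apply, pullback.condition]
    exact hWV hz
  have hB := hR.2 ⟨V, hV⟩
  haveI : IsAffineHom (pullback.fst a b) := MorphismProperty.pullback_fst (P := @IsAffineHom) _ _ (inferInstance : IsAffineHom b)
  have h1 := AmpleDevLib.isAmple_pb (pullback.fst a b) hB.1 hB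
  have hj : j ≫ pullback.fst f g = pullback.fst a b ≫ B.ι := pullback.lift_fst _ _ _
  let e : pb (pullback.fst a b) (L.restrict B.ι) ≅
      ((Scheme.Modules.pullback (pullback.fst f g)).obj L).restrict j :=
    (Scheme.Modules.pullback _).mapIso ((Scheme.Modules.restrictFunctorIsoPullback B.ι).app L) ≪≫
      (Scheme.Modules.pullbackComp _ B.ι).app L ≪≫ (Scheme.Modules.pullbackCongr hj.symm).app L ≪≫
      ((Scheme.Modules.pullbackComp j (pullback.fst f g)).app L).symm ≪≫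
      ((Scheme.Modules.restrictFunctorIsoPullback j).app _).symm
  exact isAmple_restrict_congr hM j _ (hrange.trans (Scheme.Opens.opensRange_ι _).symm)
    (AmpleDevLib.isAmple_of_iso h1.1 (restrict_isInvertible hM j) e h1)

end MiscFlat6
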