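import Groth.Agent.AmpleThLib.Pow
import Groth.Agent.AmpleThLib.Locus

/-!
# The dual of an invertible module
-/

set_option autoImplicit false
universe u
open CategoryTheory CategoryTheory.Limits AlgebraicGeometry TopologicalSpace Opposite
open AmpleLib AmpleThLib

noncomputable section

namespace MiscFlat6

variable {X : Scheme.{u}} (L : X.Modules)

/-- families of values on local generators, compatible with the transition functions -/
def dualSec (W : X.Opens) : AddSubgroup (∀ a : Gens L, Γ(X, W ⊓ a.1)) where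
  carrier := {f | ∀ (a b : Gens L) (V : X.Opens) (ha : V ≤ W ⊓ a.1) (hb : V ≤ W ⊓ b.1) (c : Γ(X, V)),
    c • res L (ha.trans inf_le_right) a.2.1 = res L (hb.trans inf_le_right) b.2.1 →
      rX hb (f b) = c * rX ha (f a)}
  zero_mem' := fun a b V ha hb c _ => by simp [rX]
  add_mem' := fun {f g} hf hg a b V ha hb c h => by
    simp only [Pi.add_apply, rX, map_add, mul_add]
    exact congr_arg₂ (· + ·) (hf a b V ha hb c h) (hg a b V ha hb c h)
  neg_mem' := fun {f} hf a b V ha hb c h => by
    simp only [Pi.neg_apply, rX, map_neg, mul_neg]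
    exact congrArg Neg.neg (hf a b V ha hb c h)

theorem rX_rX {V W T : X.Opens} (h : V ≤ W) (h' : W ≤ T) (r : Γ(X, T)) : rX h (rX h' r) = rX (h.trans h') r := by
  simp only [rX, ← CommRingCat.comp_apply, ← Functor.map_comp, ← op_comp, homOfLE_comp]

instance dualSMul (U : (Opens X)ᵒᵖ) : SMul (X.ringCatSheaf.obj.obj U) (dualSec L U.unop) :=
  ⟨fun r f => ⟨fun a => rX inf_le_left (show Γ(X, U.unop) from r) * f.1 a, fun a b V ha hb c h => by
    simp only [rX, map_mul]
    rw [show X.presheaf.map (homOfLE hb).op (f.1 b) = _ from f.2 a b V ha hb c h,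
      show X.presheaf.map (homOfLE hb).op (X.presheaf.map _ _) = _ from rX_rX hb inf_le_left _,
      show X.presheaf.map (homOfLE ha).op (X.presheaf.map _ _) = _ from rX_rX ha inf_le_left _]
    exact mul_left_comm _ _ _⟩⟩

theorem dualSMul_val (U : (Opens X)ᵒᵖ) (r : X.ringCatSheaf.obj.obj U) (f : dualSec L U.unop) (a : Gens L) :
    (r • f).1 a = rX inf_le_left (show Γ(X, U.unop) from r) * f.1 a := rfl

instance dualModule (U : (Opens X)ᵒᵖ) : Module (X.ringCatSheaf.obj.obj U) (dualSec L U.unop) where
  one_smul f := Subtype.ext (funext fun a => by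
    rw [dualSMul_val]
    exact (congrArg (· * f.1 a) (map_one (X.presheaf.map _).hom)).trans (one_mul _))
  mul_smul r s f := Subtype.ext (funext fun a => by
    rw [dualSMul_val, dualSMul_val, dualSMul_val]
    exact (congrArg (· * f.1 a) (map_mul (X.presheaf.map _).hom _ _)).trans (mul_assoc _ _ _))
  smul_zero r := Subtype.ext (funext fun a => by rw [dualSMul_val]; exact mul_zero _)
  smul_add r f g := Subtype.ext (funext fun a => by
    rw [dualSMul_val]; exact mul_add _ _ _)
  add_smul r s f := Subtype.ext (funext fun a => by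
    rw [dualSMul_val]
    exact (congrArg (· * f.1 a) (map_add (X.presheaf.map _).hom _ _)).trans (add_mul _ _ _))
  zero_smul f := Subtype.ext (funext fun a => by
    rw [dualSMul_val]
    exact (congrArg (· * f.1 a) (map_zero (X.presheaf.map _).hom)).trans (zero_mul _))

/-- the underlying presheaf -/
def dualAb : TopCat.Presheaf AddCommGrpCat.{u} X.toTopCat where
  obj U := AddCommGrpCat.of (dualSec L U.unop)
  map {U V} i := AddCommGrpCat.ofHom
    { toFun := fun f => ⟨fun a => rX (inf_le_inf_right a.1 i.unop.le) (f.1 a), fun a b T ha hb c h => by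
        rw [rX_rX, rX_rX]
        exact f.2 a b T _ _ c h⟩
      map_zero' := Subtype.ext (funext fun a => map_zero (X.presheaf.map _).hom)
      map_add' := fun f g => Subtype.ext (funext fun a => map_add (X.presheaf.map _).hom _ _) }
  map_id U := by
    refine ConcreteCategory.hom_ext _ _ fun f => Subtype.ext (funext fun a => ?_)
    show X.presheaf.map (homOfLE _).op _ = _
    rw [show (homOfLE (inf_le_inf_right a.1 (le_refl U.unop))) = 𝟙 _ from Subsingleton.elim _ _, op_id,
      CategoryTheory.Functor.map_id]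
    rfl
  map_comp {U V W} i j := by
    refine ConcreteCategory.hom_ext _ _ fun f => Subtype.ext (funext fun a => ?_)
    exact (rX_rX (inf_le_inf_right a.1 j.unop.le) (inf_le_inf_right a.1 i.unop.le) _).symm

instance dualAbModule (U : (Opens X)ᵒᵖ) : Module (X.ringCatSheaf.obj.obj U) ((dualAb L).obj U) :=
  dualModule L U

theorem dualAb_map_smul {U V : (Opens X)ᵒᵖ} (i : U ⟶ V) (r : X.ringCatSheaf.obj.obj U)
    (f : (dualAb L).obj U) :
    (dualAb L).map i (r • f) = X.ringCatSheaf.obj.map i r • (dualAb L).map i f := by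
  refine Subtype.ext (funext fun a => ?_)
  refine (map_mul (X.presheaf.map _).hom _ _).trans ?_
  refine congr_arg₂ (· * ·) ?_ rfl
  exact (rX_rX _ _ _).trans (rX_rX _ i.unop.le _).symm

theorem dualAb_isSheaf : TopCat.Presheaf.IsSheaf (dualAb L) := by
  classical
  rw [TopCat.Presheaf.isSheaf_iff_isSheafUniqueGluing]
  intro ι U sf hsf
  let f : ∀ i, dualSec L (U i) := fun i => sf i
  have hcov : ∀ a : Gens L, iSup U ⊓ a.1 ≤ ⨆ i, U i ⊓ a.1 := fun a => (iSup_inf_eq U a.1).le
  choose g hg hguniq using fun a : Gens L => X.sheaf.existsUnique_gluing' (fun i => U i ⊓ a.1)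
    (iSup U ⊓ a.1) (fun i => homOfLE (inf_le_inf_right a.1 (le_iSup U i))) (hcov a)
    (fun i => (f i).1 a) (fun i j => by
      have hle : (U i ⊓ a.1) ⊓ (U j ⊓ a.1) ≤ (U i ⊓ U j) ⊓ a.1 :=
        le_inf (le_inf (inf_le_left.trans inf_le_left) (inf_le_right.trans inf_le_left))
          (inf_le_left.trans inf_le_right)
      have h1 := congrArg (rX hle) (congr_fun (congrArg Subtype.val (hsf i j)) a)
      exact ((rX_rX _ _ _).symm.trans h1).trans (rX_rX _ _ _))
  have hmem : g ∈ dualSec L (iSup U) := by
    intro a b V ha hb c h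
    refine X.sheaf.eq_of_locally_eq' (fun i => V ⊓ U i) V (fun i => homOfLE inf_le_left)
      (fun y hy => ?_) _ _ fun i => ?_
    · obtain ⟨i, hi⟩ := Opens.mem_iSup.mp (ha hy).1
      exact Opens.mem_iSup.mpr ⟨i, hy, hi⟩
    · have ha' : V ⊓ U i ≤ U i ⊓ a.1 := le_inf inf_le_right (inf_le_left.trans (ha.trans inf_le_right))
      have hb' : V ⊓ U i ≤ U i ⊓ b.1 := le_inf inf_le_right (inf_le_left.trans (hb.trans inf_le_right))
      have hcc : rX (inf_le_left : V ⊓ U i ≤ V) c • res L (ha'.trans inf_le_right) a.2.1 =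
          res L (hb'.trans inf_le_right) b.2.1 := by
        have h2 := congrArg (res L (inf_le_left : V ⊓ U i ≤ V)) h
        rwa [res_smul, res_res, res_res] at h2
      have h3 := (f i).2 a b (V ⊓ U i) ha' hb' _ hcc
      rw [← show rX (inf_le_inf_right b.1 (le_iSup U i)) (g b) = (f i).1 b from hg b i,
        ← show rX (inf_le_inf_right a.1 (le_iSup U i)) (g a) = (f i).1 a from hg a i, rX_rX, rX_rX] at h3
      show rX inf_le_left (rX hb (g b)) = rX inf_le_left (c * rX ha (g a))
      rw [rX_rX, show rX inf_le_left (c * rX ha (g a)) = _ from map_mul (X.presheaf.map _).hom _ _,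
        show X.presheaf.map _ (rX ha (g a)) = _ from rX_rX inf_le_left ha (g a)]
      exact h3
  refine ⟨⟨g, hmem⟩, fun i => Subtype.ext (funext fun a => hg a i), fun s hs => Subtype.ext (funext fun a => ?_)⟩
  exact hguniq a (s.1 a) fun i => congr_fun (congrArg Subtype.val (hs i)) a

/-- the dual module -/
def dual : X.Modules :=
  { val := PresheafOfModules.ofPresheaf (R := X.ringCatSheaf.obj) (dualAb L)
      (fun _ _ i r f => dualAb_map_smul L i r f)
    isSheaf := dualAb_isSheaf L }

variable {L}

/-- the value of a section of the dual on a local generator -/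
def dualVal {W : X.Opens} (f : Γ(dual L, W)) (b : Gens L) : Γ(X, W ⊓ b.1) :=
  (show dualSec L W from f).1 b

theorem dual_ext {W : X.Opens} {f g : Γ(dual L, W)} (h : ∀ b, dualVal f b = dualVal g b) : f = g :=
  Subtype.ext (funext h)

theorem dualVal_smul {W : X.Opens} (r : Γ(X, W)) (f : Γ(dual L, W)) (b : Gens L) :
    dualVal (r • f) b = rX inf_le_left r * dualVal f b := rfl

theorem dualVal_res {V W : X.Opens} (h : V ≤ W) (f : Γ(dual L, W)) (b : Gens L) :
    dualVal (res (dual L) h f) b = rX (inf_le_inf_right b.1 h) (dualVal f b) := rfl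

theorem dualVal_compat {W : X.Opens} (f : Γ(dual L, W)) (a b : Gens L) {V : X.Opens} (ha : V ≤ W ⊓ a.1)
    (hb : V ≤ W ⊓ b.1) (c : Γ(X, V))
    (h : c • res L (ha.trans inf_le_right) a.2.1 = res L (hb.trans inf_le_right) b.2.1) :
    rX hb (dualVal f b) = c * rX ha (dualVal f a) :=
  (show dualSec L W from f).2 a b V ha hb c h

/-- the transition function between two generators -/
def transFn (a b : Gens L) : Γ(X, a.1 ⊓ b.1) :=
  ((a.2.2 (a.1 ⊓ b.1) inf_le_left).2 (res L inf_le_right b.2.1)).choose

theorem transFn_spec (a b : Gens L) :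
    transFn a b • res L (inf_le_left : a.1 ⊓ b.1 ≤ a.1) a.2.1 = res L inf_le_right b.2.1 :=
  ((a.2.2 (a.1 ⊓ b.1) inf_le_left).2 (res L inf_le_right b.2.1)).choose_spec

/-- the dual generator -/
def dualGen (a : Gens L) : Γ(dual L, a.1) :=
  (show dualSec L a.1 from ⟨fun b => transFn a b, fun b b' V hb hb' c h => by
    refine (a.2.2 V (hb.trans inf_le_left)).1 ?_
    have h1 := congrArg (res L hb') (transFn_spec a b')
    have h2 := congrArg (res L hb) (transFn_spec a b)
    rw [res_smul, res_res, res_res] at h1 h2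
    dsimp only
    rw [mul_smul]
    refine h1.trans (h.symm.trans (congrArg (c • ·) h2.symm))⟩)

theorem dualVal_gen (a b : Gens L) : dualVal (dualGen a) b = transFn a b := rfl

theorem transFn_self (a : Gens L) : transFn a a = 1 :=
  (a.2.2 (a.1 ⊓ a.1) inf_le_left).1 ((transFn_spec a a).trans (one_smul _ _).symm)

theorem dualGen_genOn (a : Gens L) : GenOn (dual L) (dualGen a) := by
  intro V hV
  have hVV : V ≤ V ⊓ a.1 := le_inf le_rfl hV
  constructor
  · intro r s h
    have h1 := congrArg (fun f => rX hVV (dualVal f a)) h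
    simp only [dualVal_smul, dualVal_res, dualVal_gen, transFn_self, rX, map_one, mul_one] at h1
    simp only [← CommRingCat.comp_apply, ← Functor.map_comp, ← op_comp, homOfLE_comp] at h1
    simpa [homOfLE_refl] using h1
  · intro f
    refine ⟨rX hVV (dualVal f a), dual_ext fun b => ?_⟩
    rw [dualVal_smul, dualVal_res, dualVal_gen, rX_rX]
    have hc : rX (inf_le_inf_right b.1 hV) (transFn a b) • res L ((inf_le_left : V ⊓ b.1 ≤ V).trans hV) a.2.1 =
        res L inf_le_right b.2.1 := by
      have h2 := congrArg (res L (inf_le_inf_right b.1 hV)) (transFn_spec a b)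
      rwa [res_smul, res_res, res_res] at h2
    have h3 := dualVal_compat f a b (V := V ⊓ b.1) (inf_le_left.trans hVV) le_rfl _ hc
    rw [mul_comm]
    refine Eq.trans h3.symm ?_
    exact congr($(X.presheaf.map_id _) (dualVal f b))

theorem dual_isInvertible (hL : PicF.IsInvertible L) : PicF.IsInvertible (dual L) :=
  TwistLib.isInvertible_of_genOn (fun a : Gens L => a.1) (gens_cover hL) dualGen dualGen_genOn

theorem dualGen_trans (a b : Gens L) {V : X.Opens} (ha : V ≤ a.1) (hb : V ≤ b.1) (c : Γ(X, V))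
    (h : c • res L ha a.2.1 = res L hb b.2.1) :
    c • res (dual L) hb (dualGen b) = res (dual L) ha (dualGen a) := by
  refine dual_ext fun d => ?_
  rw [dualVal_smul, dualVal_res, dualVal_res, dualVal_gen, dualVal_gen]
  refine (a.2.2 (V ⊓ d.1) (inf_le_left.trans ha)).1 ?_
  dsimp only
  have h1 := congrArg (res L (inf_le_inf_right d.1 ha)) (transFn_spec a d)
  have h2 := congrArg (res L (inf_le_inf_right d.1 hb)) (transFn_spec b d)
  have h3 := congrArg (res L (inf_le_left : V ⊓ d.1 ≤ V)) h
  rw [res_smul, res_res, res_res] at h1 h2 h3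
  rw [mul_comm, mul_smul, h3]
  exact h2.trans h1.symm

/-- `L ⊗ L^∨ ≅ O`. -/
theorem nonempty_dualIso (hL : PicF.IsInvertible L) :
    Nonempty (CohB1.tensorMod L (dual L) ≅ Coh.structureModule X) := by
  refine ⟨(exists_iso_gens (fun a : Gens L => a.1) (fun a => shT a.2.1 (dualGen a))
    (fun a => (show Γ(Coh.structureModule X, a.1) from (1 : Γ(X, a.1)))) (gens_cover hL) (fun a => shT_genOn a.2.2 (dualGen_genOn a))
    (fun a => one_genOn a.1) ?_).choose⟩
  intro a b V ha hb
  obtain ⟨c, hc⟩ := (a.2.2 V ha).2 (res L hb b.2.1)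
  dsimp only at hc
  have hd := dualGen_trans a b ha hb c hc
  refine ⟨1, ?_, ?_⟩
  · rw [one_smul, shT_res, shT_res, ← hd, ← hc]
    conv_lhs => rw [← one_smul Γ(X, V) (res L ha a.2.1)]
    conv_rhs => rw [← one_smul Γ(X, V) (res (dual L) hb (dualGen b))]
    rw [shT_smul, shT_smul, one_mul, mul_one]
  · rw [one_smul]
    exact (map_one (X.presheaf.map (homOfLE ha).op).hom).trans (map_one (X.presheaf.map (homOfLE hb).op).hom).symm

end MiscFlat6
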