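import Groth.Agent.MiscFlat6.TildeFin
import Groth.Agent.ProjFormLib.Frame
import Groth.Agent.QCohLib.Coherent
import Mathlib.LinearAlgebra.Dimension.Constructions

/-!
# Finite locally free modules: frames, free stalks, ranks
-/

set_option autoImplicit false
universe u

open CategoryTheory CategoryTheory.Limits AlgebraicGeometry TopologicalSpace Opposite ProjFormLib
open scoped TensorProduct

namespace MiscFlat6

variable {X : Scheme.{u}} {M : X.Modules}

theorem isFP_of_frames [Coh.IsQCoh M]
    (h : ∀ x : X, ∃ (U : X.Opens) (n : ℕ) (e : Fin n → Γ(M, U)), x ∈ U ∧ IsFrame M e) :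
    CohB1.IsFP M := by
  refine RichLib.IsFPAffine.isFP_of_finitePresentation M fun x => ?_
  obtain ⟨U, n, e, hx, he⟩ := h x
  obtain ⟨V, hV, hxV, hVU⟩ := exists_isAffineOpen_mem_and_subset (x := x) (U := U) hx
  exact ⟨V, hV, hxV, Module.FinitePresentation.of_equiv (LinearEquiv.ofBijective _
    (PerfHomLib.bijective_linearCombination_of_isFrame hV (he.res hVU)))⟩

theorem free_stalk_of_isFinLocFree (h : FlatMod.IsFinLocFree M) (x : X) :
    Module.Free (X.presheaf.stalk x) (M.presheaf.stalk x) := by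
  obtain ⟨U, n, e, hx, he⟩ := exists_frame h x
  exact Module.Free.of_basis (he.basis x hx)

theorem isFlat_and_isFP_iff [Coh.IsQCoh M] :
    (FlatMod.IsFlat M ∧ CohB1.IsFP M) ↔ FlatMod.IsFinLocFree M :=
  ⟨fun h => Groth.Agent.S1688.isFinLocFree_of_isFP_of_flat h.2 h.1,
    fun h => ⟨fun x => flat_stalk h x, isFP_of_frames fun x => exists_frame h x⟩⟩

theorem isFP_and_free_iff [Coh.IsQCoh M] :
    (CohB1.IsFP M ∧ ∀ x : X, Module.Free (X.presheaf.stalk x) (M.presheaf.stalk x)) ↔
      FlatMod.IsFinLocFree M := by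
  refine ⟨fun h => Groth.Agent.S1688.isFinLocFree_of_isFP_of_flat h.1 fun x => ?_,
    fun h => ⟨isFP_of_frames fun x => exists_frame h x, free_stalk_of_isFinLocFree h⟩⟩
  haveI := h.2 x
  show Module.Flat (X.presheaf.stalk x) (M.presheaf.stalk x)
  infer_instance

theorem finrank_fibre {x : X} [Module.Free (X.presheaf.stalk x) (M.presheaf.stalk x)] :
    Module.finrank (IsLocalRing.ResidueField (X.presheaf.stalk x))
      ((IsLocalRing.ResidueField (X.presheaf.stalk x)) ⊗[X.presheaf.stalk x] (M.presheaf.stalk x)) =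
        Module.finrank (X.presheaf.stalk x) (M.presheaf.stalk x) := Module.finrank_baseChange

theorem finrank_of_frame {U : X.Opens} {n : ℕ} {e : Fin n → Γ(M, U)} (he : IsFrame M e) {y : X}
    (hy : y ∈ U) : Module.finrank (X.presheaf.stalk y) (M.presheaf.stalk y) = n :=
  (Module.finrank_eq_card_basis (he.basis y hy)).trans (Fintype.card_fin n)

theorem exists_spanning_nhd (hFT : CohB1.IsFT M) (x : X) :
    ∃ (U : X.Opens) (n : ℕ) (e : Fin n → Γ(M, U)), x ∈ U ∧
      n = Module.finrank (IsLocalRing.ResidueField (X.presheaf.stalk x))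
        ((IsLocalRing.ResidueField (X.presheaf.stalk x)) ⊗[X.presheaf.stalk x] (M.presheaf.stalk x)) ∧
      ∀ (y : X) (hy : y ∈ U), Function.Surjective
        (Fintype.linearCombination (X.presheaf.stalk y) fun i => ger M y hy (e i)) := by
  classical
  obtain ⟨U₁, hx₁, k, s, hs⟩ := QCohLib.exists_genOn_of_isFT hFT x
  -- the generators span every stalk over `U₁`
  have hspan : ∀ (y : X) (hy : y ∈ U₁) (a : (DerSch.stalkFunctor X y).obj M),
      a ∈ Submodule.span (X.presheaf.stalk y) (Set.range fun i => ger M y hy (s i)) := by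
    intro y hy a
    obtain ⟨W, hyW, t, rfl⟩ := exists_ger M y a
    obtain ⟨W', hW', hW'₁, hyW', c, hc⟩ := hs (W ⊓ U₁) inf_le_right
      (res M inf_le_left t) y ⟨hyW, hy⟩
    have h1 := congrArg (ger M y hyW') hc
    have h2 : ger M y hyW' (∑ i, c i • res M hW'₁ (s i)) =
        ∑ i, X.presheaf.germ W' y hyW' (c i) • ger M y hy (s i) := by
      refine (map_sum (M.presheaf.germ W' y hyW').hom _ _).trans (Finset.sum_congr rfl fun i _ => ?_)
      exact (ger_smul M y hyW' (c i) (res M hW'₁ (s i))).trans (congrArg _ (ger_res M hW'₁ y hyW' (s i)))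
    have h3 : ger M y hyW t = ger M y hyW' (res M hW' (res M inf_le_left t)) := by
      rw [ger_res, ger_res]
    rw [h3]
    refine (h1.trans h2) ▸ Submodule.sum_mem _ fun i _ =>
      Submodule.smul_mem _ _ (Submodule.subset_span (Set.mem_range_self i))
  let R := X.presheaf.stalk x
  let K := IsLocalRing.ResidueField (X.presheaf.stalk x)
  haveI : Module.Finite (X.presheaf.stalk x) ((DerSch.stalkFunctor X x).obj M) :=
    ⟨⟨(Finset.univ.image fun i => ger M x hx₁ (s i)), eq_top_iff.mpr fun a _ => by simpa using hspan x hx₁ a⟩⟩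
  set n := Module.finrank (IsLocalRing.ResidueField (X.presheaf.stalk x))
    ((IsLocalRing.ResidueField (X.presheaf.stalk x)) ⊗[X.presheaf.stalk x] ((DerSch.stalkFunctor X x).obj M))
    with hn
  haveI : Module.Free (IsLocalRing.ResidueField (X.presheaf.stalk x))
      ((IsLocalRing.ResidueField (X.presheaf.stalk x)) ⊗[X.presheaf.stalk x] ((DerSch.stalkFunctor X x).obj M)) :=
    Module.Free.of_divisionRing _ _
  let bK := Module.finBasis (IsLocalRing.ResidueField (X.presheaf.stalk x))
    ((IsLocalRing.ResidueField (X.presheaf.stalk x)) ⊗[X.presheaf.stalk x] ((DerSch.stalkFunctor X x).obj M))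
  choose b hb using fun i => TensorProduct.mk_surjective (X.presheaf.stalk x) ((DerSch.stalkFunctor X x).obj M)
    (IsLocalRing.ResidueField (X.presheaf.stalk x)) IsLocalRing.residue_surjective (bK i)
  have hbspan : Submodule.span (X.presheaf.stalk x) (Set.range b) = ⊤ :=
    IsLocalRing.span_eq_top_of_tmul_eq_basis b bK hb
  choose W hxW t ht using fun i => exists_ger M x (b i)
  let U₂ : X.Opens := U₁ ⊓ Finset.univ.inf W
  have hx₂ : x ∈ U₂ := ⟨hx₁, Finset.inf_induction (p := fun T : X.Opens => x ∈ T) trivial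
      (fun _ h₁ _ h₂ => ⟨h₁, h₂⟩) fun i _ => hxW i⟩
  let e₂ : Fin n → Γ(M, U₂) := fun i => res M (inf_le_right.trans (Finset.inf_le (Finset.mem_univ i))) (t i)
  have he₂ : ∀ i, ger M x hx₂ (e₂ i) = b i := fun i => (ger_res M _ x hx₂ (t i)).trans (ht i)
  -- near `x` every generator is a combination of the `e₂`
  have hcomb : ∀ j, ∃ (V : X.Opens) (hV : V ≤ U₂) (_ : x ∈ V) (c : Fin n → Γ(X, V)),
      res M (hV.trans inf_le_left) (s j) = ∑ i, c i • res M hV (e₂ i) := by
    intro j
    obtain ⟨a, ha⟩ := (Submodule.mem_span_range_iff_exists_fun (X.presheaf.stalk x)).mp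
      (hbspan.ge (Submodule.mem_top (x := ger M x hx₁ (s j))))
    choose V hxV r hr using fun i => X.presheaf.exists_germ_eq (x := x) (a i)
    let V₀ : X.Opens := U₂ ⊓ Finset.univ.inf V
    have hx₀ : x ∈ V₀ := ⟨hx₂, Finset.inf_induction (p := fun T : X.Opens => x ∈ T) trivial
        (fun _ h₁ _ h₂ => ⟨h₁, h₂⟩) fun i _ => hxV i⟩
    let c : Fin n → Γ(X, V₀) := fun i =>
      X.presheaf.map (homOfLE (inf_le_right.trans (Finset.inf_le (Finset.mem_univ i)))).op (r i)
    have heq : ger M x hx₀ (res M (inf_le_left.trans inf_le_left) (s j)) =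
        ger M x hx₀ (∑ i, c i • res M (inf_le_left : V₀ ≤ U₂) (e₂ i)) := by
      refine (ger_res M _ x hx₀ (s j)).trans (ha.symm.trans ?_)
      refine Eq.trans (Finset.sum_congr rfl fun i _ => ?_) (map_sum (M.presheaf.germ V₀ x hx₀).hom _ _).symm
      refine Eq.trans ?_ (ger_smul M x hx₀ (c i) (res M (inf_le_left : V₀ ≤ U₂) (e₂ i))).symm
      rw [ger_res, he₂ i, ← hr i]
      exact congrArg (· • b i) (TopCat.Presheaf.germ_res_apply X.presheaf _ x hx₀ (r i)).symm
    obtain ⟨V', hxV', i₁, i₂, hV'⟩ := M.presheaf.germ_eq x hx₀ hx₀ _ _ heq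
    obtain rfl : i₁ = i₂ := Subsingleton.elim _ _
    refine ⟨V', (leOfHom i₁).trans inf_le_left, hxV', fun i => X.presheaf.map i₁.op (c i), ?_⟩
    refine (QCohLib.map_map' M _ _ (s j)).symm.trans (hV'.trans ?_)
    refine (map_sum (M.presheaf.map i₁.op).hom _ _).trans (Finset.sum_congr rfl fun i _ => ?_)
    refine (Scheme.Modules.map_smul M i₁ (c i) _).trans ?_
    exact congrArg _ (QCohLib.map_map' M _ _ (e₂ i))
  choose V hV hxV c hc using hcomb
  let U : X.Opens := U₂ ⊓ Finset.univ.inf V
  have hxU : x ∈ U := ⟨hx₂, Finset.inf_induction (p := fun T : X.Opens => x ∈ T) trivial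
      (fun _ h₁ _ h₂ => ⟨h₁, h₂⟩) fun j _ => hxV j⟩
  refine ⟨U, n, fun i => res M (inf_le_left) (e₂ i), hxU, hn, fun y hy => ?_⟩
  let φ := Fintype.linearCombination (X.presheaf.stalk y)
    fun i => ger M y hy (res M (inf_le_left : U ≤ U₂) (e₂ i))
  have hsurj : Function.Surjective φ := by
    intro a
    suffices a ∈ LinearMap.range φ from this
    refine (Submodule.span_le.mpr ?_) (hspan y hy.1.1 a)
    rintro _ ⟨j, rfl⟩
    have hyV : y ∈ V j := (Finset.inf_le (Finset.mem_univ j) : Finset.univ.inf V ≤ V j) hy.2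
    refine ⟨fun i => X.presheaf.germ (V j) y hyV (c j i), ?_⟩
    have h1 := congrArg (ger M y hyV) (hc j)
    rw [ger_res] at h1
    refine Eq.trans ?_ h1.symm
    rw [Fintype.linearCombination_apply]
    refine Eq.trans ?_ (map_sum (M.presheaf.germ (V j) y hyV).hom _ _).symm
    refine Finset.sum_congr rfl fun i _ => ?_
    refine Eq.trans ?_ (ger_smul M y hyV (c j i) (res M (hV j) (e₂ i))).symm
    simp only [e₂, ger_res]
  exact hsurj

theorem finite_stalk {U : X.Opens} {n : ℕ} {e : Fin n → Γ(M, U)} {y : X} {hy : y ∈ U}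
    (h : Function.Surjective (Fintype.linearCombination (X.presheaf.stalk y) fun i => ger M y hy (e i))) :
    Module.Finite (X.presheaf.stalk y) ((DerSch.stalkFunctor X y).obj M) :=
  Module.Finite.of_surjective _ h

theorem exists_frame_of_isFT_of_free (hFT : CohB1.IsFT M)
    (hfree : ∀ x : X, Module.Free (X.presheaf.stalk x) (M.presheaf.stalk x))
    (hrk : IsLocallyConstant (fun x : X => Module.finrank (IsLocalRing.ResidueField (X.presheaf.stalk x))
      ((IsLocalRing.ResidueField (X.presheaf.stalk x)) ⊗[X.presheaf.stalk x] (M.presheaf.stalk x))))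
    (x : X) : ∃ (U : X.Opens) (n : ℕ) (e : Fin n → Γ(M, U)), x ∈ U ∧ IsFrame M e := by
  obtain ⟨U, n, e, hx, hn, hsurj⟩ := exists_spanning_nhd hFT x
  obtain ⟨U₃, hU₃, hx₃, hconst⟩ := (IsLocallyConstant.iff_exists_open _).mp hrk x
  refine ⟨U ⊓ ⟨U₃, hU₃⟩, n, fun i => res M inf_le_left (e i), ⟨hx, hx₃⟩, fun y hy => ?_⟩
  have hs : Function.Surjective (Fintype.linearCombination (X.presheaf.stalk y)
      fun i => ger M y hy (res M (inf_le_left : U ⊓ ⟨U₃, hU₃⟩ ≤ U) (e i))) := by
    simpa only [ger_res] using hsurj y hy.1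
  haveI := finite_stalk (hsurj y hy.1)
  haveI := hfree y
  haveI : Module.Free (X.presheaf.stalk y) ((DerSch.stalkFunctor X y).obj M) := hfree y
  have hrank : Module.finrank (X.presheaf.stalk y) ((DerSch.stalkFunctor X y).obj M) = n :=
    (finrank_fibre (M := M) (x := y)).symm.trans ((hconst y hy.2).trans hn.symm)
  let ee := (Module.finBasisOfFinrankEq (X.presheaf.stalk y) _ hrank).equivFun
  have hinj := OrzechProperty.injective_of_surjective_endomorphism
    (ee.toLinearMap.comp (Fintype.linearCombination (X.presheaf.stalk y)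
      fun i => ger M y hy (res M (inf_le_left : U ⊓ ⟨U₃, hU₃⟩ ≤ U) (e i))))
    (ee.surjective.comp hs)
  exact ⟨fun a a' h => hinj (congrArg ee h), hs⟩

theorem exists_frame_of_isFT_of_reduced [IsReduced X] (hFT : CohB1.IsFT M)
    (hrk : IsLocallyConstant (fun x : X => Module.finrank (IsLocalRing.ResidueField (X.presheaf.stalk x))
      ((IsLocalRing.ResidueField (X.presheaf.stalk x)) ⊗[X.presheaf.stalk x] (M.presheaf.stalk x))))
    (x : X) : ∃ (U : X.Opens) (n : ℕ) (e : Fin n → Γ(M, U)), x ∈ U ∧ IsFrame M e := by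
  classical
  obtain ⟨U, n, e, hx, hn, hsurj⟩ := exists_spanning_nhd hFT x
  obtain ⟨U₃, hU₃, hx₃, hconst⟩ := (IsLocallyConstant.iff_exists_open _).mp hrk x
  refine ⟨U ⊓ ⟨U₃, hU₃⟩, n, fun i => res M inf_le_left (e i), ⟨hx, hx₃⟩, fun y hy => ⟨?_, ?_⟩⟩
  swap
  · simpa only [ger_res] using hsurj y hy.1
  refine (injective_iff_map_eq_zero _).mpr fun a ha => funext fun i => ?_
  rw [Fintype.linearCombination_apply] at ha
  simp only [ger_res] at ha
  choose V hyV c hc using fun i => X.presheaf.exists_germ_eq (x := y) (a i)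
  let W : X.Opens := U ⊓ ⟨U₃, hU₃⟩ ⊓ Finset.univ.inf V
  have hyW : y ∈ W := ⟨hy, Finset.inf_induction (p := fun T : X.Opens => y ∈ T) trivial
      (fun _ h₁ _ h₂ => ⟨h₁, h₂⟩) fun i _ => hyV i⟩
  let d : Fin n → Γ(X, W) := fun i =>
    X.presheaf.map (homOfLE (inf_le_right.trans (Finset.inf_le (Finset.mem_univ i)))).op (c i)
  have hd : ∀ i, X.presheaf.germ W y hyW (d i) = a i := fun i =>
    (TopCat.Presheaf.germ_res_apply X.presheaf _ y hyW (c i)).trans (hc i)
  let s : Γ(M, W) := ∑ i, d i • res M (inf_le_left.trans inf_le_left) (e i)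
  have hger : ∀ (z : X) (hz : z ∈ W), ger M z hz s =
      ∑ i, X.presheaf.germ W z hz (d i) • ger M z hz.1.1 (e i) := fun z hz => by
    refine (map_sum (M.presheaf.germ W z hz).hom _ _).trans (Finset.sum_congr rfl fun i _ => ?_)
    exact (ger_smul M z hz (d i) _).trans (congrArg _ (ger_res M _ z hz (e i)))
  have hs0 : M.presheaf.germ W y hyW s = M.presheaf.germ W y hyW 0 := by
    rw [map_zero]
    refine (hger y hyW).trans ?_
    simp only [hd]
    exact ha
  obtain ⟨W', hyW', i₁, i₂, hW'⟩ := M.presheaf.germ_eq y hyW hyW s 0 hs0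
  rw [map_zero] at hW'
  have hvan : ∀ i, ∀ z ∈ W', z ∉ X.basicOpen (d i) := by
    intro i z hz hzd
    have hzW : z ∈ W := leOfHom i₁ hz
    haveI := finite_stalk (hsurj z hzW.1.1)
    let K := IsLocalRing.ResidueField (X.presheaf.stalk z)
    let v : Fin n → K ⊗[X.presheaf.stalk z] ((DerSch.stalkFunctor X z).obj M) :=
      fun i => (1 : K) ⊗ₜ ger M z hzW.1.1 (e i)
    have hrank : n = Module.finrank K (K ⊗[X.presheaf.stalk z] ((DerSch.stalkFunctor X z).obj M)) :=
      hn.trans (hconst z hzW.1.2).symm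
    have hli : LinearIndependent K v := by
      refine linearIndependent_of_top_le_span_of_card_eq_finrank ?_ ((Fintype.card_fin n).trans hrank)
      intro w _
      induction w using TensorProduct.induction_on with
      | zero => exact zero_mem _
      | add p q hp hq => exact add_mem (hp trivial) (hq trivial)
      | tmul k m =>
        obtain ⟨g, rfl⟩ := hsurj z hzW.1.1 m
        rw [Fintype.linearCombination_apply, TensorProduct.tmul_sum]
        refine Submodule.sum_mem _ fun i _ => ?_
        rw [TensorProduct.tmul_smul, TensorProduct.smul_tmul', show (g i • k) = (g i • k) • (1 : K) by simp,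
          ← TensorProduct.smul_tmul']
        exact Submodule.smul_mem _ _ (Submodule.subset_span ⟨i, rfl⟩)
    have h0 : ∑ i, IsLocalRing.residue _ (X.presheaf.germ W z hzW (d i)) • v i = 0 := by
      have h1 : ger M z hzW s = 0 := by
        rw [← ger_res M (leOfHom i₁) z hz s]
        exact (congrArg (ger M z hz) hW').trans (map_zero (M.presheaf.germ W' z hz).hom)
      have h2 := congrArg (fun m : (DerSch.stalkFunctor X z).obj M => (1 : K) ⊗ₜ[X.presheaf.stalk z] m)
        ((hger z hzW).symm.trans h1)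
      simp only [TensorProduct.tmul_sum, TensorProduct.tmul_zero] at h2
      refine Eq.trans (Finset.sum_congr rfl fun i _ => ?_) h2
      rw [TensorProduct.tmul_smul]
      exact algebraMap_smul K (X.presheaf.germ W z hzW (d i)) (v i)
    have h3 := Fintype.linearIndependent_iff.mp hli _ h0 i
    rw [IsLocalRing.residue_eq_zero_iff, IsLocalRing.mem_maximalIdeal] at h3
    exact h3 ((Scheme.mem_basicOpen X (d i) z hzW).mp hzd)
  have hz0 : X.presheaf.map i₁.op (d i) = 0 := by
    rw [← AlgebraicGeometry.basicOpen_eq_bot_iff, Scheme.basicOpen_res, eq_bot_iff]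
    intro z hz
    exact (hvan i z hz.1 hz.2).elim
  rw [← hd i, ← TopCat.Presheaf.germ_res_apply X.presheaf i₁ y hyW' (d i), hz0, map_zero]
  rfl

theorem isFinLocFree_iff_isFT_free_rank [Coh.IsQCoh M] :
    FlatMod.IsFinLocFree M ↔ CohB1.IsFT M ∧
      (∀ x : X, Module.Free (X.presheaf.stalk x) (M.presheaf.stalk x)) ∧
      IsLocallyConstant (fun x : X => Module.finrank (IsLocalRing.ResidueField (X.presheaf.stalk x))
        ((IsLocalRing.ResidueField (X.presheaf.stalk x)) ⊗[X.presheaf.stalk x] (M.presheaf.stalk x))) := by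
  constructor
  · intro h
    haveI : CohB1.IsFP M := isFP_of_frames fun x => exists_frame h x
    refine ⟨inferInstance, free_stalk_of_isFinLocFree h, (IsLocallyConstant.iff_exists_open _).mpr fun x => ?_⟩
    obtain ⟨U, n, e, hx, he⟩ := exists_frame h x
    refine ⟨U, U.isOpen, hx, fun y hy => ?_⟩
    haveI := free_stalk_of_isFinLocFree h y
    haveI := free_stalk_of_isFinLocFree h x
    exact (finrank_fibre.trans (finrank_of_frame he hy)).trans
      (finrank_fibre.trans (finrank_of_frame he hx)).symm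
  · rintro ⟨h1, h2, h3⟩
    exact isFP_and_free_iff.mp ⟨isFP_of_frames fun x => exists_frame_of_isFT_of_free h1 h2 h3 x, h2⟩

theorem isFinLocFree_iff_isFT_rank_of_isReduced [IsReduced X] [Coh.IsQCoh M] :
    FlatMod.IsFinLocFree M ↔ CohB1.IsFT M ∧
      IsLocallyConstant (fun x : X => Module.finrank (IsLocalRing.ResidueField (X.presheaf.stalk x))
        ((IsLocalRing.ResidueField (X.presheaf.stalk x)) ⊗[X.presheaf.stalk x] (M.presheaf.stalk x))) := by
  refine ⟨fun h => ⟨(isFinLocFree_iff_isFT_free_rank.mp h).1, (isFinLocFree_iff_isFT_free_rank.mp h).2.2⟩,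
    fun ⟨h1, h2⟩ => isFP_and_free_iff.mp ⟨isFP_of_frames fun x => exists_frame_of_isFT_of_reduced h1 h2 x,
      fun x => ?_⟩⟩
  obtain ⟨U, n, e, hx, he⟩ := exists_frame_of_isFT_of_reduced h1 h2 x
  exact Module.Free.of_basis (he.basis x hx)

end MiscFlat6
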