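import Groth.Agent.RpushLib.BCMap
import Groth.Agent.RpushLib.Compare
import Groth.Agent.CohCmpLib.PuSec
import Groth.Agent.TwistLib.SpecSections
import Groth.Agent.TwistLib.ProjSymExt
import Groth.Agent.AmpleDevLib.Pull

/-!
# Descent of sections vanishing on a closed subscheme along a flat base change
-/

universe u
open CategoryTheory CategoryTheory.Limits AlgebraicGeometry TopologicalSpace Opposite TensorProduct
open AmpleLib AmpleThLib
open TwistLib (genSet)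
open KFlatLib (pb puSec puSecLE)

noncomputable section

namespace MiscFlat6

theorem pullbackCongr_puSecLE {X Y : Scheme.{u}} {h k : X ⟶ Y} (e : h = k) (M : Y.Modules) {U : Y.Opens}
    (m : Γ(M, U)) {W : X.Opens} (hh : W ≤ h ⁻¹ᵁ U) (hk : W ≤ k ⁻¹ᵁ U) :
    ((Scheme.Modules.pullbackCongr e).hom.app M).app W (puSecLE h M hh m) = puSecLE k M hk m := by
  subst e
  simp [Scheme.Modules.pullbackCongr]

theorem pullbackComp_inv_puSecLE {X Y Z : Scheme.{u}} (f : X ⟶ Y) (g : Y ⟶ Z) (M : Z.Modules) {U : Z.Opens}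
    (m : Γ(M, U)) {V : Y.Opens} (hV : V ≤ g ⁻¹ᵁ U) {W : X.Opens} (hW : W ≤ f ⁻¹ᵁ V)
    (hWU : W ≤ (f ≫ g) ⁻¹ᵁ U) :
    ((Scheme.Modules.pullbackComp f g).inv.app M).app W (puSecLE (f ≫ g) M hWU m) =
      puSecLE f _ hW (puSecLE g M hV m) := by
  rw [← CohCmpLib.pullbackComp_puSecLE f g M m hV hW]
  exact congr($(congrArg (fun φ => Scheme.Modules.Hom.app φ W)
    ((Scheme.Modules.pullbackComp f g).hom_inv_id_app M)) _)

theorem genAt_iff_isUnit {X : Scheme.{u}} {M : X.Modules} {U W : X.Opens} {e : Γ(M, U)} {t : Γ(M, W)}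
    {x : X} {hxU : x ∈ U} {hxW : x ∈ W} (he : GenAt M e hxU) {c : X.presheaf.stalk x}
    (hc : c • M.presheaf.germ U x hxU e = M.presheaf.germ W x hxW t) : GenAt M t hxW ↔ IsUnit c := by
  unfold GenAt
  rw [← hc]
  simp only [smul_smul]
  refine ⟨fun h => ?_, fun h => he.comp h.unit.mulRight_bijective⟩
  obtain ⟨d, hd⟩ := h.2 (M.presheaf.germ U x hxU e)
  exact IsUnit.of_mul_eq_one_right d (he.1 (hd.trans (one_smul _ _).symm))

theorem genSet_eq_bot_of_zero {X : Scheme.{u}} {M : X.Modules} (hM : PicF.IsInvertible M) :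
    genSet hM (0 : Γ(M, ⊤)) = ⊥ := by
  refine eq_bot_iff.mpr fun x hx => ?_
  obtain ⟨U, e, hxU, he⟩ := TwistLib.exists_genOn hM x
  obtain ⟨c, hc⟩ := (he.genAt hxU).2 (M.presheaf.germ ⊤ x trivial (0 : Γ(M, ⊤)))
  have hu := (genAt_iff_isUnit (he.genAt hxU) hc).mp hx
  have h0 : c = 0 := (he.genAt hxU).1 (hc.trans ((map_zero _).trans
    (by exact (zero_smul _ _).symm)))
  exact absurd (h0 ▸ hu) not_isUnit_zero

section

variable {X Y X' Y' Z Z' : Scheme.{u}} {f : X ⟶ Y} {g : Y' ⟶ Y} {p : X' ⟶ X} {f' : X' ⟶ Y'}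
  {i : Z ⟶ X} {pZ : Z' ⟶ Z} {ρ : Z' ⟶ X'}

/-- A generating section upstairs which dies on the preimage of a closed subscheme descends. -/
theorem exists_section_of_flat_baseChange [IsAffine Y] [IsAffine Y'] [QuasiCompact f] [QuasiSeparated f]
    [Flat g] [QuasiCompact i] [QuasiSeparated i] (H : IsPullback p f' f g) (H2 : IsPullback pZ ρ i p)
    {M : X.Modules} (hM : PicF.IsInvertible M) (t : Γ(pb p M, ⊤))
    (ht : puSec ρ t = 0) {x' : X'} (hx' : x' ∈ genSet (AmpleDevLib.isInvertible_pb p hM) t) :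
    ∃ s : Γ(M, ⊤), puSec i s = 0 ∧ p x' ∈ genSet hM s := by
  classical
  haveI : Coh.IsQCoh M := TwistLib.isQCoh_of_isInvertible hM
  haveI : Coh.IsQCoh (pb i M) := TwistLib.isQCoh_of_isInvertible (AmpleDevLib.isInvertible_pb i hM)
  have H3 : IsPullback pZ (ρ ≫ f') (i ≫ f) g := H2.paste_vert H
  have hY : IsAffineOpen (⊤ : Y.Opens) := isAffineOpen_top Y
  have hY' : IsAffineOpen (⊤ : Y'.Opens) := isAffineOpen_top Y'
  have hg : (⊤ : Y'.Opens) ≤ g ⁻¹ᵁ ⊤ := fun _ _ => trivial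
  let := (g.appLE ⊤ ⊤ hg).hom.toAlgebra
  haveI : Module.Flat Γ(Y, (⊤ : Y.Opens)) Γ(Y', (⊤ : Y'.Opens)) :=
    RingHom.flat_algebraMap_iff.mp (HasRingHomProperty.appLE (P := @Flat) g ‹Flat g› ⟨⊤, hY⟩ ⟨⊤, hY'⟩ hg)
  let U : X'.Opens := p ⁻¹ᵁ (f ⁻¹ᵁ ⊤) ⊓ f' ⁻¹ᵁ ⊤
  let UZ : Z'.Opens := pZ ⁻¹ᵁ ((i ≫ f) ⁻¹ᵁ ⊤) ⊓ (ρ ≫ f') ⁻¹ᵁ ⊤
  let σu := RpushLib.secMap₀ (σ := algebraMap Γ(Y, (⊤ : Y.Opens)) Γ(Y', (⊤ : Y'.Opens))) p (f.app ⊤).hom
    (f'.appLE ⊤ U inf_le_right).hom inf_le_left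
    (fun r => congr($(RpushLib.bc_compat H hg inf_le_left inf_le_right) r))
    ((Scheme.Modules.pullbackPushforwardAdjunction p).unit.app M)
  let σz := RpushLib.secMap₀ (σ := algebraMap Γ(Y, (⊤ : Y.Opens)) Γ(Y', (⊤ : Y'.Opens))) pZ ((i ≫ f).app ⊤).hom
    ((ρ ≫ f').appLE ⊤ UZ inf_le_right).hom inf_le_left
    (fun r => congr($(RpushLib.bc_compat H3 hg inf_le_left inf_le_right) r))
    ((Scheme.Modules.pullbackPushforwardAdjunction pZ).unit.app (pb i M))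
  have hσu : Function.Bijective (RpushLib.extSL σu) := RpushLib.bijective_bc_zero H M hY hY' hg
  have hσz : Function.Bijective (RpushLib.extSL σz) := RpushLib.bijective_bc_zero H3 (pb i M) hY hY' hg
  let q := RpushLib.secMap₀ (σ := RingHom.id Γ(Y, (⊤ : Y.Opens))) i (f.app ⊤).hom ((i ≫ f).app ⊤).hom
    (U := (i ≫ f) ⁻¹ᵁ ⊤) le_rfl (fun r => by
      rw [Scheme.Hom.app_eq_appLE, Scheme.Hom.app_eq_appLE]
      exact congr($(Scheme.Hom.appLE_comp_appLE i f ⊤ (f ⁻¹ᵁ ⊤) ((i ≫ f) ⁻¹ᵁ ⊤) le_rfl le_rfl) r))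
    ((Scheme.Modules.pullbackPushforwardAdjunction i).unit.app M)
  have hUZ : UZ ≤ ρ ⁻¹ᵁ U := fun z _ => ⟨trivial, trivial⟩
  have hUt : U ≤ (⊤ : X'.Opens) := le_top
  let E := ((Scheme.Modules.pullbackComp ρ p).app M ≪≫ (Scheme.Modules.pullbackCongr H2.w.symm).app M ≪≫
    ((Scheme.Modules.pullbackComp pZ i).app M).symm).hom
  let T : Γ(pb p M, U) → Γ(pb pZ (pb i M), UZ) := fun a => E.app UZ (puSecLE ρ _ hUZ a)
  have hTadd : ∀ a b, T (a + b) = T a + T b := fun a b => by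
    show E.app UZ (puSecLE ρ _ hUZ (a + b)) = _
    rw [map_add, map_add]
  have hTsmul : ∀ (c : Γ(X', U)) a, T (c • a) = (ρ.appLE U UZ hUZ c) • T a := fun c a => by
    show E.app UZ (puSecLE ρ _ hUZ (c • a)) = _
    rw [KFlatLib.puSecLE_smul, QCohLib.app_smul]
  have hTm : ∀ m, T (σu m) = σz (q m) := fun m => by
    let m' : Γ(M, f ⁻¹ᵁ ⊤) := m
    have h1 : σu m = puSecLE p M (inf_le_left : U ≤ p ⁻¹ᵁ f ⁻¹ᵁ ⊤) m' := rfl
    have h2 : q m = puSecLE i M (le_rfl : (i ≫ f) ⁻¹ᵁ ⊤ ≤ i ⁻¹ᵁ f ⁻¹ᵁ ⊤) m' := rfl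
    have hA : UZ ≤ (ρ ≫ p) ⁻¹ᵁ (f ⁻¹ᵁ ⊤) := fun z _ => trivial
    have hB : UZ ≤ (pZ ≫ i) ⁻¹ᵁ (f ⁻¹ᵁ ⊤) := fun z _ => trivial
    show ((Scheme.Modules.pullbackComp pZ i).inv.app M).app UZ
      (((Scheme.Modules.pullbackCongr H2.w.symm).hom.app M).app UZ
        (((Scheme.Modules.pullbackComp ρ p).hom.app M).app UZ (puSecLE ρ _ hUZ (σu m)))) = _
    rw [h1, CohCmpLib.pullbackComp_puSecLE ρ p M m' inf_le_left hUZ, pullbackCongr_puSecLE _ M m' hA hB,
      pullbackComp_inv_puSecLE pZ i M m' (V := (i ≫ f) ⁻¹ᵁ ⊤) le_rfl (inf_le_left : UZ ≤ pZ ⁻¹ᵁ _) hB, ← h2]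
    rfl
  have hT : ∀ w, T (RpushLib.extSL σu w) = RpushLib.extSL σz (q.lTensor _ w) := by
    intro w
    induction w using TensorProduct.induction_on with
    | zero =>
      simp only [map_zero]
      show E.app UZ (puSecLE ρ _ hUZ (0 : Γ(pb p M, U))) = (0 : Γ(pb pZ (pb i M), UZ))
      rw [map_zero, map_zero]
    | tmul b m =>
      rw [LinearMap.lTensor_tmul]
      refine (congrArg T (RpushLib.extSL_tmul σu b m)).trans (Eq.trans ?_ (RpushLib.extSL_tmul σz b (q m)).symm)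
      refine (hTsmul (f'.appLE ⊤ U inf_le_right b) (σu m)).trans ?_
      refine congr_arg₂ (fun (c : Γ(Z', UZ)) (a : Γ(pb pZ (pb i M), UZ)) => c • a) ?_ (hTm m)
      exact congr($(Scheme.Hom.appLE_comp_appLE ρ f' ⊤ U UZ inf_le_right hUZ) b)
    | add a b ha hb =>
      simp only [map_add]
      exact (hTadd _ _).trans (congr_arg₂ (· + ·) ha hb)
  obtain ⟨w, hw⟩ := hσu.2 (res (pb p M) hUt t)
  have hqw : q.lTensor _ w = 0 := by
    refine hσz.1 ?_
    rw [map_zero, ← hT, hw]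
    show E.app UZ (puSecLE ρ _ hUZ (res (pb p M) hUt t)) = _
    have h0 : puSecLE ρ (pb p M) hUZ (res (pb p M) hUt t) = 0 := by
      rw [KFlatLib.puSecLE_apply, TwistLib.puSec_res ρ hUt, ht]
      show res (pb ρ (pb p M)) hUZ (res (pb ρ (pb p M)) (ρ.preimage_mono hUt) 0) = 0
      simp only [AmpleLib.res, map_zero]
    rw [h0, map_zero]
    rfl
  obtain ⟨y, rfl⟩ : w ∈ LinearMap.range ((LinearMap.ker q).subtype.lTensor Γ(Y', (⊤ : Y'.Opens))) :=
    (Module.Flat.lTensor_exact Γ(Y', (⊤ : Y'.Opens)) (f := (LinearMap.ker q).subtype) (g := q)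
      (LinearMap.exact_subtype_ker_map q) w).mp hqw
  by_contra hne
  push Not at hne
  obtain ⟨A, e, hxA, he⟩ := TwistLib.exists_genOn (AmpleDevLib.isInvertible_pb p hM) x'
  have hxU : x' ∈ U := ⟨trivial, trivial⟩
  suffices key : ∀ y, ¬ GenAt (pb p M) (show Γ(pb p M, U) from
      RpushLib.extSL σu ((LinearMap.ker q).subtype.lTensor Γ(Y', (⊤ : Y'.Opens)) y)) hxU by
    apply key y
    rw [hw]
    exact (genAt_res hUt t hxU).mpr hx'
  intro y
  let val : Γ(pb p M, U) → X'.presheaf.stalk x' := fun a =>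
    ((he.genAt hxA).2 ((pb p M).presheaf.germ U x' hxU a)).choose
  have hval : ∀ a, val a • (pb p M).presheaf.germ A x' hxA e = (pb p M).presheaf.germ U x' hxU a :=
    fun a => ((he.genAt hxA).2 ((pb p M).presheaf.germ U x' hxU a)).choose_spec
  have hgen : ∀ a, GenAt (pb p M) a hxU ↔ IsUnit (val a) := fun a => genAt_iff_isUnit (he.genAt hxA) (hval a)
  suffices val (show Γ(pb p M, U) from RpushLib.extSL σu ((LinearMap.ker q).subtype.lTensor _ y)) ∈
      IsLocalRing.maximalIdeal _ from fun h => this ((hgen _).mp h)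
  have hadd : ∀ a b, val (a + b) = val a + val b := fun a b => (he.genAt hxA).1 (by
    dsimp only
    rw [hval, add_smul, hval, hval, map_add])
  induction y using TensorProduct.induction_on with
  | zero =>
    rw [map_zero, map_zero]
    have h0 : val 0 = 0 := (he.genAt hxA).1 (by dsimp only; rw [hval, map_zero, zero_smul])
    exact h0 ▸ Submodule.zero_mem _
  | tmul b s =>
    rw [LinearMap.lTensor_tmul]
    have e1 : RpushLib.extSL σu (b ⊗ₜ[Γ(Y, (⊤ : Y.Opens))] (LinearMap.ker q).subtype s) =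
        b • σu ((LinearMap.ker q).subtype s) := RpushLib.extSL_tmul σu b _
    rw [e1]
    let s' : Γ(M, ⊤) := s.1
    let a : Γ(pb p M, U) := σu ((LinearMap.ker q).subtype s)
    let c : Γ(X', U) := f'.appLE ⊤ U inf_le_right b
    have e2 : val (c • a) = X'.presheaf.germ U x' hxU c * val a := (he.genAt hxA).1 (by
      dsimp only
      rw [hval, mul_smul, hval, AmpleLib.germ_smul])
    show val (c • a) ∈ _
    rw [e2]
    refine Ideal.mul_mem_left _ _ fun hu => ?_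
    have hs0 : puSec i s' = 0 := by
      have h4 : q s.1 = 0 := LinearMap.mem_ker.mp s.2
      have h3 : res (pb i M) (le_rfl : (i ⁻¹ᵁ (⊤ : X.Opens)) ≤ i ⁻¹ᵁ ⊤) (puSec i s') = 0 := h4
      rwa [res_refl] at h3
    apply hne s' hs0
    have h1 : GenAt (pb p M) a hxU := (hgen a).mpr hu
    have h2 : x' ∈ genSet (AmpleDevLib.isInvertible_pb p hM) (puSec p s' : Γ(pb p M, ⊤)) := by
      show GenAt (pb p M) (puSec p s' : Γ(pb p M, ⊤)) _
      refine (genAt_res hUt _ hxU).mp ?_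
      exact h1
    rw [AmpleDevLib.genSet_puSec p hM] at h2
    exact h2
  | add a b ha hb =>
    simp only [map_add]
    exact (hadd _ _).symm ▸ Submodule.add_mem _ ha hb

end

end MiscFlat6
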