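import Mathlib.Topology.KrullDimension
import Mathlib.Topology.NoetherianSpace
import Mathlib.Topology.LocallyFinite

/-!
# Krull dimension of spaces and covers
-/

set_option autoImplicit false
universe u

open Set Order TopologicalSpace Topology

namespace MiscFlat6

variable {X : Type u} [TopologicalSpace X]

theorem isIrreducible_preimage_val {Y Z : Set X} (hZ : IsIrreducible Z) (h : Z ⊆ Y) :
    IsIrreducible (Subtype.val ⁻¹' Z : Set Y) := by
  refine ⟨?_, ?_⟩
  · obtain ⟨z, hz⟩ := hZ.nonempty
    exact ⟨⟨z, h hz⟩, hz⟩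
  · rintro U V hU hV ⟨a, ha, haU⟩ ⟨b, hb, hbV⟩
    obtain ⟨U', hU', rfl⟩ := isOpen_induced_iff.mp hU
    obtain ⟨V', hV', rfl⟩ := isOpen_induced_iff.mp hV
    obtain ⟨c, hc, hcU, hcV⟩ := hZ.2 U' V' hU' hV' ⟨a.1, ha, haU⟩ ⟨b.1, hb, hbV⟩
    exact ⟨⟨c, h hc⟩, hc, hcU, hcV⟩

theorem length_le_of_last_subset (p : LTSeries (IrreducibleCloseds X)) {Y : Set X}
    (h : (p.last : Set X) ⊆ Y) : (p.length : WithBot ℕ∞) ≤ topologicalKrullDim Y := by
  have hle : ∀ i, (p i : Set X) ⊆ Y := fun i =>
    Set.Subset.trans (SetLike.coe_subset_coe.mpr (p.monotone (Fin.le_last i))) h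
  let f : Fin (p.length + 1) → IrreducibleCloseds Y := fun i =>
    ⟨Subtype.val ⁻¹' (p i : Set X), isIrreducible_preimage_val (p i).isIrreducible (hle i),
      (p i).isClosed.preimage continuous_subtype_val⟩
  have hf : StrictMono f := fun i j hij => by
    refine ⟨fun z hz => (SetLike.coe_subset_coe.mpr (p.strictMono hij).le) hz, fun hh => ?_⟩
    obtain ⟨x, hxj, hxi⟩ := SetLike.not_le_iff_exists.mp (p.strictMono hij).not_ge
    exact hxi (hh (show (⟨x, hle j hxj⟩ : Y) ∈ f j from hxj))
  exact LTSeries.length_le_krullDim (LTSeries.mk p.length f hf)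

theorem length_le_of_head_inter_open (p : LTSeries (IrreducibleCloseds X)) {U : Set X} (hU : IsOpen U)
    (h : ((p.head : Set X) ∩ U).Nonempty) : (p.length : WithBot ℕ∞) ≤ topologicalKrullDim U := by
  have hne : ∀ i, ((p i : Set X) ∩ U).Nonempty := fun i =>
    h.mono (Set.inter_subset_inter_left _ (SetLike.coe_subset_coe.mpr (p.monotone (Fin.zero_le i))))
  let f : Fin (p.length + 1) → IrreducibleCloseds U := fun i =>
    ⟨Subtype.val ⁻¹' (p i : Set X), ⟨(hne i).imp' (fun y => y) (fun y hy => hy) |>.elim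
        fun y hy => ⟨⟨y, hy.2⟩, hy.1⟩, (p i).isIrreducible.2.preimage hU.isOpenEmbedding_subtypeVal⟩,
      (p i).isClosed.preimage continuous_subtype_val⟩
  have hf : StrictMono f := fun i j hij => by
    refine ⟨fun z hz => (SetLike.coe_subset_coe.mpr (p.strictMono hij).le) hz, fun hh => ?_⟩
    obtain ⟨x, hxj, hxi⟩ := SetLike.not_le_iff_exists.mp (p.strictMono hij).not_ge
    refine hxi (closure_minimal ?_ (p i).isClosed
      (subset_closure_inter_of_isPreirreducible_of_isOpen (p j).isIrreducible.2 hU (hne j) hxj))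
    rintro y ⟨hy, hyU⟩
    exact hh (show (⟨y, hyU⟩ : U) ∈ f j from hy)
  exact LTSeries.length_le_krullDim (LTSeries.mk p.length f hf)

theorem dim_eq_iSup_of_open_cover {ι : Type*} (U : ι → Opens X) (hcov : ⨆ i, U i = ⊤) :
    topologicalKrullDim X = ⨆ i, topologicalKrullDim (U i) := by
  refine le_antisymm (iSup_le fun p => ?_) (iSup_le fun i => topologicalKrullDim_subspace_le X (U i))
  obtain ⟨x, hx⟩ := p.head.isIrreducible.nonempty
  obtain ⟨i, hi⟩ := Opens.mem_iSup.mp (hcov.ge (show x ∈ (⊤ : Opens X) from trivial))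
  exact le_iSup_of_le i (length_le_of_head_inter_open p (U i).isOpen ⟨x, hx, hi⟩)

theorem dim_eq_iSup_of_forall_subset {ι : Type*} (Y : ι → Set X)
    (h : ∀ Z : Set X, IsIrreducible Z → IsClosed Z → ∃ i, Z ⊆ Y i) :
    topologicalKrullDim X = ⨆ i, topologicalKrullDim (Y i) := by
  refine le_antisymm (iSup_le fun p => ?_) (iSup_le fun i => topologicalKrullDim_subspace_le X (Y i))
  obtain ⟨i, hi⟩ := h _ p.last.isIrreducible p.last.isClosed
  exact le_iSup_of_le i (length_le_of_last_subset p hi)

theorem exists_subset_of_irreducible {ι : Type*} (t : Finset ι) (Y : ι → Set X) (hY : ∀ i, IsClosed (Y i))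
    {Z : Set X} (hZ : IsIrreducible Z) (h : Z ⊆ ⋃ i ∈ t, Y i) : ∃ i ∈ t, Z ⊆ Y i := by
  classical
  obtain ⟨z, hz, hZz⟩ := isIrreducible_iff_sUnion_isClosed.mp hZ (t.image Y)
    (fun z hz => by obtain ⟨i, -, rfl⟩ := Finset.mem_image.mp hz; exact hY i) (fun x hx => by
      obtain ⟨i, hi, hxi⟩ := Set.mem_iUnion₂.mp (h hx)
      exact ⟨Y i, Finset.mem_coe.mpr (Finset.mem_image_of_mem Y hi), hxi⟩)
  obtain ⟨i, hi, rfl⟩ := Finset.mem_image.mp hz
  exact ⟨i, hi, hZz⟩

theorem dim_eq_iSup_of_locallyFinite {ι : Type*} (Y : ι → Set X) (hY : ∀ i, IsClosed (Y i))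
    (hlf : LocallyFinite Y) (hcov : ⋃ i, Y i = univ) :
    topologicalKrullDim X = ⨆ i, topologicalKrullDim (Y i) := by
  refine dim_eq_iSup_of_forall_subset Y fun Z hZ hZc => ?_
  obtain ⟨z, hz⟩ := hZ.nonempty
  obtain ⟨O, hO, hfin⟩ := hlf z
  obtain ⟨W, hWO, hW, hzW⟩ := mem_nhds_iff.mp hO
  have hsub : Z ∩ W ⊆ ⋃ i ∈ hfin.toFinset, Y i := fun y hy => by
    obtain ⟨i, hi⟩ := Set.mem_iUnion.mp (hcov.ge (mem_univ y))
    exact Set.mem_iUnion₂.mpr ⟨i, hfin.mem_toFinset.mpr ⟨y, hi, hWO hy.2⟩, hi⟩
  obtain ⟨i, -, hi⟩ := exists_subset_of_irreducible hfin.toFinset Y hY hZ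
    ((subset_closure_inter_of_isPreirreducible_of_isOpen hZ.2 hW ⟨z, hz, hzW⟩).trans
      (closure_minimal hsub (hfin.toFinset.finite_toSet.isClosed_biUnion fun i _ => hY i)))
  exact ⟨i, hi⟩

theorem dim_eq_iSup_components :
    topologicalKrullDim X = ⨆ Y ∈ irreducibleComponents X, topologicalKrullDim Y := by
  rw [dim_eq_iSup_of_forall_subset (fun Y : irreducibleComponents X => (Y : Set X)) fun Z hZ _ => by
    obtain ⟨C, hC, h⟩ := exists_mem_irreducibleComponents_subset_of_isIrreducible Z hZ
    exact ⟨⟨C, hC⟩, h⟩, iSup_subtype]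

theorem dim_lt_of_ssubset [IrreducibleSpace X] (hfin : topologicalKrullDim X ≠ ⊤) {Y : Set X}
    (hY : IsClosed Y) (hYX : Y ≠ univ) : topologicalKrullDim Y < topologicalKrullDim X := by
  haveI : Nonempty (IrreducibleCloseds X) := ⟨⟨univ, IrreducibleSpace.isIrreducible_univ X, isClosed_univ⟩⟩
  rcases isEmpty_or_nonempty (IrreducibleCloseds Y) with h | h
  · rw [topologicalKrullDim, krullDim_eq_bot]
    exact lt_of_lt_of_le (WithBot.bot_lt_coe 0) krullDim_nonneg
  have hXY : topologicalKrullDim Y ≤ topologicalKrullDim X := topologicalKrullDim_subspace_le X Y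
  obtain ⟨n, hn⟩ : ∃ n : ℕ, topologicalKrullDim X = (n : WithBot ℕ∞) := by
    have h0 : (0 : WithBot ℕ∞) ≤ topologicalKrullDim X := krullDim_nonneg
    cases hX : topologicalKrullDim X with
    | bot => exact absurd (hX ▸ h0) (by simp)
    | coe a => cases a with
      | top => exact absurd hX hfin
      | coe n => exact ⟨n, rfl⟩
  have key : ∀ p : LTSeries (IrreducibleCloseds Y), p.length + 1 ≤ n := fun p => by
    let g : IrreducibleCloseds Y → IrreducibleCloseds X := fun Z =>
      ⟨Subtype.val '' (Z : Set Y), Z.isIrreducible.image _ continuous_subtype_val.continuousOn,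
        hY.isClosedMap_subtype_val _ Z.isClosed⟩
    have hg : StrictMono g := fun a b hab => by
      refine ⟨Set.image_mono (SetLike.coe_subset_coe.mpr hab.le), fun hh => ?_⟩
      exact hab.not_ge (SetLike.coe_subset_coe.mp ((Set.image_subset_image_iff Subtype.val_injective).mp hh))
    let top' : IrreducibleCloseds X := ⟨univ, IrreducibleSpace.isIrreducible_univ X, isClosed_univ⟩
    have hlast : (p.map g hg).last < top' := by
      refine ⟨fun x _ => trivial, fun hh => hYX (eq_univ_of_forall fun x => ?_)⟩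
      obtain ⟨y, -, rfl⟩ : x ∈ Subtype.val '' (p.last : Set Y) := by
        have := hh (show x ∈ top' from trivial)
        rwa [LTSeries.last_map] at this
      exact y.2
    have := LTSeries.length_le_krullDim ((p.map g hg).snoc top' hlast)
    rw [← topologicalKrullDim, hn] at this
    exact_mod_cast this
  rw [hn]
  obtain ⟨p₀⟩ : Nonempty (LTSeries (IrreducibleCloseds Y)) := inferInstance
  have hn1 : 1 ≤ n := le_trans (Nat.le_add_left 1 _) (key p₀)
  refine lt_of_le_of_lt (iSup_le fun p => ?_ : topologicalKrullDim Y ≤ ((n - 1 : ℕ) : WithBot ℕ∞)) ?_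
  · exact_mod_cast (Nat.le_sub_one_of_lt (key p))
  · exact_mod_cast Nat.sub_lt hn1 Nat.one_pos

theorem dim_eq_zero_iff [NoetherianSpace X] [T0Space X] [Nonempty X] :
    topologicalKrullDim X = 0 ↔ Finite X ∧ DiscreteTopology X := by
  haveI : Nonempty (IrreducibleCloseds X) :=
    ⟨⟨irreducibleComponent (Classical.arbitrary X), isIrreducible_irreducibleComponent, isClosed_irreducibleComponent⟩⟩
  constructor
  · intro h0
    have hmax : ∀ Z : IrreducibleCloseds X, IsMax Z :=
      krullDim_nonpos_iff_forall_isMax.mp (le_of_eq h0)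
    have hsub : ∀ x, irreducibleComponent x = {x} := fun x => by
      have hcl : ∀ y ∈ irreducibleComponent x, closure {y} = irreducibleComponent x := fun y hy =>
        le_antisymm (closure_minimal (singleton_subset_iff.mpr hy) isClosed_irreducibleComponent)
          (hmax ⟨closure {y}, isIrreducible_singleton.closure, isClosed_closure⟩
            (b := ⟨irreducibleComponent x, isIrreducible_irreducibleComponent, isClosed_irreducibleComponent⟩)
            (closure_minimal (singleton_subset_iff.mpr hy) isClosed_irreducibleComponent))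
      refine eq_singleton_iff_unique_mem.mpr ⟨mem_irreducibleComponent, fun y hy => ?_⟩
      exact (inseparable_iff_closure_eq.mpr ((hcl y hy).trans (hcl x mem_irreducibleComponent).symm)).eq
    have hfin : Finite X := by
      haveI := (NoetherianSpace.finite_irreducibleComponents (α := X)).to_subtype
      exact Finite.of_injective
        (fun x => (⟨irreducibleComponent x, irreducibleComponent_mem_irreducibleComponents x⟩ :
          irreducibleComponents X))
        fun x y e => by
          have := congrArg Subtype.val e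
          simpa [hsub] using this
    haveI : T1Space X := ⟨fun x => hsub x ▸ isClosed_irreducibleComponent⟩
    exact ⟨hfin, inferInstance⟩
  · rintro ⟨-, hd⟩
    exact le_antisymm (topologicalKrullDim_zero_of_discreteTopology X) krullDim_nonneg

end MiscFlat6
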