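import Groth.Agent.MiscFlat6.PropsSmall
import Groth.Agent.CommAlgDim.GlobalDim
import Groth.Agent.CatLib.CM

/-!
# Closed points of locally Noetherian schemes, stalks at generizations
-/

set_option autoImplicit false
universe u

open CategoryTheory Limits AlgebraicGeometry TopologicalSpace

namespace MiscFlat6

variable {X : Scheme.{u}}

theorem exists_closed_specializes [IsLocallyNoetherian X] (x : X) :
    ∃ y : X, IsClosed ({y} : Set X) ∧ x ⤳ y := by
  obtain ⟨V, hV, hxV, -⟩ := exists_isAffineOpen_mem_and_subset (x := x) (U := ⊤) trivial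
  obtain ⟨y, hyV, hxy, hy⟩ : ∃ y ∈ V, x ⤳ y ∧ ∀ z ∈ V, y ⤳ z → z = y := by
    obtain ⟨p, rfl⟩ : x ∈ Set.range hV.fromSpec := by rw [hV.range_fromSpec]; exact hxV
    obtain ⟨m, hm, hle⟩ := Ideal.exists_le_maximal p.asIdeal p.isPrime.ne_top
    let q : PrimeSpectrum Γ(X, V) := ⟨m, hm.isPrime⟩
    refine ⟨hV.fromSpec q, hV.range_fromSpec.le ⟨q, rfl⟩,
      ((PrimeSpectrum.le_iff_specializes p q).mp hle).map hV.fromSpec.continuous, fun z hz hqz => ?_⟩
    obtain ⟨r, rfl⟩ : z ∈ Set.range hV.fromSpec := by rw [hV.range_fromSpec]; exact hz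
    have h1 : q.asIdeal ≤ r.asIdeal := (PrimeSpectrum.le_iff_specializes q r).mpr
      (hV.fromSpec.isOpenEmbedding.isInducing.specializes_iff.mp hqz)
    exact congrArg _ (PrimeSpectrum.ext (hm.eq_of_le r.isPrime.ne_top h1).symm)
  by_cases h : ∀ z, y ⤳ z → z = y
  · refine ⟨y, closure_subset_iff_isClosed.mp fun z hz => h z ?_, hxy⟩
    exact specializes_iff_mem_closure.mpr hz
  push Not at h
  obtain ⟨z, hyz, hzy⟩ := h
  refine ⟨z, closure_subset_iff_isClosed.mp fun w hw => ?_, hxy.trans hyz⟩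
  have hzw : z ⤳ w := specializes_iff_mem_closure.mpr hw
  obtain ⟨V', hV', hwV', -⟩ := exists_isAffineOpen_mem_and_subset (x := w) (U := ⊤) trivial
  have hzV' := hzw.mem_open V'.2 hwV'
  have hyV' := hyz.mem_open V'.2 hzV'
  obtain ⟨py, rfl⟩ : y ∈ Set.range hV'.fromSpec := by rw [hV'.range_fromSpec]; exact hyV'
  obtain ⟨pz, rfl⟩ : z ∈ Set.range hV'.fromSpec := by rw [hV'.range_fromSpec]; exact hzV'
  obtain ⟨pw, rfl⟩ : w ∈ Set.range hV'.fromSpec := by rw [hV'.range_fromSpec]; exact hwV'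
  have hind := hV'.fromSpec.isOpenEmbedding.isInducing
  have hyz' : py.asIdeal ≤ pz.asIdeal :=
    (PrimeSpectrum.le_iff_specializes py pz).mpr (hind.specializes_iff.mp hyz)
  have hzw' : pz.asIdeal ≤ pw.asIdeal :=
    (PrimeSpectrum.le_iff_specializes pz pw).mpr (hind.specializes_iff.mp hzw)
  obtain ⟨_, ⟨f, rfl⟩, hfy, hfV⟩ := PrimeSpectrum.isTopologicalBasis_basic_opens.exists_subset_of_mem_open
    (show py ∈ hV'.fromSpec ⁻¹' (V : Set X) from hyV) (V.2.preimage hV'.fromSpec.continuous)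
  haveI := IsLocallyNoetherian.component_noetherian (X := X) ⟨V', hV'⟩
  let π := Ideal.Quotient.mk py.asIdeal
  have hall : ∀ P : Ideal (Γ(X, V') ⧸ py.asIdeal), P.IsPrime → P ≠ ⊥ → π f ∈ P := by
    intro P hP hP0
    by_contra hfP
    let r : PrimeSpectrum Γ(X, V') := ⟨P.comap π, Ideal.IsPrime.comap π⟩
    have hle : py.asIdeal ≤ r.asIdeal := fun a ha => by
      show π a ∈ P
      rw [Ideal.Quotient.eq_zero_iff_mem.mpr ha]
      exact P.zero_mem
    have hr : hV'.fromSpec r = hV'.fromSpec py := hy _ (hfV (show r ∈ PrimeSpectrum.basicOpen f from hfP))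
      (((PrimeSpectrum.le_iff_specializes py r).mp hle).map hV'.fromSpec.continuous)
    refine hP0 ?_
    rw [← Ideal.map_comap_of_surjective π Ideal.Quotient.mk_surjective P]
    show Ideal.map π r.asIdeal = ⊥
    rw [hV'.fromSpec.isOpenEmbedding.injective hr, Ideal.map_quotient_self]
  have hker : ∀ J : Ideal Γ(X, V'), py.asIdeal ≤ J → (J.map π).comap π = J := fun J hJ => by
    rw [Ideal.comap_map_of_surjective π Ideal.Quotient.mk_surjective, ← RingHom.ker_eq_comap_bot,
      Ideal.mk_ker, sup_eq_left]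
    exact hJ
  haveI : (pz.asIdeal.map π).IsPrime :=
    Ideal.map_isPrime_of_surjective Ideal.Quotient.mk_surjective (by rw [Ideal.mk_ker]; exact hyz')
  haveI : (pw.asIdeal.map π).IsPrime :=
    Ideal.map_isPrime_of_surjective Ideal.Quotient.mk_surjective (by rw [Ideal.mk_ker]; exact hyz'.trans hzw')
  have heq := eq_of_lt_of_forall_mem (π f) (fun h => hfy (Ideal.Quotient.eq_zero_iff_mem.mp h)) hall
    (P := pz.asIdeal.map π) (Q := pw.asIdeal.map π)
    (fun e => hzy (congrArg _ (PrimeSpectrum.ext (le_antisymm (fun a ha => by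
      have : π a ∈ pz.asIdeal.map π := Ideal.mem_map_of_mem π ha
      rw [e, Ideal.mem_bot] at this
      exact Ideal.Quotient.eq_zero_iff_mem.mp this) hyz')))) (Ideal.map_mono hzw')
  have h2 := congrArg (Ideal.comap π) heq
  rw [hker _ hyz', hker _ (hyz'.trans hzw')] at h2
  exact congrArg _ (PrimeSpectrum.ext h2.symm)

theorem exists_prime_equiv_of_specializes {x y : X} (h : x ⤳ y) :
    ∃ (p : Ideal (X.presheaf.stalk y)) (_ : p.IsPrime),
      Nonempty (Localization.AtPrime p ≃+* X.presheaf.stalk x) := by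
  obtain ⟨V, hV, hyV, -⟩ := exists_isAffineOpen_mem_and_subset (x := y) (U := ⊤) trivial
  have hxV := h.mem_open V.2 hyV
  letI := TopCat.Presheaf.algebra_section_stalk X.presheaf (⟨x, hxV⟩ : (V : Set X))
  letI := TopCat.Presheaf.algebra_section_stalk X.presheaf (⟨y, hyV⟩ : (V : Set X))
  haveI : IsLocalization.AtPrime (X.presheaf.stalk x) (hV.primeIdealOf ⟨x, hxV⟩).asIdeal :=
    hV.isLocalization_stalk ⟨x, hxV⟩
  haveI : IsLocalization.AtPrime (X.presheaf.stalk y) (hV.primeIdealOf ⟨y, hyV⟩).asIdeal :=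
    hV.isLocalization_stalk ⟨y, hyV⟩
  have hle : (hV.primeIdealOf ⟨x, hxV⟩).asIdeal ≤ (hV.primeIdealOf ⟨y, hyV⟩).asIdeal :=
    (PrimeSpectrum.le_iff_specializes _ _).mpr (hV.fromSpec.isOpenEmbedding.isInducing.specializes_iff.mp
      (by rw [IsAffineOpen.fromSpec_primeIdealOf, IsAffineOpen.fromSpec_primeIdealOf]; exact h))
  have hdisj : Disjoint ((hV.primeIdealOf ⟨y, hyV⟩).asIdeal.primeCompl : Set Γ(X, V))
      (hV.primeIdealOf ⟨x, hxV⟩).asIdeal := Set.disjoint_left.2 fun a ha hax => ha (hle hax)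
  let p : Ideal (X.presheaf.stalk y) :=
    (hV.primeIdealOf ⟨x, hxV⟩).asIdeal.map (algebraMap Γ(X, V) (X.presheaf.stalk y))
  haveI hp : p.IsPrime := IsLocalization.isPrime_of_isPrime_disjoint
    (hV.primeIdealOf ⟨y, hyV⟩).asIdeal.primeCompl _ _ (hV.primeIdealOf ⟨x, hxV⟩).2 hdisj
  have hcomap : p.comap (algebraMap Γ(X, V) (X.presheaf.stalk y)) = (hV.primeIdealOf ⟨x, hxV⟩).asIdeal :=
    IsLocalization.comap_map_of_isPrime_disjoint (hV.primeIdealOf ⟨y, hyV⟩).asIdeal.primeCompl _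
      (hV.primeIdealOf ⟨x, hxV⟩).2 hdisj
  haveI := IsLocalization.isLocalization_isLocalization_atPrime_isLocalization
    (M := (hV.primeIdealOf ⟨y, hyV⟩).asIdeal.primeCompl) (S := X.presheaf.stalk y) (Localization.AtPrime p) p
  haveI : IsLocalization (hV.primeIdealOf ⟨x, hxV⟩).asIdeal.primeCompl (Localization.AtPrime p) := by
    have h1 : IsLocalization.AtPrime (Localization.AtPrime p) (p.comap (algebraMap Γ(X, V) (X.presheaf.stalk y))) :=
      inferInstance
    convert h1 using 2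
    exact hcomap.symm
  exact ⟨p, hp, ⟨(IsLocalization.algEquiv (hV.primeIdealOf ⟨x, hxV⟩).asIdeal.primeCompl
    (Localization.AtPrime p) (X.presheaf.stalk x)).toRingEquiv⟩⟩

theorem forall_stalk_iff_closedPoints [IsLocallyNoetherian X] (P : ∀ (R : CommRingCat.{u}), Prop)
    (hP : ∀ (x y : X), x ⤳ y → P (X.presheaf.stalk y) → P (X.presheaf.stalk x)) :
    (∀ x : X, P (X.presheaf.stalk x)) ↔ ∀ x : X, IsClosed ({x} : Set X) → P (X.presheaf.stalk x) := by
  refine ⟨fun h x _ => h x, fun h x => ?_⟩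
  obtain ⟨y, hy, hxy⟩ := exists_closed_specializes x
  exact hP x y hxy (h y hy)

theorem isRegularLocalRing_stalk_iff [IsLocallyNoetherian X] :
    (∀ x : X, IsRegularLocalRing (X.presheaf.stalk x)) ↔
      ∀ x : X, IsClosed ({x} : Set X) → IsRegularLocalRing (X.presheaf.stalk x) := by
  refine forall_stalk_iff_closedPoints (fun R => IsRegularLocalRing R) fun x y h hy => ?_
  obtain ⟨p, hp, ⟨e⟩⟩ := exists_prime_equiv_of_specializes h
  haveI := CommAlgDim.isRegularLocalRing_localization (X.presheaf.stalk y) p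
  exact IsRegularLocalRing.of_ringEquiv e

theorem isCohenMacaulayLocalRing_stalk_iff [IsLocallyNoetherian X] :
    (∀ x : X, LocCoh.IsCohenMacaulayLocalRing (X.presheaf.stalk x)) ↔
      ∀ x : X, IsClosed ({x} : Set X) → LocCoh.IsCohenMacaulayLocalRing (X.presheaf.stalk x) := by
  refine forall_stalk_iff_closedPoints (fun R => LocCoh.IsCohenMacaulayLocalRing R) fun x y h hy => ?_
  obtain ⟨p, hp, ⟨e⟩⟩ := exists_prime_equiv_of_specializes h
  haveI := SMTLib.isCohenMacaulayLocalRing_of_isCM _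
    (CatLib.isCM_localization (SMTLib.isCM_of_isCohenMacaulayLocalRing (X.presheaf.stalk y)) p)
  exact SMTLib.isCohenMacaulayLocalRing_of_ringEquiv e

end MiscFlat6
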