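import Groth.Agent.MiscFlat6.PropsSmall
import Groth.Agent.MiscFlat6.ClosedPts
import Groth.Agent.PtTopLib.Jacobson
import Groth.Agent.PtTopLib.Basic
import Groth.Agent.S10837
import Mathlib.AlgebraicGeometry.Morphisms.Integral
import Mathlib.Topology.KrullDimension
import Mathlib.RingTheory.Ideal.GoingUp

/-!
# Locally closed points; dimensions along open, closed and integral maps
-/

set_option autoImplicit false
universe u

open CategoryTheory Limits AlgebraicGeometry TopologicalSpace Topology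

namespace MiscFlat6

theorem exists_locallyClosed_point {α : Type u} [TopologicalSpace α] [T0Space α] [PrespectralSpace α]
    {Z : Set α} (hne : Z.Nonempty) (hZ : IsLocallyClosed Z) : ∃ x ∈ Z, IsLocallyClosed ({x} : Set α) := by
  obtain ⟨U, C, hU, hC, rfl⟩ := hZ
  obtain ⟨z, hz⟩ := hne
  obtain ⟨V, hV, hzV, hVU⟩ := PrespectralSpace.isTopologicalBasis.exists_subset_of_mem_open hz.1 hU
  haveI : CompactSpace ↥(V ∩ C) := isCompact_iff_compactSpace.mp (hV.2.inter_right hC)
  obtain ⟨⟨x, hxV, hxC⟩, -, hx⟩ :=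
    (isClosed_univ (X := ↥(V ∩ C))).exists_closed_singleton ⟨⟨z, hzV, hz.2⟩, trivial⟩
  refine ⟨x, ⟨hVU hxV, hxC⟩, ?_⟩
  obtain ⟨D, hD, hDx⟩ := isClosed_induced_iff.mp hx
  refine ⟨V, C ∩ D, hV.1, hC.inter hD, Set.ext fun y => ⟨?_, fun hy => ?_⟩⟩
  · rintro rfl
    exact ⟨hxV, hxC, (hDx.ge rfl : (⟨y, hxV, hxC⟩ : ↥(V ∩ C)) ∈ Subtype.val ⁻¹' D)⟩
  · exact congrArg Subtype.val
      (Set.mem_singleton_iff.mp (hDx.le (show (⟨y, hy.1, hy.2.1⟩ : ↥(V ∩ C)) ∈ Subtype.val ⁻¹' D from hy.2.2)))

variable {X : Scheme.{u}}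

theorem exists_locallyClosed_point_of_isLocallyConstructible (E : Set X)
    (hE : IsLocallyConstructible E) (hne : E.Nonempty) : ∃ x ∈ E, IsLocallyClosed ({x} : Set X) := by
  obtain ⟨e, he⟩ := hne
  obtain ⟨U, hUn, hU, hc⟩ := hE e
  obtain ⟨𝒮, -, hl, hSU⟩ := PtTopLib.exists_finite_locallyClosed hc
  obtain ⟨S, hS, heS⟩ := Set.mem_sUnion.mp (hSU.le (show (⟨e, mem_of_mem_nhds hUn⟩ : U) ∈ Subtype.val ⁻¹' E from he))
  have hS' : IsLocallyClosed (Subtype.val '' S) :=
    (hl S hS).image IsInducing.subtypeVal (by rw [Subtype.range_coe]; exact hU.isLocallyClosed)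
  obtain ⟨x, hx, hxl⟩ := exists_locallyClosed_point (Z := Subtype.val '' S) ⟨e, ⟨_, heS, rfl⟩⟩ hS'
  obtain ⟨x', hx', rfl⟩ := hx
  exact ⟨x', hSU.ge (Set.mem_sUnion.mpr ⟨S, hS, hx'⟩), hxl⟩

theorem exists_isClosed_point_mem [IsLocallyNoetherian X] (Z : Set X) (hZ : IsClosed Z) (hne : Z.Nonempty) :
    ∃ x ∈ Z, IsClosed ({x} : Set X) := by
  obtain ⟨z, hz⟩ := hne
  obtain ⟨y, hy, hzy⟩ := exists_closed_specializes z
  exact ⟨y, hzy.mem_closed hZ hz, hy⟩

variable [IsLocallyNoetherian X] {x : X}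

/-- the local structure of the closure of a locally closed point -/
theorem exists_element_of_locallyClosed (hx : IsLocallyClosed ({x} : Set X)) {U : X.Opens} (hU : IsAffineOpen U)
    (px : PrimeSpectrum Γ(X, U)) (hpx : hU.fromSpec px = x) :
    ∃ f : Γ(X, U) ⧸ px.asIdeal, f ≠ 0 ∧ ∀ P : Ideal (Γ(X, U) ⧸ px.asIdeal), P.IsPrime → P ≠ ⊥ → f ∈ P := by
  obtain ⟨V, C, hV, hC, he⟩ := hx
  have hxVC : x ∈ V ∩ C := he.le rfl
  obtain ⟨_, ⟨f, rfl⟩, hfy, hfV⟩ := PrimeSpectrum.isTopologicalBasis_basic_opens.exists_subset_of_mem_open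
    (show px ∈ hU.fromSpec ⁻¹' V from (show hU.fromSpec px ∈ V from hpx ▸ hxVC.1))
    (hV.preimage hU.fromSpec.continuous)
  refine ⟨Ideal.Quotient.mk _ f, fun h => hfy (Ideal.Quotient.eq_zero_iff_mem.mp h), fun P hP hP0 => ?_⟩
  by_contra hfP
  let π := Ideal.Quotient.mk px.asIdeal
  let r : PrimeSpectrum Γ(X, U) := ⟨P.comap π, Ideal.IsPrime.comap π⟩
  have hle : px.asIdeal ≤ r.asIdeal := fun a ha => by
    show π a ∈ P
    rw [Ideal.Quotient.eq_zero_iff_mem.mpr ha]
    exact P.zero_mem
  have hsp : x ⤳ hU.fromSpec r :=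
    hpx ▸ ((PrimeSpectrum.le_iff_specializes px r).mp hle).map hU.fromSpec.continuous
  have hr : hU.fromSpec r = x :=
    he.ge ⟨hfV (show r ∈ PrimeSpectrum.basicOpen f from hfP), hsp.mem_closed hC hxVC.2⟩
  refine hP0 ?_
  rw [← Ideal.map_comap_of_surjective π Ideal.Quotient.mk_surjective P]
  show Ideal.map π r.asIdeal = ⊥
  rw [hU.fromSpec.isOpenEmbedding.injective (hr.trans hpx.symm), Ideal.map_quotient_self]

theorem eq_of_specializes_chain (hx : IsLocallyClosed ({x} : Set X)) {y z : X} (hxy : x ⤳ y) (hyx : y ≠ x)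
    (hyz : y ⤳ z) : z = y := by
  obtain ⟨U, hU, hzU, -⟩ := exists_isAffineOpen_mem_and_subset (x := z) (U := ⊤) trivial
  have hyU := hyz.mem_open U.2 hzU
  have hxU := hxy.mem_open U.2 hyU
  obtain ⟨px, rfl⟩ : x ∈ Set.range hU.fromSpec := by rw [hU.range_fromSpec]; exact hxU
  obtain ⟨py, rfl⟩ : y ∈ Set.range hU.fromSpec := by rw [hU.range_fromSpec]; exact hyU
  obtain ⟨pz, rfl⟩ : z ∈ Set.range hU.fromSpec := by rw [hU.range_fromSpec]; exact hzU
  have hind := hU.fromSpec.isOpenEmbedding.isInducing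
  have h1 : px.asIdeal ≤ py.asIdeal := (PrimeSpectrum.le_iff_specializes px py).mpr (hind.specializes_iff.mp hxy)
  have h2 : py.asIdeal ≤ pz.asIdeal := (PrimeSpectrum.le_iff_specializes py pz).mpr (hind.specializes_iff.mp hyz)
  obtain ⟨f, hf, hall⟩ := exists_element_of_locallyClosed hx hU px rfl
  haveI := IsLocallyNoetherian.component_noetherian (X := X) ⟨U, hU⟩
  let π := Ideal.Quotient.mk px.asIdeal
  have hker : ∀ J : Ideal Γ(X, U), px.asIdeal ≤ J → (J.map π).comap π = J := fun J hJ => by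
    rw [Ideal.comap_map_of_surjective π Ideal.Quotient.mk_surjective, ← RingHom.ker_eq_comap_bot,
      Ideal.mk_ker, sup_eq_left]
    exact hJ
  haveI : (py.asIdeal.map π).IsPrime :=
    Ideal.map_isPrime_of_surjective Ideal.Quotient.mk_surjective (by rw [Ideal.mk_ker]; exact h1)
  haveI : (pz.asIdeal.map π).IsPrime :=
    Ideal.map_isPrime_of_surjective Ideal.Quotient.mk_surjective (by rw [Ideal.mk_ker]; exact h1.trans h2)
  have heq := eq_of_lt_of_forall_mem f hf hall (P := py.asIdeal.map π) (Q := pz.asIdeal.map π) (fun e => hyx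
    (congrArg _ (PrimeSpectrum.ext (le_antisymm (fun a ha => by
      have : π a ∈ py.asIdeal.map π := Ideal.mem_map_of_mem π ha
      rw [e, Ideal.mem_bot] at this
      exact Ideal.Quotient.eq_zero_iff_mem.mp this) h1)))) (Ideal.map_mono h2)
  have h3 := congrArg (Ideal.comap π) heq
  rw [hker _ h1, hker _ (h1.trans h2)] at h3
  exact congrArg _ (PrimeSpectrum.ext h3.symm)

theorem isClosed_of_mem_closure (hx : IsLocallyClosed ({x} : Set X)) {y : X} (hy : y ∈ closure ({x} : Set X))
    (hne : y ≠ x) : IsClosed ({y} : Set X) :=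
  closure_subset_iff_isClosed.mp fun _ hz =>
    eq_of_specializes_chain hx (specializes_iff_mem_closure.mpr hy) hne (specializes_iff_mem_closure.mpr hz)

theorem krullDim_le_one_of_chain {α : Type u} [TopologicalSpace α] [QuasiSober α]
    (h : ∀ a b c : α, a ⤳ b → b ⤳ c → ¬ b ⤳ a → c ⤳ b) : topologicalKrullDim α ≤ 1 := by
  refine iSup_le fun s => ?_
  by_contra hs
  have hlen : 2 ≤ s.length := by
    by_contra hlt
    exact hs (by exact_mod_cast Nat.lt_succ_iff.mp (not_le.mp hlt))
  let i0 : Fin (s.length + 1) := ⟨0, by omega⟩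
  let i1 : Fin (s.length + 1) := ⟨1, by omega⟩
  let i2 : Fin (s.length + 1) := ⟨2, by omega⟩
  have h01 : s i0 < s i1 := LTSeries.strictMono s (show i0 < i1 by rw [Fin.lt_def]; simp [i0, i1])
  have h12 : s i1 < s i2 := LTSeries.strictMono s (show i1 < i2 by rw [Fin.lt_def]; simp [i1, i2])
  obtain ⟨a, ha⟩ := QuasiSober.sober (s i2).isIrreducible (s i2).isClosed
  obtain ⟨b, hb⟩ := QuasiSober.sober (s i1).isIrreducible (s i1).isClosed
  obtain ⟨c, hc⟩ := QuasiSober.sober (s i0).isIrreducible (s i0).isClosed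
  have hcb := h a b c (ha.specializes (h12.le hb.mem)) (hb.specializes (h01.le hc.mem)) fun hba =>
    h12.not_ge fun z hz => by
      have : a ∈ closure ({b} : Set α) := specializes_iff_mem_closure.mp hba
      rw [hb.def] at this
      have hsub : closure ({a} : Set α) ⊆ (s i1 : Set α) :=
        closure_minimal (Set.singleton_subset_iff.mpr this) (s i1).isClosed
      exact hsub (ha.def.ge hz)
  refine h01.not_ge fun z hz => ?_
  have : b ∈ closure ({c} : Set α) := specializes_iff_mem_closure.mp hcb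
  rw [hc.def] at this
  exact closure_minimal (Set.singleton_subset_iff.mpr this) (s i0).isClosed (hb.def.ge hz)

theorem dim_closure_le_one (hx : IsLocallyClosed ({x} : Set X)) :
    topologicalKrullDim (closure ({x} : Set X)) ≤ 1 := by
  haveI : QuasiSober (closure ({x} : Set X)) := isClosed_closure.isClosedEmbedding_subtypeVal.quasiSober
  refine krullDim_le_one_of_chain fun a b c hab hbc hnba => ?_
  have hb : (b : X) ≠ x := fun e =>
    hnba ((subtype_specializes_iff b a).mpr (show (b : X) ⤳ (a : X) by rw [e]; exact specializes_iff_mem_closure.mpr a.2))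
  refine (subtype_specializes_iff c b).mpr ?_
  rw [eq_of_specializes_chain hx (specializes_iff_mem_closure.mpr b.2) hb ((subtype_specializes_iff b c).mp hbc)]

theorem finite_closure_of_locallyClosed [CompactSpace X] (hx : IsLocallyClosed ({x} : Set X)) :
    (closure ({x} : Set X)).Finite := by
  classical
  obtain ⟨t, ht⟩ := isCompact_univ.elim_finite_subcover (fun U : X.affineOpens => (U.1 : Set X))
    (fun U => U.1.2) (fun y _ => by
      obtain ⟨U, hU, hy, -⟩ := exists_isAffineOpen_mem_and_subset (x := y) (U := ⊤) trivial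
      exact Set.mem_iUnion.mpr ⟨⟨U, hU⟩, hy⟩)
  refine ((t.finite_toSet.biUnion fun U _ => ?_ : (⋃ U ∈ t, closure ({x} : Set X) ∩ U.1).Finite)).subset
    fun y hy => by
      obtain ⟨U, hU, hyU⟩ := Set.mem_iUnion₂.mp (ht (Set.mem_univ y))
      exact Set.mem_iUnion₂.mpr ⟨U, hU, hy, hyU⟩
  by_cases hxU : x ∈ U.1
  swap
  · refine Set.Finite.subset Set.finite_empty fun y hy => hxU ?_
    exact (specializes_iff_mem_closure.mpr hy.1).mem_open U.1.2 hy.2
  obtain ⟨px, hpx⟩ : x ∈ Set.range U.2.fromSpec := by rw [U.2.range_fromSpec]; exact hxU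
  obtain ⟨f, hf, hall⟩ := exists_element_of_locallyClosed hx U.2 px hpx
  haveI := IsLocallyNoetherian.component_noetherian U
  have hfin := Ideal.finite_minimalPrimes_of_isNoetherianRing _ (Ideal.span {f})
  let π := Ideal.Quotient.mk px.asIdeal
  let T : Set (PrimeSpectrum Γ(X, U.1)) :=
    insert px ((fun q : PrimeSpectrum (Γ(X, U.1) ⧸ px.asIdeal) => PrimeSpectrum.comap π q) ''
      (PrimeSpectrum.asIdeal ⁻¹' (Ideal.span {f}).minimalPrimes))
  have hT : T.Finite :=
    ((hfin.preimage (fun _ _ _ _ h => PrimeSpectrum.ext h)).image _).insert _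
  refine (hT.image U.2.fromSpec).subset fun y hy => ?_
  obtain ⟨py, rfl⟩ : y ∈ Set.range U.2.fromSpec := by rw [U.2.range_fromSpec]; exact hy.2
  refine ⟨py, ?_, rfl⟩
  have hle : px.asIdeal ≤ py.asIdeal := (PrimeSpectrum.le_iff_specializes px py).mpr
    (U.2.fromSpec.isOpenEmbedding.isInducing.specializes_iff.mp (hpx ▸ specializes_iff_mem_closure.mpr hy.1))
  haveI hP : (py.asIdeal.map π).IsPrime :=
    Ideal.map_isPrime_of_surjective Ideal.Quotient.mk_surjective (by rw [Ideal.mk_ker]; exact hle)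
  have hcomap : (py.asIdeal.map π).comap π = py.asIdeal := by
    rw [Ideal.comap_map_of_surjective π Ideal.Quotient.mk_surjective, ← RingHom.ker_eq_comap_bot,
      Ideal.mk_ker, sup_eq_left]
    exact hle
  by_cases h0 : py.asIdeal.map π = ⊥
  · refine Or.inl (PrimeSpectrum.ext ?_)
    rw [← hcomap, h0, ← RingHom.ker_eq_comap_bot, Ideal.mk_ker]
  · refine Or.inr ⟨⟨py.asIdeal.map π, hP⟩, ⟨⟨hP, (Ideal.span_singleton_le_iff_mem _).mpr (hall _ hP h0)⟩,
      fun Q hQ hQP => ?_⟩, PrimeSpectrum.ext hcomap⟩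
    haveI := hQ.1
    exact (eq_of_lt_of_forall_mem f hf hall
      (fun e => hf (Ideal.mem_bot.mp (e ▸ (Ideal.span_singleton_le_iff_mem _).mp hQ.2))) hQP).ge

omit [IsLocallyNoetherian X]

theorem genericPoint_tfae (X : Scheme.{u}) [IsNoetherian X] [IrreducibleSpace X] :
    [IsOpen ({genericPoint X} : Set X), Finite X,
      topologicalKrullDim X ≤ 1 ∧ {x : X | IsClosed ({x} : Set X)}.Finite].TFAE := by
  have hgen : ∀ y : X, genericPoint X ⤳ y := fun y => genericPoint_specializes y
  have hcl : closure ({genericPoint X} : Set X) = Set.univ := (genericPoint_spec X).def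
  tfae_have 1 → 2 := fun h => by
    have := finite_closure_of_locallyClosed h.isLocallyClosed
    rw [hcl] at this
    exact Set.finite_univ_iff.mp this
  tfae_have 2 → 1 := fun h => by
    have e : ({genericPoint X} : Set X) = (⋃ y ∈ ({genericPoint X}ᶜ : Set X), closure ({y} : Set X))ᶜ := by
      ext z
      simp only [Set.mem_singleton_iff, Set.mem_compl_iff, Set.mem_iUnion, not_exists]
      constructor
      · rintro rfl y hy hmem
        exact hy ((specializes_iff_mem_closure.mpr hmem).antisymm (hgen y)).eq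
      · intro hz
        by_contra hne
        exact hz z hne (subset_closure rfl)
    rw [e]
    exact ((Set.toFinite _).isClosed_biUnion fun y _ => isClosed_closure).isOpen_compl
  tfae_have 2 → 3 := fun h => by
    refine ⟨krullDim_le_one_of_chain fun a b c hab hbc hnba => ?_, Set.toFinite _⟩
    have ho : IsOpen ({genericPoint X} : Set X) := tfae_2_to_1 h
    by_cases hb : b = genericPoint X
    · exact absurd (hb ▸ hgen a) hnba
    · rw [eq_of_specializes_chain ho.isLocallyClosed (hgen b) hb hbc]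
  tfae_have 3 → 2 := fun ⟨hd, hfin⟩ => by
    refine Set.finite_univ_iff.mp ((hfin.insert (genericPoint X)).subset fun y _ => ?_)
    by_cases hy : y = genericPoint X
    · exact Or.inl hy
    refine Or.inr (closure_subset_iff_isClosed.mp fun z hz => ?_)
    by_contra hzy
    let cl : X → IrreducibleCloseds X := fun p => ⟨closure {p}, isIrreducible_singleton.closure, isClosed_closure⟩
    have hlt : ∀ p q : X, q ⤳ p → p ≠ q → cl p < cl q := fun p q h hne => by
      refine lt_of_le_of_ne (specializes_iff_closure_subset.mp h) fun e => hne ?_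
      exact ((specializes_iff_closure_subset.mpr (le_of_eq (congrArg SetLike.coe e.symm))).antisymm h).eq
    let s : LTSeries (IrreducibleCloseds X) :=
      ((RelSeries.singleton _ (cl z)).snoc (cl y) (hlt z y (specializes_iff_mem_closure.mpr hz) hzy)).snoc
        (cl (genericPoint X)) (by rw [RelSeries.last_snoc]; exact hlt y _ (hgen y) hy)
    have h2 : ((2 : ℕ) : WithBot ℕ∞) ≤ topologicalKrullDim X := le_iSup_of_le s le_rfl
    exact absurd (h2.trans hd) (by decide)
  tfae_finish

theorem exists_finite_closure [IsNoetherian X] (Z : Set X) (hZ : IsLocallyClosed Z) (hne : Z.Nonempty) :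
    ∃ x ∈ Z, (closure ({x} : Set X)).Finite := by
  obtain ⟨x, hx, hxl⟩ := exists_locallyClosed_point hne hZ
  exact ⟨x, hx, finite_closure_of_locallyClosed hxl⟩

theorem infinite_of_isOpen {R : Type u} [CommRing R] [IsDomain R] [IsLocalRing R] [IsNoetherianRing R]
    (hdim : 2 ≤ ringKrullDim R) (U : Set (PrimeSpectrum R)) (hU : IsOpen U) (hne : U.Nonempty) : U.Infinite := by
  intro hfin
  obtain ⟨z, hz⟩ := hne
  let η : PrimeSpectrum R := ⟨⊥, Ideal.isPrime_bot⟩
  have hη : ∀ p, η ⤳ p := fun p => (PrimeSpectrum.le_iff_specializes η p).mp (bot_le (a := p.asIdeal))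
  have ho : IsOpen ({η} : Set (PrimeSpectrum R)) := by
    have e : ({η} : Set (PrimeSpectrum R)) = U \ ⋃ y ∈ U \ {η}, closure ({y} : Set (PrimeSpectrum R)) := by
      ext p
      simp only [Set.mem_sdiff, Set.mem_iUnion, not_exists, Set.mem_singleton_iff]
      constructor
      · rintro rfl
        exact ⟨(hη z).mem_open hU hz, fun y hy hmem => hy.2 ((specializes_iff_mem_closure.mpr hmem).antisymm (hη y)).eq⟩
      · rintro ⟨hp, h⟩
        by_contra hne
        exact h p ⟨hp, hne⟩ (subset_closure rfl)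
    rw [e]
    exact hU.sdiff ((hfin.subset Set.sdiff_subset).isClosed_biUnion fun y _ => isClosed_closure)
  obtain ⟨_, ⟨f, rfl⟩, hfη, hfU⟩ :=
    PrimeSpectrum.isTopologicalBasis_basic_opens.exists_subset_of_mem_open (Set.mem_singleton η) ho
  have hall : ∀ P : Ideal R, P.IsPrime → P ≠ ⊥ → f ∈ P := fun P hP hP0 => by
    by_contra hfP
    exact hP0 (congrArg PrimeSpectrum.asIdeal (hfU (show (⟨P, hP⟩ : PrimeSpectrum R) ∈ PrimeSpectrum.basicOpen f from hfP)))
  have h1 : Ring.KrullDimLE 1 R := Ring.krullDimLE_one_iff_of_noZeroDivisors.mpr fun P hP0 hP => by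
    haveI := hP
    obtain ⟨m, hm, hle⟩ := Ideal.exists_le_maximal P hP.ne_top
    rw [eq_of_lt_of_forall_mem f (fun h => hfη (Ideal.mem_bot.mpr h)) hall hP0 hle]
    exact hm
  exact absurd (hdim.trans (Ring.krullDimLE_iff.mp h1)) (by decide)

theorem dim_le_of_open_or_closed {X Y : Scheme.{u}} (f : X ⟶ Y) (hs : Function.Surjective f.base)
    (h : IsOpenMap f.base ∨ IsClosedMap f.base) : topologicalKrullDim Y ≤ topologicalKrullDim X :=
  PtTopLib.krullDim_le_of_lift f f.continuous hs
    (h.symm.imp (fun hc => hc.specializingMap) fun ho => Groth.Agent.S10837.result f ho)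

theorem dim_range_le_of_isOpenMap {X Y : Scheme.{u}} (f : X ⟶ Y) (hf : IsOpenMap f.base) :
    topologicalKrullDim ↥(Set.range f.base) ≤ topologicalKrullDim ↥X := by
  haveI : QuasiSober ↥(Set.range f.base) := hf.isOpen_range.isOpenEmbedding_subtypeVal.quasiSober
  refine PtTopLib.krullDim_le_of_lift (Set.rangeFactorization f.base) (f.continuous.codRestrict _)
    Set.rangeFactorization_surjective (Or.inr fun a b hb => ?_)
  obtain ⟨a', ha', h'⟩ := Groth.Agent.S10837.result f hf (hb.map continuous_subtype_val)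
  exact ⟨a', ha', Subtype.ext h'⟩

theorem eq_of_specializes_of_integral_aux {X Y : Scheme.{u}} (f : X ⟶ Y) [IsIntegralHom f] {a b : X}
    (h : a ⤳ b) (he : f a = f b) : a = b := by
  obtain ⟨V, hV, hbV, -⟩ := exists_isAffineOpen_mem_and_subset (x := f b) (U := ⊤) trivial
  have hU := hV.preimage f
  have haU : a ∈ f ⁻¹ᵁ V := show f a ∈ V from he.symm ▸ hbV
  obtain ⟨pa, rfl⟩ : a ∈ Set.range hU.fromSpec := by rw [hU.range_fromSpec]; exact haU
  obtain ⟨pb, rfl⟩ : b ∈ Set.range hU.fromSpec := by rw [hU.range_fromSpec]; exact hbV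
  have hle : pa.asIdeal ≤ pb.asIdeal :=
    (PrimeSpectrum.le_iff_specializes pa pb).mpr (hU.fromSpec.isOpenEmbedding.isInducing.specializes_iff.mp h)
  let φ := (f.app V).hom
  have hint : φ.IsIntegral := IsIntegralHom.isIntegral_app (f := f) V hV
  have hfs : ∀ r, hV.fromSpec (Spec.map (f.app V) r) = f (hU.fromSpec r) := fun r => by
    rw [← Scheme.Hom.comp_apply, Scheme.Hom.app_eq_appLE,
      IsAffineOpen.SpecMap_appLE_fromSpec f hV hU le_rfl, Scheme.Hom.comp_apply]
  have hc : pa.asIdeal.comap φ = pb.asIdeal.comap φ := congrArg PrimeSpectrum.asIdeal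
    (hV.fromSpec.isOpenEmbedding.injective ((hfs pa).trans (he.trans (hfs pb).symm)))
  rcases eq_or_lt_of_le hle with e | hlt
  · rw [PrimeSpectrum.ext e]
  · letI := φ.toAlgebra
    haveI : Algebra.IsIntegral Γ(Y, V) Γ(X, f ⁻¹ᵁ V) := ⟨hint⟩
    exact absurd hc (Ideal.IsIntegral.comap_lt_comap (R := Γ(Y, V)) hlt).ne

theorem dim_le_of_isIntegralHom {X Y : Scheme.{u}} (f : X ⟶ Y) [IsIntegralHom f] :
    topologicalKrullDim ↥X ≤ topologicalKrullDim ↥Y ∧
      (Surjective f → topologicalKrullDim ↥X = topologicalKrullDim ↥Y) := by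
  have hle : topologicalKrullDim ↥X ≤ topologicalKrullDim ↥Y := by
    let F : IrreducibleCloseds X → IrreducibleCloseds Y := fun Z =>
      ⟨closure (f '' (Z : Set X)), (Z.isIrreducible.image f f.continuous.continuousOn).closure, isClosed_closure⟩
    refine Order.krullDim_le_of_strictMono F fun Z Z' hZ => ?_
    refine lt_of_le_of_ne (closure_mono (Set.image_mono hZ.le)) fun e => ?_
    obtain ⟨η, hη⟩ := QuasiSober.sober Z.isIrreducible Z.isClosed
    obtain ⟨η', hη'⟩ := QuasiSober.sober Z'.isIrreducible Z'.isClosed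
    have h1 := hη.image f.continuous
    have h2 := hη'.image f.continuous
    have hfe : f η = f η' := h1.eq (by
      rw [show closure (f '' (Z : Set X)) = closure (f '' (Z' : Set X)) from congrArg SetLike.coe e]
      exact h2)
    have := eq_of_specializes_of_integral_aux f (hη'.specializes (hZ.le hη.mem)) hfe.symm
    exact hZ.ne (IrreducibleCloseds.ext (hη.def.symm.trans (this ▸ hη'.def)))
  exact ⟨hle, fun hs => le_antisymm hle (dim_le_of_open_or_closed f hs.surj (Or.inr f.isClosedMap))⟩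

theorem ringKrullDim_le_of_integral (A B : Type u) [CommRing A] [CommRing B] [Algebra A B]
    [Algebra.IsIntegral A B] :
    ringKrullDim B ≤ ringKrullDim A ∧ (Function.Injective (algebraMap A B) → ringKrullDim B = ringKrullDim A) := by
  have hle : ringKrullDim B ≤ ringKrullDim A :=
    Order.krullDim_le_of_strictMono (PrimeSpectrum.comap (algebraMap A B)) fun p q h =>
      Ideal.IsIntegral.comap_lt_comap (R := A) h
  refine ⟨hle, fun hinj => le_antisymm hle ?_⟩
  rw [← PrimeSpectrum.topologicalKrullDim_eq_ringKrullDim, ← PrimeSpectrum.topologicalKrullDim_eq_ringKrullDim]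
  refine PtTopLib.krullDim_le_of_lift (PrimeSpectrum.comap (algebraMap A B)) (PrimeSpectrum.continuous_comap _)
    ?_ (Or.inl (PrimeSpectrum.isClosedMap_comap_of_isIntegral _ (algebraMap_isIntegral_iff.mpr inferInstance)).specializingMap)
  intro P
  obtain ⟨Q, -, hQ, hQP⟩ := Ideal.exists_ideal_over_prime_of_isIntegral P.asIdeal (⊥ : Ideal B)
    (by rw [← RingHom.ker_eq_comap_bot, (RingHom.injective_iff_ker_eq_bot _).mp hinj]; exact bot_le)
  exact ⟨⟨Q, hQ⟩, PrimeSpectrum.ext hQP⟩

end MiscFlat6
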