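import Groth.Agent.MiscFlat6.RelAmpleCoprod
import Groth.Prelude.Def_RelProj

/-!
# Coproducts of quasi-projective morphisms
-/

set_option autoImplicit false
universe u
open CategoryTheory CategoryTheory.Limits AlgebraicGeometry TopologicalSpace Opposite

noncomputable section

namespace MiscFlat6

theorem subsingleton_bot {X : Scheme.{u}} (M : X.Modules) {U : X.Opens} (hU : U = ⊥) :
    Subsingleton Γ(M, U) := by
  subst hU
  exact ⟨fun s t => TopCat.Sheaf.eq_of_locally_eq' (F := ⟨M.presheaf, M.isSheaf⟩)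
    (fun i : PEmpty.{u + 1} => i.elim) ⊥ (fun i => i.elim) bot_le s t fun i => i.elim⟩

theorem isZero_pullback_push_disjoint {X Y Z : Scheme.{u}} (i : X ⟶ Z) (j : Y ⟶ Z) [IsOpenImmersion i]
    (hd : Disjoint (Set.range i) (Set.range j)) (M : Y.Modules) :
    IsZero ((Scheme.Modules.pullback i).obj ((Scheme.Modules.pushforward j).obj M)) := by
  refine IsZero.of_iso ?_ ((Scheme.Modules.restrictFunctorIsoPullback i).app _).symm
  rw [IsZero.iff_id_eq_zero]
  apply Scheme.Modules.hom_ext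
  intro U
  refine ConcreteCategory.hom_ext _ _ fun s => ?_
  haveI : Subsingleton Γ(M, j ⁻¹ᵁ (i ''ᵁ U)) := subsingleton_bot M (eq_bot_iff.mpr fun y hy => by
    obtain ⟨x, -, hx⟩ := hy
    exact (Set.disjoint_left.mp hd ⟨x, rfl⟩ ⟨y, hx.symm⟩).elim)
  exact Subsingleton.elim (α := Γ(M, j ⁻¹ᵁ (i ''ᵁ U))) _ _

theorem pullback_push_iso {X Z : Scheme.{u}} (i : X ⟶ Z) [IsOpenImmersion i] (M : X.Modules) :
    Nonempty ((Scheme.Modules.pullback i).obj ((Scheme.Modules.pushforward i).obj M) ≅ M) :=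
  ⟨((Scheme.Modules.restrictFunctorIsoPullback i).app _).symm ≪≫
    asIso ((Scheme.Modules.restrictAdjunction i).counit.app M)⟩

theorem isInvertible_iso {X : Scheme.{u}} {A B : X.Modules} (e : A ≅ B) (h : PicF.IsInvertible A) :
    PicF.IsInvertible B := fun x =>
  let ⟨U, hx, ⟨t⟩⟩ := h x
  ⟨U, hx, ⟨(Scheme.Modules.restrictFunctor U.ι).mapIso e.symm ≪≫ t⟩⟩

theorem isRelAmple_of_iso {X Y : Scheme.{u}} {f : X ⟶ Y} {A B : X.Modules} (e : A ≅ B)
    (h : RelAmple.IsRelAmple f A) : RelAmple.IsRelAmple f B :=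
  ⟨h.1, fun V => AmpleDevLib.isAmple_of_iso (h.2 V).1
    (AmpleThLib.restrict_isInvertible (isInvertible_iso e (invertible_of_relAmple h)) _)
    ((Scheme.Modules.restrictFunctor _).mapIso e) (h.2 V)⟩

theorem isQuasiProjective_coprod {X X' Y : Scheme.{u}} (f : X ⟶ Y) (f' : X' ⟶ Y)
    (hf : RelProj.IsQuasiProjective f) (hf' : RelProj.IsQuasiProjective f') :
    RelProj.IsQuasiProjective (coprod.desc f f') := by
  obtain ⟨hlft, hqc, L, hL⟩ := hf
  obtain ⟨hlft', hqc', L', hL'⟩ := hf'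
  haveI := hlft; haveI := hlft'; haveI := hqc; haveI := hqc'
  let A := (Scheme.Modules.pushforward (coprod.inl : X ⟶ X ⨿ X')).obj L
  let B := (Scheme.Modules.pushforward (coprod.inr : X' ⟶ X ⨿ X')).obj L'
  have hd : Disjoint (Set.range (coprod.inl : X ⟶ X ⨿ X')) (Set.range (coprod.inr : X' ⟶ X ⨿ X')) :=
    (isCompl_range_inl_inr X X').disjoint
  obtain ⟨eA⟩ := pullback_push_iso (coprod.inl : X ⟶ X ⨿ X') L
  obtain ⟨eB⟩ := pullback_push_iso (coprod.inr : X' ⟶ X ⨿ X') L'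
  haveI : (Scheme.Modules.pullback (coprod.inl : X ⟶ X ⨿ X')).IsLeftAdjoint :=
    (Scheme.Modules.pullbackPushforwardAdjunction _).isLeftAdjoint
  haveI : (Scheme.Modules.pullback (coprod.inr : X' ⟶ X ⨿ X')).IsLeftAdjoint :=
    (Scheme.Modules.pullbackPushforwardAdjunction _).isLeftAdjoint
  haveI := preservesBinaryBiproduct_of_preservesBinaryCoproduct (Scheme.Modules.pullback (coprod.inl : X ⟶ X ⨿ X')) (X := A) (Y := B)
  haveI := preservesBinaryBiproduct_of_preservesBinaryCoproduct (Scheme.Modules.pullback (coprod.inr : X' ⟶ X ⨿ X')) (X := A) (Y := B)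
  let e₁ : (Scheme.Modules.pullback (coprod.inl : X ⟶ X ⨿ X')).obj (A ⊞ B) ≅ L :=
    (Scheme.Modules.pullback _).mapBiprod A B ≪≫
      (isoBiprodZero (isZero_pullback_push_disjoint _ _ hd L')).symm ≪≫ eA
  let e₂ : (Scheme.Modules.pullback (coprod.inr : X' ⟶ X ⨿ X')).obj (A ⊞ B) ≅ L' :=
    (Scheme.Modules.pullback _).mapBiprod A B ≪≫
      (isoZeroBiprod (isZero_pullback_push_disjoint _ _ hd.symm L)).symm ≪≫ eB
  have hLi := invertible_of_relAmple hL
  have hLi' := invertible_of_relAmple hL'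
  refine ⟨?_, ?_, A ⊞ B, (isRelAmple_coprod_iff f f' _ ?_ ?_).mpr ⟨?_, ?_⟩⟩
  · refine IsZariskiLocalAtSource.of_openCover (P := @LocallyOfFiniteType) (coprodOpenCover.{u, u} X X') fun i => ?_
    obtain (i | i) := i
    · show LocallyOfFiniteType (coprod.inl ≫ coprod.desc f f')
      rw [coprod.inl_desc]; exact hlft
    · show LocallyOfFiniteType (coprod.inr ≫ coprod.desc f f')
      rw [coprod.inr_desc]; exact hlft'
  · infer_instance
  · exact isInvertible_iso e₁.symm hLi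
  · exact isInvertible_iso e₂.symm hLi'
  · exact isRelAmple_of_iso e₁.symm hL
  · exact isRelAmple_of_iso e₂.symm hL'

end MiscFlat6
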