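import Mathlib

universe u
open AlgebraicGeometry CategoryTheory CategoryTheory.Limits

namespace MiscFlat6

theorem ext_of_isSchemeTheoreticallyDominant
    {X Y Z S : Scheme.{u}} (f : X ⟶ Y) [IsSchemeTheoreticallyDominant f]
    (s : Z ⟶ S) [IsSeparated s] (u v : Y ⟶ Z) (hS : u ≫ s = v ≫ s) (h : f ≫ u = f ≫ v) :
    u = v := by
  let Y' : Over S := Over.mk (u ≫ s)
  let Z' : Over S := Over.mk s
  let u' : Y' ⟶ Z' := Over.homMk u
  let v' : Y' ⟶ Z' := Over.homMk v hS.symm
  haveI : IsSeparated Z'.hom := ‹IsSeparated s›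
  let X' : Over S := Over.mk (f ≫ u ≫ s)
  let f' : X' ⟶ Y' := Over.homMk f
  have hf' : f' ≫ u' = f' ≫ v' := by
    ext1
    exact h
  let e : equalizer u' v' ⟶ Y' := equalizer.ι u' v'
  have hfac : (equalizer.lift f' hf').left ≫ e.left = f :=
    congrArg CommaMorphism.left (equalizer.lift_ι f' hf')
  have hker : e.left.ker = ⊥ := by
    apply eq_bot_iff.mpr
    have h2 := Scheme.Hom.le_ker_comp (equalizer.lift f' hf').left e.left
    exact (h2.trans_eq (by erw [hfac])).trans_eq (Scheme.Hom.ker_eq_bot f)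
  haveI : IsClosedImmersion e.left := inferInstance
  haveI : IsIso e.left := IsClosedImmersion.isIso_iff_ker_eq_bot.mpr hker
  have hc : e.left ≫ u = e.left ≫ v :=
    congrArg CommaMorphism.left (equalizer.condition u' v')
  exact (cancel_epi e.left).mp hc

theorem isPullback_inf_closedSubschemes (X : Scheme.{u}) (I J : X.IdealSheafData) :
    IsPullback (Scheme.IdealSheafData.inclusion (le_sup_left : I ≤ I ⊔ J))
      (Scheme.IdealSheafData.inclusion (le_sup_right : J ≤ I ⊔ J)) I.subschemeι J.subschemeι := by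
  have hw : Scheme.IdealSheafData.inclusion (le_sup_left : I ≤ I ⊔ J) ≫ I.subschemeι =
      Scheme.IdealSheafData.inclusion (le_sup_right : J ≤ I ⊔ J) ≫ J.subschemeι := by
    rw [Scheme.IdealSheafData.inclusion_subschemeι, Scheme.IdealSheafData.inclusion_subschemeι]
  have hle : ∀ s : PullbackCone I.subschemeι J.subschemeι,
      (I ⊔ J).subschemeι.ker ≤ (s.fst ≫ I.subschemeι).ker := fun s => by
    rw [Scheme.IdealSheafData.ker_subschemeι]
    refine sup_le ?_ ?_
    · have := Scheme.Hom.le_ker_comp s.fst I.subschemeι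
      rwa [Scheme.IdealSheafData.ker_subschemeι] at this
    · have := Scheme.Hom.le_ker_comp s.snd J.subschemeι
      rw [Scheme.IdealSheafData.ker_subschemeι] at this
      rwa [s.condition]
  refine ⟨⟨hw⟩, ⟨PullbackCone.IsLimit.mk hw
    (fun s => IsClosedImmersion.lift (I ⊔ J).subschemeι (s.fst ≫ I.subschemeι) (hle s))
    (fun s => ?_) (fun s => ?_) (fun s m hm₁ hm₂ => ?_)⟩⟩
  · rw [← cancel_mono I.subschemeι, Category.assoc, Scheme.IdealSheafData.inclusion_subschemeι,
      IsClosedImmersion.lift_fac]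
  · rw [← cancel_mono J.subschemeι, Category.assoc, Scheme.IdealSheafData.inclusion_subschemeι,
      IsClosedImmersion.lift_fac, s.condition]
  · rw [← cancel_mono (I ⊔ J).subschemeι, IsClosedImmersion.lift_fac, ← hm₁, Category.assoc,
      Scheme.IdealSheafData.inclusion_subschemeι]

end MiscFlat6
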