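import Groth.Agent.MiscFlat6.MixedExtend

universe u
open CategoryTheory CategoryTheory.Limits AlgebraicGeometry TopologicalSpace
open AmpleLib AmpleThLib
open TwistLib (genSet)
open KFlatLib (pb puSec)

noncomputable section

namespace MiscFlat6

theorem mem_genSet_shT {X : Scheme.{u}} {M K : X.Modules} (hM : PicF.IsInvertible M) (hK : PicF.IsInvertible K)
    (σ : Γ(M, ⊤)) (τ : Γ(K, ⊤)) :
    genSet (tensorMod_isInvertible hM hK) (shT σ τ) = genSet hM σ ⊓ genSet hK τ := by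
  ext y
  obtain ⟨U, g, hyU, hg⟩ := TwistLib.exists_genOn hM y
  obtain ⟨U', e, hyU', he⟩ := TwistLib.exists_genOn hK y
  have hg' := hg.res (inf_le_left : U ⊓ U' ≤ U)
  have he' := he.res (inf_le_right : U ⊓ U' ≤ U')
  obtain ⟨r, hr⟩ := exists_coeff σ hg'
  obtain ⟨s, hs⟩ := exists_coeff τ he'
  have hrs : (r * s) • shT (res M inf_le_left g) (res K inf_le_right e) =
      res (CohB1.tensorMod M K) (le_top : U ⊓ U' ≤ ⊤) (shT σ τ) := by
    rw [shT_res, ← hr, ← hs, shT_smul]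
  have h1 := SetLike.ext_iff.mp (mem_genSet_coeff hM σ hg' hr) y
  have h2 := SetLike.ext_iff.mp (mem_genSet_coeff hK τ he' hs) y
  have h3 := SetLike.ext_iff.mp
    (mem_genSet_coeff (tensorMod_isInvertible hM hK) (shT σ τ) (shT_genOn hg' he') hrs) y
  rw [Scheme.basicOpen_mul] at h3
  simp only [Opens.mem_inf, hyU, hyU', and_self, and_true] at h1 h2 h3
  change y ∈ genSet _ _ ↔ y ∈ genSet _ _ ⊓ genSet _ _
  rw [Opens.mem_inf, h3, h1, h2]

theorem genAt_restrict_iff {X Y : Scheme.{u}} {M : X.Modules} (hM : PicF.IsInvertible M) (j : Y ⟶ X)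
    [IsOpenImmersion j] (σ : Γ(M.restrict j, ⊤)) (y : Y) :
    y ∈ genSet (restrict_isInvertible hM j) σ ↔
      GenAt M (show Γ(M, j ''ᵁ ⊤) from σ) (show j y ∈ j ''ᵁ ⊤ from ⟨y, trivial, rfl⟩) := by
  obtain ⟨U, e, hyU, he⟩ := TwistLib.exists_genOn hM (j y)
  let V : Y.Opens := j ⁻¹ᵁ U
  obtain ⟨c, hc⟩ := exists_coeff σ (he.restrict j V (j.image_preimage_le U))
  have h1 := SetLike.ext_iff.mp
    (mem_genSet_coeff (restrict_isInvertible hM j) σ (he.restrict j V (j.image_preimage_le U)) hc) y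
  simp only [Opens.mem_inf, show y ∈ V from hyU, and_true] at h1
  rw [h1]
  have hyV : j y ∈ j ''ᵁ V := ⟨y, hyU, rfl⟩
  have hc' : (show Γ(X, j ''ᵁ V) from (j.appIso V).inv c) • res M (j.image_preimage_le U) e =
      res M (j.image_mono le_top) (show Γ(M, j ''ᵁ ⊤) from σ) := hc
  rw [← genAt_res (j.image_mono (le_top : V ≤ ⊤)) (show Γ(M, j ''ᵁ ⊤) from σ) hyV, ← hc',
    genAt_smul_iff _ _ hyV ((he.res _).genAt hyV), ← Scheme.image_basicOpen]
  exact ⟨fun h => ⟨y, h, rfl⟩, fun ⟨z, hz, e⟩ => j.isOpenEmbedding.injective e ▸ hz⟩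

theorem hasAmpleFamily_of_relAmple {X Y : Scheme.{u}} (f : X ⟶ Y) (hY : MoreMor.HasAmpleFamily Y) {L : X.Modules}
    (hR : RelAmple.IsRelAmple f L) : MoreMor.HasAmpleFamily X := by
  haveI : CompactSpace Y := hY.1
  haveI : QuasiSeparatedSpace Y := quasiSeparatedSpace_of_hasAmpleFamily hY
  haveI : QuasiCompact f := hR.1
  haveI : CompactSpace X := QuasiCompact.compactSpace_of_compactSpace f
  haveI : QuasiSeparated f := by
    rw [IsZariskiLocalAtTarget.iff_of_iSup_eq_top (P := @QuasiSeparated) _ (iSup_affineOpens_eq_top Y)]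
    intro U
    haveI : IsAffine (U.1 : Scheme.{u}) := U.2
    rw [quasiSeparated_iff_quasiSeparatedSpace]
    exact AmpleThLib.quasiSeparatedSpace_of_isAmple (hR.2 U)
  haveI : QuasiSeparatedSpace X := quasiSeparatedSpace_of_quasiSeparated f
  have hL : PicF.IsInvertible L := isRelAmple_pb.invertible_of_restrict f hR
  refine ⟨inferInstance, fun x => ?_⟩
  obtain ⟨L', d, s, hL', hd, hxV, hV⟩ := hY.2 (f x)
  rw [genLocus_hom (tensorPow_isInvertible hL' d)] at hxV hV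
  let σY : Γ(CohB1.tensorPow L' d, ⊤) := s.app ⊤ (1 : Γ(Y, ⊤))
  let V := genSet (tensorPow_isInvertible hL' d) σY
  have hK := AmpleDevLib.isInvertible_pb f (tensorPow_isInvertible hL' d)
  let t : Γ(pb f (CohB1.tensorPow L' d), ⊤) := puSec f σY
  have ht : genSet hK t = f ⁻¹ᵁ V := AmpleDevLib.genSet_puSec f (tensorPow_isInvertible hL' d) σY
  let U : X.Opens := f ⁻¹ᵁ V
  have hLU := restrict_isInvertible hL U.ι
  obtain ⟨n, W, hn, ⟨σ, hσ⟩, hxW, hW⟩ := ((isAmple_iff (hL := hLU)).mp (hR.2 ⟨V, hV⟩)).2 ⟨x, hxV⟩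
  have hM := tensorPow_isInvertible hL n
  let φ := (exists_restrIso hL U.ι n).choose
  let σ' : Γ((CohB1.tensorPow L n).restrict U.ι, ⊤) := φ.hom.app ⊤ σ
  have hσ' : genSet (restrict_isInvertible hM U.ι) σ' = W := (genSet_iso _ _ φ σ).trans hσ
  have htop : U.ι ''ᵁ ⊤ = genSet hK t := (U.ι_image_top).trans ht.symm
  let σX : Γ(CohB1.tensorPow L n, genSet hK t) :=
    res (CohB1.tensorPow L n) htop.ge (show Γ(CohB1.tensorPow L n, U.ι ''ᵁ ⊤) from σ')
  obtain ⟨N, hN⟩ := exists_extend_mixed hM hK t σX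
  obtain ⟨u, hu⟩ := hN N le_rfl
  have hMN := tensorMod_isInvertible hM (tensorPow_isInvertible hK N)
  have hMf := tensorMod_isInvertible hMN hK
  let w : Γ(CohB1.tensorMod (CohB1.tensorMod (CohB1.tensorPow L n)
    (CohB1.tensorPow (pb f (CohB1.tensorPow L' d)) N)) (pb f (CohB1.tensorPow L' d)), ⊤) := shT u t
  have hw : genSet hMf w = U.ι ''ᵁ W := by
    rw [mem_genSet_shT hMN hK u t]
    ext y
    by_cases hy : y ∈ genSet hK t
    · have hyU : y ∈ U := SetLike.le_def.1 ht.le hy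
      have e0 : GenAt _ u (show y ∈ (⊤ : X.Opens) from trivial) ↔ GenAt (CohB1.tensorPow L n) σX hy := by
        rw [← genAt_res (le_top : genSet hK t ≤ ⊤) u hy, hu]
        have htN : GenOn _ (res (CohB1.tensorPow (pb f (CohB1.tensorPow L' d)) N) (le_top : genSet hK t ≤ ⊤) (pS t N)) := by
          rw [pS_res]; exact pS_genOn (TwistLib.genSet_genOn hK t) N
        obtain ⟨A, e, hyA, he⟩ := TwistLib.exists_genOn hM y
        have he' := he.res (inf_le_left : A ⊓ genSet hK t ≤ A)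
        have htN' := htN.res (inf_le_right : A ⊓ genSet hK t ≤ genSet hK t)
        have hyA' : y ∈ A ⊓ genSet hK t := ⟨hyA, hy⟩
        obtain ⟨c, hc⟩ := (he' (A ⊓ genSet hK t) le_rfl).2 (res _ inf_le_right σX)
        dsimp only at hc
        rw [res_refl] at hc
        have hsm : ∀ B : Γ(CohB1.tensorPow (pb f (CohB1.tensorPow L' d)) N, A ⊓ genSet hK t),
            shT (c • res (CohB1.tensorPow L n) inf_le_left e) B = c • shT (res (CohB1.tensorPow L n) inf_le_left e) B := fun B => by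
          have := shT_smul c 1 (res (CohB1.tensorPow L n) (inf_le_left : A ⊓ genSet hK t ≤ A) e) B
          rwa [one_smul, mul_one] at this
        rw [← genAt_res (inf_le_right : A ⊓ genSet hK t ≤ genSet hK t) (shT σX _) hyA',
          ← genAt_res (inf_le_right : A ⊓ genSet hK t ≤ genSet hK t) σX hyA', shT_res, ← hc, hsm,
          genAt_smul_iff c _ hyA' ((shT_genOn he' htN').genAt hyA'), genAt_smul_iff c _ hyA' (he'.genAt hyA')]
      have e1 : GenAt (CohB1.tensorPow L n) σX hy ↔ (⟨y, hyU⟩ : U) ∈ genSet (restrict_isInvertible hM U.ι) σ' := by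
        exact (genAt_res htop.ge _ hy).trans (genAt_restrict_iff hM U.ι σ' ⟨y, hyU⟩).symm
      rw [hσ'] at e1
      constructor
      · rintro ⟨h, -⟩; exact ⟨⟨y, hyU⟩, e1.1 (e0.1 h), rfl⟩
      · rintro ⟨z, hz, rfl⟩; exact ⟨e0.2 (e1.2 hz), hy⟩
    · refine ⟨fun h => absurd h.2 hy, ?_⟩
      rintro ⟨z, -, rfl⟩
      exact absurd (ht.symm ▸ z.2) hy
  refine ⟨_, 1, QCohLib.unitHom _ (pS w 1), hMf, le_rfl, ?_, ?_⟩ <;>
    rw [genLocus_unitHom (tensorPow_isInvertible hMf 1), genSet_pS hMf w one_pos, hw]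
  · exact ⟨⟨x, hxV⟩, hxW, rfl⟩
  · exact hW.image_of_isOpenImmersion U.ι

end MiscFlat6
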