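import Groth.Agent.MiscFlat6.TensorExtend
import Groth.Agent.QCohLib.AffineFinite
import Groth.Agent.AmpleThLib.Ample

/-!
# Twists of finite type modules by high powers of an ample module are globally generated
-/

set_option autoImplicit false
universe u
open CategoryTheory CategoryTheory.Limits AlgebraicGeometry TopologicalSpace Opposite
open AmpleLib AmpleThLib
open TwistLib (genSet)

noncomputable section

namespace MiscFlat6

variable {X : Scheme.{u}}

/-- a module is globally generated if a map killing all global sections is zero -/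
theorem isGloballyGenerated_of_cancel (M : X.Modules)
    (h : ∀ (N : X.Modules) (q : M ⟶ N), (∀ u : Γ(M, ⊤), q.app ⊤ u = 0) → q = 0) :
    Curv2.IsGloballyGenerated M := by
  refine ⟨Γ(M, ⊤), M.freeHomEquiv.symm (fun j => QCohLib.toSections M j),
    Preadditive.epi_of_cancel_zero _ fun {N : X.Modules} (q : M ⟶ N) hq => h N q fun j => ?_⟩
  have h1 : QCohLib.unitHom M j ≫ q = 0 := by
    rw [← QCohLib.ιFree_comp (fun j : Γ(M, ⊤) => j) j]
    exact (Category.assoc _ _ _).trans ((congr_arg _ hq).trans comp_zero)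
  have h2 := congr_arg (fun φ : Coh.structureModule X ⟶ N => φ.app ⊤ (1 : Γ(X, ⊤))) h1
  change q.app ⊤ ((QCohLib.unitHom M j).app ⊤ (1 : Γ(X, ⊤))) = 0 at h2
  rwa [QCohLib.unitHom_app, one_smul, show M.presheaf.map (homOfLE (le_top : ⊤ ≤ (⊤ : X.Opens))).op j
    = j from QCohLib.toSections_top M j] at h2

theorem isGloballyGenerated_of_iso {M N : X.Modules} (φ : M ≅ N) (h : Curv2.IsGloballyGenerated M) :
    Curv2.IsGloballyGenerated N := by
  obtain ⟨ι, p, hp⟩ := h
  exact ⟨ι, p ≫ φ.hom, inferInstance⟩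

/-- a map out of a quasi-coherent module is zero if it is zero over an affine cover -/
theorem eq_zero_of_affine_cover {ι : Type*} (T : ι → X.Opens) (hT : ∀ i, IsAffineOpen (T i))
    (hcov : ∀ y, ∃ i, y ∈ T i) (M : X.Modules) [Coh.IsQCoh M] {M' : X.Modules} (q : M ⟶ M')
    (hV : ∀ (i : ι) (w : Γ(M, T i)), q.app _ w = 0) : q = 0 := by
  apply Scheme.Modules.hom_ext
  intro W
  refine ConcreteCategory.hom_ext _ _ fun w => TwistLib.mod_ext M' fun y hy => ?_
  obtain ⟨x, hyx⟩ := hcov y
  obtain ⟨g, hgW, hyg⟩ := (hT x).exists_basicOpen_le (V := W) ⟨y, hy⟩ hyx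
  obtain ⟨n, j, hj⟩ := (QCohLib.localizingAt_of_qcqs M (hT x).isCompact (hT x).isQuasiSeparated g).exists_extend
    (res M hgW w)
  have h3 := congrArg (q.app (X.basicOpen g)) hj
  rw [QCohLib.app_map, hV x, map_zero, QCohLib.app_smul] at h3
  have hu : IsUnit (X.presheaf.map (homOfLE (X.basicOpen_le g)).op g) := RingedSpace.isUnit_res_basicOpen _ g
  have h4 : q.app (X.basicOpen g) (res M hgW w) = 0 := (hu.pow n).smul_eq_zero.mp h3.symm
  change M'.presheaf.germ W y hy (q.app W w) = M'.presheaf.germ W y hy 0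
  rw [map_zero, ← AmpleLib.germ_res M' hgW (q.app W w) (x := y) hyg]
  rw [show res M' hgW (q.app W w) = q.app (X.basicOpen g) (res M hgW w) from
    (QCohLib.app_map q (homOfLE hgW) w).symm, h4, map_zero]

theorem isQCoh_tensor {M P : X.Modules} [Coh.IsQCoh M] (hP : PicF.IsInvertible P) :
    Coh.IsQCoh (CohB1.tensorMod M P) := by
  choose U hU e using hP
  refine QCohLib.isQCoh_of_cover _ U (eq_top_iff.mpr fun x _ => Opens.mem_iSup.mpr ⟨x, hU x⟩) fun x => ?_
  exact QCohLib.isQCoh_of_iso (SerreVanLib.nonempty_restrict_tensor_iso M (e x).some).some.symm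

/-- with affine loci of sections of `P` covering, twists by high powers of `P` are globally generated -/
theorem eventually_gg_of_loci [CompactSpace X] [QuasiSeparatedSpace X] {P : X.Modules}
    (hP : PicF.IsInvertible P)
    (hcov : ∀ x : X, ∃ t : Γ(P, ⊤), x ∈ genSet hP t ∧ IsAffineOpen (genSet hP t))
    (M : X.Modules) (hM : Coh.IsCoh M) :
    ∃ N : ℕ, ∀ k, N ≤ k → Curv2.IsGloballyGenerated (CohB1.tensorMod M (CohB1.tensorPow P k)) := by
  classical
  haveI := hM.1
  choose t hxt hta using hcov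
  obtain ⟨S, hS⟩ := isCompact_univ.elim_finite_subcover (fun x => (genSet hP (t x) : Set X))
    (fun x => (genSet hP (t x)).2) fun x _ => Set.mem_iUnion.mpr ⟨x, hxt x⟩
  choose R hR using fun x => (QCohLib.finite_of_isFT hM.2 (hta x)).fg_top
  choose N hN using fun (x : S) (m : R x.1) => exists_extend_tensor hP M (t x.1) m.1
  refine ⟨Finset.univ.sum fun x : S => Finset.univ.sum fun m : R x.1 => N x m, fun k hk => ?_⟩
  haveI := isQCoh_tensor (M := M) (tensorPow_isInvertible hP k)
  refine isGloballyGenerated_of_cancel _ fun N' q hq =>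
    eq_zero_of_affine_cover (fun x : S => genSet hP (t x.1)) (fun x => hta x.1)
      (fun y => by
        obtain ⟨x, hx, hyx⟩ := Set.mem_iUnion₂.mp (hS (Set.mem_univ y))
        exact ⟨⟨x, hx⟩, hyx⟩) _ q ?_
  intro x w
  let T := genSet hP (t x.1)
  let g := res (CohB1.tensorPow P k) (le_top : T ≤ ⊤) (pS (t x.1) k)
  have hg : GenOn (CohB1.tensorPow P k) g := by
    show GenOn _ (res _ le_top (pS (t x.1) k))
    rw [pS_res]
    exact pS_genOn (TwistLib.genSet_genOn hP (t x.1)) k
  obtain ⟨a, rfl⟩ := shT_right_surjective M hg w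
  have ha : a ∈ Submodule.span Γ(X, T) (R x.1 : Set Γ(M, T)) := by rw [hR x.1]; trivial
  induction ha using Submodule.span_induction with
  | mem m hm =>
    have hle : N x ⟨m, hm⟩ ≤ k := le_trans
      (le_trans (Finset.single_le_sum (f := fun m : R x.1 => N x m) (fun i _ => Nat.zero_le _)
          (Finset.mem_univ _))
        (Finset.single_le_sum (f := fun x : S => Finset.univ.sum fun m : R x.1 => N x m)
          (fun i _ => Nat.zero_le _) (Finset.mem_univ x))) hk
    obtain ⟨u, hu⟩ := hN x ⟨m, hm⟩ k hle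
    show q.app T (shT m g) = 0
    rw [← hu, show res _ (le_top : T ≤ ⊤) u = (CohB1.tensorMod M (CohB1.tensorPow P k)).presheaf.map
      (homOfLE (le_top : T ≤ ⊤)).op u from rfl, QCohLib.app_map, hq u, map_zero]
  | zero =>
    have h := AmpleLib.shT_smul (M := M) (N := CohB1.tensorPow P k) (0 : Γ(X, T)) 1 (0 : Γ(M, T)) g
    rw [zero_smul, one_smul, zero_mul, zero_smul] at h
    rw [h, map_zero]
  | add a b _ _ h1 h2 =>
    have h : shT (a + b) g = shT a g + shT b g :=
      (congrArg (KFlatLib.shApp M (CohB1.tensorPow P k) T) (TensorProduct.add_tmul (R := Γ(X, T)) a b g)).trans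
        (map_add _ _ _)
    rw [h, map_add, h1, h2, add_zero]
  | smul r a _ h1 =>
    have h := AmpleLib.shT_smul (M := M) (N := CohB1.tensorPow P k) r 1 a g
    rw [one_smul, mul_one] at h
    rw [h, QCohLib.app_smul, h1, smul_zero]

theorem eventually_gg_of_isAmple {L : X.Modules} (hL : CohB1.IsAmple L) (F : X.Modules) (hF : Coh.IsCoh F) :
    ∃ n₀ : ℕ, ∀ n, n₀ ≤ n → Curv2.IsGloballyGenerated (CohB1.tensorMod F (CohB1.tensorPow L n)) := by
  classical
  haveI : CompactSpace X := hL.2.1
  haveI := AmpleThLib.quasiSeparatedSpace_of_isAmple hL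
  have hi := hL.1
  choose n V hn hV hxV hVa using ((isAmple_iff (hL := hi)).mp hL).2
  obtain ⟨S, hS⟩ := isCompact_univ.elim_finite_subcover (fun x => (V x : Set X))
    (fun x => (V x).2) fun x _ => Set.mem_iUnion.mpr ⟨x, hxV x⟩
  let d := S.prod n
  have hd : 0 < d := Finset.prod_pos fun i _ => hn i
  have hP := tensorPow_isInvertible hi d
  have hcov : ∀ x : X, ∃ t : Γ(CohB1.tensorPow L d, ⊤), x ∈ genSet hP t ∧ IsAffineOpen (genSet hP t) := by
    intro x
    obtain ⟨y, hy, hxy⟩ := Set.mem_iUnion₂.mp (hS (Set.mem_univ x))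
    obtain ⟨σ, hσ⟩ : IsLocus hi d (V y) := by
      show IsLocus hi (S.prod n) (V y)
      rw [← Finset.mul_prod_erase S n hy]
      exact (hV y).mul_right (Finset.prod_pos fun i _ => hn i)
    exact ⟨σ, hσ.symm ▸ hxy, hσ.symm ▸ hVa y⟩
  choose N hN using fun r : Fin d => eventually_gg_of_loci hP hcov (CohB1.tensorMod F (CohB1.tensorPow L r.1))
    (SerreVanLib.isCoh_tensor hF (tensorPow_isInvertible hi r.1))
  refine ⟨d * (Finset.univ.sum N + 1), fun m hm => ?_⟩
  let r : Fin d := ⟨m % d, Nat.mod_lt m hd⟩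
  obtain ⟨φ⟩ := SerreVanLib.nonempty_tensor_pow_iso F hi d r.1 (m / d)
  have h : Curv2.IsGloballyGenerated (CohB1.tensorMod F (CohB1.tensorPow L (r.1 + d * (m / d)))) :=
    isGloballyGenerated_of_iso φ.symm (hN r (m / d) (by
      have h1 := Finset.single_le_sum (fun i _ => Nat.zero_le (N i)) (Finset.mem_univ r)
      have h2 : Finset.univ.sum N + 1 ≤ m / d := (Nat.le_div_iff_mul_le hd).mpr (by rwa [mul_comm] at hm)
      exact le_trans h1 (le_trans (Nat.le_succ _) h2)))
  rwa [show r.1 + d * (m / d) = m from Nat.mod_add_div m d] at h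

end MiscFlat6
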