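import Groth.Agent.MiscFlat6.AmpleGen
import Groth.Agent.MiscFlat6.RelAmpleLocal
import Groth.Agent.KFlatLib.Sky
import Groth.Agent.QCohLib.QcqsSections

/-!
# Modules generated by sections over preimages of opens of the base
-/

universe u
open CategoryTheory CategoryTheory.Limits AlgebraicGeometry TopologicalSpace Opposite
open AmpleLib AmpleThLib
open TwistLib (genSet)

noncomputable section

namespace MiscFlat6

variable {X Y : Scheme.{u}} (f : X ⟶ Y)

theorem exists_genAt_of_counit_epi {M : X.Modules} (hM : PicF.IsInvertible M)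
    (hepi : Epi ((Scheme.Modules.pullbackPushforwardAdjunction f).counit.app M)) (x : X) :
    ∃ (W : Y.Opens) (hx : x ∈ f ⁻¹ᵁ W) (s : Γ(M, f ⁻¹ᵁ W)), GenAt M s hx := by
  by_contra hne
  push Not at hne
  obtain ⟨U, e, hxU, he⟩ := TwistLib.exists_genOn hM x
  have hex : GenAt M e hxU := he.genAt hxU
  let R := X.presheaf.stalk x
  let Mx := (DerSch.stalkFunctor X x).obj M
  let I : Submodule R Mx := (IsLocalRing.maximalIdeal R) • (⊤ : Submodule R Mx)
  let a : Mx ⟶ ModuleCat.of R (Mx ⧸ I) := ModuleCat.ofHom I.mkQ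
  have hpush : (Scheme.Modules.pushforward f).map (KFlatLib.skyLift x a) = 0 := by
    apply Scheme.Modules.hom_ext
    intro W
    refine ConcreteCategory.hom_ext _ _ fun (s : Γ(M, f ⁻¹ᵁ W)) => ?_
    show (KFlatLib.skyLift x a).app (f ⁻¹ᵁ W) s = 0
    refine KFlatLib.skyObj_ext x _ _ _ fun hx => ?_
    refine (KFlatLib.skyLift_app x a hx s).trans ?_ |>.trans (map_zero (KFlatLib.skyVal x hx)).symm
    obtain ⟨c, hc⟩ := hex.2 (M.presheaf.germ (f ⁻¹ᵁ W) x hx s)
    dsimp only at hc
    refine (Submodule.Quotient.mk_eq_zero I).mpr ?_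
    change (M.presheaf.germ (f ⁻¹ᵁ W) x hx s : Mx) ∈ I
    have hcm : c ∈ IsLocalRing.maximalIdeal R := by
      rw [IsLocalRing.mem_maximalIdeal]
      intro hu
      apply hne W hx s
      unfold GenAt
      rw [← hc]
      simp only [smul_smul]
      exact hex.comp hu.unit.mulRight_bijective
    have h3 : c • (show Mx from M.presheaf.germ U x hxU e) ∈ I := Submodule.smul_mem_smul hcm trivial
    exact (congrArg (fun m : Mx => m ∈ I) (show c • (show Mx from M.presheaf.germ U x hxU e) = _ from hc)).mp h3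
  have hzero : KFlatLib.skyLift x a = 0 := by
    refine hepi.left_cancellation (KFlatLib.skyLift x a) 0 ?_
    exact ((Scheme.Modules.pullbackPushforwardAdjunction f).counit_naturality (KFlatLib.skyLift x a)).symm.trans
      (by rw [hpush, Functor.map_zero, zero_comp, comp_zero])
  let g : Mx := M.presheaf.germ U x hxU e
  have h2 : g ∈ I := by
    refine (Submodule.Quotient.mk_eq_zero I).mp ?_
    have := KFlatLib.skyLift_app x a hxU e
    rw [hzero] at this
    exact this.symm.trans (map_zero _)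
  have htop : (⊤ : Submodule R Mx) = Submodule.span R {g} := by
    refine (eq_top_iff.mpr fun m _ => ?_).symm
    obtain ⟨c, hc⟩ := hex.2 m
    exact Submodule.mem_span_singleton.mpr ⟨c, hc⟩
  rw [show I = IsLocalRing.maximalIdeal R • Submodule.span R {g}
    from congrArg (IsLocalRing.maximalIdeal R • ·) htop, Submodule.mem_smul_span_singleton] at h2
  obtain ⟨c, hcm, hc⟩ := h2
  have h1 : c = 1 := hex.1 (hc.trans (one_smul R _).symm)
  exact (IsLocalRing.maximalIdeal.isMaximal R).ne_top ((Ideal.eq_top_iff_one _).mpr (h1 ▸ hcm))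

theorem exists_genAt_affine_of_counit_epi [QuasiCompact f] [QuasiSeparated f] {M : X.Modules}
    (hM : PicF.IsInvertible M)
    (hepi : Epi ((Scheme.Modules.pullbackPushforwardAdjunction f).counit.app M))
    {V : Y.Opens} (hV : IsAffineOpen V) {x : X} (hxV : x ∈ f ⁻¹ᵁ V) :
    ∃ s : Γ(M, f ⁻¹ᵁ V), GenAt M s hxV := by
  obtain ⟨W, hxW, s, hs⟩ := exists_genAt_of_counit_epi f hM hepi x
  obtain ⟨a, haW, hxa⟩ := hV.exists_basicOpen_le (V := W) ⟨f x, hxW⟩ hxV
  haveI : Coh.IsQCoh M := TwistLib.isQCoh_of_isInvertible hM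
  have hqs : IsQuasiSeparated ((f ⁻¹ᵁ V : X.Opens) : Set X) := by
    haveI : IsAffine (V : Scheme.{u}) := hV
    haveI : QuasiSeparated (f ∣_ V) := IsZariskiLocalAtTarget.restrict ‹QuasiSeparated f› V
    exact (isQuasiSeparated_iff_quasiSeparatedSpace _ (f ⁻¹ᵁ V).2).mpr
      (quasiSeparatedSpace_of_quasiSeparated (f ∣_ V))
  let α : Γ(X, f ⁻¹ᵁ V) := f.app V a
  have hα : X.basicOpen α = f ⁻¹ᵁ Y.basicOpen a := (Scheme.preimage_basicOpen f a).symm
  have hxα : x ∈ X.basicOpen α := hα.ge hxa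
  obtain ⟨n, j, hj⟩ := (QCohLib.localizingAt_of_qcqs M (f.isCompact_preimage hV.isCompact) hqs α).exists_extend
    (res M (hα.le.trans (f.preimage_mono haW) : X.basicOpen α ≤ f ⁻¹ᵁ W) s)
  refine ⟨j, (genAt_res (X.basicOpen_le α) j hxα).mp ?_⟩
  rw [show res M (X.basicOpen_le α) j = _ from hj]
  rw [genAt_smul_iff _ _ hxα ((genAt_res (hα.le.trans (f.preimage_mono haW)) s hxα).mpr hs)]
  exact (Scheme.basicOpen_of_isUnit _ ((RingedSpace.isUnit_res_basicOpen _ α).pow n)).ge hxα

/-- ample ⊗ (a power generated over the base) is relatively ample -/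
theorem isRelAmple_tensor_of_counit_pow_epi [QuasiCompact f] {L L' : X.Modules} (hL : RelAmple.IsRelAmple f L)
    (hL' : PicF.IsInvertible L') {n : ℕ} (hn : 0 < n)
    (hepi : Epi ((Scheme.Modules.pullbackPushforwardAdjunction f).counit.app (CohB1.tensorPow L' n))) :
    RelAmple.IsRelAmple f (CohB1.tensorMod L L') := by
  haveI : QuasiSeparated f := by
    haveI := isSeparated_of_isRelAmple f hL
    infer_instance
  have hLi := invertible_of_relAmple hL
  refine isRelAmple_of_local f fun y => ⟨⊤, trivial, fun V hV _ => ?_⟩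
  let i := (f ⁻¹ᵁ V).ι
  refine isAmple_restrict_tensor i hLi hL' (isAmple_tensor_of_generated (hL.2 ⟨V, hV⟩)
    (restrict_isInvertible hL' i) fun z => ?_)
  obtain ⟨s, hs⟩ := exists_genAt_affine_of_counit_epi f (tensorPow_isInvertible hL' n) hepi hV
    (x := i z) z.2
  let σ : Γ((CohB1.tensorPow L' n).restrict i, ⊤) :=
    res (CohB1.tensorPow L' n) (Scheme.Opens.ι_image_top _).le s
  obtain ⟨φ, -⟩ := exists_restrIso hL' i n
  refine ⟨n, genSet (tensorPow_isInvertible (restrict_isInvertible hL' i) n) (φ.inv.app ⊤ σ), hn, ⟨_, rfl⟩, ?_⟩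
  rw [show φ.inv.app ⊤ σ = φ.symm.hom.app ⊤ σ from rfl,
    genSet_iso (restrict_isInvertible (tensorPow_isInvertible hL' n) i) _ φ.symm σ]
  rw [genAt_restrict_iff (tensorPow_isInvertible hL' n) i σ z]
  exact (genAt_res (Scheme.Opens.ι_image_top _).le s _).mpr hs

end MiscFlat6
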