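import Groth.Agent.MiscFlat6.TensorGG
import Groth.Agent.MiscFlat6.CounitTensor
import Groth.Agent.RpushLib.Finite

/-!
# Twists by relatively ample modules are eventually generated over the base
-/

set_option autoImplicit false
universe u
open CategoryTheory CategoryTheory.Limits AlgebraicGeometry TopologicalSpace Opposite
open AmpleLib AmpleThLib

noncomputable section

namespace MiscFlat6

variable {X : Scheme.{u}}

theorem cancel_of_isGloballyGenerated {M N : X.Modules} (h : Curv2.IsGloballyGenerated M) (q : M ⟶ N)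
    (hq : ∀ u : Γ(M, ⊤), q.app ⊤ u = 0) : q = 0 := by
  obtain ⟨κ, p, hp⟩ := h
  refine (cancel_epi p).mp (Eq.trans ?_ comp_zero.symm)
  refine Cofan.IsColimit.hom_ext (SheafOfModules.isColimitFreeCofan κ) _ _ fun j => ?_
  apply Scheme.Modules.hom_ext
  intro O
  refine ConcreteCategory.hom_ext _ _ fun c => ?_
  let m : Coh.structureModule X ⟶ M := SheafOfModules.ιFree j ≫ p
  change q.app O (m.app O c) = 0
  have hr : m.app O c = (show Γ(X, O) from c) •
      M.presheaf.map (homOfLE (le_top : O ≤ ⊤)).op (m.app ⊤ (OmegaSh.strSect X ⊤ 1)) := by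
    rw [← QCohLib.app_map, ← QCohLib.app_smul, ← OmegaSh.strSect_map, ← OmegaSh.strSect_mul, map_one, mul_one]
    rfl
  rw [hr, QCohLib.app_smul, QCohLib.app_map, hq, map_zero, smul_zero]

theorem exists_counit_epi_twist [CompactSpace X] {Y : Scheme.{u}} (f : X ⟶ Y) {L : X.Modules}
    (hR : RelAmple.IsRelAmple f L) (F : X.Modules) (hF : Coh.IsCoh F) :
    ∃ n₀ : ℕ, 0 < n₀ ∧ ∀ n : ℕ, n₀ ≤ n →
      Epi ((Scheme.Modules.pullbackPushforwardAdjunction f).counit.app
        (CohB1.tensorMod F (CohB1.tensorPow L n))) := by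
  classical
  haveI : Coh.IsQCoh F := hF.1
  have hL := invertible_of_relAmple hR
  choose V hV hxV _hle using fun x : X =>
    exists_isAffineOpen_mem_and_subset (U := (⊤ : Y.Opens)) (x := f x) trivial
  obtain ⟨S, hS⟩ := isCompact_univ.elim_finite_subcover (fun x => ((f ⁻¹ᵁ V x : X.Opens) : Set X))
    (fun x => (f ⁻¹ᵁ V x).2) fun x _ => Set.mem_iUnion.mpr ⟨x, hxV x⟩
  have hFr : ∀ x : X, Coh.IsCoh (F.restrict (f ⁻¹ᵁ V x).ι) := fun x =>
    ⟨inferInstance, RpushLib.isFT_restrict hF.2 _⟩
  choose N hN using fun x : S => eventually_gg_of_isAmple (hR.2 ⟨V x.1, hV x.1⟩) _ (hFr x.1)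
  refine ⟨Finset.univ.sum N + 1, Nat.succ_pos _, fun n hn => ?_⟩
  let P := CohB1.tensorMod F (CohB1.tensorPow L n)
  refine Preadditive.epi_of_cancel_zero _ fun {M : X.Modules} (q : P ⟶ M) hq => ?_
  have hpush : (Scheme.Modules.pushforward f).map q = 0 := by
    let adj := Scheme.Modules.pullbackPushforwardAdjunction f
    calc (Scheme.Modules.pushforward f).map q
        = (adj.unit.app ((Scheme.Modules.pushforward f).obj P) ≫
            (Scheme.Modules.pushforward f).map (adj.counit.app P)) ≫ (Scheme.Modules.pushforward f).map q := by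
          rw [adj.right_triangle_components]; exact (Category.id_comp _).symm
      _ = 0 := by rw [Category.assoc, ← Functor.map_comp, hq, Functor.map_zero, comp_zero]
  have hzero : ∀ (x : S) (O : X.Opens), O ≤ f ⁻¹ᵁ V x.1 → ∀ w : Γ(P, O), q.app O w = 0 := by
    intro x O hO w
    let W := f ⁻¹ᵁ V x.1
    let i := W.ι
    let eF := (Scheme.Modules.restrictFunctorIsoPullback i).app F
    let eL := (Scheme.Modules.restrictFunctorIsoPullback i).app (CohB1.tensorPow L n)
    obtain ⟨φ, -⟩ := exists_restrIso hL i n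
    let e₁ : CohB1.tensorMod (F.restrict i) (CohB1.tensorPow (L.restrict i) n) ≅
        CohB1.tensorMod (F.restrict i) ((CohB1.tensorPow L n).restrict i) :=
      SerreVanLib.tensorCongr _ φ
    let e₂ : CohB1.tensorMod (F.restrict i) ((CohB1.tensorPow L n).restrict i) ≅ P.restrict i :=
      PicGrp.tensorModIso eF eL ≪≫ (asIso (KFlatLib.pullθ i F (CohB1.tensorPow L n))).symm ≪≫
        ((Scheme.Modules.restrictFunctorIsoPullback i).app _).symm
    have hgg : Curv2.IsGloballyGenerated (P.restrict i) :=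
      isGloballyGenerated_of_iso (e₁ ≪≫ e₂) (hN x n (le_trans
        (le_trans (Finset.single_le_sum (fun j _ => Nat.zero_le (N j)) (Finset.mem_univ x)) (Nat.le_succ _)) hn))
    have h0 : (Scheme.Modules.restrictFunctor i).map q = 0 := by
      refine cancel_of_isGloballyGenerated hgg _ fun u => ?_
      show q.app (i ''ᵁ ⊤) (show Γ(P, i ''ᵁ ⊤) from u) = 0
      have hWle : W ≤ i ''ᵁ ⊤ := W.ι_image_top.ge
      have h3 : q.app W (res P hWle (show Γ(P, i ''ᵁ ⊤) from u)) = 0 :=
        congrArg (fun ψ : (Scheme.Modules.pushforward f).obj P ⟶ _ =>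
          ψ.app (V x.1) (res P hWle (show Γ(P, i ''ᵁ ⊤) from u))) hpush
      have h4 := congrArg (res M W.ι_image_top.le) h3
      rw [show res M W.ι_image_top.le (0 : Γ(M, W)) = 0 from map_zero _] at h4
      refine Eq.trans ?_ h4
      rw [show q.app W (res P hWle (show Γ(P, i ''ᵁ ⊤) from u)) = res M hWle (q.app _ (show Γ(P, i ''ᵁ ⊤) from u))
        from QCohLib.app_map q (homOfLE hWle) _, res_res, res_refl]
    have himg : i ''ᵁ (i ⁻¹ᵁ O) = O := by
      rw [Scheme.Hom.image_preimage_eq_opensRange_inf]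
      exact inf_eq_right.mpr (hO.trans W.opensRange_ι.ge)
    have h5 : q.app (i ''ᵁ (i ⁻¹ᵁ O)) (res P himg.le w) = 0 :=
      congrArg (fun ψ : P.restrict i ⟶ M.restrict i => ψ.app (i ⁻¹ᵁ O) (res P himg.le w)) h0
    have h6 := congrArg (res M himg.ge) h5
    rw [show q.app (i ''ᵁ (i ⁻¹ᵁ O)) (res P himg.le w) = res M himg.le (q.app O w)
      from QCohLib.app_map q (homOfLE himg.le) w, res_res, res_refl] at h6
    exact h6.trans (map_zero _)
  apply Scheme.Modules.hom_ext
  intro O
  refine ConcreteCategory.hom_ext _ _ fun w => TwistLib.mod_ext M fun y hy => ?_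
  obtain ⟨x, hx, hyx⟩ := Set.mem_iUnion₂.mp (hS (Set.mem_univ y))
  let O' := O ⊓ f ⁻¹ᵁ V x
  change M.presheaf.germ O y hy (q.app O w) = M.presheaf.germ O y hy 0
  rw [map_zero, ← AmpleLib.germ_res M (inf_le_left : O' ≤ O) (q.app O w) (x := y) ⟨hy, hyx⟩,
    show res M (inf_le_left : O' ≤ O) (q.app O w) = q.app O' (res P inf_le_left w) from
      (QCohLib.app_map q (homOfLE (inf_le_left : O' ≤ O)) w).symm,
    hzero ⟨x, hx⟩ O' inf_le_right, map_zero]

end MiscFlat6
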