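import Groth.Agent.GrModLib6.RelPow
import Groth.Agent.SymGenLib.Basic
import Groth.Agent.AmpleDevLib.Pull

/-!
# A relatively very ample module is generated by its direct image
-/

set_option autoImplicit false
universe u
open CategoryTheory CategoryTheory.Limits AlgebraicGeometry TopologicalSpace Opposite
open scoped HomogeneousIdeal
open AmpleLib (GenAt GenOn res)

noncomputable section

namespace MiscFlat6

theorem epi_counit_of_genAt {X Y : Scheme.{u}} (f : X ⟶ Y) (M : X.Modules)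
    (h : ∀ x : X, ∃ (W : Y.Opens) (hx : x ∈ f ⁻¹ᵁ W) (s : Γ(M, f ⁻¹ᵁ W)), GenAt M s hx) :
    Epi ((Scheme.Modules.pullbackPushforwardAdjunction f).counit.app M) := by
  refine Preadditive.epi_of_cancel_zero _ fun {N : X.Modules} (q : M ⟶ N) hq => ?_
  let adj := Scheme.Modules.pullbackPushforwardAdjunction f
  have hpush : (Scheme.Modules.pushforward f).map q = 0 := by
    calc (Scheme.Modules.pushforward f).map q
        = (adj.unit.app ((Scheme.Modules.pushforward f).obj M) ≫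
            (Scheme.Modules.pushforward f).map (adj.counit.app M)) ≫ (Scheme.Modules.pushforward f).map q := by
          rw [adj.right_triangle_components]; exact (Category.id_comp _).symm
      _ = 0 := by rw [Category.assoc, ← Functor.map_comp, hq, Functor.map_zero, comp_zero]
  refine Scheme.Modules.hom_ext _ _ fun V => ConcreteCategory.hom_ext _ _ fun t => TwistLib.mod_ext N fun x hx => ?_
  obtain ⟨W, hxW, s, hs⟩ := h x
  obtain ⟨c, hc⟩ := hs.2 (M.presheaf.germ V x hx t)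
  dsimp only at hc
  have hs0 : q.app (f ⁻¹ᵁ W) s = 0 := congr($(congrArg (fun φ => Scheme.Modules.Hom.app φ W) hpush) s)
  let g := ((DerSch.stalkFunctor X x).map q).hom
  change N.presheaf.germ V x hx (q.app V t) = N.presheaf.germ V x hx 0
  have e1 : g (M.presheaf.germ V x hx t) = N.presheaf.germ V x hx (q.app V t) :=
    DerSch.stalkFunctor_map_germ x q V hx t
  have e2 : g (M.presheaf.germ (f ⁻¹ᵁ W) x hxW s) = N.presheaf.germ (f ⁻¹ᵁ W) x hxW (q.app (f ⁻¹ᵁ W) s) :=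
    DerSch.stalkFunctor_map_germ x q _ hxW s
  rw [← e1, ← hc, map_zero]
  have e3 : g (M.presheaf.germ (f ⁻¹ᵁ W) x hxW s) = 0 := by rw [e2, hs0, map_zero]; rfl
  refine (g.map_smul c _).trans ((congrArg (c • ·) e3).trans ?_)
  exact smul_zero _

theorem epi_counit_iso {X Y : Scheme.{u}} (f : X ⟶ Y) {A B : X.Modules} (e : A ≅ B)
    (h : Epi ((Scheme.Modules.pullbackPushforwardAdjunction f).counit.app A)) :
    Epi ((Scheme.Modules.pullbackPushforwardAdjunction f).counit.app B) := by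
  let ε := (Scheme.Modules.pullbackPushforwardAdjunction f).counit
  have h2 : Epi ((Scheme.Modules.pushforward f ⋙ Scheme.Modules.pullback f).map e.hom ≫ ε.app _) := by
    rw [ε.naturality e.hom]; exact epi_comp _ _
  exact epi_of_epi ((Scheme.Modules.pushforward f ⋙ Scheme.Modules.pullback f).map e.hom) _

theorem epi_counit_pullback_relTwist {S P X : Scheme.{u}} {𝒮 : RelProj.QCGrAlg S} {p : P ⟶ S}
    {chart : ∀ (U : S.Opens) (hU : IsAffineOpen U), (((p ⁻¹ᵁ U : P.Opens) : Scheme.{u}) ≅ Proj (𝒮.deg U hU))}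
    {L : P.Modules} (hgen : 𝒮.IsGenDegOne)
    {lam : ∀ (U : S.Opens) (hU : IsAffineOpen U),
      L ⟶ (Scheme.Modules.pushforward (RelProj.emb p chart U hU)).obj (GrTwist.twist (𝒮.deg U hU) ((1 : ℕ) : ℤ))}
    (hL : RelProj.IsRelTwist 𝒮 p chart ((1 : ℕ) : ℤ) L lam) (i : X ⟶ P) :
    Epi ((Scheme.Modules.pullbackPushforwardAdjunction (i ≫ p)).counit.app ((Scheme.Modules.pullback i).obj L)) := by
  refine epi_counit_of_genAt _ _ fun x => ?_
  obtain ⟨U, hU, hxU⟩ := GrModLib6.exists_chart_open (p := p) (i x)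
  obtain ⟨y, hy⟩ := (emb_opensRange (chart := chart) U hU).ge hxU
  obtain ⟨a, ha, hya⟩ := GrTwistLib.exists_basicOpen_of_genDegOne _ (hgen U hU) y
  let e := RelProj.emb p chart U hU
  obtain ⟨σ₀, hσ₀⟩ := (hL.bijective U hU (p ⁻¹ᵁ U) le_rfl).2
    (res (GrTwist.twist (𝒮.deg U hU) ((1 : ℕ) : ℤ)) (le_top : e ⁻¹ᵁ (p ⁻¹ᵁ U) ≤ ⊤)
      (GrTwist.globalOf (𝒮.deg U hU) ⟨a, ha⟩))
  let g : GrTwistLib.Unit' (𝒮.deg U hU) ((1 : ℕ) : ℤ) (Proj.basicOpen (𝒮.deg U hU) a) :=
    ⟨1, 0, a, 1, ha, SetLike.GradedOne.one_mem, by simp, fun z => z.2,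
      fun z h => z.1.isPrime.ne_top ((Ideal.eq_top_iff_one _).mpr h)⟩
  have hD : e ''ᵁ Proj.basicOpen (𝒮.deg U hU) a ≤ p ⁻¹ᵁ U :=
    (e.image_le_opensRange _).trans (emb_opensRange (chart := chart) U hU).le
  obtain ⟨σ, hσ, hσg⟩ := GrModLib6.exists_gen_chart hL ⟨U, hU⟩ hD (e.preimage_image_eq _).le g
  have hres : res L hD σ₀ = σ := by
    refine (hL.bijective U hU _ hD).1 (GrTwistLib.sec_ext fun z => ?_)
    refine (GrModLib6.cval_res (lam := lam) ⟨U, hU⟩ hD σ₀ z).trans ?_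
    refine Eq.trans ?_ (hσ z).symm
    exact congrArg (fun w => GrTwistLib.val w (⟨z.1, hD z.2⟩ : (e ⁻¹ᵁ (p ⁻¹ᵁ U) : (Proj (𝒮.deg U hU)).Opens))) hσ₀
  have hxD : i x ∈ e ''ᵁ Proj.basicOpen (𝒮.deg U hU) a := ⟨y, hya, hy⟩
  have hgen0 : GenAt L σ₀ (hD hxD) := (AmpleLib.genAt_res hD σ₀ hxD).mp (hres ▸ hσg.genAt hxD)
  exact ⟨U, hxU, KFlatLib.puSec i σ₀, TwistLib.GenAt.puSec i hgen0⟩

theorem epi_counit_of_isRelVeryAmple {X Y : Scheme.{u}} {f : X ⟶ Y} {L : X.Modules}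
    (h : RelProj.IsRelVeryAmple f L) :
    Epi ((Scheme.Modules.pullbackPushforwardAdjunction f).counit.app L) := by
  obtain ⟨E, hE, 𝒮, j, hj, P, p, chart, hP, O1, lam, hO1, i, hi, rfl, ⟨e⟩⟩ := h
  haveI := hE
  obtain ⟨lam', hO1'⟩ := GrModLib6.isRelTwist_congr (show (1 : ℤ) = ((1 : ℕ) : ℤ) by simp) hO1
  exact epi_counit_iso _ e.symm (epi_counit_pullback_relTwist (SymGenLib.isGenDegOne hj) hO1' i)

end MiscFlat6

end
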