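import Groth.Agent.QCohLib.FTCrit
import Groth.Agent.MiscFlat6.CounitVeryAmple

/-!
# Quotients of pullbacks come from submodules of finite type
-/

set_option autoImplicit false
universe u
open CategoryTheory CategoryTheory.Limits AlgebraicGeometry TopologicalSpace Opposite
open AmpleLib

noncomputable section

namespace MiscFlat6

variable {X Y : Scheme.{u}} {f : X ⟶ Y} {K : Y.Modules} {M : X.Modules}

/-- the germs at `x` of the images of chosen sections of `K` over affine opens of the base -/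
def imgGerms (ψ : K ⟶ (Scheme.Modules.pushforward f).obj M) (T : Set (Σ W : Y.affineOpens, Γ(K, W.1))) (x : X) :
    Submodule (X.presheaf.stalk x) (M.presheaf.stalk x) :=
  Submodule.span _ {g | ∃ a ∈ T, ∃ h : x ∈ f ⁻¹ᵁ a.1.1,
    g = M.presheaf.germ (f ⁻¹ᵁ a.1.1) x h (show Γ(M, f ⁻¹ᵁ a.1.1) from ψ.app a.1.1 a.2)}

theorem imgGerms_univ (c : (Scheme.Modules.pullback f).obj K ⟶ M) [Epi c] (x : X) :
    imgGerms (((Scheme.Modules.pullbackPushforwardAdjunction f).homEquiv K M) c) Set.univ x = ⊤ := by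
  let adj := Scheme.Modules.pullbackPushforwardAdjunction f
  let ψ := adj.homEquiv K M c
  let S : QCohLib.LocSub M :=
    { mem := fun V t => ∀ (y : X) (hy : y ∈ V), M.presheaf.germ V y hy t ∈ imgGerms ψ Set.univ y
      zero := fun V y hy => by rw [map_zero]; exact zero_mem _
      add := fun ha hb y hy => by rw [map_add]; exact add_mem (ha y hy) (hb y hy)
      smul := fun r a ha y hy => by rw [germ_smul]; exact Submodule.smul_mem _ _ (ha y hy)
      res := fun h a ha y hy => by rw [TopCat.Presheaf.germ_res_apply]; exact ha y (h hy)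
      local' := fun a h y hy => by
        obtain ⟨W, hW, hyW, hm⟩ := h y hy
        have := hm y hyW
        rwa [TopCat.Presheaf.germ_res_apply] at this }
  have hψ : ψ ≫ (Scheme.Modules.pushforward f).map (cokernel.π S.ι) = 0 := by
    apply Scheme.Modules.hom_ext
    intro V
    refine ConcreteCategory.hom_ext _ _ fun s => ?_
    have hmem : S.mem (f ⁻¹ᵁ V) (show Γ(M, f ⁻¹ᵁ V) from ψ.app V s) := fun y hy => by
      obtain ⟨W, hW, hyW, hWV⟩ := exists_isAffineOpen_mem_and_subset (U := V) (x := f y) hy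
      refine Submodule.subset_span ⟨⟨⟨W, hW⟩, K.presheaf.map (homOfLE hWV).op s⟩, trivial, hyW, ?_⟩
      rw [show (show Γ(M, f ⁻¹ᵁ W) from ψ.app W (K.presheaf.map (homOfLE hWV).op s)) =
        M.presheaf.map (homOfLE (show f ⁻¹ᵁ W ≤ f ⁻¹ᵁ V from f.preimage_mono hWV)).op
          (show Γ(M, f ⁻¹ᵁ V) from ψ.app V s) from QCohLib.app_map ψ (homOfLE hWV) s,
        TopCat.Presheaf.germ_res_apply]
    change (cokernel.π S.ι).app (f ⁻¹ᵁ V) (show Γ(M, f ⁻¹ᵁ V) from ψ.app V s) = 0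
    rw [← QCohLib.LocSub.ι_lift S _ hmem]
    exact congr($(congrArg (fun φ => Scheme.Modules.Hom.app φ (f ⁻¹ᵁ V)) (cokernel.condition S.ι)) (S.lift _ hmem))
  have hc : c ≫ cokernel.π S.ι = 0 := by
    apply (adj.homEquiv _ _).injective
    rw [Adjunction.homEquiv_naturality_right]
    refine hψ.trans ?_
    rw [Adjunction.homEquiv_unit, Functor.map_zero, comp_zero]
  have hq : cokernel.π S.ι = 0 := (cancel_epi c).mp (hc.trans comp_zero.symm)
  haveI : Epi S.ι := Abelian.epi_of_cokernel_π_eq_zero _ hq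
  haveI : IsIso S.ι := isIso_of_mono_of_epi _
  refine eq_top_iff.mpr fun g _ => ?_
  obtain ⟨U, hxU, t, rfl⟩ := TopCat.Presheaf.exists_germ_eq _ g
  obtain ⟨t', rfl⟩ := (ConcreteCategory.bijective_of_isIso (S.ι.app U)).2 t
  exact S.ι_app_mem t' x hxU

theorem imgGerms_mono (ψ : K ⟶ (Scheme.Modules.pushforward f).obj M) {T T' : Set (Σ W : Y.affineOpens, Γ(K, W.1))}
    (h : T ⊆ T') (x : X) : imgGerms ψ T x ≤ imgGerms ψ T' x :=
  Submodule.span_mono fun _ ⟨a, ha, hh⟩ => ⟨a, h ha, hh⟩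

/-- membership in the span of germs spreads out -/
theorem eventually_mem_imgGerms (ψ : K ⟶ (Scheme.Modules.pushforward f).obj M)
    (T : Set (Σ W : Y.affineOpens, Γ(K, W.1))) {x : X} {g : M.presheaf.stalk x} (hg : g ∈ imgGerms ψ T x) :
    ∀ (U : X.Opens) (hx : x ∈ U) (t : Γ(M, U)), M.presheaf.germ U x hx t = g →
      ∃ (O : X.Opens) (hO : O ≤ U), x ∈ O ∧
        ∀ (y : X) (hy : y ∈ O), M.presheaf.germ U y (hO hy) t ∈ imgGerms ψ T y := by
  induction hg using Submodule.span_induction with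
  | mem g hg =>
    intro U hx t ht
    obtain ⟨a, haT, h, rfl⟩ := hg
    obtain ⟨O, hxO, i₁, i₂, he⟩ := TopCat.Presheaf.germ_eq _ _ hx h _ _ ht
    refine ⟨O, i₁.le, hxO, fun y hy => Submodule.subset_span ⟨a, haT, i₂.le hy, ?_⟩⟩
    rw [← TopCat.Presheaf.germ_res_apply _ i₁ y hy, he, TopCat.Presheaf.germ_res_apply]
  | zero =>
    intro U hx t ht
    obtain ⟨O, hxO, i₁, i₂, he⟩ := TopCat.Presheaf.germ_eq _ _ hx hx t 0 (ht.trans (map_zero _).symm)
    refine ⟨O, i₁.le, hxO, fun y hy => ?_⟩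
    rw [← TopCat.Presheaf.germ_res_apply _ i₁ y hy, he, map_zero, map_zero]
    exact zero_mem _
  | add g₁ g₂ _ _ h₁ h₂ =>
    intro U hx t ht
    obtain ⟨U₁, hx₁, t₁, e₁⟩ := TopCat.Presheaf.exists_germ_eq _ g₁
    obtain ⟨U₂, hx₂, t₂, e₂⟩ := TopCat.Presheaf.exists_germ_eq _ g₂
    obtain ⟨O₁, hO₁, hxO₁, hm₁⟩ := h₁ U₁ hx₁ t₁ e₁
    obtain ⟨O₂, hO₂, hxO₂, hm₂⟩ := h₂ U₂ hx₂ t₂ e₂
    obtain ⟨O, hxO, i₁, i₂, he⟩ := TopCat.Presheaf.germ_eq _ _ hx (show x ∈ O₁ ⊓ O₂ from ⟨hxO₁, hxO₂⟩) t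
      (res M (inf_le_left.trans hO₁) t₁ + res M (inf_le_right.trans hO₂) t₂)
      (by rw [ht, map_add, germ_res, germ_res, e₁, e₂])
    refine ⟨O, i₁.le, hxO, fun y hy => ?_⟩
    rw [← TopCat.Presheaf.germ_res_apply _ i₁ y hy, he, TopCat.Presheaf.germ_res_apply, map_add, germ_res,
      germ_res]
    exact add_mem (hm₁ y (i₂.le hy).1) (hm₂ y (i₂.le hy).2)
  | smul r g _ h =>
    intro U hx t ht
    obtain ⟨U₁, hx₁, t₁, e₁⟩ := TopCat.Presheaf.exists_germ_eq _ g
    obtain ⟨U₂, hx₂, r₂, e₂⟩ := TopCat.Presheaf.exists_germ_eq _ r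
    obtain ⟨O₁, hO₁, hxO₁, hm₁⟩ := h U₁ hx₁ t₁ e₁
    obtain ⟨O, hxO, i₁, i₂, he⟩ := TopCat.Presheaf.germ_eq _ _ hx (show x ∈ O₁ ⊓ U₂ from ⟨hxO₁, hx₂⟩) t
      (X.presheaf.map (homOfLE inf_le_right).op r₂ • res M (inf_le_left.trans hO₁) t₁)
      (by rw [ht, germ_smul, germ_res, TopCat.Presheaf.germ_res_apply, e₁, e₂])
    refine ⟨O, i₁.le, hxO, fun y hy => ?_⟩
    rw [← TopCat.Presheaf.germ_res_apply _ i₁ y hy, he, TopCat.Presheaf.germ_res_apply, germ_smul, germ_res]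
    exact Submodule.smul_mem _ _ (hm₁ y (i₂.le hy).1)

/-- finitely many sections are enough near a point -/
theorem exists_finite_imgGerms (ψ : K ⟶ (Scheme.Modules.pushforward f).obj M) (hM : CohB1.IsFT M)
    (h : ∀ y : X, imgGerms ψ Set.univ y = ⊤) (x : X) :
    ∃ (O : X.Opens) (T : Finset (Σ W : Y.affineOpens, Γ(K, W.1))),
      x ∈ O ∧ ∀ y ∈ O, imgGerms ψ ↑T y = ⊤ := by
  classical
  obtain ⟨U, hx, n, s, hs⟩ := QCohLib.exists_genOn_of_isFT hM x
  have key : ∀ i, ∃ (T : Finset (Σ W : Y.affineOpens, Γ(K, W.1))),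
      M.presheaf.germ U x hx (s i) ∈ imgGerms ψ ↑T x := fun i => by
    have hi : M.presheaf.germ U x hx (s i) ∈ imgGerms ψ Set.univ x := h x ▸ Submodule.mem_top
    obtain ⟨G, hG, hmem⟩ := Submodule.mem_span_finite_of_mem_span hi
    choose a _ hxa ha using fun g : G => hG g.2
    refine ⟨Finset.univ.image a, ?_⟩
    refine (Submodule.span_le.mpr ?_ : Submodule.span (X.presheaf.stalk x) (↑G : Set (M.presheaf.stalk x)) ≤
      imgGerms ψ ↑(Finset.univ.image a) x) hmem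
    intro g hg
    exact Submodule.subset_span ⟨a ⟨g, hg⟩, by simp, hxa ⟨g, hg⟩, ha ⟨g, hg⟩⟩
  choose T hT using key
  let T' := Finset.univ.biUnion T
  choose O hO hxO hOm using fun i => eventually_mem_imgGerms ψ (↑T')
    (imgGerms_mono ψ (fun a ha => Finset.mem_biUnion.mpr ⟨i, Finset.mem_univ _, ha⟩) x (hT i))
    U hx (s i) rfl
  refine ⟨U ⊓ Finset.univ.inf O, T', ⟨hx, ?_⟩, fun y hy => eq_top_iff.mpr fun g _ => ?_⟩
  · have : ∀ t : Finset (ULift.{u} (Fin n)), x ∈ t.inf O := by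
      intro t
      induction t using Finset.induction_on with
      | empty => exact trivial
      | insert a t _ ih => rw [Finset.inf_insert]; exact ⟨hxO a, ih⟩
    exact this _
  · obtain ⟨V, hyV, t, rfl⟩ := TopCat.Presheaf.exists_germ_eq _ g
    obtain ⟨W, hW, hWU, hyW, c, hc⟩ := hs (V ⊓ U) inf_le_right (res M inf_le_left t) y ⟨hyV, hy.1⟩
    rw [← germ_res M (inf_le_left : V ⊓ U ≤ V) t ⟨hyV, hy.1⟩, ← TopCat.Presheaf.germ_res_apply _ (homOfLE hW) y hyW,
      hc, map_sum]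
    refine Submodule.sum_mem _ fun i _ => ?_
    rw [germ_smul, TopCat.Presheaf.germ_res_apply]
    exact Submodule.smul_mem _ _ (hOm i y ((Finset.inf_le (Finset.mem_univ i) : Finset.univ.inf O ≤ O i) hy.2))

/-- a quotient of finite type of a pullback is the quotient of the pullback of a submodule of finite type -/
theorem exists_ft_sub_epi [CompactSpace X] [CompactSpace Y] [QuasiSeparatedSpace Y] [Coh.IsQCoh K]
    (c : (Scheme.Modules.pullback f).obj K ⟶ M) [Epi c] (hM : CohB1.IsFT M) :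
    ∃ (G : Y.Modules) (φ : (Scheme.Modules.pullback f).obj G ⟶ M), Coh.IsQCoh G ∧ CohB1.IsFT G ∧ Epi φ := by
  classical
  let adj := Scheme.Modules.pullbackPushforwardAdjunction f
  let ψ := adj.homEquiv K M c
  choose O T hxO hT using exists_finite_imgGerms ψ hM fun y => imgGerms_univ c y
  obtain ⟨S, hS⟩ := isCompact_univ.elim_finite_subcover (fun x => (O x : Set X)) (fun x => (O x).2)
    fun x _ => Set.mem_iUnion.mpr ⟨x, hxO x⟩
  obtain ⟨G, j, -, hG, hGft, hgen⟩ := QCohLib.exists_ft_through_finset (K := K) (S.biUnion T) (fun a => a.1.1)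
    (fun a => a.1.2) (fun a => a.2)
  refine ⟨G, (adj.homEquiv G M).symm (j ≫ ψ), hG, hGft,
    Preadditive.epi_of_cancel_zero _ fun {N : X.Modules} (q : M ⟶ N) hq => ?_⟩
  have hq' : (j ≫ ψ) ≫ (Scheme.Modules.pushforward f).map q = 0 := by
    have h1 := congrArg (adj.homEquiv G N) hq
    rw [Adjunction.homEquiv_naturality_right, Equiv.apply_symm_apply] at h1
    refine h1.trans ?_
    rw [Adjunction.homEquiv_unit, Functor.map_zero, comp_zero]
  refine Scheme.Modules.hom_ext _ _ fun V => ConcreteCategory.hom_ext _ _ fun t => TwistLib.mod_ext N fun y hy => ?_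
  let g := ((DerSch.stalkFunctor X y).map q).hom
  change N.presheaf.germ V y hy (q.app V t) = N.presheaf.germ V y hy 0
  have e1 : g (M.presheaf.germ V y hy t) = N.presheaf.germ V y hy (q.app V t) :=
    DerSch.stalkFunctor_map_germ y q V hy t
  obtain ⟨x, hxS, hyx⟩ := Set.mem_iUnion₂.mp (hS (Set.mem_univ y))
  have hle : imgGerms ψ (↑(S.biUnion T)) y ≤ LinearMap.ker g := Submodule.span_le.mpr <| by
    rintro _ ⟨a, ha, h, rfl⟩
    obtain ⟨b, hb⟩ := hgen a ha
    have e2 : g (M.presheaf.germ (f ⁻¹ᵁ a.1.1) y h (show Γ(M, f ⁻¹ᵁ a.1.1) from ψ.app a.1.1 a.2)) =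
        N.presheaf.germ _ y h (q.app (f ⁻¹ᵁ a.1.1) (show Γ(M, f ⁻¹ᵁ a.1.1) from ψ.app a.1.1 a.2)) :=
      DerSch.stalkFunctor_map_germ y q _ h _
    show g _ = 0
    rw [e2]
    rw [show q.app (f ⁻¹ᵁ a.1.1) (show Γ(M, f ⁻¹ᵁ a.1.1) from ψ.app a.1.1 a.2) = 0 from by
      rw [← hb]; exact congr($(congrArg (fun φ => Scheme.Modules.Hom.app φ a.1.1) hq') b)]
    exact map_zero _
  have htop : imgGerms ψ (↑(S.biUnion T)) y = ⊤ := eq_top_iff.mpr ((hT x y hyx).ge.trans
    (imgGerms_mono ψ (fun a ha => Finset.mem_biUnion.mpr ⟨x, hxS, ha⟩) y))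
  rw [← e1, map_zero]
  exact hle (htop ▸ Submodule.mem_top)

end MiscFlat6

end
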