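import Groth.Prelude
import Groth.Agent.QCohLib.Extend
import Groth.Agent.QCohLib.AffineFinite

/-!
# Finite type ideal sheaves with prescribed support
-/

universe u
open CategoryTheory CategoryTheory.Limits TopologicalSpace Opposite AlgebraicGeometry

namespace MiscFlat6

open QCohLib QCohLib.LocSub

variable {X : Scheme.{u}}

section
variable {F : X.Modules}

/-- Extending over one affine inside a saturated `T`
(adapted from `QCohLib.LocSub.exists_extend_affine`). -/
theorem exists_extend_affine_within [Coh.IsQCoh F] (T : LocSub F)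
    (hT : ∀ (W : X.Opens), IsAffineOpen W → ∀ (g : Γ(X, W)) (a : Γ(F, W)),
      T.mem (X.basicOpen g) (F.presheaf.map (homOfLE (X.basicOpen_le g)).op a) → ∃ k : ℕ, T.mem W (g ^ k • a))
    (S : LocSub F) {V : X.Opens} (hc : Canon S V) (hft : FTBelow S V)
    (hST : ∀ O ≤ V, ∀ a : Γ(F, O), S.mem O a → T.mem O a)
    {W : X.Opens} (hW : IsAffineOpen W) (hWV : IsCompact ((W ⊓ V : X.Opens) : Set X)) :
    ∃ S' : LocSub F, Canon S' (V ⊔ W) ∧ FTBelow S' (V ⊔ W) ∧
      (∀ O ≤ V, ∀ a : Γ(F, O), S'.mem O a ↔ S.mem O a) ∧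
      ∀ O ≤ V ⊔ W, ∀ a : Γ(F, O), S'.mem O a → T.mem O a := by
  classical
  choose U hUV hpU n s hs hgen using fun q : ↥(W ⊓ V) => hft q.1 q.2.2
  choose h hhU hqh using fun q : ↥(W ⊓ V) => exists_basicOpen_nhd hW (hpU q) q.2.1
  obtain ⟨t, ht⟩ := hWV.elim_finite_subcover
    (fun q : ↥(W ⊓ V) => (X.basicOpen (h q) : Set X)) (fun q => (X.basicOpen _).isOpen)
    fun q hq => Set.mem_iUnion.mpr ⟨⟨q, hq⟩, hqh ⟨q, hq⟩⟩
  have hm : ∀ (q : ↥(W ⊓ V)) (i : ULift.{u} (Fin (n q))), ∃ (N : ℕ) (m : Γ(F, W)), (S.mem W m ∧ T.mem W m) ∧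
      F.presheaf.map (homOfLE (X.basicOpen_le (h q))).op m =
        (X.presheaf.map (homOfLE (X.basicOpen_le (h q))).op (h q)) ^ N •
          F.presheaf.map (homOfLE (hhU q)).op (s q i) := by
    intro q i
    obtain ⟨N, m, hm⟩ := (localizingAt_of_isQCoh hW F (h q)).exists_extend
      (F.presheaf.map (homOfLE (hhU q)).op (s q i))
    obtain ⟨k, hk⟩ := exists_pow_smul_mem S hc hft hW hWV (h q) m (by
      have h1 := S.res (inf_le_left : X.basicOpen (h q) ⊓ V ≤ X.basicOpen (h q))
        (hm ▸ S.smul _ (S.res (hhU q) (hs q i)))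
      rw [map_map'] at h1
      exact h1)
    obtain ⟨k', hk'⟩ := hT W hW (h q) (h q ^ k • m) (by
      rw [map_smul', hm]
      exact T.smul _ (T.smul _ (hST _ ((hhU q).trans (hUV q)) _ (S.res (hhU q) (hs q i)))))
    refine ⟨k' + (k + N), _, ⟨S.smul _ hk, hk'⟩, ?_⟩
    rw [map_smul', map_smul', hm, map_pow, map_pow, ← mul_smul, ← pow_add, ← mul_smul, ← pow_add, Nat.add_assoc]
  choose N m hmS hm using hm
  let I := Σ q : t, ULift.{u} (Fin (n q.1))
  let M : I → Γ(F, W) := fun x => m x.1.1 x.2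
  let S' := glueSub S V W M
  have hagree : ∀ O ≤ V, ∀ a : Γ(F, O), S'.mem O a ↔ S.mem O a := by
    intro O hO a
    constructor
    · intro ha
      exact hc O a ha.1
    · intro ha
      refine ⟨S.res inf_le_left ha, fun p hp hpW => ?_⟩
      obtain ⟨q, hqt, hpq⟩ := Set.mem_iUnion₂.mp (ht (show p ∈ W ⊓ V from ⟨hpW, hO hp⟩))
      obtain ⟨O', hO', hO'U, hpO', c, hc'⟩ := hgen q (O ⊓ X.basicOpen (h q))
        (inf_le_right.trans (hhU q)) _ (S.res inf_le_left ha) p ⟨hp, hpq⟩
        (hhU q hpq)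
      rw [map_map'] at hc'
      have hle : O' ≤ X.basicOpen (h q) := hO'.trans inf_le_right
      refine ⟨O', hO'.trans inf_le_left, hle.trans (X.basicOpen_le _), hpO', ?_⟩
      choose u hu using fun i => (isUnit_res (h q) hle).pow (N q i)
      refine ⟨fun x => if hx : x.1.1 = q then c (cast (by rw [hx]) x.2) *
        ↑(u (cast (by rw [hx]) x.2))⁻¹ else 0, hc'.trans ?_⟩
      rw [Fintype.sum_sigma]
      rw [Finset.sum_eq_single (⟨q, hqt⟩ : t) (fun q' _ hq' => Finset.sum_eq_zero fun i _ => by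
          dsimp only
          rw [dif_neg (fun e => hq' (Subtype.ext e)), zero_smul])
        (fun h => absurd (Finset.mem_univ _) h)]
      refine Finset.sum_congr rfl fun i _ => ?_
      dsimp only
      rw [dif_pos rfl]
      simp only [cast_eq, M]
      have h1 := congr_arg (F.presheaf.map (homOfLE hle).op) (hm q i)
      rw [map_map', map_smul', map_map', map_pow, ringMap_map'] at h1
      rw [← homOfLE_comp hle (X.basicOpen_le (h q))] 
      rw [h1, ← mul_smul, mul_assoc]
      rw [show (X.presheaf.map ((homOfLE hle : O' ⟶ X.basicOpen (h q)) ≫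
        homOfLE (X.basicOpen_le (h q))).op (h q)) ^ N q i = ↑(u i) from (hu i).symm]
      rw [Units.inv_mul, mul_one]
      rfl
  refine ⟨S', fun O a ha => ⟨?_, ?_⟩, ?_, hagree, fun O hO a ha => T.local' a fun p hp => ?_⟩
  · refine hc _ _ (S.local' _ fun p hp => ?_)
    refine ⟨O ⊓ (V ⊔ W) ⊓ V, le_inf (le_inf (inf_le_left.trans inf_le_left) inf_le_right)
      inf_le_right, ⟨⟨hp.1.1, Or.inl hp.2⟩, hp.2⟩, ?_⟩
    have := ha.1
    rw [map_map'] at this
    rw [map_map', map_map']
    exact this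
  · intro p hp hpW
    obtain ⟨O', hO', hO'W, hpO', c, hc'⟩ := ha.2 p ⟨hp, Or.inr hpW⟩ hpW
    rw [map_map'] at hc'
    exact ⟨O', hO'.trans inf_le_left, hO'W, hpO', c, hc'⟩
  · intro p hp
    by_cases hpV : p ∈ V
    · obtain ⟨U', hU', hpU', k, r, hr, hgen'⟩ := hft p hpV
      exact ⟨U', hU'.trans le_sup_left, hpU', k, r, fun i => (hagree U' hU' _).mpr (hr i),
        fun O hO a ha => hgen' O hO a ((hagree O (hO.trans hU') a).mp ha)⟩
    · have hpW : p ∈ W := hp.resolve_left hpV
      let e : ULift.{u} (Fin (Fintype.card I)) ≃ I := Equiv.ulift.trans (Fintype.equivFin I).symm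
      refine ⟨W, le_sup_right, hpW, Fintype.card I, fun i => M (e i), fun i => ⟨?_, ?_⟩,
        fun O hO a ha q hq hqW => ?_⟩
      · exact S.res inf_le_left (hmS _ _).1
      · exact span_self M (e i)
      · obtain ⟨O', hO', hO'W, hqO', c, hc'⟩ := ha.2 q hq hqW
        exact ⟨O', hO', hO'W, hqO', fun i => c (e i),
          hc'.trans (Equiv.sum_comp e fun x => c x • F.presheaf.map (homOfLE hO'W).op (M x)).symm⟩
  · rcases hO hp with hpV | hpW
    · exact ⟨O ⊓ V, inf_le_left, ⟨hp, hpV⟩,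
        hST _ inf_le_right _ ((hagree _ inf_le_right _).mp (S'.res inf_le_left ha))⟩
    · exact ⟨O ⊓ W, inf_le_left, ⟨hp, hpW⟩,
        T.span_le (fun x : I => (hmS x.1.1 x.2).2) inf_le_right ((span F W M).res inf_le_left ha.2)⟩

end

theorem mem_basicOpen_iff_isUnit {V : X.Opens} {a : Γ(X, V)} {p : X} (hp : p ∈ V) :
    p ∈ X.basicOpen a ↔ IsUnit (X.presheaf.germ V p hp a) := Scheme.mem_basicOpen X a p hp

/-- functions vanishing off `U` -/
def vanishOff (U : X.Opens) : LocSub (Coh.structureModule X) where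
  mem V a := ∀ p ∈ V, p ∉ U → p ∉ X.basicOpen (OmegaSh.fnSect X V a)
  zero V p hp _ h := by
    rw [map_zero, Scheme.basicOpen_zero] at h
    exact h
  add {V a b} ha hb p hp hpU h := by
    rw [map_add, mem_basicOpen_iff_isUnit hp, map_add] at h
    exact IsLocalRing.nonunits_add (fun h' => ha p hp hpU ((mem_basicOpen_iff_isUnit hp).mpr h'))
      (fun h' => hb p hp hpU ((mem_basicOpen_iff_isUnit hp).mpr h')) h
  smul {V} r {a} ha p hp hpU h := by
    change p ∈ X.basicOpen (r * OmegaSh.fnSect X V a) at h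
    rw [Scheme.basicOpen_mul] at h
    exact ha p hp hpU h.2
  res {V W} h {a} ha p hp hpU hmem := by
    change p ∈ X.basicOpen (X.presheaf.map (homOfLE h).op (OmegaSh.fnSect X V a)) at hmem
    rw [Scheme.basicOpen_res] at hmem
    exact ha p (h hp) hpU hmem.2
  local' {V} a ha p hp hpU hmem := by
    obtain ⟨W, hW, hpW, hm⟩ := ha p hp
    refine hm p hpW hpU ?_
    change p ∈ X.basicOpen (X.presheaf.map (homOfLE hW).op (OmegaSh.fnSect X V a))
    rw [Scheme.basicOpen_res]
    exact ⟨hpW, hmem⟩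

theorem vanishOff_saturated (U : X.Opens) (W : X.Opens) (g : Γ(X, W)) (a : Γ(Coh.structureModule X, W))
    (h : (vanishOff U).mem (X.basicOpen g)
      ((Coh.structureModule X).presheaf.map (homOfLE (X.basicOpen_le g)).op a)) :
    ∃ k : ℕ, (vanishOff U).mem W (g ^ k • a) := by
  refine ⟨1, fun p _ hpU hmem => ?_⟩
  change p ∈ X.basicOpen (g ^ 1 * OmegaSh.fnSect X W a) at hmem
  rw [pow_one, Scheme.basicOpen_mul] at hmem
  refine h p hmem.1 hpU ?_
  change p ∈ X.basicOpen (X.presheaf.map (homOfLE (X.basicOpen_le g)).op (OmegaSh.fnSect X W a))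
  rw [Scheme.basicOpen_res]
  exact hmem

/-- no condition -/
def allSub (F : X.Modules) : LocSub F where
  mem _ _ := True
  zero _ := trivial
  add _ _ := trivial
  smul _ _ _ := trivial
  res _ _ _ := trivial
  local' _ _ := trivial

theorem exists_ft_vanishing [CompactSpace X] [QuasiSeparatedSpace X] (U : X.Opens)
    (hU : IsCompact (U : Set X)) :
    ∃ S : LocSub (Coh.structureModule X), FTBelow S ⊤ ∧ (∀ O ≤ U, ∀ a, S.mem O a) ∧
      ∀ O a, S.mem O a → (vanishOff U).mem O a := by
  classical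
  haveI : Coh.IsQCoh (Coh.structureModule X) := QCohLib.isQCoh_unit
  have key : ∀ t : Finset X.affineOpens, ∃ (V : X.Opens) (S : LocSub (Coh.structureModule X)), U ≤ V ∧
      (∀ W ∈ t, W.1 ≤ V) ∧ IsCompact (V : Set X) ∧ Canon S V ∧ FTBelow S V ∧
      (∀ O ≤ U, ∀ a, S.mem O a) ∧ ∀ O ≤ V, ∀ a, S.mem O a → (vanishOff U).mem O a := by
    intro t
    induction t using Finset.induction_on with
    | empty =>
      refine ⟨U, allSub _, le_rfl, fun W hW => absurd hW (Finset.notMem_empty W), hU,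
        fun _ _ _ => trivial,
        fun p hp => ⟨U, le_rfl, hp, 1, fun _ => (1 : Γ(X, U)), fun _ => trivial,
          fun W hW a _ q hq _ => ⟨W, le_rfl, hW, hq, fun _ => OmegaSh.fnSect X W a, ?_⟩⟩,
        fun _ _ _ => trivial, fun O hO a _ q hq hqU _ => hqU (hO hq)⟩
      rw [Fintype.sum_unique]
      change X.presheaf.map (homOfLE (le_refl W)).op (OmegaSh.fnSect X W a) =
        OmegaSh.fnSect X W a * X.presheaf.map (homOfLE hW).op 1
      simp
    | insert W t hWt ih =>
      obtain ⟨V, S, hUV, htV, hV, hc, hft, hs, hST⟩ := ih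
      obtain ⟨S', h1, h2, h3, h4⟩ := exists_extend_affine_within (vanishOff U)
        (fun W _ => vanishOff_saturated U W) S hc hft hST W.2
        (QuasiSeparatedSpace.inter_isCompact _ _ W.1.isOpen W.2.isCompact V.isOpen hV)
      exact ⟨V ⊔ W.1, S', hUV.trans le_sup_left, fun W' hW' => (Finset.mem_insert.mp hW').elim
        (fun e => e ▸ le_sup_right) fun h => (htV W' h).trans le_sup_left,
        hV.union W.2.isCompact, h1, h2, fun O hO a => (h3 O (hO.trans hUV) a).mpr (hs O hO a), h4⟩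
  obtain ⟨t, ht⟩ : ∃ t : Finset X.affineOpens, (Set.univ : Set X) ⊆ ⋃ V ∈ t, (V.1 : Set X) :=
    isCompact_univ.elim_finite_subcover (fun V : X.affineOpens => (V.1 : Set X))
      (fun V => V.1.isOpen) (fun p _ => by
        obtain ⟨V, hV, hp⟩ := exists_affine_nhd p
        exact Set.mem_iUnion.mpr ⟨⟨V, hV⟩, hp⟩)
  obtain ⟨V, S, -, htV, -, -, hft, hs, hST⟩ := key t
  obtain rfl : V = ⊤ := eq_top_iff.mpr fun p _ => by
    obtain ⟨W, hW, hpW⟩ := Set.mem_iUnion₂.mp (ht (Set.mem_univ p))
    exact htV W hW hpW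
  exact ⟨S, hft, hs, fun O a => hST O le_top a⟩

/-- the ideal of sections of a submodule of the structure sheaf -/
def idealOf (S : LocSub (Coh.structureModule X)) (V : X.Opens) : Ideal Γ(X, V) where
  carrier := {a | S.mem V a}
  zero_mem' := S.zero V
  add_mem' := S.add
  smul_mem' r _ h := S.smul r h

theorem exists_finiteType_idealSheaf [CompactSpace X] [QuasiSeparatedSpace X] (U : X.Opens)
    (hU : IsCompact (U : Set X)) :
    ∃ I : X.IdealSheafData, (∀ V : X.affineOpens, (I.ideal V).FG) ∧ (I.support : Set X) = (U : Set X)ᶜ := by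
  classical
  haveI : Coh.IsQCoh (Coh.structureModule X) := QCohLib.isQCoh_unit
  obtain ⟨S, hft, hs, hST⟩ := exists_ft_vanishing U hU
  let I : X.IdealSheafData :=
    { ideal := fun V => idealOf S V.1
      map_ideal_basicOpen := fun V f => by
        refine le_antisymm (Ideal.map_le_iff_le_comap.mpr fun a ha => S.res (X.basicOpen_le f) ha) ?_
        intro b hb
        obtain ⟨N, m, hm⟩ := (localizingAt_of_isQCoh V.2 (Coh.structureModule X) f).exists_extend b
        obtain ⟨k, hk⟩ := exists_pow_smul_mem S (canon_top S) hft V.2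
          (by rw [inf_top_eq]; exact V.2.isCompact) f m (by
            have h1 := S.res (inf_le_left : X.basicOpen f ⊓ ⊤ ≤ X.basicOpen f) (hm ▸ S.smul _ hb)
            rw [map_map'] at h1
            exact h1)
        let u := X.presheaf.map (homOfLE (X.basicOpen_le f)).op f
        have hu : IsUnit (u ^ (k + N)) := (isUnit_res f le_rfl).pow _
        have key : u ^ (k + N) * b =
            X.presheaf.map (homOfLE (X.basicOpen_le f)).op (f ^ k * OmegaSh.fnSect X V.1 m) := by
          rw [map_mul, map_pow, pow_add, mul_assoc]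
          exact congrArg _ hm.symm
        have hmem := Ideal.mem_map_of_mem (X.presheaf.map (homOfLE (X.basicOpen_le f)).op).hom
          (show f ^ k * OmegaSh.fnSect X V.1 m ∈ idealOf S V.1 from hk)
        rw [← Ideal.unit_mul_mem_iff_mem _ hu, key]
        exact hmem }
  refine ⟨I, fun V => ?_, Set.ext fun x => ?_⟩
  · haveI := isQCoh_toModules S hft
    obtain ⟨t, ht⟩ := (finite_of_isFT (isFT_toModules S hft) V.2).fg_top
    refine ⟨t.image fun z => OmegaSh.fnSect X V.1 (S.ι.app V.1 z), le_antisymm ?_ fun a ha => ?_⟩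
    · refine Submodule.span_le.mpr fun z hz => ?_
      obtain ⟨z, -, rfl⟩ := Finset.mem_image.mp (Finset.mem_coe.mp hz)
      exact S.ι_app_mem z
    · have hz := ht.ge (Submodule.mem_top (x := S.lift a ha))
      change (fun z => OmegaSh.fnSect X V.1 (S.ι.app V.1 z)) (S.lift a ha) ∈ Submodule.span _ _
      generalize S.lift a ha = z at hz ⊢
      induction hz using Submodule.span_induction with
      | mem z hz => exact Submodule.subset_span (Finset.mem_coe.mpr (Finset.mem_image_of_mem _ hz))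
      | zero => simp
      | add y z _ _ hy hz => simpa using add_mem hy hz
      | smul c y _ hy =>
        simp only [app_smul]
        exact Submodule.smul_mem _ c hy
  · obtain ⟨V, hV, hxV, -⟩ := exists_isAffineOpen_mem_and_subset (x := x) (U := ⊤) trivial
    refine (Scheme.IdealSheafData.mem_support_iff_of_mem (U := ⟨V, hV⟩) hxV).trans ?_
    simp only [Scheme.mem_zeroLocus_iff, Set.mem_compl_iff, SetLike.mem_coe]
    refine ⟨fun h hxU => ?_, fun hxU a ha => hST V a ha x hxV hxU⟩
    obtain ⟨f, hfU, hxf⟩ := hV.exists_basicOpen_le (V := U ⊓ V) ⟨x, hxU, hxV⟩ hxV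
    have h1 := (Scheme.IdealSheafData.mem_support_iff_of_mem (I := I) (U := X.affineBasicOpen (U := ⟨V, hV⟩) f) hxf).mp
      ((Scheme.IdealSheafData.mem_support_iff_of_mem (U := ⟨V, hV⟩) hxV).mpr
        ((Scheme.mem_zeroLocus_iff _ _ _).mpr h))
    refine (Scheme.mem_zeroLocus_iff _ _ _).mp h1 1
      (hs _ (hfU.trans inf_le_left) (1 : Γ(X, X.basicOpen f))) ?_
    rw [X.basicOpen_of_isUnit isUnit_one]
    exact hxf

theorem isCompact_of_finiteType_idealSheaf [CompactSpace X] (U : X.Opens) (I : X.IdealSheafData)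
    (hI : ∀ V : X.affineOpens, (I.ideal V).FG) (hs : (I.support : Set X) = (U : Set X)ᶜ) :
    IsCompact (U : Set X) := by
  classical
  obtain ⟨t, ht⟩ : ∃ t : Finset X.affineOpens, (Set.univ : Set X) ⊆ ⋃ V ∈ t, (V.1 : Set X) :=
    isCompact_univ.elim_finite_subcover (fun V : X.affineOpens => (V.1 : Set X))
      (fun V => V.1.isOpen) (fun p _ => by
        obtain ⟨V, hV, hp⟩ := exists_affine_nhd p
        exact Set.mem_iUnion.mpr ⟨⟨V, hV⟩, hp⟩)
  choose g hg using hI
  have hVU : ∀ V : X.affineOpens, ((V.1 : Set X) ∩ U) = ⋃ f ∈ g V, (X.basicOpen f : Set X) := by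
    intro V
    ext x
    simp only [Set.mem_inter_iff, SetLike.mem_coe, Set.mem_iUnion]
    constructor
    · rintro ⟨hxV, hxU⟩
      by_contra hcon
      push Not at hcon
      have : x ∈ (I.support : Set X) := by
        refine (Scheme.IdealSheafData.mem_support_iff_of_mem (U := V) hxV).mpr ?_
        rw [← hg V, Ideal.span, Scheme.zeroLocus_span, Scheme.mem_zeroLocus_iff]
        exact fun f hf => hcon f hf
      rw [hs] at this
      exact this hxU
    · rintro ⟨f, hf, hxf⟩
      have hxV := X.basicOpen_le f hxf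
      refine ⟨hxV, by_contra fun hxU => ?_⟩
      have hx : x ∈ (I.support : Set X) := hs.ge hxU
      exact (Scheme.mem_zeroLocus_iff _ _ _).mp ((Scheme.IdealSheafData.mem_support_iff_of_mem (U := V) hxV).mp hx) f
        ((hg V).le (Submodule.subset_span hf)) hxf
  have hU : (U : Set X) = ⋃ V ∈ t, ((V.1 : Set X) ∩ U) := by
    ext x
    simp only [Set.mem_iUnion, Set.mem_inter_iff, exists_prop]
    refine ⟨fun hx => ?_, fun ⟨_, _, _, hx⟩ => hx⟩
    obtain ⟨V, hV, hxV⟩ := Set.mem_iUnion₂.mp (ht (Set.mem_univ x))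
    exact ⟨V, hV, hxV, hx⟩
  rw [hU]
  refine t.finite_toSet.isCompact_biUnion fun V _ => ?_
  rw [hVU V]
  exact (g V).finite_toSet.isCompact_biUnion fun f _ => (V.2.basicOpen f).isCompact

end MiscFlat6
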