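import Groth.Agent.RelProjLib.ProjProper
import Mathlib.AlgebraicGeometry.ProjectiveSpectrum.Proper
import Mathlib.AlgebraicGeometry.Morphisms.Proper

/-!
# Basic properties of a relative homogeneous spectrum
-/

set_option autoImplicit false
universe u
open CategoryTheory CategoryTheory.Limits AlgebraicGeometry TopologicalSpace Opposite
open scoped HomogeneousIdeal

noncomputable section

namespace MiscFlat6

variable {Y P : Scheme.{u}} {𝒮 : RelProj.QCGrAlg Y} {p : P ⟶ Y}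
  {chart : ∀ (U : Y.Opens) (hU : IsAffineOpen U), (((p ⁻¹ᵁ U : P.Opens) : Scheme.{u}) ≅ Proj (𝒮.deg U hU))}

theorem relProj_restrict_eq (hP : RelProj.IsRelProj 𝒮 p chart) (U : Y.Opens) (hU : IsAffineOpen U) :
    (p ∣_ U) ≫ hU.isoSpec.hom =
      (chart U hU).hom ≫ Proj.toSpecZero (𝒮.deg U hU) ≫ Spec.map (𝒮.strZero U hU) := by
  rw [← cancel_mono hU.fromSpec]
  simp only [Category.assoc, IsAffineOpen.isoSpec_hom_fromSpec, IsAffineOpen.toSpecΓ_fromSpec]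
  rw [morphismRestrict_ι]
  exact (hP.chart_over U hU).symm

theorem relProj_of_local (hP : RelProj.IsRelProj 𝒮 p chart) (Q : MorphismProperty Scheme.{u})
    [IsZariskiLocalAtTarget Q]
    (h : ∀ (U : Y.Opens) (hU : IsAffineOpen U), Q (Proj.toSpecZero (𝒮.deg U hU) ≫ Spec.map (𝒮.strZero U hU))) :
    Q p := by
  refine IsZariskiLocalAtTarget.of_iSup_eq_top (P := Q) (fun U : Y.affineOpens => U.1)
    (iSup_affineOpens_eq_top Y) fun U => ?_
  have h2 : Q ((p ∣_ U.1) ≫ U.2.isoSpec.hom) := by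
    rw [relProj_restrict_eq hP U.1 U.2]
    exact (MorphismProperty.cancel_left_of_respectsIso Q (chart U.1 U.2).hom _).mpr (h U.1 U.2)
  exact (MorphismProperty.cancel_right_of_respectsIso Q _ U.2.isoSpec.hom).mp h2

theorem relProj_isSeparated (hP : RelProj.IsRelProj 𝒮 p chart) : IsSeparated p :=
  relProj_of_local hP @IsSeparated fun _ _ => inferInstance

theorem finiteType_zero {A σ R : Type u} [CommRing A] [CommRing R] [SetLike σ A] [AddSubgroupClass σ A]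
    (𝒜 : ℕ → σ) [GradedRing 𝒜] (ρ : R →+* 𝒜 0) (h : ((SetLike.GradeZero.subring 𝒜).subtype.comp ρ).FiniteType) :
    ρ.FiniteType := by
  let π : A →+* 𝒜 0 :=
    { toFun := fun a => ⟨GradedRing.projZeroRingHom 𝒜 a, SetLike.coe_mem _⟩
      map_one' := Subtype.ext (map_one (GradedRing.projZeroRingHom 𝒜))
      map_mul' := fun a b => Subtype.ext (map_mul (GradedRing.projZeroRingHom 𝒜) a b)
      map_zero' := Subtype.ext (map_zero (GradedRing.projZeroRingHom 𝒜))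
      map_add' := fun a b => Subtype.ext (map_add (GradedRing.projZeroRingHom 𝒜) a b) }
  have hπ : Function.Surjective π := fun a =>
    ⟨a.1, Subtype.ext (DirectSum.decompose_of_mem_same 𝒜 a.2)⟩
  have h2 := h.comp_surjective hπ
  have he : π.comp ((SetLike.GradeZero.subring 𝒜).subtype.comp ρ) = ρ :=
    RingHom.ext fun r => Subtype.ext (DirectSum.decompose_of_mem_same 𝒜 (ρ r).2)
  rwa [he] at h2

theorem relProj_finiteType (hP : RelProj.IsRelProj 𝒮 p chart)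
    (hft : ∀ (U : Y.Opens) (hU : IsAffineOpen U), (𝒮.str.app (op U)).hom.FiniteType) :
    LocallyOfFiniteType p ∧ QuasiCompact p := by
  have key : ∀ (U : Y.Opens) (hU : IsAffineOpen U),
      (𝒮.strZero U hU).hom.FiniteType ∧ Algebra.FiniteType (𝒮.deg U hU 0) (𝒮.presheaf.obj (op U)) := by
    intro U hU
    have h : ((SetLike.GradeZero.subring (𝒮.deg U hU)).subtype.comp (𝒮.strZero U hU).hom).FiniteType := hft U hU
    exact ⟨finiteType_zero (𝒮.deg U hU) _ h,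
      RingHom.finiteType_algebraMap.mp (RingHom.FiniteType.of_comp_finiteType h)⟩
  constructor
  · refine relProj_of_local hP @LocallyOfFiniteType fun U hU => ?_
    haveI := (key U hU).2
    haveI : LocallyOfFiniteType (Spec.map (𝒮.strZero U hU)) :=
      (HasRingHomProperty.Spec_iff (P := @LocallyOfFiniteType)).mpr (key U hU).1
    infer_instance
  · refine relProj_of_local hP @QuasiCompact fun U hU => ?_
    haveI := (key U hU).2
    infer_instance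

theorem relProj_isReduced (hP : RelProj.IsRelProj 𝒮 p chart)
    (hred : ∀ (U : Y.Opens) (hU : IsAffineOpen U) (x : 𝒮.presheaf.obj (op U)),
      x ∈ (𝒮.deg U hU)₊ → IsNilpotent x → x = 0) : IsReduced P := by
  have hred2 : ∀ (U : Y.Opens) (hU : IsAffineOpen U), IsReduced (Proj (𝒮.deg U hU)) := by
    intro U hU
    refine @IsReduced.of_openCover _ (Proj.affineOpenCover (𝒮.deg U hU)).openCover fun i => ?_
    obtain ⟨⟨d, hd⟩, f, hf⟩ := i
    suffices h : _root_.IsReduced (HomogeneousLocalization.Away (𝒮.deg U hU) f) by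
      exact inferInstanceAs (IsReduced (Spec (CommRingCat.of (HomogeneousLocalization.Away (𝒮.deg U hU) f))))
    refine ⟨fun z hz => ?_⟩
    obtain ⟨k, hk⟩ := hz
    obtain ⟨n, a, ha, rfl⟩ := HomogeneousLocalization.Away.mk_surjective (𝒮.deg U hU) hf z
    have h1 := congrArg HomogeneousLocalization.val hk
    rw [HomogeneousLocalization.val_pow, HomogeneousLocalization.Away.val_mk, HomogeneousLocalization.val_zero,
      Localization.mk_pow, ← Localization.mk_zero 1, Localization.mk_eq_mk_iff,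
      Localization.r_iff_exists] at h1
    obtain ⟨⟨c, l, rfl⟩, hc⟩ := h1
    simp only [Submonoid.coe_one, one_mul, mul_zero] at hc
    have hzero : f ^ (l + 1) * a = 0 := by
      refine hred U hU _ ?_ ⟨k + 1, ?_⟩
      · refine Ideal.mul_mem_right _ _ (HomogeneousIdeal.mem_irrelevant_of_mem _ ?_ (SetLike.pow_mem_graded _ hf))
        rw [smul_eq_mul]
        exact Nat.mul_pos (Nat.succ_pos l) hd
      · rw [mul_pow, ← pow_mul]
        calc f ^ ((l + 1) * (k + 1)) * a ^ (k + 1)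
            = f ^ ((l + 1) * (k + 1) - l) * a * (f ^ l * a ^ k) := by
              have h : (l + 1) * (k + 1) - l + l = (l + 1) * (k + 1) :=
                Nat.sub_add_cancel (le_trans (Nat.le_succ l) (Nat.le_mul_of_pos_right _ (Nat.succ_pos k)))
              conv_lhs => rw [← h, pow_add, pow_succ]
              ring
          _ = 0 := by rw [hc, mul_zero]
    apply HomogeneousLocalization.val_injective
    rw [HomogeneousLocalization.Away.val_mk, HomogeneousLocalization.val_zero, ← Localization.mk_zero 1,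
      Localization.mk_eq_mk_iff, Localization.r_iff_exists]
    exact ⟨⟨f ^ (l + 1), l + 1, rfl⟩, by simpa using hzero⟩
  let 𝒰 := P.openCoverOfIsOpenCover (fun U : Y.affineOpens => p ⁻¹ᵁ U.1) (by
    rw [TopologicalSpace.IsOpenCover, ← Scheme.Hom.preimage_iSup, iSup_affineOpens_eq_top, Scheme.Hom.preimage_top])
  refine @IsReduced.of_openCover _ 𝒰 fun U => ?_
  haveI := hred2 U.1 U.2
  exact isReduced_of_isOpenImmersion (chart U.1 U.2).hom

theorem proj_map_inv {P' : Scheme.{u}} {p' : P' ⟶ Y}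
    {chart' : ∀ (U : Y.Opens) (hU : IsAffineOpen U), (((p' ⁻¹ᵁ U : P'.Opens) : Scheme.{u}) ≅ Proj (𝒮.deg U hU))}
    (hP' : RelProj.IsRelProj 𝒮 p' chart') (U : Y.Opens) (hU : IsAffineOpen U) (r : Γ(Y, U)) :
    Proj.map (𝒮.res hU (hU.basicOpen r) (Y.basicOpen_le r)) (𝒮.irrelevant_le_map U hU r) ≫ (chart' U hU).inv ≫
        (p' ⁻¹ᵁ U).ι =
      (chart' _ (hU.basicOpen r)).inv ≫ (p' ⁻¹ᵁ Y.basicOpen r).ι := by
  rw [← cancel_epi (chart' _ (hU.basicOpen r)).hom, Iso.hom_inv_id_assoc, ← Category.assoc,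
    ← hP'.chart_res U hU r, Category.assoc, Iso.hom_inv_id_assoc, Scheme.homOfLE_ι]

theorem relProj_unique {P' : Scheme.{u}} (hP : RelProj.IsRelProj 𝒮 p chart) (p' : P' ⟶ Y)
    (chart' : ∀ (U : Y.Opens) (hU : IsAffineOpen U), (((p' ⁻¹ᵁ U : P'.Opens) : Scheme.{u}) ≅ Proj (𝒮.deg U hU)))
    (hP' : RelProj.IsRelProj 𝒮 p' chart') :
    (∃! e : P ⟶ P', ∀ (U : Y.Opens) (hU : IsAffineOpen U),
        (p ⁻¹ᵁ U).ι ≫ e = (chart U hU).hom ≫ (chart' U hU).inv ≫ (p' ⁻¹ᵁ U).ι) ∧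
      ∀ e : P ⟶ P', (∀ (U : Y.Opens) (hU : IsAffineOpen U),
        (p ⁻¹ᵁ U).ι ≫ e = (chart U hU).hom ≫ (chart' U hU).inv ≫ (p' ⁻¹ᵁ U).ι) → IsIso e ∧ e ≫ p' = p := by
  let 𝒰 := P.openCoverOfIsOpenCover (fun U : Y.affineOpens => p ⁻¹ᵁ U.1) (by
    rw [TopologicalSpace.IsOpenCover, ← Scheme.Hom.preimage_iSup, iSup_affineOpens_eq_top, Scheme.Hom.preimage_top])
  let φ : ∀ U : Y.affineOpens, ((p ⁻¹ᵁ U.1 : P.Opens) : Scheme.{u}) ⟶ P' := fun U =>
    (chart U.1 U.2).hom ≫ (chart' U.1 U.2).inv ≫ (p' ⁻¹ᵁ U.1).ι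
  have hres : ∀ (U : Y.Opens) (hU : IsAffineOpen U) (r : Γ(Y, U)),
      P.homOfLE (p.preimage_mono (Y.basicOpen_le r)) ≫ φ ⟨U, hU⟩ = φ ⟨_, hU.basicOpen r⟩ := by
    intro U hU r
    show P.homOfLE _ ≫ (chart U hU).hom ≫ _ = _
    rw [reassoc_of% (hP.chart_res U hU r), proj_map_inv hP' U hU r]
  have hagree : ∀ (U V : Y.affineOpens) (A : P.Opens) (hA : A ≤ p ⁻¹ᵁ U.1) (hA' : A ≤ p ⁻¹ᵁ V.1),
      P.homOfLE hA ≫ φ U = P.homOfLE hA' ≫ φ V := by
    intro U V A hA hA'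
    have hcov : ∀ a : A, ∃ (r : Γ(Y, U.1)) (r' : Γ(Y, V.1)),
        Y.basicOpen r = Y.basicOpen r' ∧ p a.1 ∈ Y.basicOpen r := by
      intro a
      obtain ⟨r, r', h, hr⟩ := exists_basicOpen_le_affine_inter U.2 V.2 (p a.1) ⟨hA a.2, hA' a.2⟩
      exact ⟨r, r', h, hr⟩
    choose r r' hr hmem using hcov
    refine (A.toScheme.openCoverOfIsOpenCover (fun a : A => A.ι ⁻¹ᵁ (p ⁻¹ᵁ Y.basicOpen (r a))) ?_).hom_ext _ _ fun a => ?_
    · exact eq_top_iff.mpr fun b _ => Opens.mem_iSup.mpr ⟨b, hmem b⟩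
    · let B := p ⁻¹ᵁ Y.basicOpen (r a)
      have hB : A ⊓ B ≤ p ⁻¹ᵁ Y.basicOpen (r a) := inf_le_right
      have hB' : A ⊓ B ≤ p ⁻¹ᵁ Y.basicOpen (r' a) := hB.trans (p.preimage_mono (hr a).le)
      let j : ((A.ι ⁻¹ᵁ B : A.toScheme.Opens) : Scheme.{u}) ⟶ (A ⊓ B : P.Opens) :=
        IsOpenImmersion.lift (A ⊓ B).ι ((A.ι ⁻¹ᵁ B).ι ≫ A.ι) (by
          rintro _ ⟨z, rfl⟩
          rw [Scheme.Opens.range_ι]
          exact ⟨z.1.2, z.2⟩)
      have hj : ∀ {W : P.Opens} (h : A ≤ W), (A.ι ⁻¹ᵁ B).ι ≫ P.homOfLE h = j ≫ P.homOfLE (inf_le_left.trans h) := by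
        intro W h
        rw [← cancel_mono W.ι, Category.assoc, Category.assoc, Scheme.homOfLE_ι, Scheme.homOfLE_ι]
        exact (IsOpenImmersion.lift_fac _ _ _).symm
      show (A.ι ⁻¹ᵁ B).ι ≫ P.homOfLE hA ≫ φ U = (A.ι ⁻¹ᵁ B).ι ≫ P.homOfLE hA' ≫ φ V
      rw [reassoc_of% (hj hA), reassoc_of% (hj hA')]
      congr 1
      rw [← Scheme.homOfLE_homOfLE P hB (p.preimage_mono (Y.basicOpen_le (r a))), Category.assoc,
        hres U.1 U.2 (r a), ← Scheme.homOfLE_homOfLE P hB' (p.preimage_mono (Y.basicOpen_le (r' a))),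
        Category.assoc, hres V.1 V.2 (r' a)]
      have key : ∀ (W W' : Y.affineOpens) (e : W = W') (h : A ⊓ B ≤ p ⁻¹ᵁ W.1) (h' : A ⊓ B ≤ p ⁻¹ᵁ W'.1),
          P.homOfLE h ≫ φ W = P.homOfLE h' ≫ φ W' := by
        rintro W _ rfl h h'
        rfl
      exact key ⟨_, U.2.basicOpen (r a)⟩ ⟨_, V.2.basicOpen (r' a)⟩ (Subtype.ext (hr a)) hB hB'
  have huniq : ∀ e e' : P ⟶ P', (∀ U : Y.affineOpens, (p ⁻¹ᵁ U.1).ι ≫ e = φ U) →
      (∀ U : Y.affineOpens, (p ⁻¹ᵁ U.1).ι ≫ e' = φ U) → e = e' := fun e e' he he' =>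
    𝒰.hom_ext _ _ fun U => (he U).trans (he' U).symm
  let e := 𝒰.glueMorphisms φ (by
    intro U V
    let A : P.Opens := p ⁻¹ᵁ U.1 ⊓ p ⁻¹ᵁ V.1
    let k : pullback (p ⁻¹ᵁ U.1).ι (p ⁻¹ᵁ V.1).ι ⟶ A :=
      IsOpenImmersion.lift A.ι (pullback.fst _ _ ≫ (p ⁻¹ᵁ U.1).ι) (by
        rintro _ ⟨z, rfl⟩
        rw [Scheme.Opens.range_ι]
        refine ⟨(pullback.fst (p ⁻¹ᵁ U.1).ι (p ⁻¹ᵁ V.1).ι z).2, ?_⟩
        rw [pullback.condition]
        exact (pullback.snd (p ⁻¹ᵁ U.1).ι (p ⁻¹ᵁ V.1).ι z).2)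
    have e1 : pullback.fst (p ⁻¹ᵁ U.1).ι (p ⁻¹ᵁ V.1).ι = k ≫ P.homOfLE inf_le_left := by
      rw [← cancel_mono (p ⁻¹ᵁ U.1).ι, Category.assoc, Scheme.homOfLE_ι, IsOpenImmersion.lift_fac]
    have e2 : pullback.snd (p ⁻¹ᵁ U.1).ι (p ⁻¹ᵁ V.1).ι = k ≫ P.homOfLE inf_le_right := by
      rw [← cancel_mono (p ⁻¹ᵁ V.1).ι, Category.assoc, Scheme.homOfLE_ι, IsOpenImmersion.lift_fac, pullback.condition]
    change pullback.fst (p ⁻¹ᵁ U.1).ι (p ⁻¹ᵁ V.1).ι ≫ φ U = pullback.snd (p ⁻¹ᵁ U.1).ι (p ⁻¹ᵁ V.1).ι ≫ φ V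
    rw [e1, e2, Category.assoc, Category.assoc, hagree U V A inf_le_left inf_le_right])
  have he : ∀ U : Y.affineOpens, (p ⁻¹ᵁ U.1).ι ≫ e = φ U := fun U => 𝒰.ι_glueMorphisms _ _ U
  refine ⟨⟨e, fun U hU => he ⟨U, hU⟩, fun e' he' => huniq e' e (fun U => he' U.1 U.2) he⟩, fun e' he' => ?_⟩
  have hover : e' ≫ p' = p := 𝒰.hom_ext _ _ fun U => by
    show (p ⁻¹ᵁ U.1).ι ≫ e' ≫ p' = (p ⁻¹ᵁ U.1).ι ≫ p
    rw [reassoc_of% (he' U.1 U.2), ← hP'.chart_over U.1 U.2, Iso.inv_hom_id_assoc, hP.chart_over U.1 U.2]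
  refine ⟨?_, hover⟩
  rw [← MorphismProperty.isomorphisms.iff, IsZariskiLocalAtTarget.iff_of_iSup_eq_top
    (P := MorphismProperty.isomorphisms Scheme.{u}) (fun U : Y.affineOpens => p' ⁻¹ᵁ U.1) (by
      rw [← Scheme.Hom.preimage_iSup, iSup_affineOpens_eq_top, Scheme.Hom.preimage_top])]
  intro U
  have heq : e' ⁻¹ᵁ (p' ⁻¹ᵁ U.1) = p ⁻¹ᵁ U.1 := by rw [← Scheme.Hom.comp_preimage, hover]
  have h4 : e' ∣_ (p' ⁻¹ᵁ U.1) = P.homOfLE heq.le ≫ (chart U.1 U.2).hom ≫ (chart' U.1 U.2).inv := by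
    rw [← cancel_mono (p' ⁻¹ᵁ U.1).ι, morphismRestrict_ι, Category.assoc, Category.assoc, ← he' U.1 U.2,
      Scheme.homOfLE_ι_assoc]
  rw [MorphismProperty.isomorphisms.iff, h4]
  have : IsIso (P.homOfLE heq.le) := (inferInstanceAs (IsIso (P.isoOfEq heq).hom))
  infer_instance

end MiscFlat6
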