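import Groth.Agent.GrTwistLib.Ample
import Groth.Agent.MiscFlat6.RelAmpleLocal
import Groth.Agent.MiscFlat6.RelProjEasy
import Groth.Prelude.Def_RelProj2

/-!
# The twisting sheaves of a relative Proj: invertibility and relative ampleness
-/

set_option autoImplicit false
universe u
open CategoryTheory CategoryTheory.Limits AlgebraicGeometry TopologicalSpace Opposite
open scoped HomogeneousIdeal

noncomputable section

namespace MiscFlat6

theorem isInvertible_of_restrict_openCover {X : Scheme.{u}} (L : X.Modules)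
    (h : ∀ x : X, ∃ (Z : Scheme.{u}) (j : Z ⟶ X) (_ : IsOpenImmersion j), x ∈ j.opensRange ∧
      PicF.IsInvertible (L.restrict j)) : PicF.IsInvertible L := by
  intro x
  obtain ⟨Z, j, hj, ⟨z, rfl⟩, hL⟩ := h x
  obtain ⟨A, hzA, ⟨e⟩⟩ := hL z
  let k := j.isoImage A
  have hk : k.inv ≫ A.ι ≫ j = (j ''ᵁ A).ι := by
    rw [Iso.inv_comp_eq]
    exact (j.isoImage_hom_ι A).symm
  obtain ⟨e₀⟩ := nonempty_restrict_structureModule (X := (A : Scheme.{u})) k.inv
  exact ⟨j ''ᵁ A, ⟨z, hzA, rfl⟩,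
    ⟨(Scheme.Modules.restrictFunctorCongr hk.symm).app L ≪≫
      (Scheme.Modules.restrictFunctorComp k.inv (A.ι ≫ j)).app L ≪≫
      (Scheme.Modules.restrictFunctor k.inv).mapIso
        ((Scheme.Modules.restrictFunctorComp A.ι j).app L ≪≫ e) ≪≫ e₀⟩⟩

variable {S P : Scheme.{u}} {𝒮 : RelProj.QCGrAlg S} {p : P ⟶ S}
  {chart : ∀ (U : S.Opens) (hU : IsAffineOpen U), (((p ⁻¹ᵁ U : P.Opens) : Scheme.{u}) ≅ Proj (𝒮.deg U hU))}
  {n : ℤ} {L : P.Modules}
  {lam : ∀ (U : S.Opens) (hU : IsAffineOpen U),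
    L ⟶ (Scheme.Modules.pushforward (RelProj.emb p chart U hU)).obj (GrTwist.twist (𝒮.deg U hU) n)}

theorem emb_opensRange (U : S.Opens) (hU : IsAffineOpen U) :
    (RelProj.emb p chart U hU).opensRange = p ⁻¹ᵁ U := by
  show Scheme.Hom.opensRange ((chart U hU).inv ≫ (p ⁻¹ᵁ U).ι) = _
  rw [Scheme.Hom.opensRange_comp_of_isIso, Scheme.Opens.opensRange_ι]

theorem exists_restrict_twistIso (hL : RelProj.IsRelTwist 𝒮 p chart n L lam) (U : S.Opens) (hU : IsAffineOpen U) :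
    ∃ φ : L.restrict (RelProj.emb p chart U hU) ≅ GrTwist.twist (𝒮.deg U hU) n,
      ∀ (W : (Proj (𝒮.deg U hU)).Opens) (x : Γ(L, RelProj.emb p chart U hU ''ᵁ W)),
        φ.hom.app W x = (GrTwist.twist (𝒮.deg U hU) n).presheaf.map
          (eqToHom ((RelProj.emb p chart U hU).preimage_image_eq W).symm).op
          ((lam U hU).app (RelProj.emb p chart U hU ''ᵁ W) x) := by
  let e := RelProj.emb p chart U hU
  let φ : L.restrict e ⟶ GrTwist.twist (𝒮.deg U hU) n :=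
    ((Scheme.Modules.restrictAdjunction e).homEquiv _ _).symm (lam U hU)
  have happ : ∀ (W : (Proj (𝒮.deg U hU)).Opens) (x : Γ(L, e ''ᵁ W)),
      φ.app W x = (GrTwist.twist (𝒮.deg U hU) n).presheaf.map
        (eqToHom (e.preimage_image_eq W).symm).op ((lam U hU).app (e ''ᵁ W) x) := fun W x => by
    simp only [φ, Adjunction.homEquiv_counit]
    rfl
  haveI : IsIso φ := QCohLib.isIso_of_bijective_affine φ fun W _ => by
    have hb1 := hL.bijective U hU (e ''ᵁ W) ((e.image_le_opensRange W).trans (emb_opensRange U hU).le)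
    have hb2 : Function.Bijective ((GrTwist.twist (𝒮.deg U hU) n).presheaf.map
        (eqToHom (e.preimage_image_eq W).symm).op) := ConcreteCategory.bijective_of_isIso _
    exact (funext (happ W)) ▸ hb2.comp hb1
  exact ⟨asIso φ, happ⟩

theorem relTwist_isInvertible (hL : RelProj.IsRelTwist 𝒮 p chart n L lam)
    (h : ∀ (U : S.Opens) (hU : IsAffineOpen U), PicF.IsInvertible (GrTwist.twist (𝒮.deg U hU) n)) :
    PicF.IsInvertible L := by
  refine isInvertible_of_restrict_openCover L fun x => ?_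
  obtain ⟨U, hU, hxU, -⟩ := exists_isAffineOpen_mem_and_subset (TopologicalSpace.Opens.mem_top (p x))
  obtain ⟨φ, -⟩ := exists_restrict_twistIso hL U hU
  refine ⟨_, RelProj.emb p chart U hU, inferInstance, (emb_opensRange U hU).ge hxU, fun z => ?_⟩
  obtain ⟨A, hzA, ⟨t⟩⟩ := h U hU z
  exact ⟨A, hzA, ⟨(Scheme.Modules.restrictFunctor A.ι).mapIso φ ≪≫ t⟩⟩

theorem relTwist_isAmple_restrict (hL : RelProj.IsRelTwist 𝒮 p chart n L lam) (hLi : PicF.IsInvertible L)
    (U : S.Opens) (hU : IsAffineOpen U) (hA : CohB1.IsAmple (GrTwist.twist (𝒮.deg U hU) n)) :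
    CohB1.IsAmple (L.restrict (p ⁻¹ᵁ U).ι) := by
  obtain ⟨φ, -⟩ := exists_restrict_twistIso hL U hU
  refine isAmple_restrict_congr hLi (RelProj.emb p chart U hU) _
    ((emb_opensRange U hU).trans (Scheme.Opens.opensRange_ι _).symm) ?_
  exact AmpleDevLib.isAmple_of_iso hA.1 (AmpleThLib.restrict_isInvertible hLi _) φ.symm hA

theorem relTwist_genDegOne_isInvertible (hgen : 𝒮.IsGenDegOne) (hL : RelProj.IsRelTwist 𝒮 p chart n L lam) :
    PicF.IsInvertible L := by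
  refine relTwist_isInvertible hL fun U hU => ?_
  have h : n * ((1 : ℕ) : ℤ) = n := by simp
  rw [← h]
  exact GrTwistLib.twist_isInvertible_deg _ (GrTwistLib.exists_basicOpen_of_genDegOne _ (hgen U hU)) n

theorem exists_deg_cover {A σ R : Type u} [CommRing A] [CommRing R] [SetLike σ A] [AddSubgroupClass σ A]
    (𝒜 : ℕ → σ) [GradedRing 𝒜] (ρ : R →+* A) (hρ : ∀ r, ρ r ∈ 𝒜 0) (h : ρ.FiniteType) :
    ∃ d₀ : ℕ, 0 < d₀ ∧ ∀ d, d₀ ∣ d → 0 < d → ∃ s : Finset A, (∀ f ∈ s, f ∈ 𝒜 d) ∧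
      ∀ x : Proj 𝒜, ∃ f ∈ s, x ∈ Proj.basicOpen 𝒜 f := by
  classical
  haveI : Algebra.FiniteType (𝒜 0) A := by
    let ρ' : R →+* 𝒜 0 :=
      { toFun := fun r => ⟨ρ r, hρ r⟩
        map_one' := Subtype.ext (map_one ρ)
        map_mul' := fun a b => Subtype.ext (map_mul ρ a b)
        map_zero' := Subtype.ext (map_zero ρ)
        map_add' := fun a b => Subtype.ext (map_add ρ a b) }
    exact RingHom.finiteType_algebraMap.mp
      (RingHom.FiniteType.of_comp_finiteType (f := ρ') (g := algebraMap (𝒜 0) A) h)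
  obtain ⟨T, hT, hT'⟩ := GradedAlgebra.exists_finset_adjoin_eq_top_and_homogeneous_ne_zero 𝒜
  choose e he hTe using hT'
  have hcov := Proj.iSup_basicOpen_eq_top' 𝒜 (ι := T) (↑) (fun i => ⟨_, hTe _ i.2⟩) (by simpa using hT)
  refine ⟨∏ i : T, e i.1 i.2, Finset.prod_pos fun i _ => Nat.pos_of_ne_zero (he i.1 i.2), fun d hd hd0 =>
    ⟨Finset.univ.image fun i : T => (i : A) ^ (d / e i.1 i.2), fun f hf => ?_, fun x => ?_⟩⟩
  · obtain ⟨i, -, rfl⟩ := Finset.mem_image.mp hf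
    have h1 : e i.1 i.2 ∣ d := (Finset.dvd_prod_of_mem _ (Finset.mem_univ i)).trans hd
    have := SetLike.pow_mem_graded (d / e i.1 i.2) (hTe i.1 i.2)
    rwa [smul_eq_mul, Nat.div_mul_cancel h1] at this
  · obtain ⟨i, hi⟩ := Opens.mem_iSup.mp (hcov.ge (TopologicalSpace.Opens.mem_top x))
    refine ⟨_, Finset.mem_image_of_mem _ (Finset.mem_univ i), ?_⟩
    have h1 : e i.1 i.2 ∣ d := (Finset.dvd_prod_of_mem _ (Finset.mem_univ i)).trans hd
    exact fun hmem => hi (x.isPrime.mem_of_pow_mem _ hmem)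

theorem exists_relTwist_relAmple [CompactSpace S]
    (hft : ∀ (U : S.Opens) (hU : IsAffineOpen U), (𝒮.str.app (op U)).hom.FiniteType)
    (hP : RelProj.IsRelProj 𝒮 p chart) :
    ∃ d : ℕ, 0 < d ∧ ∀ (L : P.Modules)
      (lam : ∀ (U : S.Opens) (hU : IsAffineOpen U),
        L ⟶ (Scheme.Modules.pushforward (RelProj.emb p chart U hU)).obj (GrTwist.twist (𝒮.deg U hU) (d : ℤ))),
      RelProj.IsRelTwist 𝒮 p chart (d : ℤ) L lam → PicF.IsInvertible L ∧ RelAmple.IsRelAmple p L := by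
  classical
  haveI : QuasiCompact p := (relProj_finiteType hP hft).2
  choose W hW hsW _h using fun s : S => exists_isAffineOpen_mem_and_subset (TopologicalSpace.Opens.mem_top s)
  obtain ⟨T, hT⟩ := isCompact_univ.elim_finite_subcover (fun s => (W s : Set S)) (fun s => (W s).2)
    fun s _ => Set.mem_iUnion.mpr ⟨s, hsW s⟩
  choose d₀ hd₀ hd using fun s : T =>
    exists_deg_cover (𝒮.deg (W s.1) (hW s.1)) _ (𝒮.str_mem _ _) (hft (W s.1) (hW s.1))
  refine ⟨∏ s, d₀ s, Finset.prod_pos fun s _ => hd₀ s, fun L lam hL => ?_⟩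
  choose G hG hGc using fun s : T => hd s _ (Finset.dvd_prod_of_mem _ (Finset.mem_univ s))
    (Finset.prod_pos fun s _ => hd₀ s)
  have hamp := fun s : T => GrTwistLib.twist_isAmple _ (Finset.prod_pos fun s _ => hd₀ s) (G s) (hG s) (hGc s)
  have hLi : PicF.IsInvertible L := by
    refine isInvertible_of_restrict_openCover L fun x => ?_
    obtain ⟨s, hs, hxs⟩ := Set.mem_iUnion₂.mp (hT (Set.mem_univ (p x)))
    obtain ⟨φ, -⟩ := exists_restrict_twistIso hL (W s) (hW s)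
    refine ⟨_, RelProj.emb p chart (W s) (hW s), inferInstance, (emb_opensRange _ _).ge hxs, fun z => ?_⟩
    obtain ⟨A, hzA, ⟨t⟩⟩ := (hamp ⟨s, hs⟩).1 z
    exact ⟨A, hzA, ⟨(Scheme.Modules.restrictFunctor A.ι).mapIso φ ≪≫ t⟩⟩
  refine ⟨hLi, (isRelAmple_iff_openCover p L (fun s : T => W s.1) (eq_top_iff.mpr fun z _ => ?_)).mpr fun s => ?_⟩
  · obtain ⟨s, hs, hzs⟩ := Set.mem_iUnion₂.mp (hT (Set.mem_univ z))
    exact Opens.mem_iSup.mpr ⟨⟨s, hs⟩, hzs⟩
  · haveI : IsAffine (W s.1 : Scheme.{u}) := hW s.1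
    exact (isRelAmple_iff_isAmple _ _).mpr (relTwist_isAmple_restrict hL hLi _ _ (hamp s))

end MiscFlat6
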