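import Groth.Agent.MiscFlat6.AmpleTensor
import Groth.Agent.MiscFlat6.AmpleFamilyRel
import Groth.Agent.MiscFlat6.RelAmpleLocal
import Groth.Agent.SerreVanLib.Main

/-!
# `L ⊗ f^* K^n` is ample for a composite
-/

set_option autoImplicit false
universe u
open CategoryTheory CategoryTheory.Limits AlgebraicGeometry TopologicalSpace Opposite
open AmpleLib AmpleThLib
open TwistLib (genSet)
open KFlatLib (pb puSec)

noncomputable section

namespace MiscFlat6

variable {X Y : Scheme.{u}}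

/-- tensor powers respect isomorphisms -/
theorem nonempty_powCongr {M N : X.Modules} (φ : M ≅ N) : ∀ k : ℕ,
    Nonempty (CohB1.tensorPow M k ≅ CohB1.tensorPow N k)
  | 0 => ⟨Iso.refl _⟩
  | k + 1 => ⟨PicGrp.tensorModIso (nonempty_powCongr φ k).some φ⟩

/-- the sections `s ⊗ t^N ⊗ t` have the locus of `s` -/
theorem exists_locus_twist_of_extend [CompactSpace X] [QuasiSeparatedSpace X] {M P : X.Modules}
    (hM : PicF.IsInvertible M) (hP : PicF.IsInvertible P) (t : Γ(P, ⊤)) {T : X.Opens} (hTt : T ≤ genSet hP t)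
    (σ : Γ(M, genSet hP t)) (hσ : ∀ (y : X) (hy : y ∈ genSet hP t), y ∈ T ↔ GenAt M σ hy) :
    ∃ N : ℕ, ∀ k, N ≤ k → ∃ w : Γ(CohB1.tensorMod M (CohB1.tensorPow P k), ⊤),
      genSet (tensorMod_isInvertible hM (tensorPow_isInvertible hP k)) w = T := by
  obtain ⟨N, hN⟩ := exists_extend_mixed hM hP t σ
  refine ⟨N + 1, fun k hk => ?_⟩
  obtain ⟨l, rfl⟩ : ∃ l, k = l + 1 := ⟨k - 1, by omega⟩
  obtain ⟨u, hu⟩ := hN l (by omega)
  have hMN := tensorMod_isInvertible hM (tensorPow_isInvertible hP l)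
  let φ : CohB1.tensorMod (CohB1.tensorMod M (CohB1.tensorPow P l)) P ≅
      CohB1.tensorMod M (CohB1.tensorPow P (l + 1)) := SerreVanLib.tensorAssoc _ _ _
  refine ⟨φ.hom.app ⊤ (shT u t), ?_⟩
  rw [genSet_iso (tensorMod_isInvertible hMN hP) _ φ (shT u t), mem_genSet_shT hMN hP u t]
  let V := genSet hP t
  have htN : GenOn _ (res (CohB1.tensorPow P l) (le_top : V ≤ ⊤) (pS t l)) := by
    rw [pS_res]; exact pS_genOn (TwistLib.genSet_genOn hP t) l
  ext y
  by_cases hy : y ∈ V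
  · have e0 : GenAt _ u (show y ∈ (⊤ : X.Opens) from trivial) ↔ GenAt M σ hy := by
      rw [← genAt_res (le_top : V ≤ ⊤) u hy, hu]
      obtain ⟨A, e, hyA, he⟩ := TwistLib.exists_genOn hM y
      have he' := he.res (inf_le_left : A ⊓ V ≤ A)
      have htN' := htN.res (inf_le_right : A ⊓ V ≤ V)
      have hyA' : y ∈ A ⊓ V := ⟨hyA, hy⟩
      obtain ⟨c, hc⟩ := (he' (A ⊓ V) le_rfl).2 (res _ inf_le_right σ)
      dsimp only at hc
      rw [res_refl] at hc
      have hsm : ∀ B : Γ(CohB1.tensorPow P l, A ⊓ V),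
          shT (c • res M inf_le_left e) B = c • shT (res M inf_le_left e) B := fun B => by
        have := shT_smul c 1 (res M (inf_le_left : A ⊓ V ≤ A) e) B
        rwa [one_smul, mul_one] at this
      rw [← genAt_res (inf_le_right : A ⊓ V ≤ V) (shT σ _) hyA',
        ← genAt_res (inf_le_right : A ⊓ V ≤ V) σ hyA', shT_res, ← hc, hsm,
        genAt_smul_iff c _ hyA' ((shT_genOn he' htN').genAt hyA'), genAt_smul_iff c _ hyA' (he'.genAt hyA')]
    exact ⟨fun h => (hσ y hy).mpr (e0.1 h.1), fun h => ⟨e0.2 ((hσ y hy).mp h), hy⟩⟩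
  · exact ⟨fun h => absurd h.2 hy, fun h => absurd (hTt h) hy⟩

theorem exists_isAmple_tensor_pullback [CompactSpace X] [QuasiSeparatedSpace X] (f : X ⟶ Y) {L : X.Modules}
    (hR : RelAmple.IsRelAmple f L) {K : Y.Modules} (hK : CohB1.IsAmple K) :
    ∃ n₀ : ℕ, ∀ n, n₀ ≤ n → CohB1.IsAmple (CohB1.tensorMod L (pb f (CohB1.tensorPow K n))) := by
  classical
  have hL := invertible_of_relAmple hR
  have hloc : ∀ x : X, ∃ (T : X.Opens) (m e N : ℕ), x ∈ T ∧ IsAffineOpen T ∧ 0 < m ∧ 0 < e ∧ ∀ k, N ≤ k →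
      ∃ w : Γ(CohB1.tensorMod (CohB1.tensorPow L (e * m)) (CohB1.tensorPow (pb f (CohB1.tensorPow K m)) k), ⊤),
        genSet (tensorMod_isInvertible (tensorPow_isInvertible hL (e * m))
          (tensorPow_isInvertible (AmpleDevLib.isInvertible_pb f (tensorPow_isInvertible hK.1 m)) k)) w = T := by
    intro x
    obtain ⟨m, V, hm, ⟨σY, hσY⟩, hxV, hV⟩ := ((isAmple_iff (hL := hK.1)).mp hK).2 (f x)
    have hP := AmpleDevLib.isInvertible_pb f (tensorPow_isInvertible hK.1 m)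
    let t : Γ(pb f (CohB1.tensorPow K m), ⊤) := puSec f σY
    have ht : genSet hP t = f ⁻¹ᵁ V :=
      (AmpleDevLib.genSet_puSec f (tensorPow_isInvertible hK.1 m) σY).trans (congrArg (f ⁻¹ᵁ ·) hσY)
    let U : X.Opens := f ⁻¹ᵁ V
    have hLU := restrict_isInvertible hL U.ι
    obtain ⟨e, W, he, hW', hxW, hW⟩ := ((isAmple_iff (hL := hLU)).mp (hR.2 ⟨V, hV⟩)).2 ⟨x, hxV⟩
    obtain ⟨σ, hσ⟩ := hW'.mul_right hm
    have hM := tensorPow_isInvertible hL (e * m)
    obtain ⟨φ, -⟩ := exists_restrIso hL U.ι (e * m)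
    let σ' : Γ((CohB1.tensorPow L (e * m)).restrict U.ι, ⊤) := φ.hom.app ⊤ σ
    have hσ' : genSet (restrict_isInvertible hM U.ι) σ' = W := (genSet_iso _ _ φ σ).trans hσ
    have htop : U.ι ''ᵁ ⊤ = genSet hP t := (U.ι_image_top).trans ht.symm
    let σX : Γ(CohB1.tensorPow L (e * m), genSet hP t) :=
      res (CohB1.tensorPow L (e * m)) htop.ge (show Γ(CohB1.tensorPow L (e * m), U.ι ''ᵁ ⊤) from σ')
    obtain ⟨N, hN⟩ := exists_locus_twist_of_extend hM hP t (T := U.ι ''ᵁ W)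
      (fun y hy => by
        obtain ⟨z, -, rfl⟩ := hy
        exact ht.ge z.2) σX (fun y hy => by
        have hyU : y ∈ U := ht.le hy
        have e1 : GenAt (CohB1.tensorPow L (e * m)) σX hy ↔
            (⟨y, hyU⟩ : U) ∈ genSet (restrict_isInvertible hM U.ι) σ' :=
          (genAt_res htop.ge _ hy).trans (genAt_restrict_iff hM U.ι σ' ⟨y, hyU⟩).symm
        rw [e1, hσ']
        constructor
        · rintro ⟨z, hz, hzy⟩
          have : z = ⟨y, hyU⟩ := Subtype.ext hzy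
          exact this ▸ hz
        · intro h; exact ⟨⟨y, hyU⟩, h, rfl⟩)
    exact ⟨U.ι ''ᵁ W, m, e, N, ⟨⟨x, hxV⟩, hxW, rfl⟩, hW.image_of_isOpenImmersion U.ι, hm, he, hN⟩
  choose T m e N hxT hTa hm he hN using hloc
  obtain ⟨S, hS⟩ := isCompact_univ.elim_finite_subcover (fun x => (T x : Set X)) (fun x => (T x).2)
    fun x _ => Set.mem_iUnion.mpr ⟨x, hxT x⟩
  refine ⟨S.sum N, fun n hn => ?_⟩
  have hKn := AmpleDevLib.isInvertible_pb f (tensorPow_isInvertible hK.1 n)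
  refine (isAmple_iff (hL := tensorMod_isInvertible hL hKn)).mpr ⟨inferInstance, fun y => ?_⟩
  obtain ⟨x, hx, hyx⟩ := Set.mem_iUnion₂.mp (hS (Set.mem_univ y))
  refine ⟨e x * m x, T x, Nat.mul_pos (he x) (hm x), ?_, hyx, hTa x⟩
  obtain ⟨w, hw⟩ := hN x (e x * n) (le_trans (le_trans (Finset.single_le_sum (fun i _ => Nat.zero_le (N i)) hx) hn)
    (Nat.le_mul_of_pos_left n (he x)))
  have hpK := AmpleDevLib.isInvertible_pb f hK.1
  obtain ⟨a₁, -⟩ := AmpleDevLib.exists_pullPowIso f hK.1 (m x)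
  obtain ⟨a₂, -⟩ := AmpleDevLib.exists_pullPowIso f hK.1 n
  obtain ⟨b₁⟩ := nonempty_powCongr a₁ (e x * n)
  obtain ⟨b₂⟩ := nonempty_powCongr a₂ (e x * m x)
  obtain ⟨c₁, -⟩ := exists_powIso hpK (m x) (e x * n)
  obtain ⟨c₂, -⟩ := exists_powIso hpK n (e x * m x)
  obtain ⟨d⟩ := exists_tensorPowIso hL hKn (e x * m x)
  let ψ : CohB1.tensorPow (pb f (CohB1.tensorPow K (m x))) (e x * n) ≅
      CohB1.tensorPow (pb f (CohB1.tensorPow K n)) (e x * m x) :=
    b₁ ≪≫ c₁ ≪≫ eqToIso (congrArg (CohB1.tensorPow (pb f K)) (by ring)) ≪≫ c₂.symm ≪≫ b₂.symm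
  let Φ := SerreVanLib.tensorCongr (CohB1.tensorPow L (e x * m x)) ψ ≪≫ d
  exact ⟨Φ.hom.app ⊤ w, (genSet_iso _ _ Φ w).trans hw⟩

theorem relAmple_comp_tensor_pullback_powers {Z : Scheme.{u}} [CompactSpace Z] (f : X ⟶ Y) (g : Y ⟶ Z)
    [QuasiCompact f] [QuasiCompact g] (L : X.Modules) (K : Y.Modules) (hL : RelAmple.IsRelAmple f L)
    (hK : RelAmple.IsRelAmple g K) :
    ∃ n₀ : ℕ, 0 < n₀ ∧ ∀ n, n₀ ≤ n → RelAmple.IsRelAmple (f ≫ g)
      (CohB1.tensorMod L ((Scheme.Modules.pullback f).obj (CohB1.tensorPow K n))) := by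
  classical
  have hLi := invertible_of_relAmple hL
  have hKi := invertible_of_relAmple hK
  choose W hW hzW _hle using fun z : Z =>
    exists_isAffineOpen_mem_and_subset (U := (⊤ : Z.Opens)) (x := z) trivial
  obtain ⟨S, hS⟩ := isCompact_univ.elim_finite_subcover (fun z => (W z : Set Z)) (fun z => (W z).2)
    fun z _ => Set.mem_iUnion.mpr ⟨z, hzW z⟩
  have hWtop : ⨆ i : S, W i.1 = ⊤ := eq_top_iff.mpr fun z _ => by
    obtain ⟨i, hi, hzi⟩ := Set.mem_iUnion₂.mp (hS (Set.mem_univ z))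
    exact Opens.mem_iSup.mpr ⟨⟨i, hi⟩, hzi⟩
  haveI : QuasiSeparated f := by
    haveI := isSeparated_of_isRelAmple f hL
    infer_instance
  have hloc : ∀ z : Z, ∃ n₀ : ℕ, ∀ n, n₀ ≤ n → CohB1.IsAmple
      ((CohB1.tensorMod L ((Scheme.Modules.pullback f).obj (CohB1.tensorPow K n))).restrict
        ((f ≫ g) ⁻¹ᵁ W z).ι) := by
    intro z
    let T : Y.Opens := g ⁻¹ᵁ W z
    let A : X.Opens := f ⁻¹ᵁ T
    have hR' : RelAmple.IsRelAmple (f ∣_ T) (L.restrict A.ι) :=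
      (isRelAmple_iff_openCover f L (fun b : Bool => if b then T else ⊤)
        (eq_top_iff.mpr (le_iSup (fun b : Bool => if b then T else (⊤ : Y.Opens)) false))).mp hL true
    have hKT : CohB1.IsAmple (K.restrict T.ι) := hK.2 ⟨W z, hW z⟩
    haveI : CompactSpace (T : Scheme.{u}) := hKT.2.1
    haveI : QuasiSeparatedSpace (T : Scheme.{u}) := AmpleThLib.quasiSeparatedSpace_of_isAmple hKT
    haveI : CompactSpace (A : Scheme.{u}) := QuasiCompact.compactSpace_of_compactSpace (f ∣_ T)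
    haveI : QuasiSeparated (f ∣_ T) := IsZariskiLocalAtTarget.restrict ‹QuasiSeparated f› T
    haveI : QuasiSeparatedSpace (A : Scheme.{u}) := quasiSeparatedSpace_of_quasiSeparated (f ∣_ T)
    obtain ⟨n₀, hn₀⟩ := exists_isAmple_tensor_pullback (f ∣_ T) hR' hKT
    refine ⟨n₀, fun n hn => ?_⟩
    have hpn := AmpleDevLib.isInvertible_pb f (tensorPow_isInvertible hKi n)
    refine isAmple_restrict_tensor A.ι hLi hpn ?_
    obtain ⟨φ, -⟩ := exists_restrIso hKi T.ι n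
    let i : pb (f ∣_ T) (CohB1.tensorPow (K.restrict T.ι) n) ≅ (pb f (CohB1.tensorPow K n)).restrict A.ι :=
      (Scheme.Modules.pullback _).mapIso (φ ≪≫ (Scheme.Modules.restrictFunctorIsoPullback T.ι).app _) ≪≫
        (Scheme.Modules.pullbackComp _ T.ι).app _ ≪≫
        (Scheme.Modules.pullbackCongr (morphismRestrict_ι f T)).app _ ≪≫
        ((Scheme.Modules.pullbackComp A.ι f).app _).symm ≪≫
        ((Scheme.Modules.restrictFunctorIsoPullback A.ι).app _).symm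
    exact AmpleDevLib.isAmple_of_iso (hn₀ n hn).1
      (tensorMod_isInvertible (restrict_isInvertible hLi A.ι) (restrict_isInvertible hpn A.ι))
      (SerreVanLib.tensorCongr _ i) (hn₀ n hn)
  choose N hN using hloc
  refine ⟨S.sum N + 1, Nat.succ_pos _, fun n hn => ?_⟩
  rw [isRelAmple_iff_openCover (f ≫ g) _ (fun i : S => W i.1) hWtop]
  intro i
  haveI : IsAffine (W i.1 : Scheme.{u}) := hW i.1
  refine (isRelAmple_iff_isAmple _ _).mpr (hN i.1 n ?_)
  exact le_trans (Finset.single_le_sum (fun j _ => Nat.zero_le (N j)) i.2) (le_trans (Nat.le_succ _) hn)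

end MiscFlat6
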