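import Groth.Agent.GrModLib6.RelExist
import Groth.Agent.RelProjLib.ProjProper

/-!
# `O(1)` of a relative Proj generated in degree one is relatively ample
-/

set_option autoImplicit false
universe u
open CategoryTheory CategoryTheory.Limits AlgebraicGeometry TopologicalSpace Opposite
open scoped HomogeneousIdeal

noncomputable section

namespace MiscFlat6

variable {S P : Scheme.{u}} {𝒮 : RelProj.QCGrAlg S} {p : P ⟶ S}
  {chart : ∀ (U : S.Opens) (hU : IsAffineOpen U), (((p ⁻¹ᵁ U : P.Opens) : Scheme.{u}) ≅ Proj (𝒮.deg U hU))}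

theorem isProper_relProj (hP : RelProj.IsRelProj 𝒮 p chart) (hgen : 𝒮.IsGenDegOne) (hft : 𝒮.IsFTDeg 1) :
    IsProper p :=
  RelProjLib.isProper_of_isProjective ⟨𝒮, P, p, chart, Iso.refl P, hgen, hft, hP, Category.id_comp p⟩

theorem exists_finset_cover (hgen : 𝒮.IsGenDegOne) (hft : 𝒮.IsFTDeg 1) (U : S.Opens) (hU : IsAffineOpen U) :
    ∃ T : Finset (𝒮.presheaf.obj (op U)), (∀ f ∈ T, f ∈ 𝒮.deg U hU 1) ∧
      ∀ x : Proj (𝒮.deg U hU), ∃ f ∈ T, x ∈ Proj.basicOpen (𝒮.deg U hU) f := by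
  obtain ⟨T, hT, hspan⟩ := hft U hU
  refine ⟨T, fun f hf => hT hf, fun x => ?_⟩
  obtain ⟨f, hf, hx⟩ := GrTwistLib.exists_basicOpen_of_genDegOne _ (hgen U hU) x
  by_contra! H
  obtain ⟨c, hc⟩ := hspan f hf
  refine hx ?_
  rw [hc]
  exact Ideal.sum_mem _ fun t ht => Ideal.mul_mem_left _ _ (not_not.mp (H t ht))

theorem relTwist_one_isRelAmple (hP : RelProj.IsRelProj 𝒮 p chart) (hgen : 𝒮.IsGenDegOne) (hft : 𝒮.IsFTDeg 1)
    {L : P.Modules} {lam : ∀ (U : S.Opens) (hU : IsAffineOpen U),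
      L ⟶ (Scheme.Modules.pushforward (RelProj.emb p chart U hU)).obj (GrTwist.twist (𝒮.deg U hU) 1)}
    (hL : RelProj.IsRelTwist 𝒮 p chart 1 L lam) : RelAmple.IsRelAmple p L := by
  haveI := isProper_relProj hP hgen hft
  have hLi := relTwist_genDegOne_isInvertible hgen hL
  refine (isRelAmple_iff_openCover p L (fun U : S.affineOpens => U.1) (iSup_affineOpens_eq_top S)).mpr fun U => ?_
  haveI : IsAffine (U.1 : Scheme.{u}) := U.2
  obtain ⟨T, hT, hcov⟩ := exists_finset_cover hgen hft U.1 U.2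
  refine (isRelAmple_iff_isAmple _ _).mpr (relTwist_isAmple_restrict hL hLi _ U.2 ?_)
  exact GrTwistLib.twist_isAmple (𝒮.deg U.1 U.2) Nat.one_pos T hT hcov

theorem isQuasiProjective_of_isProjective {X Y : Scheme.{u}} {f : X ⟶ Y} (hf : RelProj.IsProjective f) :
    RelProj.IsQuasiProjective f ∧ IsProper f := by
  have hfp := RelProjLib.isProper_of_isProjective hf
  obtain ⟨𝒮, P, p, chart, e, hgen, hft, hP, rfl⟩ := hf
  haveI := isProper_relProj hP hgen hft
  obtain ⟨L, lam, hL⟩ := GrModLib6.exists_isRelTwist hP 1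
  refine ⟨⟨inferInstance, inferInstance, (Scheme.Modules.pullback e.hom).obj L, ?_⟩, hfp⟩
  exact isRelAmple_pb e.hom p (RichLib.QA.of_isEmbedding e.hom e.hom.homeomorph.isEmbedding)
    (relTwist_one_isRelAmple hP hgen hft hL)

end MiscFlat6

end
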