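import Groth.Agent.PerfHomLib.Retract
import Groth.Agent.RichLib.IsFPAffine
import Groth.Agent.FlatLib.QStalk
import Groth.Agent.S1688
import Groth.Agent.S7392

/-!
# `tilde M`: finite type, finite presentation, finite locally free
-/

set_option autoImplicit false
universe u

open CategoryTheory CategoryTheory.Limits AlgebraicGeometry TopologicalSpace Opposite

namespace MiscFlat6

theorem isFlat_of_flat_sections {X : Scheme.{u}} (F : X.Modules) [Coh.IsQCoh F] {U : X.Opens}
    (hU : IsAffineOpen U) [Module.Flat Γ(X, U) Γ(F, U)] {x : X} (hx : x ∈ U) :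
    FlatMod.IsFlatAt F x := by
  letI : Algebra Γ(X, U) (X.presheaf.stalk x) := (X.presheaf.germ U x hx).hom.toAlgebra
  letI := Module.compHom (F.presheaf.stalk x) (X.presheaf.germ U x hx).hom
  haveI : IsScalarTower Γ(X, U) (X.presheaf.stalk x) (F.presheaf.stalk x) :=
    IsScalarTower.of_algebraMap_smul fun _ _ => rfl
  haveI : IsLocalization.AtPrime (X.presheaf.stalk x) (hU.primeIdealOf ⟨x, hx⟩).asIdeal :=
    hU.isLocalization_stalk ⟨x, hx⟩
  haveI := FlatLib.isLocalizedModule_germLin F hU hx
  exact Module.Flat.isBaseChange (R := Γ(X, U)) (M := Γ(F, U)) (S := X.presheaf.stalk x) _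
    (IsLocalizedModule.isBaseChange (hU.primeIdealOf ⟨x, hx⟩).asIdeal.primeCompl _ (FlatLib.germLin F hx))

variable {R : CommRingCat.{u}}

theorem finitePresentation_sections {F : (Spec R).Modules} [Coh.IsQCoh F] (hF : CohB1.IsFP F) :
    Module.FinitePresentation R (moduleSpecΓFunctor.obj F) := by
  have hloc : IsLocalizing (modulesSpecToSheaf.obj F) :=
    (isIso_fromTildeΓ_iff_isLocalizing F).1 (Scheme.Modules.isIso_fromTildeΓ_of_isQuasicoherent F)
  let s : Set R := {g | ∃ (O : (Spec R).Opens) (P : (F.restrict O.ι).Presentation),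
    P.IsFinite ∧ PrimeSpectrum.basicOpen g ≤ O}
  have hs : Ideal.span s = ⊤ := by
    rw [← PrimeSpectrum.iSup_basicOpen_eq_top_iff']
    refine top_le_iff.1 fun x _ => ?_
    obtain ⟨O, P, hxO, hP⟩ := FlatLib.exists_presentation_nhd hF x
    obtain ⟨_, ⟨g, rfl⟩, hxg, hgO⟩ :=
      PrimeSpectrum.isTopologicalBasis_basic_opens.exists_subset_of_mem_open hxO O.isOpen
    simp only [Opens.mem_iSup]
    exact ⟨g, ⟨O, P, hP, hgO⟩, hxg⟩
  let M : Type u := Γ(F, ⊤)
  letI : AddCommGroup M := inferInstanceAs (AddCommGroup Γ(F, ⊤))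
  letI : Module R M := inferInstanceAs (Module R Γ(F, ⊤))
  let Mp : s → Type u := fun g => Γ(F, PrimeSpectrum.basicOpen g.1)
  let ϕ : ∀ g : s, M →ₗ[R] Mp g := fun g =>
    { toFun := fun x => F.presheaf.map (homOfLE (le_top : PrimeSpectrum.basicOpen g.1 ≤ (⊤ : (Spec R).Opens))).op x
      map_add' := fun x y => map_add _ x y
      map_smul' := fun r x => Scheme.Modules.map_smul_Spec _ r x }
  haveI : ∀ g : s, IsLocalizedModule (Submonoid.powers g.1) (ϕ g) := fun g => by exact hloc g.1
  haveI : Module.FinitePresentation R M :=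
    Module.FinitePresentation.of_localizationSpan' s hs
      (Rₚ := fun g => Γ(Spec R, PrimeSpectrum.basicOpen g.1)) ϕ fun g => by
        obtain ⟨O, P, hP, hgO⟩ := g.2
        haveI := hP
        have hA : IsAffineOpen (X := Spec R) (PrimeSpectrum.basicOpen g.1) := by
          rw [← basicOpen_eq_of_affine]
          exact (isAffineOpen_top (Spec R)).basicOpen _
        exact RichLib.IsFPAffine.finitePresentation_of_le P hA hgO
  exact inferInstanceAs (Module.FinitePresentation R M)

section
variable (M : ModuleCat.{u} R)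

theorem isQCoh_tilde : Coh.IsQCoh (tilde M) := inferInstanceAs ((tilde M).IsQuasicoherent)

/-- `M → Γ(tilde M, ⊤)` as an additive equivalence -/
noncomputable def topEquiv : M ≃+ Γ(tilde M, (⊤ : (Spec R).Opens)) :=
  AddEquiv.ofBijective
    (AddMonoidHom.mk' (fun m : M => (show Γ(tilde M, (⊤ : (Spec R).Opens)) from tilde.toOpen M ⊤ m))
      fun a b => map_add (tilde.toOpen M ⊤).hom a b)
    (ConcreteCategory.bijective_of_isIso (tilde.toOpen M ⊤))

theorem topEquiv_smul (r : R) (m : M) :
    topEquiv M (r • m) = (Scheme.ΓSpecIso R).inv r • topEquiv M m := by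
  show (show Γ(tilde M, (⊤ : (Spec R).Opens)) from tilde.toOpen M ⊤ (r • m)) = _
  refine ((tilde.toOpen M ⊤).hom.map_smul r m).trans ?_
  refine (Scheme.Modules.smul_Spec_def r _).trans ?_
  congr 1

theorem ΓSpecIso_inv_surjective : Function.Surjective (Scheme.ΓSpecIso R).inv.hom :=
  (ConcreteCategory.bijective_of_isIso (Scheme.ΓSpecIso R).inv).2

theorem isFT_iff : CohB1.IsFT (tilde M) ↔ Module.Finite R M := by
  classical
  haveI := isQCoh_tilde M
  constructor
  · intro h
    obtain ⟨t, ht⟩ := (QCohLib.finite_of_isFT h (isAffineOpen_top (Spec R))).fg_top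
    refine ⟨⟨t.image (topEquiv M).symm, eq_top_iff.mpr fun m _ => ?_⟩⟩
    have hm : topEquiv M m ∈ Submodule.span Γ(Spec R, ⊤) (t : Set Γ(tilde M, (⊤ : (Spec R).Opens))) :=
      ht.ge trivial
    suffices ∀ z ∈ Submodule.span Γ(Spec R, ⊤) (t : Set Γ(tilde M, (⊤ : (Spec R).Opens))),
        (topEquiv M).symm z ∈ Submodule.span R (↑(t.image (topEquiv M).symm) : Set M) by
      simpa using this _ hm
    intro z hz
    induction hz using Submodule.span_induction with
    | mem z hz => exact Submodule.subset_span (Finset.mem_coe.mpr (Finset.mem_image_of_mem _ hz))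
    | zero => rw [map_zero]; exact zero_mem _
    | add a b _ _ ha hb => rw [map_add]; exact add_mem ha hb
    | smul c a _ ha =>
      obtain ⟨r, rfl⟩ := ΓSpecIso_inv_surjective c
      have : (topEquiv M).symm ((Scheme.ΓSpecIso R).inv r • a) = r • (topEquiv M).symm a := by
        apply (topEquiv M).injective
        rw [AddEquiv.apply_symm_apply, topEquiv_smul, AddEquiv.apply_symm_apply]
      exact this ▸ Submodule.smul_mem _ r ha
  · intro h
    obtain ⟨n, s, hs⟩ := Module.Finite.exists_fin (R := R) (M := M)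
    let s' : ULift.{u} (Fin n) → Γ(tilde M, (⊤ : (Spec R).Opens)) := fun i => topEquiv M (s i.down)
    refine QCohLib.isFT_of_genTop (s := s') (QCohLib.genOn_of_span (isAffineOpen_top _) s' ?_).genTop
    refine eq_top_iff.mpr fun z _ => ?_
    obtain ⟨m, rfl⟩ := (topEquiv M).surjective z
    obtain ⟨c, rfl⟩ := (Submodule.mem_span_range_iff_exists_fun R).mp (hs.ge (Submodule.mem_top (x := m)))
    rw [map_sum]
    exact Submodule.sum_mem _ fun i _ => by
      rw [topEquiv_smul]
      exact Submodule.smul_mem _ _ (Submodule.subset_span ⟨⟨i⟩, rfl⟩)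

theorem finitePresentation_top [Module.FinitePresentation R M] :
    Module.FinitePresentation Γ(Spec R, ⊤) Γ(tilde M, (⊤ : (Spec R).Opens)) :=
  FlatLib.finitePresentation_semilinear (Scheme.ΓSpecIso R).inv.hom ΓSpecIso_inv_surjective
    (topEquiv M) (topEquiv_smul M)

theorem isFP_iff : CohB1.IsFP (tilde M) ↔ Module.FinitePresentation R M := by
  haveI := isQCoh_tilde M
  constructor
  · intro h
    haveI := finitePresentation_sections h
    let e : moduleSpecΓFunctor.obj (tilde M) ≃ₗ[R] M := (tilde.isoTop M).toLinearEquiv.symm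
    exact Module.FinitePresentation.of_equiv e
  · intro h
    exact RichLib.IsFPAffine.isFP_of_finitePresentation _ fun p =>
      ⟨⊤, isAffineOpen_top _, trivial, finitePresentation_top M⟩

theorem isFinLocFree_iff :
    FlatMod.IsFinLocFree (tilde M) ↔ Module.Finite R M ∧ Module.Projective R M := by
  haveI := isQCoh_tilde M
  constructor
  · intro h
    obtain ⟨h1, h2⟩ := PerfHomLib.projective_finite_sections h
    let e : moduleSpecΓFunctor.obj (tilde M) ≃ₗ[R] M := (tilde.isoTop M).toLinearEquiv.symm
    exact ⟨Module.Finite.equiv e, Module.Projective.of_equiv e⟩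
  · rintro ⟨h1, h2⟩
    haveI : Module.FinitePresentation R M := Module.finitePresentation_of_projective R M
    haveI : Module.Projective Γ(Spec R, ⊤) Γ(tilde M, (⊤ : (Spec R).Opens)) :=
      (Groth.Agent.S7392.projective_top R M).mp h2
    exact Groth.Agent.S1688.isFinLocFree_of_isFP_of_flat ((isFP_iff M).mpr inferInstance)
      fun x => isFlat_of_flat_sections (tilde M) (isAffineOpen_top (Spec R)) (x := x) trivial

end

end MiscFlat6
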