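import Groth.Agent.MiscFlat6.RelProjEasy

/-!
# Morphisms out of a scheme over a base, glued from the affine opens of the base
-/

set_option autoImplicit false
universe u
open CategoryTheory CategoryTheory.Limits AlgebraicGeometry TopologicalSpace Opposite
open scoped HomogeneousIdeal

noncomputable section

namespace MiscFlat6

variable {Y P Z : Scheme.{u}} (p : P ⟶ Y)

theorem existsUnique_glue_preimage (φ : ∀ U : Y.affineOpens, ((p ⁻¹ᵁ U.1 : P.Opens) : Scheme.{u}) ⟶ Z)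
    (hres : ∀ (U : Y.Opens) (hU : IsAffineOpen U) (r : Γ(Y, U)),
      P.homOfLE (p.preimage_mono (Y.basicOpen_le r)) ≫ φ ⟨U, hU⟩ = φ ⟨_, hU.basicOpen r⟩) :
    ∃! e : P ⟶ Z, ∀ U : Y.affineOpens, (p ⁻¹ᵁ U.1).ι ≫ e = φ U := by
  let 𝒰 := P.openCoverOfIsOpenCover (fun U : Y.affineOpens => p ⁻¹ᵁ U.1) (by
    rw [TopologicalSpace.IsOpenCover, ← Scheme.Hom.preimage_iSup, iSup_affineOpens_eq_top, Scheme.Hom.preimage_top])
  have hagree : ∀ (U V : Y.affineOpens) (A : P.Opens) (hA : A ≤ p ⁻¹ᵁ U.1) (hA' : A ≤ p ⁻¹ᵁ V.1),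
      P.homOfLE hA ≫ φ U = P.homOfLE hA' ≫ φ V := by
    intro U V A hA hA'
    have hcov : ∀ a : A, ∃ (r : Γ(Y, U.1)) (r' : Γ(Y, V.1)),
        Y.basicOpen r = Y.basicOpen r' ∧ p a.1 ∈ Y.basicOpen r := by
      intro a
      obtain ⟨r, r', h, hr⟩ := exists_basicOpen_le_affine_inter U.2 V.2 (p a.1) ⟨hA a.2, hA' a.2⟩
      exact ⟨r, r', h, hr⟩
    choose r r' hr hmem using hcov
    refine (A.toScheme.openCoverOfIsOpenCover (fun a : A => A.ι ⁻¹ᵁ (p ⁻¹ᵁ Y.basicOpen (r a))) ?_).hom_ext _ _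
      fun a => ?_
    · exact eq_top_iff.mpr fun b _ => Opens.mem_iSup.mpr ⟨b, hmem b⟩
    · let B := p ⁻¹ᵁ Y.basicOpen (r a)
      have hB : A ⊓ B ≤ p ⁻¹ᵁ Y.basicOpen (r a) := inf_le_right
      have hB' : A ⊓ B ≤ p ⁻¹ᵁ Y.basicOpen (r' a) := hB.trans (p.preimage_mono (hr a).le)
      let j : ((A.ι ⁻¹ᵁ B : A.toScheme.Opens) : Scheme.{u}) ⟶ (A ⊓ B : P.Opens) :=
        IsOpenImmersion.lift (A ⊓ B).ι ((A.ι ⁻¹ᵁ B).ι ≫ A.ι) (by
          rintro _ ⟨z, rfl⟩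
          rw [Scheme.Opens.range_ι]
          exact ⟨z.1.2, z.2⟩)
      have hj : ∀ {W : P.Opens} (h : A ≤ W), (A.ι ⁻¹ᵁ B).ι ≫ P.homOfLE h = j ≫ P.homOfLE (inf_le_left.trans h) := by
        intro W h
        rw [← cancel_mono W.ι, Category.assoc, Category.assoc, Scheme.homOfLE_ι, Scheme.homOfLE_ι]
        exact (IsOpenImmersion.lift_fac _ _ _).symm
      show (A.ι ⁻¹ᵁ B).ι ≫ P.homOfLE hA ≫ φ U = (A.ι ⁻¹ᵁ B).ι ≫ P.homOfLE hA' ≫ φ V
      rw [reassoc_of% (hj hA), reassoc_of% (hj hA')]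
      congr 1
      rw [← Scheme.homOfLE_homOfLE P hB (p.preimage_mono (Y.basicOpen_le (r a))), Category.assoc,
        hres U.1 U.2 (r a), ← Scheme.homOfLE_homOfLE P hB' (p.preimage_mono (Y.basicOpen_le (r' a))),
        Category.assoc, hres V.1 V.2 (r' a)]
      have key : ∀ (W W' : Y.affineOpens) (e : W = W') (h : A ⊓ B ≤ p ⁻¹ᵁ W.1) (h' : A ⊓ B ≤ p ⁻¹ᵁ W'.1),
          P.homOfLE h ≫ φ W = P.homOfLE h' ≫ φ W' := by
        rintro W _ rfl h h'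
        rfl
      exact key ⟨_, U.2.basicOpen (r a)⟩ ⟨_, V.2.basicOpen (r' a)⟩ (Subtype.ext (hr a)) hB hB'
  let e := 𝒰.glueMorphisms φ (by
    intro U V
    let A : P.Opens := p ⁻¹ᵁ U.1 ⊓ p ⁻¹ᵁ V.1
    let k : pullback (p ⁻¹ᵁ U.1).ι (p ⁻¹ᵁ V.1).ι ⟶ A :=
      IsOpenImmersion.lift A.ι (pullback.fst _ _ ≫ (p ⁻¹ᵁ U.1).ι) (by
        rintro _ ⟨z, rfl⟩
        rw [Scheme.Opens.range_ι]
        refine ⟨(pullback.fst (p ⁻¹ᵁ U.1).ι (p ⁻¹ᵁ V.1).ι z).2, ?_⟩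
        rw [pullback.condition]
        exact (pullback.snd (p ⁻¹ᵁ U.1).ι (p ⁻¹ᵁ V.1).ι z).2)
    have e1 : pullback.fst (p ⁻¹ᵁ U.1).ι (p ⁻¹ᵁ V.1).ι = k ≫ P.homOfLE inf_le_left := by
      rw [← cancel_mono (p ⁻¹ᵁ U.1).ι, Category.assoc, Scheme.homOfLE_ι, IsOpenImmersion.lift_fac]
    have e2 : pullback.snd (p ⁻¹ᵁ U.1).ι (p ⁻¹ᵁ V.1).ι = k ≫ P.homOfLE inf_le_right := by
      rw [← cancel_mono (p ⁻¹ᵁ V.1).ι, Category.assoc, Scheme.homOfLE_ι, IsOpenImmersion.lift_fac, pullback.condition]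
    change pullback.fst (p ⁻¹ᵁ U.1).ι (p ⁻¹ᵁ V.1).ι ≫ φ U = pullback.snd (p ⁻¹ᵁ U.1).ι (p ⁻¹ᵁ V.1).ι ≫ φ V
    rw [e1, e2, Category.assoc, Category.assoc, hagree U V A inf_le_left inf_le_right])
  have he : ∀ U : Y.affineOpens, (p ⁻¹ᵁ U.1).ι ≫ e = φ U := fun U => 𝒰.ι_glueMorphisms _ _ U
  exact ⟨e, he, fun e' he' => 𝒰.hom_ext _ _ fun U => (he' U).trans (he U).symm⟩

/-! ## The morphism induced by a graded homomorphism -/

set_option backward.isDefEq.respectTransparency false in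
theorem map_toSpecZero {A B σ τ R : Type u} [CommRing A] [SetLike σ A] [AddSubgroupClass σ A]
    [CommRing B] [SetLike τ B] [AddSubgroupClass τ B] [CommRing R] {𝒜 : ℕ → σ} {ℬ : ℕ → τ} [GradedRing 𝒜]
    [GradedRing ℬ] (φ : 𝒜 →+*ᵍ ℬ) (hφ : HomogeneousIdeal.irrelevant ℬ ≤ (HomogeneousIdeal.irrelevant 𝒜).map φ)
    (ρ : CommRingCat.of R ⟶ CommRingCat.of (𝒜 0)) (ρ' : CommRingCat.of R ⟶ CommRingCat.of (ℬ 0))
    (h : ∀ r, φ (ρ.hom r : A) = (ρ'.hom r : B)) :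
    Proj.map φ hφ ≫ Proj.toSpecZero 𝒜 ≫ Spec.map ρ = Proj.toSpecZero ℬ ≫ Spec.map ρ' := by
  refine (Proj.mapAffineOpenCover φ hφ).openCover.hom_ext _ _ fun s => ?_
  simp only [Scheme.AffineOpenCover.openCover_f, Proj.mapAffineOpenCover_f,
    Proj.awayι_comp_map_assoc φ hφ s.1.2 _ s.2.2, Proj.awayι_toSpecZero_assoc, ← Spec.map_comp]
  congr 1
  refine CommRingCat.hom_ext (RingHom.ext fun r => ?_)
  apply HomogeneousLocalization.val_injective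
  simp only [CommRingCat.hom_comp, CommRingCat.hom_ofHom, RingHom.comp_apply]
  show HomogeneousLocalization.val (HomogeneousLocalization.Away.map φ (s.2 : _) (HomogeneousLocalization.mk
    ⟨0, ρ.hom r, (1 : 𝒜 0), one_mem _⟩)) = HomogeneousLocalization.val (HomogeneousLocalization.mk
    (x := Submonoid.powers (φ (s.2 : A))) ⟨0, ρ'.hom r, (1 : ℬ 0), one_mem _⟩)
  erw [HomogeneousLocalization.map_mk]
  simp [HomogeneousLocalization.val_mk, h r]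

variable {PA PB : Scheme.{u}} {𝒜 ℬ : RelProj.QCGrAlg Y}
  {φ : 𝒜.toQCAlg ⟶ ℬ.toQCAlg} {hφ : RelProj.IsGradedHom φ}
  {hirr : ∀ (U : Y.Opens) (hU : IsAffineOpen U),
    (ℬ.deg U hU)₊ ≤ ((𝒜.deg U hU)₊).map (RelProj.gradedHomAt φ hφ U hU)}
  {pA : PA ⟶ Y} {pB : PB ⟶ Y}
  {chartA : ∀ (U : Y.Opens) (hU : IsAffineOpen U), (((pA ⁻¹ᵁ U : PA.Opens) : Scheme.{u}) ≅ Proj (𝒜.deg U hU))}
  {chartB : ∀ (U : Y.Opens) (hU : IsAffineOpen U), (((pB ⁻¹ᵁ U : PB.Opens) : Scheme.{u}) ≅ Proj (ℬ.deg U hU))}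

theorem gradedHomAt_strZero (U : Y.Opens) (hU : IsAffineOpen U) (r : Γ(Y, U)) :
    RelProj.gradedHomAt φ hφ U hU ((𝒜.strZero U hU).hom r : 𝒜.presheaf.obj (op U)) =
      ((ℬ.strZero U hU).hom r : ℬ.presheaf.obj (op U)) := by
  show (φ.hom.app (op U)).hom ((𝒜.str.app (op U)).hom r) = _
  rw [← CommRingCat.comp_apply, ← NatTrans.comp_app, φ.comm]
  rfl

/-- the chart expression of the induced morphism lies over the base -/
theorem relProjMap_over (hA : RelProj.IsRelProj 𝒜 pA chartA) (hB : RelProj.IsRelProj ℬ pB chartB)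
    (U : Y.Opens) (hU : IsAffineOpen U) :
    ((chartB U hU).hom ≫ Proj.map (RelProj.gradedHomAt φ hφ U hU) (hirr U hU) ≫ (chartA U hU).inv ≫
      (pA ⁻¹ᵁ U).ι) ≫ pA = (pB ⁻¹ᵁ U).ι ≫ pB := by
  simp only [Category.assoc]
  rw [← hA.chart_over U hU, Iso.inv_hom_id_assoc, ← hB.chart_over U hU,
    ← Category.assoc (Proj.toSpecZero _), ← Category.assoc (Proj.map _ _),
    map_toSpecZero _ _ (𝒜.strZero U hU) (ℬ.strZero U hU) (fun r => gradedHomAt_strZero U hU r), Category.assoc]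

theorem existsUnique_relProjMap (hA : RelProj.IsRelProj 𝒜 pA chartA) (hB : RelProj.IsRelProj ℬ pB chartB) :
    (∃! h : PB ⟶ PA, RelProj.IsRelProjMap φ hφ hirr chartA chartB h) ∧
      ∀ h : PB ⟶ PA, RelProj.IsRelProjMap φ hφ hirr chartA chartB h → h ≫ pA = pB := by
  constructor
  · obtain ⟨e, he, hu⟩ := existsUnique_glue_preimage pB
      (fun U => (chartB U.1 U.2).hom ≫ Proj.map (RelProj.gradedHomAt φ hφ U.1 U.2) (hirr U.1 U.2) ≫
        (chartA U.1 U.2).inv ≫ (pA ⁻¹ᵁ U.1).ι) (fun U hU r => by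
      rw [reassoc_of% (hB.chart_res U hU r), ← proj_map_inv hA U hU r]
      congr 1
      simp only [← Category.assoc]
      congr 2
      rw [← Proj.map_comp, ← Proj.map_comp]
      congr 1
      refine GradedRingHom.ext fun x => ?_
      show (ℬ.presheaf.map _).hom ((φ.hom.app _).hom x) = (φ.hom.app _).hom ((𝒜.presheaf.map _).hom x)
      exact (NatTrans.naturality_apply φ.hom (homOfLE (Y.basicOpen_le r)).op x).symm)
    exact ⟨e, fun U hU => he ⟨U, hU⟩, fun e' he' => hu e' fun U => he' U.1 U.2⟩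
  · intro h hh
    let 𝒰 := PB.openCoverOfIsOpenCover (fun U : Y.affineOpens => pB ⁻¹ᵁ U.1) (by
      rw [TopologicalSpace.IsOpenCover, ← Scheme.Hom.preimage_iSup, iSup_affineOpens_eq_top,
        Scheme.Hom.preimage_top])
    refine 𝒰.hom_ext _ _ fun U => ?_
    show (pB ⁻¹ᵁ U.1).ι ≫ h ≫ pA = (pB ⁻¹ᵁ U.1).ι ≫ pB
    rw [← Category.assoc, hh U.1 U.2]
    exact relProjMap_over hA hB U.1 U.2

/-- a property local on the target is inherited from the maps of charts -/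
theorem relProjMap_of_local (hA : RelProj.IsRelProj 𝒜 pA chartA) (hB : RelProj.IsRelProj ℬ pB chartB)
    {h : PB ⟶ PA} (hh : RelProj.IsRelProjMap φ hφ hirr chartA chartB h) (Q : MorphismProperty Scheme.{u})
    [IsZariskiLocalAtTarget Q]
    (hQ : ∀ (U : Y.Opens) (hU : IsAffineOpen U), Q (Proj.map (RelProj.gradedHomAt φ hφ U hU) (hirr U hU))) :
    Q h := by
  refine IsZariskiLocalAtTarget.of_iSup_eq_top (P := Q) (fun U : Y.affineOpens => pA ⁻¹ᵁ U.1)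
    (by rw [← Scheme.Hom.preimage_iSup, iSup_affineOpens_eq_top, Scheme.Hom.preimage_top]) fun U => ?_
  have hover : h ≫ pA = pB := (existsUnique_relProjMap hA hB).2 h hh
  have heq : h ⁻¹ᵁ (pA ⁻¹ᵁ U.1) = pB ⁻¹ᵁ U.1 := by rw [← Scheme.Hom.comp_preimage, hover]
  have h4 : h ∣_ (pA ⁻¹ᵁ U.1) = ((PB.isoOfEq heq).hom ≫ (chartB U.1 U.2).hom) ≫
      Proj.map (RelProj.gradedHomAt φ hφ U.1 U.2) (hirr U.1 U.2) ≫ (chartA U.1 U.2).inv := by
    rw [← cancel_mono (pA ⁻¹ᵁ U.1).ι, morphismRestrict_ι, Category.assoc, Category.assoc, Category.assoc,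
      ← hh U.1 U.2, Scheme.isoOfEq_hom_ι_assoc]
  rw [h4, MorphismProperty.cancel_left_of_respectsIso Q, MorphismProperty.cancel_right_of_respectsIso Q]
  exact hQ U.1 U.2

end MiscFlat6

end
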