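import Groth.Agent.MiscFlat6.ProjLocalize
import Groth.Agent.MiscFlat6.RelProjGlue
import Mathlib.AlgebraicGeometry.Sites.SmallAffineZariski

/-!
# Existence of the relative homogeneous spectrum
-/

set_option autoImplicit false
universe u
open CategoryTheory CategoryTheory.Limits AlgebraicGeometry TopologicalSpace Opposite
open scoped HomogeneousIdeal

noncomputable section

namespace MiscFlat6

variable {Y : Scheme.{u}} (𝒮 : RelProj.QCGrAlg Y)

theorem site_le {V U : Y.AffineZariskiSite} (h : V ≤ U) : V.1 ≤ U.1 :=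
  Scheme.AffineZariskiSite.toOpens_mono h

theorem site_irr {V U : Y.AffineZariskiSite} (h : V ≤ U) :
    (𝒮.deg V.1 V.2)₊ ≤ ((𝒮.deg U.1 U.2)₊).map (𝒮.res U.2 V.2 (site_le h)) := by
  obtain ⟨U, hU⟩ := U
  obtain ⟨V, hV⟩ := V
  obtain ⟨r, hr⟩ := id h
  dsimp only [Scheme.AffineZariskiSite.toOpens] at r hr
  subst hr
  exact 𝒮.irrelevant_le_map U hU r

/-- the transition map between the charts of the relative Proj -/
abbrev siteMap {V U : Y.AffineZariskiSite} (h : V ≤ U) : Proj (𝒮.deg V.1 V.2) ⟶ Proj (𝒮.deg U.1 U.2) :=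
  Proj.map (𝒮.res U.2 V.2 (site_le h)) (site_irr 𝒮 h)

/-- the charts as a functor -/
def projFunctor : Y.AffineZariskiSite ⥤ Scheme.{u} where
  obj U := Proj (𝒮.deg U.1 U.2)
  map {V U} f := siteMap 𝒮 f.le
  map_id U := by
    change Proj.map (𝒮.res U.2 U.2 _) (site_irr 𝒮 (le_refl U)) = 𝟙 (Proj (𝒮.deg U.1 U.2))
    rw [← Proj.map_id]
    congr 1
    refine GradedRingHom.ext fun x => ?_
    show (𝒮.presheaf.map (homOfLE _).op).hom x = x
    rw [Subsingleton.elim (homOfLE _).op (𝟙 (op U.1)), CategoryTheory.Functor.map_id]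
    rfl
  map_comp {W V U} f g := by
    change Proj.map (𝒮.res U.2 W.2 _) (site_irr 𝒮 (f.le.trans g.le)) =
      Proj.map (𝒮.res V.2 W.2 _) (site_irr 𝒮 f.le) ≫ Proj.map (𝒮.res U.2 V.2 _) (site_irr 𝒮 g.le)
    rw [← Proj.map_comp]
    congr 1
    refine GradedRingHom.ext fun x => ?_
    show (𝒮.presheaf.map (homOfLE _).op).hom x =
      (𝒮.presheaf.map (homOfLE _).op).hom ((𝒮.presheaf.map (homOfLE _).op).hom x)
    rw [← CommRingCat.comp_apply, ← Functor.map_comp]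
    rfl

/-- the structure map of a chart, to the affine open -/
def chartBase (U : Y.AffineZariskiSite) : Proj (𝒮.deg U.1 U.2) ⟶ (U.1 : Scheme.{u}) :=
  Proj.toSpecZero (𝒮.deg U.1 U.2) ≫ Spec.map (𝒮.strZero U.1 U.2) ≫ U.2.isoSpec.inv

theorem chartBase_ι (U : Y.AffineZariskiSite) :
    chartBase 𝒮 U ≫ U.1.ι = Proj.toSpecZero (𝒮.deg U.1 U.2) ≫ Spec.map (𝒮.strZero U.1 U.2) ≫ U.2.fromSpec := by
  simp [chartBase, IsAffineOpen.isoSpec_inv_ι]

theorem siteMap_chartBase {V U : Y.AffineZariskiSite} (h : V ≤ U) :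
    siteMap 𝒮 h ≫ chartBase 𝒮 U = chartBase 𝒮 V ≫ Y.homOfLE (site_le h) := by
  rw [← cancel_mono U.1.ι, Category.assoc, Category.assoc, chartBase_ι, Scheme.homOfLE_ι, chartBase_ι,
    ← U.2.map_fromSpec V.2 (homOfLE (site_le h)).op, ← Category.assoc (Proj.toSpecZero _),
    ← Category.assoc (siteMap 𝒮 h),
    map_toSpecZero (R := Γ(Y, U.1)) _ _ (𝒮.strZero U.1 U.2)
      (Y.presheaf.map (homOfLE (site_le h)).op ≫ 𝒮.strZero V.1 V.2) (fun r => ?_)]
  · rw [Spec.map_comp, Category.assoc, Category.assoc]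
  · show (𝒮.presheaf.map (homOfLE (site_le h)).op).hom ((𝒮.str.app (op U.1)).hom r) =
      (𝒮.str.app (op V.1)).hom ((Y.presheaf.map (homOfLE (site_le h)).op).hom r)
    exact (NatTrans.naturality_apply 𝒮.str (homOfLE (site_le h)).op r).symm

theorem chartBase_preimage (U : Y.AffineZariskiSite) (r : Γ(Y, U.1)) :
    chartBase 𝒮 U ⁻¹ᵁ (U.1.ι ⁻¹ᵁ Y.basicOpen r) =
      Proj.basicOpen (𝒮.deg U.1 U.2) ((𝒮.str.app (op U.1)).hom r) := by
  rw [← Scheme.Hom.comp_preimage, chartBase_ι, Scheme.Hom.comp_preimage, Scheme.Hom.comp_preimage,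
    U.2.fromSpec_preimage_basicOpen]
  exact toSpecZero_preimage_basicOpen _ ((𝒮.strZero U.1 U.2).hom r)

theorem isPullback_siteMap {V U : Y.AffineZariskiSite} (h : V ≤ U) :
    IsPullback (siteMap 𝒮 h) (chartBase 𝒮 V) (chartBase 𝒮 U) (Y.homOfLE (site_le h)) := by
  obtain ⟨U, hU⟩ := U
  obtain ⟨V, hV⟩ := V
  obtain ⟨r, hr⟩ := id h
  dsimp only [Scheme.AffineZariskiSite.toOpens] at r hr
  subst hr
  let ρ := (𝒮.presheaf.map (homOfLE (Y.basicOpen_le r)).op).hom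
  let c := (𝒮.str.app (op U)).hom r
  letI := ρ.toAlgebra
  haveI hloc : IsLocalization.Away c (𝒮.presheaf.obj (op (Y.basicOpen r))) := 𝒮.isQC U hU r
  have hu : IsUnit (ρ c) := IsLocalization.Away.algebraMap_isUnit (S := 𝒮.presheaf.obj (op (Y.basicOpen r))) c
  have hsurj : ∀ b, ∃ (M : ℕ) (x : 𝒮.presheaf.obj (op U)), b * ρ c ^ M = ρ x := fun b => by
    obtain ⟨M, x, hx⟩ := IsLocalization.Away.surj c b
    exact ⟨M, x, hx⟩
  have hker : ∀ a, ρ a = 0 → ∃ M : ℕ, c ^ M * a = 0 := fun a ha => by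
    obtain ⟨⟨_, M, rfl⟩, hM⟩ := (IsLocalization.map_eq_zero_iff (Submonoid.powers c) _ a).mp ha
    exact ⟨M, hM⟩
  obtain ⟨hoi, hrange⟩ := isOpenImmersion_map_localization (𝒮.deg U hU) (𝒮.deg _ (hU.basicOpen r))
    (𝒮.res hU (hU.basicOpen r) (Y.basicOpen_le r)) (𝒮.irrelevant_le_map U hU r) (𝒮.str_mem U hU r) hu hsurj hker
  haveI : IsOpenImmersion (siteMap 𝒮 h) := hoi
  refine (IsOpenImmersion.isPullback (chartBase 𝒮 ⟨_, hU.basicOpen r⟩) (siteMap 𝒮 h)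
    (Y.homOfLE (Y.basicOpen_le r)) (chartBase 𝒮 ⟨U, hU⟩) (siteMap_chartBase 𝒮 h) ?_).flip
  refine Eq.trans ?_ hrange.symm
  rw [Scheme.opensRange_homOfLE]
  exact chartBase_preimage 𝒮 ⟨U, hU⟩ r

/-- the gluing datum of the relative Proj -/
def projGluingData : (Scheme.AffineZariskiSite.directedCover Y).RelativeGluingData where
  functor := projFunctor 𝒮
  natTrans :=
    { app := fun U => chartBase 𝒮 U
      naturality := fun {V U} f => siteMap_chartBase 𝒮 f.le }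
  equifibered := fun {V U} f => isPullback_siteMap 𝒮 f.le

theorem exists_relProj :
    ∃ (P : Scheme.{u}) (p : P ⟶ Y)
      (chart : ∀ (U : Y.Opens) (hU : IsAffineOpen U), (((p ⁻¹ᵁ U : P.Opens) : Scheme.{u}) ≅ Proj (𝒮.deg U hU))),
      RelProj.IsRelProj 𝒮 p chart := by
  let D := projGluingData 𝒮
  haveI : (D.functor ⋙ Scheme.forget).IsLocallyDirected :=
    Scheme.Cover.RelativeGluingData.instIsLocallyDirectedI₀CompFunctorForgetOfIsThin ..
  let c : ∀ U : Y.AffineZariskiSite, Proj (𝒮.deg U.1 U.2) ⟶ D.glued := fun U => colimit.ι D.functor U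
  have hoi : ∀ U, IsOpenImmersion (c U) := fun U => inferInstanceAs (IsOpenImmersion (D.cover.f U))
  have hrange : ∀ U : Y.AffineZariskiSite, D.toBase ⁻¹ᵁ U.1 = (c U).opensRange := fun U => by
    have h := D.toBase_preimage_eq_opensRange_ι U
    rw [show ((Scheme.AffineZariskiSite.directedCover Y).f U).opensRange = U.1 from
      Scheme.Opens.opensRange_ι U.1] at h
    exact h
  have hrange' : ∀ (U : Y.Opens) (hU : IsAffineOpen U),
      Set.range (c ⟨U, hU⟩) = Set.range (D.toBase ⁻¹ᵁ U).ι := fun U hU => by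
    rw [Scheme.Opens.range_ι, hrange ⟨U, hU⟩]; rfl
  let C : ∀ (U : Y.Opens) (hU : IsAffineOpen U),
      (((D.toBase ⁻¹ᵁ U : D.glued.Opens) : Scheme.{u}) ≅ Proj (𝒮.deg U hU)) := fun U hU =>
    haveI := hoi ⟨U, hU⟩
    (IsOpenImmersion.isoOfRangeEq (c ⟨U, hU⟩) (D.toBase ⁻¹ᵁ U).ι (hrange' U hU)).symm
  have hC : ∀ (U : Y.Opens) (hU : IsAffineOpen U), (C U hU).hom ≫ c ⟨U, hU⟩ = (D.toBase ⁻¹ᵁ U).ι := fun U hU =>
    haveI := hoi ⟨U, hU⟩
    IsOpenImmersion.isoOfRangeEq_inv_fac _ _ (hrange' U hU)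
  refine ⟨D.glued, D.toBase, C, ⟨fun U hU => ?_, fun U hU r => ?_⟩⟩
  · rw [← chartBase_ι 𝒮 ⟨U, hU⟩, ← hC U hU, Category.assoc]
    congr 1
    exact (D.ι_toBase ⟨U, hU⟩).symm
  · haveI := hoi ⟨U, hU⟩
    have hle := Scheme.AffineZariskiSite.basicOpen_le (⟨U, hU⟩ : Y.AffineZariskiSite) r
    have hw : siteMap 𝒮 hle ≫ c ⟨U, hU⟩ = c ⟨_, hU.basicOpen r⟩ := colimit.w D.functor (homOfLE hle)
    rw [← cancel_mono (c ⟨U, hU⟩), Category.assoc, Category.assoc, hC, Scheme.homOfLE_ι]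
    exact ((congrArg ((C _ (hU.basicOpen r)).hom ≫ ·) hw).trans (hC _ (hU.basicOpen r))).symm

end MiscFlat6

end
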