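import Groth.Agent.MiscFlat6.QARelAmple

universe u
open CategoryTheory CategoryTheory.Limits AlgebraicGeometry TopologicalSpace
open AmpleLib AmpleThLib
open TwistLib (genSet)
open KFlatLib (pb puSec)

noncomputable section

namespace MiscFlat6

theorem isCompact_inter_genSet {X : Scheme.{u}} {M : X.Modules} (hM : PicF.IsInvertible M) (τ : Γ(M, ⊤))
    {A : X.Opens} (hA : IsAffineOpen A) : IsCompact ((A : Set X) ∩ (genSet hM τ : Set X)) := by
  classical
  have hloc : ∀ a : (A : Set X), ∃ (U : X.Opens) (e : Γ(M, U)), a.1 ∈ U ∧ U ≤ A ∧ IsAffineOpen U ∧ GenOn M e := by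
    intro a
    obtain ⟨U, e, hx, he⟩ := TwistLib.exists_genOn hM a.1
    obtain ⟨W, hW, hxW, hWU⟩ := exists_isAffineOpen_mem_and_subset (U := U ⊓ A) (x := a.1) ⟨hx, a.2⟩
    exact ⟨W, res M (fun y hy => (hWU hy).1) e, hxW, fun y hy => (hWU hy).2, hW, he.res _⟩
  choose U e hmem hle haff hgen using hloc
  obtain ⟨S, hS⟩ := hA.isCompact.elim_finite_subcover (fun a => (U a : Set X)) (fun a => (U a).2)
    fun a ha => Set.mem_iUnion.mpr ⟨⟨a, ha⟩, hmem _⟩
  have heq : (A : Set X) ∩ genSet hM τ = ⋃ a ∈ S, ((genSet hM τ ⊓ U a : X.Opens) : Set X) := by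
    ext y
    simp only [Set.mem_inter_iff, Set.mem_iUnion₂]
    refine ⟨fun ⟨h1, h2⟩ => ?_, fun ⟨a, _, h⟩ => ⟨hle a h.2, h.1⟩⟩
    obtain ⟨a, ha, hy⟩ := Set.mem_iUnion₂.1 (hS h1)
    exact ⟨a, ha, h2, hy⟩
  rw [heq]
  refine S.isCompact_biUnion fun a _ => ?_
  obtain ⟨f, hf⟩ := exists_coeff τ (hgen a)
  rw [mem_genSet_coeff hM τ (hgen a) hf]
  exact ((haff a).basicOpen f).isCompact

theorem quasiSeparatedSpace_of_hasAmpleFamily {Y : Scheme.{u}} (hY : MoreMor.HasAmpleFamily Y) :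
    QuasiSeparatedSpace Y := by
  choose L n s hL hn hy haff using hY.2
  refine Scheme.quasiSeparatedSpace_of_isOpenCover (fun y => CohB1.genLocus (CohB1.tensorPow (L y) (n y)) (s y))
    (IsOpenCover.mk (eq_top_iff.mpr fun x _ => Opens.mem_iSup.mpr ⟨x, hy x⟩)) haff fun x y => ?_
  have h := isCompact_inter_genSet (tensorPow_isInvertible (hL y) (n y)) ((s y).app ⊤ (1 : Γ(Y, ⊤))) (haff x)
  rwa [← genLocus_hom] at h

theorem hasAmpleFamily_pb {X Y : Scheme.{u}} (g : X ⟶ Y) (hg : IsAffineHom g ∨ Mor2.IsQuasiAffine g)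
    (hY : MoreMor.HasAmpleFamily Y) : MoreMor.HasAmpleFamily X := by
  haveI : CompactSpace Y := hY.1
  haveI : QuasiSeparatedSpace Y := quasiSeparatedSpace_of_hasAmpleFamily hY
  haveI : QuasiCompact g := hg.elim (fun h => by haveI := h; infer_instance) (·.1)
  haveI : CompactSpace X := QuasiCompact.compactSpace_of_compactSpace g
  have hqa : ∀ V : Y.Opens, IsAffineOpen V → Scheme.IsQuasiAffine ((g ⁻¹ᵁ V : X.Opens) : Scheme.{u}) := by
    intro V hV
    rcases hg with h | h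
    · haveI := h
      haveI : IsAffine ((g ⁻¹ᵁ V : X.Opens) : Scheme.{u}) := hV.preimage g
      infer_instance
    · exact h.2 V hV
  haveI : IsSeparated g := RichLib.QA.isSeparated_of_cover g (fun V : Y.affineOpens => V.1)
    (iSup_affineOpens_eq_top Y) fun V => by
      haveI := hqa V.1 V.2
      haveI : IsAffine (V.1 : Scheme.{u}) := V.2
      infer_instance
  haveI : QuasiSeparatedSpace X := quasiSeparatedSpace_of_quasiSeparated g
  refine ⟨inferInstance, fun x => ?_⟩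
  obtain ⟨L, d, s, hL, hd, hxV, hV⟩ := hY.2 (g x)
  rw [genLocus_hom (tensorPow_isInvertible hL d)] at hxV hV
  have hM := AmpleDevLib.isInvertible_pb g hL
  let σ : Γ(CohB1.tensorPow L d, ⊤) := s.app ⊤ (1 : Γ(Y, ⊤))
  let V := genSet (tensorPow_isInvertible hL d) σ
  obtain ⟨φ, -⟩ := AmpleDevLib.exists_pullPowIso g hL d
  let t : Γ(CohB1.tensorPow (pb g L) d, ⊤) := φ.hom.app ⊤ (puSec g σ : Γ(pb g (CohB1.tensorPow L d), ⊤))
  let T := genSet (tensorPow_isInvertible hM d) t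
  have ht : T = g ⁻¹ᵁ V := by
    rw [← AmpleDevLib.genSet_puSec g (tensorPow_isInvertible hL d) σ]
    exact genSet_iso (AmpleDevLib.isInvertible_pb g (tensorPow_isInvertible hL d)) _ φ _
  haveI : Scheme.IsQuasiAffine (T : Scheme.{u}) := by
    rw [ht]
    exact hqa V hV
  have hxT : x ∈ T := ht.symm ▸ hxV
  obtain ⟨_, ⟨_, ⟨r, hr, rfl⟩, rfl⟩, hxr, -⟩ :=
    (Scheme.IsQuasiAffine.isBasis_basicOpen (T : Scheme.{u})).exists_subset_of_mem_open
      (Set.mem_univ (⟨x, hxT⟩ : T)) isOpen_univ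
  let q : Γ(X, T) := T.topIso.hom r
  have hq : IsAffineOpen (X.basicOpen q) ∧ x ∈ X.basicOpen q := by
    have he : T.ι ''ᵁ T.toScheme.basicOpen r = X.basicOpen q := by
      simp only [q, Scheme.image_basicOpen, Scheme.Opens.ι_appIso, Iso.refl_inv,
        Scheme.Opens.topIso_hom, Scheme.basicOpen_res]
      exact ((inf_eq_right.mpr ((X.basicOpen_le _).trans T.ι_image_top.le)).symm.trans
        (X.basicOpen_res (V := T) r (eqToHom T.ι_image_top.symm).op).symm)
    rw [← he]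
    exact ⟨hr.image_of_isOpenImmersion T.ι, ⟨x, hxT⟩, hxr, rfl⟩
  obtain ⟨N, hN⟩ := exists_extend hM (r := 0) t q
  obtain ⟨u, hu⟩ := hN N le_rfl
  have hgen : GenOn _ (mul hM (m := 0) (show Γ(CohB1.tensorPow (pb g L) 0, T) from (1 : Γ(X, T)))
      (res _ le_top (tPow hM t N))) :=
    mul_genOn hM (one_genOn _) (tPow_genOn hM t le_rfl N)
  have hcoef : q • mul hM (m := 0) (show Γ(CohB1.tensorPow (pb g L) 0, T) from (1 : Γ(X, T)))
      (res _ le_top (tPow hM t N)) = res _ le_top u := by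
    rw [hu]
    have e := mul_smul_smul hM (m := 0) q 1 (show Γ(CohB1.tensorPow (pb g L) 0, T) from (1 : Γ(X, T)))
      (res _ le_top (tPow hM t N))
    rw [one_smul, mul_one] at e
    rw [← e]
    exact congrArg (fun z : Γ(CohB1.tensorPow (pb g L) 0, T) =>
      mul hM z (res _ le_top (tPow hM t N))) (mul_one q)
  have hl := AmpleThLib.mem_genSet_coeff (tensorPow_isInvertible hM (0 + d * N)) u hgen hcoef
  have heq : CohB1.genLocus _ (QCohLib.unitHom _ (mul hM u t)) = X.basicOpen q :=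
    (genLocus_unitHom (tensorPow_isInvertible hM _) _).trans ((genSet_mul hM u t).trans hl)
  exact ⟨pb g L, 0 + d * N + d, QCohLib.unitHom _ (mul hM u t), hM, by omega, heq.symm ▸ hq.2, heq.symm ▸ hq.1⟩

end MiscFlat6
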