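import Groth.Agent.MiscFlat6.InvDual
import Groth.Agent.QCohLib.AffineFinite
import Groth.Agent.QCohLib.QcqsSections
import Groth.Agent.AmpleThLib.Ample
import Groth.Agent.MiscFlat6.AmpleFamily
import Groth.Agent.PerfLib.Strict
import Groth.Agent.AmpleDevLib.Devissage
import Groth.Agent.CurvLib.Line
import Groth.Prelude.Def_PerfAux

/-!
# The resolution property
-/

universe u
open CategoryTheory CategoryTheory.Limits AlgebraicGeometry TopologicalSpace Opposite
open AmpleLib AmpleThLib
open TwistLib (genSet)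

noncomputable section

namespace MiscFlat6

/-- a section over the locus of `t` is, locally on that locus, in the image of a negative power -/
theorem exists_hom_of_locus {X : Scheme.{u}} [CompactSpace X] [QuasiSeparatedSpace X] {P : X.Modules}
    (hP : PicF.IsInvertible P) (t : Γ(P, ⊤)) (M : X.Modules) [Coh.IsQCoh M]
    (m : Γ(M, genSet hP t)) :
    ∃ (Q : X.Modules) (β : Q ⟶ M), PicF.IsInvertible Q ∧
      ∀ {M' : X.Modules} (q : M ⟶ M'), β ≫ q = 0 → q.app (genSet hP t) m = 0 := by
  classical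
  let V := genSet hP t
  have hloc : ∀ x : X, ∃ (U : X.Opens) (e : Γ(P, U)), x ∈ U ∧ GenOn P e ∧ IsAffineOpen U := by
    intro x
    obtain ⟨U, e, hx, he⟩ := TwistLib.exists_genOn hP x
    obtain ⟨W, hW, hxW, hWU⟩ := exists_isAffineOpen_mem_and_subset hx
    exact ⟨W, res P hWU e, hxW, he.res hWU, hW⟩
  choose U e hmem hgen haff using hloc
  obtain ⟨S, hS⟩ := isCompact_univ.elim_finite_subcover (fun x => (U x : Set X))
    (fun x => (U x).2) fun x _ => Set.mem_iUnion.mpr ⟨x, hmem x⟩
  choose f hf using fun i : S => exists_coeff t (hgen i.1)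
  have hB : ∀ i : S, V ⊓ U i.1 = X.basicOpen (f i) := fun i => mem_genSet_coeff hP t (hgen i.1) (hf i)
  have hBV : ∀ i : S, X.basicOpen (f i) ≤ V := fun i => (hB i) ▸ inf_le_left
  choose n b hb using fun i : S => (QCohLib.localizingAt_of_qcqs M (haff i.1).isCompact
    (haff i.1).isQuasiSeparated (f i)).exists_extend (res M (hBV i) m)
  let N₀ := Finset.univ.sum n
  let B : ∀ i : S, Γ(M, U i.1) := fun i => f i ^ (N₀ - n i) • b i
  have hBval : ∀ (i : S) (W : X.Opens) (hW : W ≤ X.basicOpen (f i)),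
      res M (hW.trans (X.basicOpen_le _)) (B i) =
        rX (hW.trans (X.basicOpen_le _)) (f i) ^ N₀ • res M (hW.trans (hBV i)) m := by
    intro i W hW
    have e1 : res M (X.basicOpen_le (f i)) (b i) = rX (X.basicOpen_le _) (f i) ^ n i • res M (hBV i) m := hb i
    have e2 := congrArg (res M hW) e1
    rw [res_res, res_smul, res_res, map_pow] at e2
    simp only [rX, ← CommRingCat.comp_apply, ← Functor.map_comp, ← op_comp, homOfLE_comp] at e2
    show res M _ (f i ^ (N₀ - n i) • b i) = _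
    rw [res_smul, map_pow, e2, smul_smul, rX, ← pow_add,
      Nat.sub_add_cancel (Finset.single_le_sum (fun j _ => Nat.zero_le (n j)) (Finset.mem_univ i))]
  clear_value B
  have htr : ∀ p : S × S, ∃ d : Γ(X, U p.1.1 ⊓ U p.2.1),
      d • res P inf_le_left (e p.1.1) = res P inf_le_right (e p.2.1) :=
    fun p => ((hgen p.1.1) _ inf_le_left).2 (res P inf_le_right (e p.2.1))
  choose d hd using htr
  have hfd : ∀ p : S × S, rX inf_le_left (f p.1) = d p * rX inf_le_right (f p.2) := by
    intro p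
    refine ((hgen p.1.1) _ inf_le_left).1 ?_
    dsimp only
    rw [mul_comm, mul_smul, hd, ← res_smul, ← res_smul, hf, hf, res_res, res_res]
  have hK : ∀ p : S × S, ∃ K : ℕ, rX (inf_le_left : U p.1.1 ⊓ U p.2.1 ≤ U p.1.1) (f p.1) ^ K •
      (res M (inf_le_left : U p.1.1 ⊓ U p.2.1 ≤ _) (B p.1) - d p ^ N₀ • res M inf_le_right (B p.2)) = 0 := by
    rintro ⟨i, j⟩
    let W := U i.1 ⊓ U j.1
    have hcW : IsCompact (W : Set X) := QuasiSeparatedSpace.inter_isCompact _ _ (U i.1).2 (haff i.1).isCompact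
      (U j.1).2 (haff j.1).isCompact
    let a : Γ(X, W) := rX inf_le_left (f i)
    obtain ⟨K, hK⟩ := QCohLib.exists_pow_smul_eq_zero (M := M) a W hcW le_rfl
      (res M (inf_le_left : W ≤ _) (B i) - d (i, j) ^ N₀ • res M inf_le_right (B j)) (by
        let D := W ⊓ X.basicOpen a
        have hDi : D ≤ X.basicOpen (f i) := by
          simp only [D, a, rX, Scheme.basicOpen_res]; exact inf_le_right.trans inf_le_right
        have hDj : D ≤ X.basicOpen (f j) := by
          rw [← hB j]; exact le_inf (hDi.trans (hBV i)) (inf_le_left.trans inf_le_right)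
        show res M (inf_le_left : D ≤ W) _ = 0
        rw [AmpleLib.res, map_sub, sub_eq_zero]
        show res M (inf_le_left : D ≤ W) _ = res M (inf_le_left : D ≤ W) _
        rw [res_smul, res_res, res_res, hBval i D hDi, hBval j D hDj, smul_smul, map_pow, ← mul_pow]
        congr 2
        have h1 := congrArg (rX (inf_le_left : D ≤ W)) (hfd (i, j))
        simp only [rX, map_mul, ← CommRingCat.comp_apply, ← Functor.map_comp, ← op_comp, homOfLE_comp] at h1
        exact h1)
    refine ⟨K, ?_⟩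
    have e0 : X.presheaf.map (homOfLE (le_refl W)).op a = a := congr($(X.presheaf.map_id _) a)
    rw [e0] at hK
    exact hK
  choose K hK using hK
  let Kt := Finset.univ.sum K
  let N := N₀ + Kt
  let G : ∀ i : S, Gens (CohB1.tensorPow P N) := fun i => ⟨U i.1, pS (e i.1) N, pS_genOn (hgen i.1) N⟩
  let C : ∀ i : S, Γ(M, U i.1) := fun i => f i ^ Kt • B i
  have hC : ∀ p : S × S, res M (inf_le_left : U p.1.1 ⊓ U p.2.1 ≤ _) (C p.1) =
      d p ^ N • res M inf_le_right (C p.2) := by
    intro p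
    have h1 : rX (inf_le_left : U p.1.1 ⊓ U p.2.1 ≤ U p.1.1) (f p.1) ^ Kt •
        (res M (inf_le_left : U p.1.1 ⊓ U p.2.1 ≤ _) (B p.1) - d p ^ N₀ • res M inf_le_right (B p.2)) = 0 := by
      have hle : K p ≤ Kt := Finset.single_le_sum (fun q _ => Nat.zero_le (K q)) (Finset.mem_univ p)
      rw [← Nat.sub_add_cancel hle, pow_add, mul_smul, hK, smul_zero]
    rw [smul_sub, sub_eq_zero] at h1
    show res M inf_le_left (f p.1 ^ Kt • B p.1) = d p ^ N • res M inf_le_right (f p.2 ^ Kt • B p.2)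
    rw [res_smul, res_smul, map_pow, map_pow]
    refine h1.trans ?_
    rw [hfd, smul_smul, smul_smul]
    congr 1
    simp only [N, rX]
    ring
  have hCdef : ∀ i, C i = f i ^ Kt • B i := fun _ => rfl
  clear_value C
  obtain ⟨β, hβ⟩ := TwistLib.exists_hom_of_gens (fun i : S => U i.1) (fun i => dualGen (G i)) C
    (fun x => by
      obtain ⟨y, hy, hx⟩ := Set.mem_iUnion₂.mp (hS (Set.mem_univ x))
      exact ⟨⟨y, hy⟩, hx⟩) (fun i => dualGen_genOn (G i))
    (fun i j W hi hj c hc => by
      let c₀ : Γ(X, W) := rX (le_inf hi hj) (d (i, j)) ^ N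
      have h0 : c₀ • res (CohB1.tensorPow P N) hi (G i).2.1 = res _ hj (G j).2.1 := by
        have h := congrArg (fun z => res _ (le_inf hi hj) (pS z N)) (hd (i, j))
        simp only [pS_smul, res_smul, map_pow, ← pS_res, res_res] at h
        exact h
      have h1 := dualGen_trans (G i) (G j) hi hj c₀ h0
      have h2 : c * c₀ = 1 := (dualGen_genOn (G j) W hj).1 (by
        dsimp only
        rw [mul_smul, h1, hc, one_smul])
      have h3 := congrArg (res M (le_inf hi hj)) (hC (i, j))
      rw [res_smul, res_res, res_res, map_pow] at h3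
      rw [h3, smul_smul, show c * _ = 1 from h2, one_smul])
  refine ⟨dual (CohB1.tensorPow P N), β, dual_isInvertible (tensorPow_isInvertible hP N), fun {M'} q hq => ?_⟩
  refine TwistLib.mod_ext M' fun y hy => ?_
  obtain ⟨z, hz, hyz⟩ := Set.mem_iUnion₂.mp (hS (Set.mem_univ y))
  let i : S := ⟨z, hz⟩
  have hyD : y ∈ X.basicOpen (f i) := (hB i) ▸ ⟨hy, hyz⟩
  have h1 : q.app (U i.1) (C i) = 0 := by
    rw [← hβ i]
    exact congr($(congrArg (fun φ => Scheme.Modules.Hom.app φ (U i.1)) hq) (dualGen (G i)))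
  have h2 : q.app (X.basicOpen (f i)) (res M (hBV i) m) = 0 := by
    have h3 := congrArg (q.app (X.basicOpen (f i))) (show res M (X.basicOpen_le _) (C i) =
      rX (X.basicOpen_le _) (f i) ^ (Kt + N₀) • res M (hBV i) m from by
        rw [hCdef, res_smul, map_pow, hBval i _ le_rfl, smul_smul, ← pow_add])
    rw [QCohLib.app_smul, show q.app _ (res M (X.basicOpen_le _) (C i)) = _ from QCohLib.app_map q _ _,
      h1, map_zero] at h3
    have hu : IsUnit (rX (X.basicOpen_le (f i)) (f i)) := RingedSpace.isUnit_res_basicOpen _ (f i)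
    exact (hu.pow _).smul_eq_zero.mp h3.symm
  rw [map_zero, ← AmpleLib.germ_res M' (hBV i) _ (x := y) hyD,
    show AmpleLib.res M' (hBV i) (q.app V m) = q.app _ (res M (hBV i) m) from (QCohLib.app_map q _ _).symm,
    h2, map_zero]

theorem hasResolutionProperty_of_hasAmpleFamily {X : Scheme.{u}} (hX : MoreMor.HasAmpleFamily X) :
    PerfAux.HasResolutionProperty X := by
  classical
  haveI : CompactSpace X := hX.1
  haveI := quasiSeparatedSpace_of_hasAmpleFamily hX
  intro M hQ hFT
  haveI := hQ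
  have hloc : ∀ x : X, ∃ (P : X.Modules) (hP : PicF.IsInvertible P) (t : Γ(P, ⊤)),
      x ∈ genSet hP t ∧ IsAffineOpen (genSet hP t) := by
    intro x
    obtain ⟨L, n, s, hL, -, hxs, hsa⟩ := hX.2 x
    rw [genLocus_hom (tensorPow_isInvertible hL n) s] at hxs hsa
    exact ⟨_, _, _, hxs, hsa⟩
  choose P hP t hxt hta using hloc
  obtain ⟨S, hS⟩ := isCompact_univ.elim_finite_subcover (fun x => (genSet (hP x) (t x) : Set X))
    (fun x => (genSet (hP x) (t x)).2) fun x _ => Set.mem_iUnion.mpr ⟨x, hxt x⟩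
  choose T hT using fun x => (QCohLib.finite_of_isFT hFT (hta x)).fg_top
  let I := Σ x : S, T x.1
  have hom : ∀ a : I, ∃ (Q : X.Modules) (β : Q ⟶ M), PicF.IsInvertible Q ∧
      ∀ {M' : X.Modules} (q : M ⟶ M'), β ≫ q = 0 → q.app (genSet (hP a.1.1) (t a.1.1)) a.2.1 = 0 :=
    fun a => exists_hom_of_locus (hP a.1.1) (t a.1.1) M a.2.1
  choose Q β hQi hQq using hom
  obtain ⟨E, π, hE, hfac⟩ : ∃ (E : X.Modules) (π : E ⟶ M), FlatMod.IsFinLocFree E ∧
      ∀ {M' : X.Modules} (q : M ⟶ M'), π ≫ q = 0 → ∀ a : I, β a ≫ q = 0 := by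
    suffices h : ∀ s : Finset I, ∃ (E : X.Modules) (π : E ⟶ M), FlatMod.IsFinLocFree E ∧
        ∀ {M' : X.Modules} (q : M ⟶ M'), π ≫ q = 0 → ∀ a ∈ s, β a ≫ q = 0 by
      obtain ⟨E, π, hE, h⟩ := h Finset.univ
      exact ⟨E, π, hE, fun q hq a => h q hq a (Finset.mem_univ a)⟩
    intro s
    induction s using Finset.induction with
    | empty =>
      exact ⟨Coh.structureModule X, 0,
        AmpleDevLib.isFinLocFree_of_isInvertible CurvLib.isInvertible_structureModule, fun _ _ a ha => by simp at ha⟩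
    | @insert a s ha ih =>
      obtain ⟨E, π, hE, h⟩ := ih
      refine ⟨Q a ⊞ E, biprod.desc (β a) π, Groth.Agent.PerfLib.isFinLocFree_biprod
        (AmpleDevLib.isFinLocFree_of_isInvertible (hQi a)) hE, fun q hq c hc => ?_⟩
      rcases Finset.mem_insert.mp hc with rfl | hc
      · simpa using congrArg (biprod.inl ≫ ·) hq
      · exact h q (by simpa using congrArg (biprod.inr ≫ ·) hq) c hc
  refine ⟨E, π, hE, Preadditive.epi_of_cancel_zero _ fun {M' : X.Modules} (q : M ⟶ M') hq => ?_⟩
  have hV : ∀ (x : S) (w : Γ(M, genSet (hP x.1) (t x.1))), q.app _ w = 0 := by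
    intro x w
    have hw : w ∈ Submodule.span Γ(X, genSet (hP x.1) (t x.1)) (T x.1 : Set Γ(M, genSet (hP x.1) (t x.1))) := by
      rw [hT x.1]; trivial
    induction hw using Submodule.span_induction with
    | mem a ha => exact hQq ⟨x, a, ha⟩ q (hfac q hq _)
    | zero => exact map_zero _
    | add a c _ _ h1 h2 => rw [map_add, h1, h2, add_zero]
    | smul r a _ h1 => rw [QCohLib.app_smul, h1, smul_zero]
  apply Scheme.Modules.hom_ext
  intro W
  refine ConcreteCategory.hom_ext _ _ fun w => TwistLib.mod_ext M' fun y hy => ?_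
  obtain ⟨x, hx, hyx⟩ := Set.mem_iUnion₂.mp (hS (Set.mem_univ y))
  obtain ⟨g, hgW, hyg⟩ := (hta x).exists_basicOpen_le (V := W) ⟨y, hy⟩ hyx
  obtain ⟨n, j, hj⟩ := (QCohLib.localizingAt_of_qcqs M (hta x).isCompact (hta x).isQuasiSeparated g).exists_extend
    (res M hgW w)
  have h3 := congrArg (q.app (X.basicOpen g)) hj
  rw [QCohLib.app_map, hV ⟨x, hx⟩, map_zero, QCohLib.app_smul] at h3
  have hu : IsUnit (X.presheaf.map (homOfLE (X.basicOpen_le g)).op g) := RingedSpace.isUnit_res_basicOpen _ g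
  have h4 : q.app (X.basicOpen g) (res M hgW w) = 0 := (hu.pow n).smul_eq_zero.mp h3.symm
  change M'.presheaf.germ W y hy (q.app W w) = M'.presheaf.germ W y hy 0
  rw [map_zero, ← AmpleLib.germ_res M' hgW (q.app W w) (x := y) hyg,
    show AmpleLib.res M' hgW (q.app W w) = _ from (QCohLib.app_map q _ _).symm, h4, map_zero]

end MiscFlat6
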