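import Groth.Agent.MiscFlat6.Untwist
import Groth.Agent.MiscFlat6.ResolutionProp
import Groth.Agent.MiscFlat6.RelAmpleLocal
import Groth.Agent.MiscFlat6.AmpleFamilyRel
import Groth.Agent.QCohLib.Extend
import Groth.Agent.QCohLib.Push
import Groth.Agent.KFlatLib.PerfectPull

/-!
# The resolution property and relatively ample modules
-/

universe u
open CategoryTheory CategoryTheory.Limits AlgebraicGeometry TopologicalSpace Opposite
open AmpleLib AmpleThLib
open TwistLib (genSet)

noncomputable section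

namespace MiscFlat6

theorem twVal_untriv {X : Scheme.{u}} {G : Type u} {D : G → X.Opens} {C : Cocycle G D} {M : X.Modules}
    {W : X.Opens} (a : G) (hW : W ≤ D a) (m : Γ(M, W)) (b : G) :
    twVal (twUntriv (C := C) a hW m) b =
      rX (le_inf inf_le_right (inf_le_left.trans hW) : W ⊓ D b ≤ D b ⊓ D a) (C.c b a) • res M inf_le_left m := rfl

/-- the cocycle of powers of an invertible module -/
def powCocycle {X : Scheme.{u}} (P : X.Modules) (N : ℕ) : Cocycle (Gens P) (fun a => a.1) where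
  c a b := transFn a b ^ N
  self a := by rw [transFn_self, one_pow]
  trans a b d V ha hb hd := by
    simp only [rX, map_pow, ← mul_pow]
    congr 1
    refine (a.2.2 V ha).1 ?_
    dsimp only
    have h1 := congrArg (res P (le_inf ha hb)) (transFn_spec a b)
    have h2 := congrArg (res P (le_inf hb hd)) (transFn_spec b d)
    have h3 := congrArg (res P (le_inf ha hd)) (transFn_spec a d)
    rw [res_smul, res_res, res_res] at h1 h2 h3
    rw [mul_comm, mul_smul, h1, h2, h3]

/-- sections over the locus of `σ` extend into a twist by a power -/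
theorem exists_extend_twist {X : Scheme.{u}} {P : X.Modules} (hP : PicF.IsInvertible P) {W : X.Opens}
    (hWc : IsCompact (W : Set X)) (hWq : IsQuasiSeparated (W : Set X)) (σ : Γ(P, W)) {T : X.Opens} (hTW : T ≤ W)
    (hT : ∀ (y : X) (hy : y ∈ W), y ∈ T ↔ GenAt P σ hy) (M : X.Modules) [Coh.IsQCoh M] (m : Γ(M, T)) :
    ∃ (N : ℕ) (v : Γ(tw (powCocycle P N) M, W)), ∀ {M' : X.Modules} (q : M ⟶ M'),
      (twMap (powCocycle P N) q).app W v = 0 → q.app T m = 0 := by
  classical
  have hloc : ∀ x : W, ∃ (U : X.Opens) (a : Gens P), x.1 ∈ U ∧ U ≤ W ∧ U ≤ a.1 ∧ IsAffineOpen U := by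
    rintro ⟨x, hxW⟩
    obtain ⟨a, hxa⟩ := gens_cover hP x
    obtain ⟨U, hU, hxU, hle⟩ := exists_isAffineOpen_mem_and_subset (U := W ⊓ a.1) (x := x) ⟨hxW, hxa⟩
    exact ⟨U, a, hxU, fun y hy => (hle hy).1, fun y hy => (hle hy).2, hU⟩
  choose U a hmem hUW hUa haff using hloc
  obtain ⟨S, hS⟩ := hWc.elim_finite_subcover (fun x : W => (U x : Set X))
    (fun x => (U x).2) fun x hx => Set.mem_iUnion.mpr ⟨⟨x, hx⟩, hmem ⟨x, hx⟩⟩
  have hcoef : ∀ i : S, ∃ f : Γ(X, U i.1), f • res P (hUa i.1) (a i.1).2.1 = res P (hUW i.1) σ :=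
    fun i => ((a i.1).2.2 _ (hUa i.1)).2 (res P (hUW i.1) σ)
  choose f hf using hcoef
  have hB : ∀ i : S, T ⊓ U i.1 = X.basicOpen (f i) := by
    intro i
    ext y
    constructor
    · rintro ⟨hy, hyU⟩
      have h := (hT y (hUW i.1 hyU)).mp hy
      rw [← genAt_res (hUW i.1) σ hyU, ← hf i] at h
      exact (genAt_smul_iff _ _ hyU (((a i.1).2.2.res (hUa i.1)).genAt hyU)).mp h
    · intro hy
      have hyU : y ∈ U i.1 := X.basicOpen_le _ hy
      refine ⟨(hT y (hUW i.1 hyU)).mpr ?_, hyU⟩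
      rw [← genAt_res (hUW i.1) σ hyU, ← hf i]
      exact (genAt_smul_iff _ _ hyU (((a i.1).2.2.res (hUa i.1)).genAt hyU)).mpr hy
  have hBV : ∀ i : S, X.basicOpen (f i) ≤ T := fun i => (hB i) ▸ inf_le_left
  choose n b hb using fun i : S => (QCohLib.localizingAt_of_qcqs M (haff i.1).isCompact
    (haff i.1).isQuasiSeparated (f i)).exists_extend (res M (hBV i) m)
  let N₀ := Finset.univ.sum n
  let B : ∀ i : S, Γ(M, U i.1) := fun i => f i ^ (N₀ - n i) • b i
  have hBval : ∀ (i : S) (W' : X.Opens) (hW : W' ≤ X.basicOpen (f i)),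
      res M (hW.trans (X.basicOpen_le _)) (B i) =
        rX (hW.trans (X.basicOpen_le _)) (f i) ^ N₀ • res M (hW.trans (hBV i)) m := by
    intro i W' hW
    have e1 : res M (X.basicOpen_le (f i)) (b i) = rX (X.basicOpen_le _) (f i) ^ n i • res M (hBV i) m := hb i
    have e2 := congrArg (res M hW) e1
    rw [res_res, res_smul, res_res, map_pow] at e2
    simp only [rX, ← CommRingCat.comp_apply, ← Functor.map_comp, ← op_comp, homOfLE_comp] at e2
    show res M _ (f i ^ (N₀ - n i) • b i) = _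
    rw [res_smul, map_pow, e2, smul_smul, rX, ← pow_add,
      Nat.sub_add_cancel (Finset.single_le_sum (fun j _ => Nat.zero_le (n j)) (Finset.mem_univ i))]
  clear_value B
  let d : ∀ p : S × S, Γ(X, U p.1.1 ⊓ U p.2.1) := fun p =>
    rX (inf_le_inf (hUa p.1.1) (hUa p.2.1)) (transFn (a p.1.1) (a p.2.1))
  have hfd : ∀ p : S × S, rX (inf_le_left : U p.1.1 ⊓ U p.2.1 ≤ U p.1.1) (f p.1) =
      d p * rX inf_le_right (f p.2) := by
    intro p
    refine ((a p.1.1).2.2 _ (inf_le_left.trans (hUa p.1.1))).1 ?_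
    dsimp only
    have h1 := congrArg (res P (inf_le_inf (hUa p.1.1) (hUa p.2.1))) (transFn_spec (a p.1.1) (a p.2.1))
    rw [res_smul, res_res, res_res] at h1
    have h2 := congrArg (res P (inf_le_left : U p.1.1 ⊓ U p.2.1 ≤ _)) (hf p.1)
    have h3 := congrArg (res P (inf_le_right : U p.1.1 ⊓ U p.2.1 ≤ _)) (hf p.2)
    rw [res_smul, res_res, res_res] at h2 h3
    rw [mul_comm, mul_smul]
    refine h2.trans (h3.symm.trans (congrArg (_ • ·) ?_))
    exact h1.symm
  have hK : ∀ p : S × S, ∃ K : ℕ, rX (inf_le_left : U p.1.1 ⊓ U p.2.1 ≤ U p.1.1) (f p.1) ^ K •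
      (res M (inf_le_left : U p.1.1 ⊓ U p.2.1 ≤ _) (B p.1) - d p ^ N₀ • res M inf_le_right (B p.2)) = 0 := by
    rintro ⟨i, j⟩
    let W' := U i.1 ⊓ U j.1
    have hcW : IsCompact (W' : Set X) := hWq _ _ (hUW i.1) (U i.1).2 (haff i.1).isCompact (hUW j.1)
      (U j.1).2 (haff j.1).isCompact
    let r : Γ(X, W') := rX inf_le_left (f i)
    obtain ⟨K, hK⟩ := QCohLib.exists_pow_smul_eq_zero (M := M) r W' hcW le_rfl
      (res M (inf_le_left : W' ≤ _) (B i) - d (i, j) ^ N₀ • res M inf_le_right (B j)) (by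
        let D := W' ⊓ X.basicOpen r
        have hDi : D ≤ X.basicOpen (f i) := by
          simp only [D, r, rX, Scheme.basicOpen_res]; exact inf_le_right.trans inf_le_right
        have hDj : D ≤ X.basicOpen (f j) := by
          rw [← hB j]; exact le_inf (hDi.trans (hBV i)) (inf_le_left.trans inf_le_right)
        show res M (inf_le_left : D ≤ W') _ = 0
        rw [AmpleLib.res, map_sub, sub_eq_zero]
        show res M (inf_le_left : D ≤ W') _ = res M (inf_le_left : D ≤ W') _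
        rw [res_smul, res_res, res_res, hBval i D hDi, hBval j D hDj, smul_smul, map_pow, ← mul_pow]
        congr 2
        have h1 := congrArg (rX (inf_le_left : D ≤ W')) (hfd (i, j))
        simp only [rX, map_mul, ← CommRingCat.comp_apply, ← Functor.map_comp, ← op_comp, homOfLE_comp] at h1
        exact h1)
    refine ⟨K, ?_⟩
    have e0 : X.presheaf.map (homOfLE (le_refl W')).op r = r := congr($(X.presheaf.map_id _) r)
    rw [e0] at hK
    exact hK
  choose K hK using hK
  let Kt := Finset.univ.sum K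
  let N := N₀ + Kt
  let C : ∀ i : S, Γ(M, U i.1) := fun i => f i ^ Kt • B i
  have hC : ∀ p : S × S, res M (inf_le_left : U p.1.1 ⊓ U p.2.1 ≤ _) (C p.1) =
      d p ^ N • res M inf_le_right (C p.2) := by
    intro p
    have h1 : rX (inf_le_left : U p.1.1 ⊓ U p.2.1 ≤ U p.1.1) (f p.1) ^ Kt •
        (res M (inf_le_left : U p.1.1 ⊓ U p.2.1 ≤ _) (B p.1) - d p ^ N₀ • res M inf_le_right (B p.2)) = 0 := by
      have hle : K p ≤ Kt := Finset.single_le_sum (fun q _ => Nat.zero_le (K q)) (Finset.mem_univ p)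
      rw [← Nat.sub_add_cancel hle, pow_add, mul_smul, hK, smul_zero]
    rw [smul_sub, sub_eq_zero] at h1
    show res M inf_le_left (f p.1 ^ Kt • B p.1) = d p ^ N • res M inf_le_right (f p.2 ^ Kt • B p.2)
    rw [res_smul, res_smul, map_pow, map_pow]
    refine h1.trans ?_
    rw [hfd, smul_smul, smul_smul]
    congr 1
    simp only [N, rX]
    ring
  have hCdef : ∀ i, C i = f i ^ Kt • B i := fun _ => rfl
  clear_value C
  let Cc := powCocycle P N
  obtain ⟨v, hv, -⟩ := TopCat.Sheaf.existsUnique_gluing'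
    (F := ⟨(tw Cc M).presheaf, (tw Cc M).isSheaf⟩) (fun i : S => U i.1) W (fun i => homOfLE (hUW i.1))
    (fun y hy => by
      obtain ⟨i, hi, hyi⟩ := Set.mem_iUnion₂.mp (hS hy)
      exact Opens.mem_iSup.mpr ⟨⟨i, hi⟩, hyi⟩)
    (fun i => twUntriv (a i.1) (hUa i.1) (C i)) (fun i j => by
      refine tw_ext fun c => ?_
      show twVal (res (tw Cc M) inf_le_left _) c = twVal (res (tw Cc M) inf_le_right _) c
      rw [twVal_res, twVal_res, twVal_untriv, twVal_untriv, res_smul, res_smul, res_res, res_res]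
      let V := (U i.1 ⊓ U j.1) ⊓ c.1
      have h := congrArg (res M (inf_le_left : V ≤ U i.1 ⊓ U j.1)) (hC (i, j))
      rw [res_res, res_smul, res_res] at h
      rw [h, smul_smul]
      refine congrArg (fun t : Γ(X, V) => t • res M _ (C j)) ?_
      show rX _ (rX _ (Cc.c c (a i.1))) * rX _ (rX _ (transFn (a i.1) (a j.1)) ^ N) = rX _ (rX _ (Cc.c c (a j.1)))
      simp only [rX, map_pow]
      simp only [← map_pow, ← CommRingCat.comp_apply, ← Functor.map_comp, ← op_comp, homOfLE_comp]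
      exact Cc.trans c (a i.1) (a j.1) V inf_le_right (inf_le_left.trans (inf_le_left.trans (hUa i.1)))
        (inf_le_left.trans (inf_le_right.trans (hUa j.1))))
  refine ⟨N, v, fun {M'} q hq => TwistLib.mod_ext M' fun y hy => ?_⟩
  obtain ⟨z, hz, hyz⟩ := Set.mem_iUnion₂.mp (hS (hTW hy))
  let i : S := ⟨z, hz⟩
  have hyD : y ∈ X.basicOpen (f i) := (hB i) ▸ ⟨hy, hyz⟩
  have hvi : res (tw Cc M) (hUW i.1) v = twUntriv (a i.1) (hUa i.1) (C i) := hv i
  have h1 : q.app (U i.1) (C i) = 0 := by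
    have h2 := congrArg (fun w => twVal w (a i.1)) (congrArg (res (tw Cc M') (hUW i.1)) hq)
    dsimp only at h2
    rw [app_res, hvi, twVal_map, twVal_untriv_self, ← app_res] at h2
    have h3 := congrArg (res M' (le_inf le_rfl (hUa i.1) : U i.1 ≤ U i.1 ⊓ (a i.1).1)) h2
    rw [res_res, res_refl, show res (tw Cc M') (hUW i.1) (0 : Γ(tw Cc M', W)) = 0 from map_zero _,
      twVal_zero, show res M' _ (0 : Γ(M', U i.1 ⊓ (a i.1).1)) = 0 from map_zero _] at h3
    exact h3
  have h2 : q.app (X.basicOpen (f i)) (res M (hBV i) m) = 0 := by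
    have h3 := congrArg (q.app (X.basicOpen (f i))) (show res M (X.basicOpen_le _) (C i) =
      rX (X.basicOpen_le _) (f i) ^ (Kt + N₀) • res M (hBV i) m from by
        rw [hCdef, res_smul, map_pow, hBval i _ le_rfl, smul_smul, ← pow_add])
    rw [QCohLib.app_smul, ← app_res, h1, show res M' _ (0 : Γ(M', U i.1)) = 0 from map_zero _] at h3
    have hu : IsUnit (rX (X.basicOpen_le (f i)) (f i)) := RingedSpace.isUnit_res_basicOpen _ (f i)
    exact (hu.pow _).smul_eq_zero.mp h3.symm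
  rw [map_zero, ← AmpleLib.germ_res M' (hBV i) _ (x := y) hyD, app_res, h2, map_zero]

/-- finitely many maps, jointly surjective on generators of sections over an affine cover -/
theorem exists_epi_of_homs {X : Scheme.{u}} [CompactSpace X] (M : X.Modules) [Coh.IsQCoh M] (hFT : CohB1.IsFT M)
    (h : ∀ x : X, ∃ T : X.Opens, x ∈ T ∧ IsAffineOpen T ∧ ∀ m : Γ(M, T), ∃ (E : X.Modules) (β : E ⟶ M),
      FlatMod.IsFinLocFree E ∧ ∀ {M' : X.Modules} (q : M ⟶ M'), β ≫ q = 0 → q.app T m = 0) :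
    ∃ (E : X.Modules) (π : E ⟶ M), FlatMod.IsFinLocFree E ∧ Epi π := by
  classical
  choose T hxT hTa hhom using h
  obtain ⟨S, hS⟩ := isCompact_univ.elim_finite_subcover (fun x => (T x : Set X))
    (fun x => (T x).2) fun x _ => Set.mem_iUnion.mpr ⟨x, hxT x⟩
  choose R hR using fun x => (QCohLib.finite_of_isFT hFT (hTa x)).fg_top
  let I := Σ x : S, R x.1
  choose Q β hQi hQq using fun a : I => hhom a.1.1 a.2.1
  obtain ⟨E, π, hE, hfac⟩ : ∃ (E : X.Modules) (π : E ⟶ M), FlatMod.IsFinLocFree E ∧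
      ∀ {M' : X.Modules} (q : M ⟶ M'), π ≫ q = 0 → ∀ a : I, β a ≫ q = 0 := by
    suffices h : ∀ s : Finset I, ∃ (E : X.Modules) (π : E ⟶ M), FlatMod.IsFinLocFree E ∧
        ∀ {M' : X.Modules} (q : M ⟶ M'), π ≫ q = 0 → ∀ a ∈ s, β a ≫ q = 0 by
      obtain ⟨E, π, hE, h⟩ := h Finset.univ
      exact ⟨E, π, hE, fun q hq a => h q hq a (Finset.mem_univ a)⟩
    intro s
    induction s using Finset.induction with
    | empty =>
      exact ⟨Coh.structureModule X, 0,
        AmpleDevLib.isFinLocFree_of_isInvertible CurvLib.isInvertible_structureModule, fun _ _ a ha => by simp at ha⟩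
    | @insert a s ha ih =>
      obtain ⟨E, π, hE, h⟩ := ih
      refine ⟨Q a ⊞ E, biprod.desc (β a) π, Groth.Agent.PerfLib.isFinLocFree_biprod (hQi a) hE, fun q hq c hc => ?_⟩
      rcases Finset.mem_insert.mp hc with rfl | hc
      · simpa using congrArg (biprod.inl ≫ ·) hq
      · exact h q (by simpa using congrArg (biprod.inr ≫ ·) hq) c hc
  refine ⟨E, π, hE, Preadditive.epi_of_cancel_zero _ fun {M' : X.Modules} (q : M ⟶ M') hq => ?_⟩
  have hV : ∀ (x : S) (w : Γ(M, T x.1)), q.app _ w = 0 := by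
    intro x w
    have hw : w ∈ Submodule.span Γ(X, T x.1) (R x.1 : Set Γ(M, T x.1)) := by rw [hR x.1]; trivial
    induction hw using Submodule.span_induction with
    | mem a ha => exact hQq ⟨x, a, ha⟩ q (hfac q hq _)
    | zero => exact map_zero _
    | add a c _ _ h1 h2 => rw [map_add, h1, h2, add_zero]
    | smul r a _ h1 => rw [QCohLib.app_smul, h1, smul_zero]
  apply Scheme.Modules.hom_ext
  intro W
  refine ConcreteCategory.hom_ext _ _ fun w => TwistLib.mod_ext M' fun y hy => ?_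
  obtain ⟨x, hx, hyx⟩ := Set.mem_iUnion₂.mp (hS (Set.mem_univ y))
  obtain ⟨g, hgW, hyg⟩ := (hTa x).exists_basicOpen_le (V := W) ⟨y, hy⟩ hyx
  obtain ⟨n, j, hj⟩ := (QCohLib.localizingAt_of_qcqs M (hTa x).isCompact (hTa x).isQuasiSeparated g).exists_extend
    (res M hgW w)
  have h3 := congrArg (q.app (X.basicOpen g)) hj
  rw [QCohLib.app_map, hV ⟨x, hx⟩, map_zero, QCohLib.app_smul] at h3
  have hu : IsUnit (X.presheaf.map (homOfLE (X.basicOpen_le g)).op g) := RingedSpace.isUnit_res_basicOpen _ g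
  have h4 : q.app (X.basicOpen g) (res M hgW w) = 0 := (hu.pow n).smul_eq_zero.mp h3.symm
  change M'.presheaf.germ W y hy (q.app W w) = M'.presheaf.germ W y hy 0
  rw [map_zero, ← AmpleLib.germ_res M' hgW (q.app W w) (x := y) hyg, app_res, h4, map_zero]

theorem hasResolutionProperty_of_relAmple {X Y : Scheme.{u}} (f : X ⟶ Y) [CompactSpace Y] [QuasiSeparatedSpace Y]
    (hY : PerfAux.HasResolutionProperty Y) {L : X.Modules} (hL : RelAmple.IsRelAmple f L) :
    PerfAux.HasResolutionProperty X := by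
  haveI := hL.1
  haveI : QuasiSeparated f := by
    haveI := isSeparated_of_isRelAmple f hL
    infer_instance
  haveI : CompactSpace X := QuasiCompact.compactSpace_of_compactSpace f
  haveI : QuasiSeparatedSpace X := quasiSeparatedSpace_of_quasiSeparated f
  intro M hQ hFT
  haveI := hQ
  have hLi := invertible_of_relAmple hL
  refine exists_epi_of_homs M hFT fun x => ?_
  obtain ⟨V, hV, hxV, -⟩ := exists_isAffineOpen_mem_and_subset (U := (⊤ : Y.Opens)) (x := f x) trivial
  let W : X.Opens := f ⁻¹ᵁ V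
  obtain ⟨n, T', hn, ⟨σ', hσ'⟩, hxT', hT'a⟩ :=
    ((AmpleThLib.isAmple_iff (hL := (hL.2 ⟨V, hV⟩).1)).mp (hL.2 ⟨V, hV⟩)).2 ⟨x, hxV⟩
  let P := CohB1.tensorPow L n
  have hP : PicF.IsInvertible P := tensorPow_isInvertible hLi n
  obtain ⟨φ, -⟩ := exists_restrIso hLi W.ι n
  let σ₀ : Γ(P.restrict W.ι, ⊤) := φ.hom.app ⊤ σ'
  let σ : Γ(P, W) := res P (Scheme.Opens.ι_image_top W).ge (show Γ(P, W.ι ''ᵁ ⊤) from σ₀)
  let T : X.Opens := W.ι ''ᵁ T'
  have hTW : T ≤ W := image_le_opens T'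
  have hT : ∀ (y : X) (hy : y ∈ W), y ∈ T ↔ GenAt P σ hy := by
    intro y hy
    rw [genAt_res]
    have h1 := genAt_restrict_iff hP W.ι σ₀ ⟨y, hy⟩
    rw [genSet_iso (tensorPow_isInvertible (hL.2 ⟨V, hV⟩).1 n) (restrict_isInvertible hP W.ι) φ σ', hσ'] at h1
    refine Iff.trans ⟨fun h => ?_, fun h => ⟨⟨y, hy⟩, h, rfl⟩⟩ h1
    obtain ⟨z, hz, hzy⟩ := h
    have e : z = (⟨y, hy⟩ : W) := W.ι.isOpenEmbedding.injective hzy
    exact e ▸ hz
  refine ⟨T, ⟨⟨x, hxV⟩, hxT', rfl⟩, hT'a.image_of_isOpenImmersion W.ι, fun m => ?_⟩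
  obtain ⟨N, v, hv⟩ := exists_extend_twist hP (f.isCompact_preimage hV.isCompact)
    (f.isQuasiSeparated_preimage hV.isQuasiSeparated) σ hTW hT M m
  let C := powCocycle P N
  have hcov : ∀ y : X, ∃ a : Gens P, y ∈ a.1 := gens_cover hP
  haveI : Coh.IsQCoh (tw C M) := isQCoh_tw C M hcov
  haveI : Coh.IsQCoh ((Scheme.Modules.pushforward f).obj (tw C M)) := QCohLib.isQCoh_pushforward f (tw C M)
  let vV : Γ((Scheme.Modules.pushforward f).obj (tw C M), V) := (show Γ(tw C M, f ⁻¹ᵁ V) from v)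
  obtain ⟨S, hS, hvS⟩ := QCohLib.LocSub.exists_ft_through V hV vV
  obtain ⟨E, π, hE, hπ⟩ := hY S.toModules (QCohLib.LocSub.isQCoh_toModules S hS) (QCohLib.LocSub.isFT_toModules S hS)
  let adj := Scheme.Modules.pullbackPushforwardAdjunction f
  let γ : (Scheme.Modules.pullback f).obj E ⟶ tw C M := (adj.homEquiv _ _).symm (π ≫ S.ι)
  refine ⟨tw C.inv ((Scheme.Modules.pullback f).obj E), untw hcov γ,
    isFinLocFree_tw C.inv _ hcov (KFlatLib.isFinLocFree_pull f hE), fun {M'} q hq => hv q ?_⟩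
  have h1 := twMap_comp_eq_zero hcov γ q hq
  have h2 : (π ≫ S.ι) ≫ (Scheme.Modules.pushforward f).map (twMap C q) = 0 := by
    apply (adj.homEquiv _ _).symm.injective
    rw [Adjunction.homEquiv_naturality_right_symm]
    exact h1.trans (by rw [Adjunction.homEquiv_counit, Functor.map_zero, zero_comp])
  have h3 : S.ι ≫ (Scheme.Modules.pushforward f).map (twMap C q) = 0 :=
    hπ.left_cancellation _ _ ((Category.assoc _ _ _).symm.trans (h2.trans comp_zero.symm))
  have h4 := congr($(congrArg (fun φ => Scheme.Modules.Hom.app φ V) h3) (S.lift vV hvS))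
  change ((Scheme.Modules.pushforward f).map (twMap C q)).app V (S.ι.app V (S.lift vV hvS)) = 0 at h4
  rw [QCohLib.LocSub.ι_lift] at h4
  exact h4

end MiscFlat6
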