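import Groth.Agent.DvrDom.Mono
import Mathlib.AlgebraicGeometry.Fiber
import Mathlib.AlgebraicGeometry.Morphisms.Immersion
import Mathlib.RingTheory.Jacobson.Ring
import Mathlib.RingTheory.IntegralClosure.IsIntegralClosure.Basic

/-!
# Closed points of fibres and residue fields
-/

set_option autoImplicit false
universe u

open CategoryTheory Limits AlgebraicGeometry
open scoped TensorProduct

namespace MiscFlat6

theorem isClosed_range_of_isIntegral {Z : Scheme.{u}} {k L : CommRingCat.{u}} (hk : IsField k) (hL : IsField L)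
    (str : Z ⟶ Spec k) (a : Spec L ⟶ Z) (φ : k ⟶ L) (h : a ≫ str = Spec.map φ) (hint : φ.hom.IsIntegral) :
    IsClosed (Set.range a) := by
  haveI : IsDomain L := hL.isDomain
  haveI : IsDomain k := hk.isDomain
  haveI hsub : Subsingleton (PrimeSpectrum L) := ⟨fun p q => PrimeSpectrum.ext (by
    letI := hL.toField
    exact ((eq_bot_or_eq_top _).resolve_right p.isPrime.ne_top).trans ((eq_bot_or_eq_top _).resolve_right q.isPrime.ne_top).symm)⟩
  rw [← closure_subset_iff_isClosed]
  intro z hz
  obtain ⟨W, hW, hzW, -⟩ := exists_isAffineOpen_mem_and_subset (x := z) (U := ⊤) trivial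
  obtain ⟨_, hyW, y, rfl⟩ := mem_closure_iff.mp hz W W.isOpen hzW
  have hr : Set.range a ⊆ Set.range hW.fromSpec := by
    rintro _ ⟨w, rfl⟩
    rw [hW.range_fromSpec, @Subsingleton.elim (PrimeSpectrum L) hsub w y]
    exact hyW
  let ψ : Γ(Z, W) ⟶ L := Spec.preimage (IsOpenImmersion.lift hW.fromSpec a hr)
  have hψ : Spec.map ψ ≫ hW.fromSpec = a := by rw [Spec.map_preimage, IsOpenImmersion.lift_fac]
  let β : k ⟶ Γ(Z, W) := Spec.preimage (hW.fromSpec ≫ str)
  have hβ : β ≫ ψ = φ := by
    apply Spec.map_injective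
    rw [Spec.map_comp, Spec.map_preimage, Spec.map_preimage, IsOpenImmersion.lift_fac_assoc, h]
  have hmax : (RingHom.ker ψ.hom).IsMaximal := by
    haveI : IsField (ψ.hom.range) := by
      letI := φ.hom.toAlgebra
      letI : Algebra k ψ.hom.range := (ψ.hom.rangeRestrict.comp β.hom).toAlgebra
      let ι₀ : ψ.hom.range →ₐ[k] L :=
        { toRingHom := ψ.hom.range.subtype
          commutes' := fun c => DFunLike.congr_fun (congrArg CommRingCat.Hom.hom hβ) c }
      have hi : Algebra.IsIntegral k ψ.hom.range :=
        ⟨fun z => (isIntegral_algHom_iff ι₀ Subtype.val_injective).mp (hint z.1)⟩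
      exact isField_of_isIntegral_of_isField' hk
    have e : (RingHom.quotientKerEquivRange ψ.hom) = (RingHom.quotientKerEquivRange ψ.hom) := rfl
    exact Ideal.Quotient.maximal_of_isField _
      ((RingHom.quotientKerEquivRange ψ.hom).toMulEquiv.isField this)
  obtain ⟨p, hp⟩ : z ∈ Set.range hW.fromSpec := by rw [hW.range_fromSpec]; exact hzW
  have hcl : p ∈ closure (Set.range (Spec.map ψ)) := by
    rw [hW.fromSpec.isOpenEmbedding.isInducing.closure_eq_preimage_closure_image, Set.mem_preimage,
      ← Set.range_comp, ← TopCat.coe_comp, ← Scheme.Hom.comp_base, hψ, hp]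
    exact hz
  have hp' : p ∈ PrimeSpectrum.zeroLocus (RingHom.ker ψ.hom : Set Γ(Z, W)) := by
    rw [← PrimeSpectrum.closure_range_comap]; exact hcl
  have hy' : (Spec.map ψ y).asIdeal = RingHom.ker ψ.hom := by
    have : (y : PrimeSpectrum L).asIdeal = ⊥ :=
      congrArg PrimeSpectrum.asIdeal (@Subsingleton.elim (PrimeSpectrum L) hsub y ⟨⊥, Ideal.isPrime_bot⟩)
    show (y : PrimeSpectrum L).asIdeal.comap ψ.hom = _
    rw [this, RingHom.ker_eq_comap_bot]
  refine ⟨y, ?_⟩
  rw [← hp, ← hψ, Scheme.Hom.comp_apply]
  congr 1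
  exact PrimeSpectrum.ext (hy'.trans (hmax.eq_of_le (p : PrimeSpectrum Γ(Z, W)).isPrime.ne_top hp'))

variable {X S : Scheme.{u}} (f : X ⟶ S)

theorem isClosed_asFiber_of_isIntegral (x : X) (h : (f.residueFieldMap x).hom.IsIntegral) :
    IsClosed ({f.asFiber x} : Set (f.fiber (f x))) := by
  rw [← f.range_asFiberHom x]
  exact isClosed_range_of_isIntegral (Field.toIsField _) (Field.toIsField _) _ _ _
    (f.asFiberHom_fiberToSpecResidueField x) h

theorem isClosed_singleton_of_closed_fiber (x : X) (hx : IsClosed ({f.asFiber x} : Set (f.fiber (f x))))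
    (hs : IsClosed ({f x} : Set S)) : IsClosed ({x} : Set X) := by
  have h1 : Topology.IsClosedEmbedding (f.fiberι (f x)) :=
    ⟨(f.fiberι (f x)).isEmbedding, by rw [f.range_fiberι]; exact hs.preimage f.continuous⟩
  have := h1.isClosedMap _ hx
  rwa [Set.image_singleton, f.fiberι_asFiber] at this

theorem isClosed_asFiber_iff_finite [LocallyOfFiniteType f] (x : X) :
    IsClosed ({f.asFiber x} : Set (f.fiber (f x))) ↔ (f.residueFieldMap x).hom.Finite := by
  refine ⟨fun h => ?_, fun h => isClosed_asFiber_of_isIntegral f x h.to_isIntegral⟩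
  haveI : IsClosedImmersion (f.asFiberHom x) :=
    .of_isPreimmersion _ (by rw [f.range_asFiberHom]; exact h)
  haveI : LocallyOfFiniteType (f.fiberToSpecResidueField (f x)) :=
    MorphismProperty.pullback_snd _ _ inferInstance
  have : LocallyOfFiniteType (Spec.map (f.residueFieldMap x)) := by
    rw [← f.asFiberHom_fiberToSpecResidueField x]; infer_instance
  have hft : (f.residueFieldMap x).hom.FiniteType := (HasRingHomProperty.Spec_iff (P := @LocallyOfFiniteType)).mp this
  algebraize [(f.residueFieldMap x).hom]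
  exact RingHom.finite_algebraMap.mpr (finite_of_finite_type_of_isJacobsonRing (S.residueField (f x)) (X.residueField x))

/-- Finiteness of residue field extensions is stable under base change. -/
theorem finite_residueFieldMap_baseChange {X' S' : Scheme.{u}} (g : S' ⟶ S) (g' : X' ⟶ X) (f' : X' ⟶ S')
    (hsq : IsPullback g' f' f g) (x' : X') (h : (f.residueFieldMap (g' x')).hom.Finite) :
    (f'.residueFieldMap x').hom.Finite := by
  let k := S.residueField (f (g' x'))
  let α : X.residueField (g' x') ⟶ X'.residueField x' := g'.residueFieldMap x'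
  let β : S'.residueField (f' x') ⟶ X'.residueField x' := f'.residueFieldMap x'
  have hs : g (f' x') = f (g' x') := by rw [← Scheme.Hom.comp_apply, ← hsq.w, Scheme.Hom.comp_apply]
  let γ : k ⟶ S'.residueField (f' x') := (S.residueFieldCongr hs.symm).hom ≫ g.residueFieldMap (f' x')
  have hcomm : f.residueFieldMap (g' x') ≫ α = γ ≫ β := by
    apply Spec.map_injective
    rw [← cancel_mono (S.fromSpecResidueField (f (g' x')))]
    simp only [Spec.map_comp, Category.assoc, α, β, γ]
    rw [Scheme.Hom.SpecMap_residueFieldMap_fromSpecResidueField,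
      Scheme.Hom.SpecMap_residueFieldMap_fromSpecResidueField_assoc,
      Scheme.residueFieldCongr_fromSpecResidueField, Scheme.Hom.SpecMap_residueFieldMap_fromSpecResidueField,
      Scheme.Hom.SpecMap_residueFieldMap_fromSpecResidueField_assoc, hsq.w]
  have hjoint : ∀ {R : CommRingCat.{u}} (u v : X'.residueField x' ⟶ R), α ≫ u = α ≫ v → β ≫ u = β ≫ v → u = v := by
    intro R u v hu hv
    apply Spec.map_injective
    rw [← cancel_mono (X'.fromSpecResidueField x')]
    apply hsq.hom_ext
    · rw [Category.assoc, Category.assoc, ← Scheme.Hom.SpecMap_residueFieldMap_fromSpecResidueField,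
        ← Spec.map_comp_assoc, ← Spec.map_comp_assoc]
      exact congrArg (fun φ => Spec.map φ ≫ _) hu
    · rw [Category.assoc, Category.assoc, ← Scheme.Hom.SpecMap_residueFieldMap_fromSpecResidueField,
        ← Spec.map_comp_assoc, ← Spec.map_comp_assoc]
      exact congrArg (fun φ => Spec.map φ ≫ _) hv
  letI := (f.residueFieldMap (g' x')).hom.toAlgebra
  letI := γ.hom.toAlgebra
  letI := β.hom.toAlgebra
  letI : Algebra k (X'.residueField x') := (γ ≫ β).hom.toAlgebra
  haveI : IsScalarTower k (S'.residueField (f' x')) (X'.residueField x') := .of_algebraMap_eq fun _ => rfl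
  haveI : Module.Finite k (X.residueField (g' x')) := RingHom.finite_algebraMap.mp h
  let a : X.residueField (g' x') →ₐ[k] X'.residueField x' :=
    { toRingHom := α.hom, commutes' := fun c => DFunLike.congr_fun (congrArg CommRingCat.Hom.hom hcomm) c }
  let b := Algebra.TensorProduct.lift (Algebra.ofId (S'.residueField (f' x')) (X'.residueField x')) a
    (fun _ _ => Commute.all _ _)
  haveI : Module.Finite (S'.residueField (f' x')) b.range := Module.Finite.range b.toLinearMap
  haveI : IsField b.range := isField_of_isIntegral_of_isField' (Field.toIsField (S'.residueField (f' x')))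
  letI : Field b.range := this.toField
  have hepi : Epi (CommRingCat.ofHom (b.range.val.toRingHom)) := ⟨fun {R} u v huv => by
    refine hjoint u v ?_ ?_
    · ext c
      refine DFunLike.congr_fun (congrArg CommRingCat.Hom.hom huv) (⟨α c, ⟨1 ⊗ₜ c, ?_⟩⟩ : b.range)
      simp [b, a]
    · ext c
      refine DFunLike.congr_fun (congrArg CommRingCat.Hom.hom huv) (⟨β c, ⟨c ⊗ₜ 1, ?_⟩⟩ : b.range)
      simp [b]
      rfl⟩
  letI : Algebra b.range (X'.residueField x') := b.range.val.toRingHom.toAlgebra
  haveI : Algebra.IsEpi b.range (X'.residueField x') := CommRingCat.epi_iff_epi.mp hepi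
  have hsurj := DvrDomLib.surjective_of_isEpi_field b.range (X'.residueField x')
  exact RingHom.finite_algebraMap.mpr (Module.Finite.of_surjective b.range.val.toLinearMap hsurj)

theorem isClosed_asFiber_baseChange [LocallyOfFiniteType f] {X' S' : Scheme.{u}} (g : S' ⟶ S) (g' : X' ⟶ X)
    (f' : X' ⟶ S') (hsq : IsPullback g' f' f g) (x' : X')
    (hx : IsClosed ({f.asFiber (g' x')} : Set (f.fiber (f (g' x'))))) :
    IsClosed ({f'.asFiber x'} : Set (f'.fiber (f' x'))) :=
  isClosed_asFiber_of_isIntegral f' x'
    (finite_residueFieldMap_baseChange f g g' f' hsq x' ((isClosed_asFiber_iff_finite f _).mp hx)).to_isIntegral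

end MiscFlat6
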