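import Mathlib.AlgebraicGeometry.Morphisms.Separated
import Mathlib.AlgebraicGeometry.Morphisms.Immersion
import Mathlib.AlgebraicGeometry.PullbackCarrier
import Mathlib.AlgebraicGeometry.Properties
import Mathlib.RingTheory.MvPolynomial.Basic
import Mathlib.Algebra.MvPolynomial.Division
import Mathlib.RingTheory.Polynomial.UniqueFactorization

/-!
# A separatedness criterion, dominance via generic points, the punctured plane
-/

set_option autoImplicit false
universe u

open CategoryTheory Limits AlgebraicGeometry TopologicalSpace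

namespace MiscFlat6

theorem mem_range_diagonal_of_mem_closure {X S : Scheme.{u}} (f : X ⟶ S) [S.IsSeparated]
    {z : (pullback f f : Scheme.{u})} (hz : z ∈ closure (Set.range (pullback.diagonal f)))
    {U : X.Opens} (hU : IsAffineOpen U) (hx : pullback.fst f f z ∈ U) (hy : pullback.snd f f z ∈ U) :
    z ∈ Set.range (pullback.diagonal f) := by
  haveI : IsAffine (U : Scheme.{u}) := hU
  let m := pullback.map (U.ι ≫ f) (U.ι ≫ f) f f U.ι U.ι (𝟙 S) (by simp) (by simp)
  have hm : IsOpenImmersion m := inferInstance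
  have hzm : z ∈ Set.range m := by
    rw [Scheme.Pullback.range_map]
    exact ⟨⟨⟨_, hx⟩, rfl⟩, ⟨⟨_, hy⟩, rfl⟩⟩
  obtain ⟨w, rfl⟩ := hzm
  have hd : pullback.diagonal (U.ι ≫ f) ≫ m = U.ι ≫ pullback.diagonal f := by
    have e₁ : m ≫ pullback.fst f f = pullback.fst (U.ι ≫ f) (U.ι ≫ f) ≫ U.ι := pullback.lift_fst _ _ _
    have e₂ : m ≫ pullback.snd f f = pullback.snd (U.ι ≫ f) (U.ι ≫ f) ≫ U.ι := pullback.lift_snd _ _ _
    apply pullback.hom_ext <;> simp [e₁, e₂]
  have hsub : m ⁻¹' Set.range (pullback.diagonal f) ⊆ Set.range (pullback.diagonal (U.ι ≫ f)) := by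
    rintro v ⟨x, hx'⟩
    have hxU : x ∈ U := by
      have h1 : pullback.fst f f (m v) = U.ι (pullback.fst (U.ι ≫ f) (U.ι ≫ f) v) := by
        rw [← Scheme.Hom.comp_apply, ← Scheme.Hom.comp_apply]
        have e : m ≫ pullback.fst f f = pullback.fst (U.ι ≫ f) (U.ι ≫ f) ≫ U.ι := pullback.lift_fst _ _ _
        exact congrArg (fun φ => φ.base v) e
      rw [← hx', ← Scheme.Hom.comp_apply, pullback.diagonal_fst] at h1
      rw [show x = U.ι (pullback.fst (U.ι ≫ f) (U.ι ≫ f) v) from h1]
      exact (pullback.fst (U.ι ≫ f) (U.ι ≫ f) v).2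
    refine ⟨⟨x, hxU⟩, m.isOpenEmbedding.injective ?_⟩
    rw [← Scheme.Hom.comp_apply, hd, Scheme.Hom.comp_apply]
    exact hx'
  have hw : w ∈ closure (m ⁻¹' Set.range (pullback.diagonal f)) := by
    rw [← m.isOpenEmbedding.isOpenMap.preimage_closure_eq_closure_preimage m.continuous]
    exact hz
  obtain ⟨x, rfl⟩ : w ∈ Set.range (pullback.diagonal (U.ι ≫ f)) :=
    closure_minimal hsub (pullback.diagonal (U.ι ≫ f)).isClosedEmbedding.isClosed_range hw
  exact ⟨U.ι x, by rw [← Scheme.Hom.comp_apply, ← hd, Scheme.Hom.comp_apply]⟩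

theorem isSeparated_of_pairs {X S : Scheme.{u}} [IsAffine S] (f : X ⟶ S)
    (h : ∀ x y : X, f x = f y → ∃ U : X.Opens, IsAffineOpen U ∧ x ∈ U ∧ y ∈ U) : IsSeparated f := by
  refine ⟨IsClosedImmersion.of_isPreimmersion _ ?_⟩
  rw [← closure_subset_iff_isClosed]
  intro z hz
  obtain ⟨U, hU, hx, hy⟩ := h (pullback.fst f f z) (pullback.snd f f z) (by
    rw [← Scheme.Hom.comp_apply, pullback.condition, Scheme.Hom.comp_apply])
  exact mem_range_diagonal_of_mem_closure f hz hU hx hy

theorem isDominant_iff_generic {X S : Scheme.{u}} (f : X ⟶ S) (hX : (irreducibleComponents (X : Type u)).Finite) :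
    (IsDominant f ↔ ∀ s : S, closure {s} ∈ irreducibleComponents (S : Type u) → s ∈ Set.range f.base) ∧
      (IsDominant f → (irreducibleComponents (S : Type u)).Finite) := by
  classical
  have key : IsDominant f → ∀ C ∈ irreducibleComponents (S : Type u),
      ∃ D ∈ irreducibleComponents (X : Type u), C = closure (f '' D) := by
    intro hf C hC
    have hcov : C ⊆ ⋃ D ∈ hX.toFinset, closure (f '' D) := fun y _ => by
      have hcl : IsClosed (⋃ D ∈ hX.toFinset, closure (f '' D)) :=
        hX.toFinset.finite_toSet.isClosed_biUnion fun D _ => isClosed_closure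
      refine closure_minimal ?_ hcl (f.denseRange.closure_range.ge trivial)
      rintro _ ⟨x, rfl⟩
      obtain ⟨D, hD, hxD⟩ := Set.mem_sUnion.mp (sUnion_irreducibleComponents (X := X).ge (Set.mem_univ x))
      exact Set.mem_iUnion₂.mpr ⟨D, hX.mem_toFinset.mpr hD, subset_closure ⟨x, hxD, rfl⟩⟩
    obtain ⟨_, hz, hCz⟩ := isIrreducible_iff_sUnion_isClosed.mp hC.1 (hX.toFinset.image fun D => closure (f '' D))
      (fun z hz => by obtain ⟨D, -, rfl⟩ := Finset.mem_image.mp hz; exact isClosed_closure)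
      (hcov.trans (by
        intro y hy
        obtain ⟨D, hD, hyD⟩ := Set.mem_iUnion₂.mp hy
        exact ⟨_, Finset.mem_coe.mpr (Finset.mem_image_of_mem _ hD), hyD⟩))
    obtain ⟨D, hD, rfl⟩ := Finset.mem_image.mp hz
    refine ⟨D, hX.mem_toFinset.mp hD, Set.Subset.antisymm hCz (hC.2 ?_ hCz)⟩
    exact ((hX.mem_toFinset.mp hD).1.image f f.continuous.continuousOn).closure
  refine ⟨⟨fun hf s hs => ?_, fun H => ?_⟩, fun hf => ?_⟩
  · obtain ⟨D, hD, e⟩ := key hf _ hs
    have hg := hD.1.isGenericPoint_genericPoint (isClosed_of_mem_irreducibleComponents D hD)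
    have h1 : IsGenericPoint (f hD.1.genericPoint) (closure (f '' D)) := hg.image f.continuous
    have h2 : IsGenericPoint s (closure (f '' D)) := e
    exact ⟨hD.1.genericPoint, h1.eq h2⟩
  · refine ⟨fun s => ?_⟩
    have hC := irreducibleComponent_mem_irreducibleComponents s
    have hirr : IsIrreducible (irreducibleComponent s) := isIrreducible_irreducibleComponent
    have hg := hirr.isGenericPoint_genericPoint isClosed_irreducibleComponent
    obtain ⟨x, hx⟩ := H hirr.genericPoint (hg.def.symm ▸ hC)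
    refine closure_minimal ?_ isClosed_closure (hg.def.ge mem_irreducibleComponent)
    exact Set.singleton_subset_iff.mpr (subset_closure ⟨x, hx⟩)
  · refine (hX.image fun D => closure (f '' D)).subset fun C hC => ?_
    obtain ⟨D, hD, e⟩ := key hf C hC
    exact ⟨D, hD, e.symm⟩

theorem span_pair_eq_top_of_isAffineOpen {Y : Scheme.{u}} [IsIntegral Y] [IsAffine Y] (s t : Γ(Y, ⊤))
    (hs : Prime s) (ht0 : t ≠ 0) (hst : ¬ s ∣ t) (hU : IsAffineOpen (Y.basicOpen s ⊔ Y.basicOpen t)) :
    Ideal.span {s, t} = ⊤ := by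
  let U := Y.basicOpen s ⊔ Y.basicOpen t
  let res := fun {V : Y.Opens} (h : V ≤ ⊤) => (Y.presheaf.map (homOfLE h).op).hom
  have hY : IsAffineOpen (⊤ : Y.Opens) := isAffineOpen_top Y
  haveI hne : Nonempty (Y.basicOpen (s * t) : Scheme.{u}) := by
    by_contra h
    have hbot : Y.basicOpen (s * t) = ⊥ := by
      ext x
      exact ⟨fun hx => h ⟨⟨x, hx⟩⟩, fun hx => hx.elim⟩
    rcases mul_eq_zero.mp ((basicOpen_eq_bot_iff _).mp hbot) with h0 | h0
    exacts [hs.ne_zero h0, ht0 h0]
  have hD : Y.basicOpen (s * t) = Y.basicOpen s ⊓ Y.basicOpen t := Y.basicOpen_mul s t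
  haveI : Nonempty (Y.basicOpen s : Scheme.{u}) := by
    obtain ⟨⟨x, hx⟩⟩ := hne
    exact ⟨⟨x, (hD.le hx).1⟩⟩
  haveI : Nonempty (Y.basicOpen t : Scheme.{u}) := by
    obtain ⟨⟨x, hx⟩⟩ := hne
    exact ⟨⟨x, (hD.le hx).2⟩⟩
  -- sections over the union extend
  have hext : ∀ a : Γ(Y, U), ∃ c : Γ(Y, ⊤), Y.presheaf.map (homOfLE (le_sup_left : Y.basicOpen s ≤ U)).op a =
      res (le_top : Y.basicOpen s ≤ ⊤) c := by
    intro a
    let as := Y.presheaf.map (homOfLE (le_sup_left : Y.basicOpen s ≤ U)).op a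
    let at' := Y.presheaf.map (homOfLE (le_sup_right : Y.basicOpen t ≤ U)).op a
    haveI := hY.isLocalization_basicOpen s
    haveI := hY.isLocalization_basicOpen t
    obtain ⟨n, α, hα⟩ := IsLocalization.Away.surj s as
    obtain ⟨m, β, hβ⟩ := IsLocalization.Away.surj t at'
    let ls := (Y.presheaf.map (homOfLE (hD.le.trans inf_le_left)).op).hom
    let lt := (Y.presheaf.map (homOfLE (hD.le.trans inf_le_right)).op).hom
    have hcomp : ∀ {V W : Y.Opens} (h : W ≤ V) (z : Γ(Y, ⊤)),
        Y.presheaf.map (homOfLE h).op (res (le_top : V ≤ ⊤) z) = res (le_top : W ≤ ⊤) z := fun h z => by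
      simp only [res, ← CommRingCat.comp_apply, ← Functor.map_comp]
      rfl
    have hag : ls as = lt at' := by
      simp only [ls, lt, as, at', ← CommRingCat.comp_apply, ← Functor.map_comp]
      rfl
    have h1 : ls as * res (le_top : Y.basicOpen (s * t) ≤ ⊤) s ^ n = res le_top α := by
      have := congrArg ls (show as * res (le_top : Y.basicOpen s ≤ ⊤) s ^ n = res le_top α from hα)
      rw [map_mul, map_pow] at this
      exact ((congrArg (fun z => ls as * z ^ n) (hcomp _ s)).symm.trans this).trans (hcomp _ α)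
    have h2 : lt at' * res (le_top : Y.basicOpen (s * t) ≤ ⊤) t ^ m = res le_top β := by
      have := congrArg lt (show at' * res (le_top : Y.basicOpen t ≤ ⊤) t ^ m = res le_top β from hβ)
      rw [map_mul, map_pow] at this
      exact ((congrArg (fun z => lt at' * z ^ m) (hcomp _ t)).symm.trans this).trans (hcomp _ β)
    have h3 : α * t ^ m = β * s ^ n := by
      apply map_injective_of_isIntegral Y (homOfLE (le_top : Y.basicOpen (s * t) ≤ ⊤))
      show res _ (α * t ^ m) = res _ (β * s ^ n)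
      rw [map_mul, map_mul, map_pow, map_pow, ← h1, ← h2, hag]
      ring
    obtain ⟨c, hc⟩ : s ^ n ∣ α := hs.pow_dvd_of_dvd_mul_right n
      (fun h => hst (hs.dvd_of_dvd_pow h)) ⟨β, h3.trans (mul_comm _ _)⟩
    refine ⟨c, ?_⟩
    have hu : IsUnit (res (le_top : Y.basicOpen s ≤ ⊤) s ^ n) :=
      (RingedSpace.isUnit_res_basicOpen _ s).pow n
    apply hu.mul_right_cancel
    show as * _ = _
    rw [show as * res (le_top : Y.basicOpen s ≤ ⊤) s ^ n = res le_top α from hα, hc, map_mul, map_pow, mul_comm]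
  let sU := res (le_top : U ≤ ⊤) s
  let tU := res (le_top : U ≤ ⊤) t
  have hspan : Ideal.span {sU, tU} = ⊤ := by
    rw [← hU.iSup_basicOpen_eq_self_iff]
    refine le_antisymm (iSup_le fun g => Y.basicOpen_le g.1) ?_
    have hs' : Y.basicOpen sU = Y.basicOpen s := by
      show Y.basicOpen (Y.presheaf.map _ s) = _
      rw [Scheme.basicOpen_res]
      exact inf_eq_right.mpr le_sup_left
    have ht' : Y.basicOpen tU = Y.basicOpen t := by
      show Y.basicOpen (Y.presheaf.map _ t) = _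
      rw [Scheme.basicOpen_res]
      exact inf_eq_right.mpr le_sup_right
    refine sup_le ?_ ?_
    · exact hs'.symm.le.trans <| le_iSup (fun g : ({sU, tU} : Set Γ(Y, U)) => Y.basicOpen g.1) ⟨sU, Set.mem_insert _ _⟩
    · exact ht'.symm.le.trans <| le_iSup (fun g : ({sU, tU} : Set Γ(Y, U)) => Y.basicOpen g.1) ⟨tU, Set.mem_insert_of_mem _ rfl⟩
  obtain ⟨a, b, hab⟩ := Ideal.mem_span_pair.mp (hspan ▸ Submodule.mem_top : (1 : Γ(Y, U)) ∈ Ideal.span {sU, tU})
  obtain ⟨c, hc⟩ := hext a
  obtain ⟨d, hd⟩ := hext b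
  rw [Ideal.eq_top_iff_one, Ideal.mem_span_pair]
  refine ⟨c, d, map_injective_of_isIntegral Y (homOfLE (le_top : Y.basicOpen s ≤ ⊤)) ?_⟩
  have := congrArg (Y.presheaf.map (homOfLE (le_sup_left : Y.basicOpen s ≤ U)).op) hab
  rw [map_add, map_mul, map_mul, map_one, hc, hd] at this
  show res _ (c * s + d * t) = res _ 1
  rw [map_add, map_mul, map_mul, map_one]
  refine Eq.trans ?_ this
  congr 2 <;>
  · simp only [sU, tU, res, ← CommRingCat.comp_apply, ← Functor.map_comp]
    rfl

open MvPolynomial in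
theorem not_isAffineOpen_plane (K : Type u) [Field K] :
    ¬ IsAffineOpen (X := Spec (CommRingCat.of (MvPolynomial (Fin 2) K)))
      (PrimeSpectrum.basicOpen (X 0 : MvPolynomial (Fin 2) K) ⊔ PrimeSpectrum.basicOpen (X 1 : MvPolynomial (Fin 2) K)) := by
  intro hU
  let R := CommRingCat.of (MvPolynomial (Fin 2) K)
  let e : R →+* Γ(Spec R, ⊤) := (Scheme.ΓSpecIso R).inv.hom
  let e' : Γ(Spec R, ⊤) →+* R := (Scheme.ΓSpecIso R).hom.hom
  have he : ∀ r, e' (e r) = r := fun r => (Scheme.ΓSpecIso R).inv_hom_id_apply r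
  haveI : IsDomain R := inferInstanceAs (IsDomain (MvPolynomial (Fin 2) K))
  have hne : ¬ (X 0 : MvPolynomial (Fin 2) K) ∣ X 1 := fun ⟨q, hq⟩ => by
    have := congrArg (eval (fun i : Fin 2 => if i = 0 then (0 : K) else 1)) hq
    simp at this
  have hb : ∀ r : R, (Spec R).basicOpen (e r) = PrimeSpectrum.basicOpen r := fun r => basicOpen_eq_of_affine r
  have h1 := span_pair_eq_top_of_isAffineOpen (Y := Spec R) (e (X 0)) (e (X 1))
    (by
      have hp : Prime (X 0 : MvPolynomial (Fin 2) K) := X_prime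
      exact (MulEquiv.prime_iff (Scheme.ΓSpecIso R).commRingCatIsoToRingEquiv.symm.toMulEquiv).mpr hp)
    (fun h => X_ne_zero (R := K) (1 : Fin 2) (by have h' := congrArg e' h; rw [map_zero, he] at h'; exact h'))
    (fun h => hne (by have h' := map_dvd e' h; rw [he, he] at h'; exact h'))
    (by rw [hb, hb]; exact hU)
  obtain ⟨a, b, hab⟩ := Ideal.mem_span_pair.mp (h1 ▸ Submodule.mem_top : (1 : Γ(Spec R, ⊤)) ∈ Ideal.span {e (X 0), e (X 1)})
  have h2 : e' a * (X 0 : MvPolynomial (Fin 2) K) + e' b * X 1 = 1 := by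
    have := congrArg e' hab
    rwa [map_add, map_mul, map_mul, map_one, he, he] at this
  have := congrArg (eval (fun _ : Fin 2 => (0 : K))) h2
  simp at this

end MiscFlat6
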