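import Groth.Agent.ProfSpecLib.Basic
import Groth.Agent.MiscFlat6.SepDom
import Mathlib.Topology.KrullDimension
import Mathlib.AlgebraicGeometry.Limits
import Mathlib.AlgebraicGeometry.Noetherian
import Mathlib.Topology.Connected.TotallyDisconnected

/-!
# Schemes of dimension zero
-/

set_option autoImplicit false
universe u

open CategoryTheory Limits AlgebraicGeometry TopologicalSpace

namespace MiscFlat6

variable (X : Scheme.{u})

theorem isSeparated_of_t2 [T2Space X] : X.IsSeparated := by
  refine ⟨⟨IsClosedImmersion.of_isPreimmersion _ ?_⟩⟩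
  let f := terminal.from X
  show IsClosed (Set.range (pullback.diagonal f))
  rw [← closure_subset_iff_isClosed]
  intro z hz
  have heq : pullback.fst f f z = pullback.snd f f z := by
    refine closure_minimal ?_ (isClosed_eq (pullback.fst f f).continuous (pullback.snd f f).continuous) hz
    rintro _ ⟨x, rfl⟩
    show pullback.fst f f (pullback.diagonal f x) = pullback.snd f f (pullback.diagonal f x)
    rw [← Scheme.Hom.comp_apply, ← Scheme.Hom.comp_apply, pullback.diagonal_fst, pullback.diagonal_snd]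
  obtain ⟨U, hU, hx, -⟩ := exists_isAffineOpen_mem_and_subset (x := pullback.fst f f z) (U := ⊤) trivial
  exact mem_range_diagonal_of_mem_closure f hz hU hx (heq ▸ hx)

theorem isClosed_singleton_of_dim_le_zero (h : topologicalKrullDim X ≤ 0) (x : X) : IsClosed ({x} : Set X) := by
  have hmax : ∀ Z : IrreducibleCloseds X, IsMax Z := Order.krullDim_nonpos_iff_forall_isMax.mp h
  rw [← closure_subset_iff_isClosed]
  intro y hy
  let Zx : IrreducibleCloseds X := ⟨closure {x}, isIrreducible_singleton.closure, isClosed_closure⟩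
  let Zy : IrreducibleCloseds X := ⟨closure {y}, isIrreducible_singleton.closure, isClosed_closure⟩
  have hle : Zy ≤ Zx := closure_minimal (Set.singleton_subset_iff.mpr hy) isClosed_closure
  have hge : Zx ≤ Zy := hmax Zy hle
  have : y = x := (inseparable_iff_closure_eq.mpr (le_antisymm (SetLike.coe_subset_coe.mpr hle) (SetLike.coe_subset_coe.mpr hge))).eq
  exact this

theorem t2Space_affineOpen (h : topologicalKrullDim X ≤ 0) {U : X.Opens} (hU : IsAffineOpen U) :
    T2Space (U : Scheme.{u}) := by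
  haveI : T2Space (PrimeSpectrum Γ(X, U)) := ProfSpecLib.t2Space _ fun q => by
    rw [← PrimeSpectrum.isClosed_singleton_iff_isMaximal]
    have h1 := (isClosed_singleton_of_dim_le_zero X h (hU.fromSpec q)).preimage hU.fromSpec.continuous
    have h2 : (hU.fromSpec ⁻¹' {hU.fromSpec q} : Set (Spec Γ(X, U))) = {q} :=
      Set.ext fun w => ⟨fun hw => hU.fromSpec.isOpenEmbedding.injective hw, fun hw => congrArg hU.fromSpec hw⟩
    rw [h2] at h1
    exact h1
  haveI : T2Space (Spec Γ(X, U)) := ‹T2Space (PrimeSpectrum Γ(X, U))›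
  exact hU.isoSpec.hom.isOpenEmbedding.isEmbedding.t2Space

theorem t2Space_of_dim_le_zero [QuasiSeparatedSpace X] (h : topologicalKrullDim X ≤ 0) : T2Space X := by
  refine ⟨fun x y hxy => ?_⟩
  obtain ⟨U, hU, hxU, -⟩ := exists_isAffineOpen_mem_and_subset (x := x) (U := ⊤) trivial
  haveI : T2Space (U : Set X) := t2Space_affineOpen X h hU
  by_cases hyU : y ∈ U
  · obtain ⟨A, B, hA, hB, hxA, hyB, hAB⟩ := t2_separation (show (⟨x, hxU⟩ : (U : Set X)) ≠ ⟨y, hyU⟩ from
      fun e => hxy (congrArg Subtype.val e))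
    exact ⟨Subtype.val '' A, Subtype.val '' B, U.isOpen.isOpenMap_subtype_val _ hA,
      U.isOpen.isOpenMap_subtype_val _ hB, ⟨_, hxA, rfl⟩, ⟨_, hyB, rfl⟩,
      (Set.disjoint_image_iff Subtype.val_injective).mpr hAB⟩
  · obtain ⟨V, hV, hyV, -⟩ := exists_isAffineOpen_mem_and_subset (x := y) (U := ⊤) trivial
    haveI : T2Space V := t2Space_affineOpen X h hV
    haveI : T2Space (V : Set X) := t2Space_affineOpen X h hV
    have hc : IsCompact ((U : Set X) ∩ V) :=
      QuasiSeparatedSpace.inter_isCompact _ _ U.isOpen hU.isCompact V.isOpen hV.isCompact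
    have hcV : IsClosed (Subtype.val ⁻¹' ((U : Set X) ∩ V) : Set (V : Scheme.{u})) :=
      (Topology.IsInducing.subtypeVal.isCompact_preimage' hc (by simp)).isClosed
    refine ⟨U, Subtype.val '' (Subtype.val ⁻¹' ((U : Set X) ∩ V) : Set (V : Scheme.{u}))ᶜ, U.isOpen,
      V.isOpen.isOpenMap_subtype_val _ hcV.isOpen_compl, hxU, ⟨⟨y, hyV⟩, fun hh => hyU hh.1, rfl⟩, ?_⟩
    rw [Set.disjoint_left]
    rintro z hz ⟨w, hw, rfl⟩
    exact hw ⟨hz, w.2⟩

theorem isSeparated_of_dim_le_zero [QuasiSeparatedSpace X] (h : topologicalKrullDim X ≤ 0) : X.IsSeparated :=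
  haveI := t2Space_of_dim_le_zero X h
  isSeparated_of_t2 X

theorem totallyDisconnected_of_dim_le_zero [X.IsSeparated] (h : topologicalKrullDim X ≤ 0) :
    TotallyDisconnectedSpace X := by
  haveI := t2Space_of_dim_le_zero X h
  refine @TotallySeparatedSpace.totallyDisconnectedSpace _ _ ⟨fun x _ y _ hxy => ?_⟩
  obtain ⟨U, hU, hxU, hsub⟩ := exists_isAffineOpen_mem_and_subset (x := x)
    (U := ⟨{y}ᶜ, isClosed_singleton.isOpen_compl⟩) hxy
  exact ⟨U, (U : Set X)ᶜ, U.isOpen, hU.isCompact.isClosed.isOpen_compl, hxU,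
    fun hy => hsub hy rfl, by simp, disjoint_compl_right⟩

theorem isAffineOpen_of_clopen {U V : X.Opens} (hV : IsAffineOpen V) (hUV : U ≤ V) (hU : IsClosed (U : Set X)) :
    IsAffineOpen U := by
  haveI : IsClosedImmersion (X.homOfLE hUV) := by
    refine .of_isPreimmersion _ ?_
    have : Set.range (X.homOfLE hUV) = (Subtype.val ⁻¹' (U : Set X) : Set (V : Scheme.{u})) := by
      ext z
      constructor
      · rintro ⟨w, rfl⟩
        show (X.homOfLE hUV w).1 ∈ U
        rw [Scheme.homOfLE_apply]; exact w.2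
      · intro hz
        exact ⟨⟨z.1, hz⟩, Subtype.ext (Scheme.homOfLE_apply _ _)⟩
    rw [this]
    exact hU.preimage continuous_subtype_val
  haveI : IsAffine (V : Scheme.{u}) := hV
  exact isAffine_of_isAffineHom (X.homOfLE hUV)

theorem isAffineOpen_of_isCompact [X.IsSeparated] (h : topologicalKrullDim X ≤ 0) (U : X.Opens)
    (hU : IsCompact (U : Set X)) : IsAffineOpen U := by
  haveI := t2Space_of_dim_le_zero X h
  refine compact_open_induction_on (P := fun U => IsAffineOpen U) U hU (isAffineOpen_bot X)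
    fun S hS V hV' => ?_
  let W : X.Opens := ⟨(V.1 : Set X) \ S, V.1.isOpen.sdiff hS.isClosed⟩
  have hW : IsAffineOpen W := isAffineOpen_of_clopen X V.2 (fun z hz => hz.1)
    (V.2.isCompact.isClosed.sdiff S.isOpen)
  have : S ⊔ V.1 = S ⊔ W := by
    ext z
    show z ∈ (S : Set X) ∪ V.1 ↔ z ∈ (S : Set X) ∪ ((V.1 : Set X) \ S)
    rw [Set.union_sdiff_self]
  rw [this]
  refine hV'.sup_of_disjoint hW ?_
  rw [disjoint_iff_inf_le]
  exact fun z hz => (hz.2.2 hz.1).elim

theorem components_of_domain_stalks [IsNoetherian X] (hX : ∀ x : X, IsDomain (X.presheaf.stalk x)) :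
    (∀ Z ∈ irreducibleComponents (X : Type u), IsOpen Z) ∧
      ∀ x : X, ∃! Z, Z ∈ irreducibleComponents (X : Type u) ∧ x ∈ Z := by
  classical
  have key : ∀ Z ∈ irreducibleComponents (X : Type u), ∀ Z' ∈ irreducibleComponents (X : Type u),
      ∀ x ∈ Z, x ∈ Z' → Z = Z' := by
    intro Z hZ Z' hZ' x hx hx'
    haveI := hX x
    let p₀ : Spec (X.presheaf.stalk x) := ⟨⊥, Ideal.isPrime_bot⟩
    have hg : ∀ Z ∈ irreducibleComponents (X : Type u), x ∈ Z → Z = closure {X.fromSpecStalk x p₀} := by
      intro Z hZ hx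
      have hη := hZ.1.isGenericPoint_genericPoint (isClosed_of_mem_irreducibleComponents Z hZ)
      have hsp : hZ.1.genericPoint ⤳ x := hη.specializes hx
      obtain ⟨p, hp⟩ : hZ.1.genericPoint ∈ Set.range (X.fromSpecStalk x) := by
        rw [Scheme.range_fromSpecStalk]; exact hsp
      have h1 : X.fromSpecStalk x p₀ ⤳ hZ.1.genericPoint :=
        hp ▸ ((PrimeSpectrum.le_iff_specializes p₀ p).mp bot_le).map (X.fromSpecStalk x).continuous
      have h2 : Z ⊆ closure {X.fromSpecStalk x p₀} := by
        rw [← hη.def]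
        exact specializes_iff_closure_subset.mp h1
      exact Set.Subset.antisymm h2 (hZ.2 isIrreducible_singleton.closure h2)
    exact (hg Z hZ hx).trans (hg Z' hZ' hx').symm
  refine ⟨fun Z hZ => ?_, fun x => ?_⟩
  · have hfin := NoetherianSpace.finite_irreducibleComponents (α := X)
    have e : Z = (⋃ Z' ∈ irreducibleComponents (X : Type u) \ {Z}, Z')ᶜ := by
      ext z
      simp only [Set.mem_compl_iff, Set.mem_iUnion, not_exists]
      constructor
      · intro hz Z' hZ' hz'
        exact hZ'.2 (key Z' hZ'.1 Z hZ z hz' hz)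
      · intro hz
        obtain ⟨Z', hZ', hzZ'⟩ := Set.mem_sUnion.mp (sUnion_irreducibleComponents (X := (X : Type u)).ge (Set.mem_univ z))
        by_cases hZZ : Z' = Z
        · exact hZZ ▸ hzZ'
        · exact absurd hzZ' (hz Z' ⟨hZ', hZZ⟩)
    rw [e]
    exact ((hfin.subset Set.sdiff_subset).isClosed_biUnion fun Z' hZ' =>
      isClosed_of_mem_irreducibleComponents Z' hZ'.1).isOpen_compl
  · exact ⟨irreducibleComponent x, ⟨irreducibleComponent_mem_irreducibleComponents x, mem_irreducibleComponent⟩,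
      fun Z hZ => key Z hZ.1 _ (irreducibleComponent_mem_irreducibleComponents x) x hZ.2 mem_irreducibleComponent⟩

end MiscFlat6
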