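import Groth.Prelude.Def_Pi1
import Groth.Agent.NormalLib.Serre
import Groth.Agent.CatLib.CM
import Mathlib.RingTheory.RegularLocalRing.Defs
import Mathlib.RingTheory.DiscreteValuationRing.TFAE

/-!
# Normal schemes: components, low dimension
-/

set_option autoImplicit false
universe u

open CategoryTheory Limits AlgebraicGeometry TopologicalSpace IsLocalRing RingTheory.Sequence

namespace MiscFlat6

theorem components_of_normal (X : Scheme.{u})
    (hfin : ∀ U : X.Opens, IsCompact (U : Set X) → (irreducibleComponents ↥U).Finite)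
    (hN : Pi1.IsNormalScheme X) :
    (∀ Z ∈ irreducibleComponents X, IsOpen Z) ∧
      ∀ Z ∈ irreducibleComponents X, ∀ Z' ∈ irreducibleComponents X, Z ≠ Z' → Disjoint Z Z' := by
  classical
  have hg : ∀ (x : X), ∀ Z ∈ irreducibleComponents (X : Type u), x ∈ Z →
      haveI := (hN x).1
      Z = closure {X.fromSpecStalk x (⟨⊥, Ideal.isPrime_bot⟩ : PrimeSpectrum (X.presheaf.stalk x))} := by
    intro x Z hZ hx
    haveI := (hN x).1
    obtain ⟨ξ, hξ⟩ := QuasiSober.sober hZ.1 (isClosed_of_mem_irreducibleComponents Z hZ)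
    obtain ⟨a, ha⟩ : ξ ∈ Set.range (X.fromSpecStalk x) := by
      rw [Scheme.range_fromSpecStalk]; exact hξ.specializes hx
    let z : Spec (X.presheaf.stalk x) := (⟨⊥, Ideal.isPrime_bot⟩ : PrimeSpectrum (X.presheaf.stalk x))
    have hza : z ⤳ a := (PrimeSpectrum.le_iff_specializes _ _).mp bot_le
    refine hZ.eq_of_le isIrreducible_singleton.closure ?_
    rw [← hξ.def, ← ha]
    exact specializes_iff_closure_subset.mp (hza.map (X.fromSpecStalk x).continuous)
  have key : ∀ Z ∈ irreducibleComponents (X : Type u), ∀ Z' ∈ irreducibleComponents (X : Type u),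
      ∀ x ∈ Z, x ∈ Z' → Z = Z' := fun Z hZ Z' hZ' x hx hx' => (hg x Z hZ hx).trans (hg x Z' hZ' hx').symm
  refine ⟨fun Z hZ => isOpen_iff_mem_nhds.mpr fun x hx => ?_, fun Z hZ Z' hZ' hne =>
    Set.disjoint_left.mpr fun x hx hx' => hne (key Z hZ Z' hZ' x hx hx')⟩
  obtain ⟨V, hV, hxV, -⟩ := exists_isAffineOpen_mem_and_subset (x := x) (U := ⊤) trivial
  let M := {Z' ∈ irreducibleComponents (X : Type u) | (Z' ∩ V).Nonempty}
  have hM : M.Finite := by
    refine Set.Finite.of_injOn (f := fun Z' => (Subtype.val : V → X) ⁻¹' Z') (t := irreducibleComponents ↥V) ?_ ?_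
      (hfin V hV.isCompact)
    · rintro Z' ⟨hZ', z, hz, hzV⟩
      refine preimage_mem_irreducibleComponents hZ' V.isOpen.isOpenEmbedding_subtypeVal ?_
      exact ⟨z, hz, ⟨⟨z, hzV⟩, rfl⟩⟩
    · rintro Z₁ ⟨hZ₁, z, hz, hzV⟩ Z₂ ⟨hZ₂, -⟩ he
      exact key Z₁ hZ₁ Z₂ hZ₂ z hz ((Set.ext_iff.mp he ⟨z, hzV⟩).mp hz)
  refine Filter.mem_of_superset ((V.isOpen.sdiff ((hM.subset (Set.sdiff_subset (t := {Z}))).isClosed_biUnion
    fun Z' hZ' => isClosed_of_mem_irreducibleComponents Z' hZ'.1.1)).mem_nhds ⟨hxV, ?_⟩) ?_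
  · simp only [Set.mem_iUnion, not_exists]
    exact fun Z' hZ' hx' => hZ'.2 (key Z' hZ'.1.1 Z hZ x hx' hx)
  · rintro y ⟨hyV, hy⟩
    simp only [Set.mem_iUnion, not_exists] at hy
    obtain ⟨Z', hZ', hyZ'⟩ := Set.mem_sUnion.mp (sUnion_irreducibleComponents (X := (X : Type u)).ge (Set.mem_univ y))
    by_cases hZZ : Z' = Z
    · exact hZZ ▸ hyZ'
    · exact absurd hyZ' (hy Z' ⟨⟨hZ', y, hyZ', hyV⟩, hZZ⟩)

theorem ringKrullDim_stalk_le (X : Scheme.{u}) (x : X) :
    ringKrullDim (X.presheaf.stalk x) ≤ topologicalKrullDim X := by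
  rw [← PrimeSpectrum.topologicalKrullDim_eq_ringKrullDim]
  exact (X.fromSpecStalk x).isEmbedding.isInducing.topologicalKrullDim_le

theorem isRegularLocalRing_of_normal_dim_le_one (A : Type u) [CommRing A] [IsDomain A] [IsLocalRing A]
    [IsNoetherianRing A] [IsIntegrallyClosed A] (hd : ringKrullDim A ≤ 1) : IsRegularLocalRing A := by
  by_cases hF : IsField A
  · exact NormalLib.isRegularLocalRing_of_isField A hF
  haveI : Ring.KrullDimLE 1 A := Ring.krullDimLE_iff.mpr (by simpa using hd)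
  have hpp : (maximalIdeal A).IsPrincipal := by
    refine ((IsDiscreteValuationRing.TFAE A hF).out 3 4).mp ?_
    refine ⟨inferInstance, maximalIdeal A, ⟨fun e => hF (isField_iff_maximalIdeal_eq.mpr e), inferInstance⟩,
      fun P ⟨hP0, hP⟩ => ?_⟩
    haveI := hP
    exact eq_maximalIdeal (Ring.krullDimLE_one_iff_of_noZeroDivisors.mp inferInstance P hP0 hP)
  haveI : IsDiscreteValuationRing A := ((IsDiscreteValuationRing.TFAE A hF).out 4 0).mp hpp
  refine IsRegularLocalRing.of_spanFinrank_maximalIdeal_le (R := A) ?_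
  rw [IsDiscreteValuationRing.ringKrullDim_eq_one A]
  obtain ⟨t, ht⟩ := hpp
  have h1 : (maximalIdeal A).spanFinrank ≤ 1 := by
    rw [ht]
    exact (Submodule.spanFinrank_span_le_ncard_of_finite (Set.finite_singleton t)).trans (Set.ncard_singleton t).le
  exact_mod_cast h1

theorem isCM_of_normal_dim_le_two (A : Type u) [CommRing A] [IsDomain A] [IsLocalRing A]
    [IsNoetherianRing A] [IsIntegrallyClosed A] (hd : ringKrullDim A ≤ 2) :
    LocCoh.IsCohenMacaulayLocalRing A := by
  classical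
  by_cases hd1 : ringKrullDim A ≤ 1
  · haveI := isRegularLocalRing_of_normal_dim_le_one A hd1
    exact SMTLib.isCohenMacaulayLocalRing_of_isCM _ (CommAlgDim.isCM_of_isRegularLocalRing A)
  have hF : maximalIdeal A ≠ ⊥ := fun e => hd1 (by
    haveI := (isField_iff_maximalIdeal_eq.mpr e)
    rw [ringKrullDim_eq_zero_of_isField this]; exact zero_le_one)
  obtain ⟨a, ha, ha0⟩ := Submodule.exists_mem_ne_zero_of_ne_bot hF
  obtain ⟨b, hb, hbr⟩ : ∃ b ∈ maximalIdeal A, IsSMulRegular (A ⧸ Ideal.span {a}) b := by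
    by_contra hcon
    push Not at hcon
    have hfin := associatedPrimes.finite A (A ⧸ Ideal.span {a})
    have hsub : (maximalIdeal A : Set A) ⊆ ⋃ P ∈ associatedPrimes A (A ⧸ Ideal.span {a}), (P : Set A) := by
      rw [biUnion_associatedPrimes_eq_compl_regular]
      exact fun z hz => hcon z hz
    obtain ⟨P, hP, hle⟩ := (Ideal.subset_union_prime (s := hfin.toFinset) (f := fun P : Ideal A => P) ⊥ ⊥
      (fun P hP _ _ => (hfin.mem_toFinset.mp hP).isPrime)).mp (by simpa using hsub)
    have hP' := hfin.mem_toFinset.mp hP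
    rw [← (maximalIdeal.isMaximal A).eq_of_le hP'.isPrime.ne_top hle] at hP'
    exact hd1 (NormalLib.ringKrullDim_eq_one_of_maximalIdeal_mem_associatedPrimes ha0 hP').le
  refine SMTLib.isCohenMacaulayLocalRing_of_isCM _ (CatLib.isCM_of_hasSeqIn (n := 2) ⟨[a, b], rfl, ?_, ?_⟩
    (by exact_mod_cast hd))
  · intro r hr
    simp only [List.mem_cons, List.not_mem_nil, or_false] at hr
    rcases hr with rfl | rfl <;> assumption
  · refine ⟨fun i hi => ?_⟩
    have hi' : i = 0 ∨ i = 1 := by simp only [List.length_cons, List.length_nil] at hi; omega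
    rcases hi' with rfl | rfl
    · have e : Ideal.ofList ([a, b].take 0) • (⊤ : Submodule A A) = ⊥ := by simp
      exact ((Submodule.quotEquivOfEqBot _ e).isSMulRegular_congr a).mpr
        (fun x y h => mul_left_cancel₀ ha0 h)
    · have e : Ideal.ofList ([a, b].take 1) • (⊤ : Submodule A A) = Ideal.span {a} := by
        simp [Ideal.ofList, Ideal.smul_eq_mul]
      exact ((Submodule.quotEquivOfEq _ _ e).isSMulRegular_congr b).mpr hbr

theorem isRegularLocalRing_stalk_of_normal (X : Scheme.{u}) [IsLocallyNoetherian X]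
    (hN : Pi1.IsNormalScheme X) (hd : topologicalKrullDim X ≤ 1) (x : X) :
    IsRegularLocalRing (X.presheaf.stalk x) := by
  haveI := (hN x).1
  haveI := (hN x).2
  exact isRegularLocalRing_of_normal_dim_le_one _ ((ringKrullDim_stalk_le X x).trans hd)

theorem isCohenMacaulayLocalRing_stalk_of_normal (X : Scheme.{u}) [IsLocallyNoetherian X]
    (hN : Pi1.IsNormalScheme X) (hd : topologicalKrullDim X ≤ 2) (x : X) :
    LocCoh.IsCohenMacaulayLocalRing (X.presheaf.stalk x) := by
  haveI := (hN x).1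
  haveI := (hN x).2
  exact isCM_of_normal_dim_le_two _ ((ringKrullDim_stalk_le X x).trans hd)

end MiscFlat6
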