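import Mathlib
import Groth.Agent.S2284

universe u
open AlgebraicGeometry CategoryTheory TopologicalSpace Opposite

namespace MiscFlat6

theorem nilradical_isPrime_iff_irreducibleSpace (R : Type u) [CommRing R] :
    (nilradical R).IsPrime ↔ IsIrreducible (Set.univ : Set (PrimeSpectrum R)) := by
  rw [PrimeSpectrum.isIrreducible_iff_vanishingIdeal_isPrime, PrimeSpectrum.vanishingIdeal_univ]

theorem pairwiseDisjoint_irreducibleComponents_iff (X : Scheme.{u}) :
    (irreducibleComponents (X : Type u)).PairwiseDisjoint id ↔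
      ∀ x : X, (nilradical (X.presheaf.stalk x)).IsPrime := by
  constructor
  · intro h x
    rw [nilradical_isPrime_iff_irreducibleSpace]
    haveI : Nonempty (Spec (X.presheaf.stalk x)) := ⟨IsLocalRing.closedPoint (X.presheaf.stalk x)⟩
    obtain ⟨z₀⟩ := ‹Nonempty (Spec (X.presheaf.stalk x))›
    have hgen : ∀ z : Spec (X.presheaf.stalk x), ∃ c, c ∈ {c | closure ({c} : Set (Spec (X.presheaf.stalk x))) ∈
        irreducibleComponents (Spec (X.presheaf.stalk x) : Type u)} ∧ z ∈ closure {c} := by
      intro z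
      obtain ⟨c, hc⟩ := QuasiSober.sober (isIrreducible_irreducibleComponent (x := z))
        isClosed_irreducibleComponent
      refine ⟨c, ?_, ?_⟩
      · rw [Set.mem_setOf_eq, hc.def]
        exact irreducibleComponent_mem_irreducibleComponents z
      · rw [hc.def]
        exact mem_irreducibleComponent
    obtain ⟨c, hc, -⟩ := hgen z₀
    have hu : (Set.univ : Set (Spec (X.presheaf.stalk x))) = closure {c} := by
      refine (Set.eq_univ_of_forall fun z => ?_).symm
      obtain ⟨c', hc', hz⟩ := hgen z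
      have hB := Groth.Agent.S2284.result X x
      have h1 := hB.mapsTo hc
      have h2 := hB.mapsTo hc'
      have he : closure ({X.fromSpecStalk x c} : Set X) = closure ({X.fromSpecStalk x c'} : Set X) := by
        by_contra hne
        exact (Set.disjoint_left.mp (h h1.1 h2.1 hne)) h1.2 h2.2
      rw [hB.injOn hc hc' he]
      exact hz
    change IsIrreducible (Set.univ : Set (Spec (X.presheaf.stalk x)))
    rw [hu]
    exact isIrreducible_singleton.closure
  · intro h Z₁ hZ₁ Z₂ hZ₂ hne
    refine Set.disjoint_left.mpr fun x h1 h2 => hne ?_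
    have hB := Groth.Agent.S2284.result X x
    obtain ⟨z₁, hz₁, e₁⟩ := hB.surjOn ⟨hZ₁, h1⟩
    obtain ⟨z₂, hz₂, e₂⟩ := hB.surjOn ⟨hZ₂, h2⟩
    haveI : IrreducibleSpace (Spec (X.presheaf.stalk x)) := by
      have hu := (nilradical_isPrime_iff_irreducibleSpace _).mp (h x)
      exact { toPreirreducibleSpace := ⟨hu.2⟩, toNonempty := ⟨IsLocalRing.closedPoint (X.presheaf.stalk x)⟩ }
    have key : ∀ z : Spec (X.presheaf.stalk x), closure ({z} : Set (Spec (X.presheaf.stalk x))) ∈
        irreducibleComponents (Spec (X.presheaf.stalk x) : Type u) →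
        closure {z} = (Set.univ : Set (Spec (X.presheaf.stalk x))) := fun z hz =>
      Set.univ_subset_iff.mp (hz.2 (IrreducibleSpace.isIrreducible_univ _) (Set.subset_univ _))
    have : z₁ = z₂ := (inseparable_iff_closure_eq.2 ((key z₁ hz₁).trans (key z₂ hz₂).symm)).eq
    rw [← e₁, ← e₂, this]

theorem nonempty_ringEquiv_pi_stalk (X : Scheme.{u}) [DiscreteTopology X] :
    Nonempty (Γ(X, ⊤) ≃+* ((x : X) → X.presheaf.stalk x)) := by
  let φ : Γ(X, ⊤) →+* ((x : X) → X.presheaf.stalk x) :=
    RingHom.pi fun x => (X.presheaf.germ ⊤ x trivial).hom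
  refine ⟨RingEquiv.ofBijective φ ⟨fun s t hst => ?_, fun v => ?_⟩⟩
  · exact TopCat.Presheaf.section_ext X.sheaf ⊤ s t fun x _ => congrFun hst x
  · let U : X → X.Opens := fun x => ⟨{x}, isOpen_discrete _⟩
    have hs : ∀ x, ∃ s : Γ(X, U x), X.presheaf.germ (U x) x rfl s = v x := fun x => by
      obtain ⟨W, hW, s, hs⟩ := X.presheaf.exists_germ_eq (x := x) (v x)
      refine ⟨X.presheaf.map (homOfLE (show U x ≤ W by rintro _ rfl; exact hW)).op s, ?_⟩
      rw [TopCat.Presheaf.germ_res_apply]
      exact hs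
    choose s hs using hs
    obtain ⟨g, hg, -⟩ := TopCat.Sheaf.existsUnique_gluing' X.sheaf U ⊤ (fun x => homOfLE le_top)
      (fun x _ => Opens.mem_iSup.mpr ⟨x, rfl⟩) s (fun i j => by
        rcases eq_or_ne i j with rfl | hij
        · rfl
        · have : U i ⊓ U j = ⊥ := eq_bot_iff.mpr fun y hy => hij (hy.1.symm.trans hy.2)
          haveI : Subsingleton Γ(X, U i ⊓ U j) := by
            rw [this]
            exact CommRingCat.subsingleton_of_isTerminal (X.sheaf.isTerminalOfEmpty)
          exact Subsingleton.elim (α := Γ(X, U i ⊓ U j)) _ _)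
    refine ⟨g, funext fun x => ?_⟩
    change X.presheaf.germ ⊤ x trivial g = v x
    rw [← TopCat.Presheaf.germ_res_apply X.presheaf (homOfLE (le_top : U x ≤ ⊤)) x rfl, ← hs x]
    exact congrArg (X.presheaf.germ (U x) x rfl) (hg x)

theorem finite_of_isNoetherian_of_t1Space (X : Scheme.{u}) [IsNoetherian X] [T1Space X] :
    Finite X := by
  have hfin : (irreducibleComponents (X : Type u)).Finite :=
    NoetherianSpace.finite_irreducibleComponents
  rw [← Set.finite_univ_iff, ← sUnion_irreducibleComponents (X := X)]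
  refine hfin.sUnion fun Z hZ => ?_
  obtain ⟨η, hη⟩ := QuasiSober.sober hZ.1 (isClosed_of_mem_irreducibleComponents Z hZ)
  rw [← hη.def, closure_singleton]
  exact Set.finite_singleton η

theorem isAffine_and_isArtinianRing (X : Scheme.{u}) [IsNoetherian X] [T1Space X] :
    IsAffine X ∧ IsArtinianRing Γ(X, ⊤) ∧ Finite X ∧
      Nonempty (Γ(X, ⊤) ≃+* ((x : X) → X.presheaf.stalk x)) := by
  haveI := finite_of_isNoetherian_of_t1Space X
  haveI : DiscreteTopology X := inferInstance
  haveI : IsAffine X := inferInstance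
  haveI : IsLocallyArtinian X := .of_isLocallyNoetherian_of_discreteTopology
  exact ⟨inferInstance, inferInstance, inferInstance, nonempty_ringEquiv_pi_stalk X⟩

theorem isAffine_and_finite_of_finite_carrier (K : Type u) [Field K] (X : Scheme.{u})
    (f : X ⟶ Spec (CommRingCat.of K)) [LocallyOfFiniteType f] (hX : Finite X) :
    IsAffine X ∧ f.appTop.hom.Finite := by
  haveI : QuasiCompact f := HasAffineProperty.iff_of_isAffine.mpr (Finite.compactSpace)
  haveI : LocallyQuasiFinite f :=
    LocallyQuasiFinite.of_finite_preimage_singleton f fun _ => Set.toFinite _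
  haveI : IsLocallyArtinian (Spec (CommRingCat.of K)) :=
    Scheme.isLocallyArtinianScheme_Spec.mpr (inferInstanceAs (IsArtinianRing K))
  haveI : IsFinite f := IsFinite.of_locallyQuasiFinite f
  exact ⟨isAffine_of_isAffineHom f, f.finite_appTop⟩

theorem idealSheaf_pow_eq_bot (X : Scheme.{u}) [AlgebraicGeometry.IsNoetherian X]
    [ConnectedSpace X] (I : X.IdealSheafData) (hI : I ≠ ⊤) (k : ℕ)
    (h : I ^ k = I ^ (k + 1)) : I ^ k = ⊥ := by
  rcases Nat.eq_zero_or_pos k with rfl | hk
  · refine absurd ?_ hI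
    ext U : 2
    have := congrFun (congrArg Scheme.IdealSheafData.ideal h) U
    simpa [Ideal.one_eq_top] using this.symm
  let J := I ^ k
  have hJsupp : J.support = I.support := Scheme.IdealSheafData.support_pow I k (by omega)
  have hidem : ∀ U : X.affineOpens,
      ∃ e : Γ(X, U.1), IsIdempotentElem e ∧ J.ideal U = Ideal.span {e} := by
    intro U
    haveI := IsLocallyNoetherian.component_noetherian (X := X) U
    refine (Ideal.isIdempotentElem_iff_of_fg _ (IsNoetherian.noetherian (J.ideal U))).mp ?_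
    have hU := congrFun (congrArg Scheme.IdealSheafData.ideal h) U
    simp only [Scheme.IdealSheafData.ideal_pow, Pi.pow_apply] at hU
    have hmono : ∀ m, I.ideal U ^ k = I.ideal U ^ (k + m) := by
      intro m
      induction m with
      | zero => simp
      | succ m ih => rw [← add_assoc, pow_succ, ← ih, ← pow_succ, ← hU]
    show I.ideal U ^ k * I.ideal U ^ k = I.ideal U ^ k
    rw [← pow_add, ← hmono k]
  choose e he hJe using hidem
  have hopen : IsOpen (I.support : Set X) := by
    rw [isOpen_iff_forall_mem_open]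
    intro x hx
    obtain ⟨U, hU, hxU, -⟩ := exists_isAffineOpen_mem_and_subset (TopologicalSpace.Opens.mem_top x)
    refine ⟨(I.support : Set X) ∩ U, Set.inter_subset_left, ?_, hx, hxU⟩
    rw [← hJsupp, J.coe_support_inter ⟨U, hU⟩, hJe ⟨U, hU⟩, Scheme.zeroLocus_span,
      Scheme.zeroLocus_singleton]
    have hcompl : ((X.basicOpen (e ⟨U, hU⟩) : Set X))ᶜ ∩ U = X.basicOpen (1 - e ⟨U, hU⟩) := by
      ext y
      constructor
      · rintro ⟨hy, hyU⟩
        rw [SetLike.mem_coe, X.mem_basicOpen _ y hyU, map_sub, map_one]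
        rw [Set.mem_compl_iff, SetLike.mem_coe, X.mem_basicOpen _ y hyU] at hy
        exact IsLocalRing.isUnit_one_sub_self_of_mem_nonunits _ hy
      · intro hy
        have hyU : y ∈ U := X.basicOpen_le _ hy
        refine ⟨?_, hyU⟩
        rw [SetLike.mem_coe, X.mem_basicOpen _ y hyU, map_sub, map_one] at hy
        rw [Set.mem_compl_iff, SetLike.mem_coe, X.mem_basicOpen _ y hyU]
        intro hu
        have h0 : X.presheaf.germ U y hyU (e ⟨U, hU⟩) *
            (1 - X.presheaf.germ U y hyU (e ⟨U, hU⟩)) = 0 := by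
          rw [mul_sub, mul_one, ← map_mul, (he ⟨U, hU⟩).eq, sub_self]
        exact not_isUnit_zero (M₀ := X.presheaf.stalk y) (h0 ▸ hu.mul hy)
    rw [hcompl]
    exact (X.basicOpen _).2
  have hne : (I.support : Set X).Nonempty := by
    rw [Set.nonempty_iff_ne_empty]
    intro h0
    exact hI (I.support_eq_bot_iff.mp (SetLike.coe_injective h0))
  have huniv : (I.support : Set X) = Set.univ :=
    IsClopen.eq_univ ⟨I.support.isClosed, hopen⟩ hne
  ext U : 2
  rw [show (⊥ : X.IdealSheafData).ideal = ⊥ from rfl, Pi.bot_apply]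
  show J.ideal U = ⊥
  rw [hJe U, Ideal.span_singleton_eq_bot]
  have hb : X.basicOpen (e U) = ⊥ := by
    rw [eq_bot_iff]
    intro y hy
    have hyU : y ∈ U.1 := X.basicOpen_le _ hy
    have hz : y ∈ J.support := by
      rw [hJsupp]
      exact (Set.eq_univ_iff_forall.mp huniv) y
    have := (Scheme.IdealSheafData.mem_support_iff_of_mem hyU).mp hz
    rw [hJe U, Scheme.zeroLocus_span, Scheme.zeroLocus_singleton] at this
    exact this hy
  exact (he U).eq_zero_of_isNilpotent
    ((Scheme.isNilpotent_iff_basicOpen_eq_bot_of_isCompact U.2.isCompact _).mpr hb)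

theorem exists_affineOpen_of_finite {X Y : Scheme.{u}} [IsAffine Y] (ι : X ⟶ Y)
    [IsImmersion ι] (E : Set X) (hE : E.Finite) :
    ∃ U : X.Opens, IsAffineOpen U ∧ E ⊆ U := by
  classical
  let W : Y.Opens := ι.coborderRange
  have hmem : ∀ x, ι x ∈ W := fun x => by
    rw [← ι.liftCoborder_ι]
    exact (ι.liftCoborder x).2
  obtain ⟨s, hs⟩ := (PrimeSpectrum.isClosed_iff_zeroLocus _).mp
    (W.2.isClosed_compl.preimage Y.isoSpec.inv.continuous)
  have hnot : ¬ (Ideal.span s : Set Γ(Y, ⊤)) ⊆
      ⋃ x ∈ hE.toFinset, ((Y.isoSpec.hom (ι x) : PrimeSpectrum Γ(Y, ⊤)).asIdeal : Set Γ(Y, ⊤)) := by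
    rcases Finset.eq_empty_or_nonempty hE.toFinset with he | ⟨a, ha⟩
    · intro hsub
      have := hsub (zero_mem (Ideal.span s))
      simp [he] at this
    refine (Ideal.subset_union_prime a a ?_).not.mpr ?_
    · intro x _ _ _
      infer_instance
    · push Not
      intro x hx hle
      have : (Y.isoSpec.hom (ι x) : PrimeSpectrum Γ(Y, ⊤)) ∈ PrimeSpectrum.zeroLocus s := by
        rw [← PrimeSpectrum.zeroLocus_span]
        exact hle
      rw [← hs] at this
      refine (show Y.isoSpec.inv (Y.isoSpec.hom (ι x)) ∉ W from this) ?_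
      convert hmem x
      exact congr($(Y.isoSpec.hom_inv_id) (ι x))
  simp_rw [Set.not_subset, Set.mem_iUnion, not_exists, Set.Finite.mem_toFinset] at hnot
  obtain ⟨g, hg, hgE⟩ := hnot
  have hV : IsAffineOpen (Y.basicOpen g) := (isAffineOpen_top Y).basicOpen g
  have hVW : Y.basicOpen g ≤ W := by
    intro y hy
    by_contra hyW
    have h1 : (Y.isoSpec.hom y : PrimeSpectrum Γ(Y, ⊤)) ∈ PrimeSpectrum.zeroLocus s := by
      rw [← hs]
      show Y.isoSpec.inv (Y.isoSpec.hom y) ∉ W
      convert hyW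
      exact congr($(Y.isoSpec.hom_inv_id) y)
    rw [← PrimeSpectrum.zeroLocus_span] at h1
    rw [← Y.toSpecΓ_preimage_basicOpen] at hy
    exact hy (h1 hg)
  refine ⟨ι ⁻¹ᵁ Y.basicOpen g, ?_, fun x hx => ?_⟩
  · have heq : ι ⁻¹ᵁ Y.basicOpen g = ι.liftCoborder ⁻¹ᵁ (W.ι ⁻¹ᵁ Y.basicOpen g) := by
      rw [← Scheme.Hom.comp_preimage, ι.liftCoborder_ι]
    rw [heq]
    exact (hV.preimage_of_isOpenImmersion W.ι (by simpa using hVW)).preimage ι.liftCoborder
  · change ι x ∈ Y.basicOpen g
    rw [← Y.toSpecΓ_preimage_basicOpen]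
    exact hgE x hx

end MiscFlat6
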