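import Groth.Agent.MiscFlat6.FlatMonoIso
import Groth.Agent.FFDescLib.Closure
import Mathlib.AlgebraicGeometry.Morphisms.FiniteType
import Mathlib.AlgebraicGeometry.Morphisms.UniversallyInjective

/-!
# Flat maps of finite type with bijective stalk maps are open near a dense retrocompact open
-/

set_option autoImplicit false
universe u

open CategoryTheory Limits AlgebraicGeometry TopologicalSpace

namespace MiscFlat6

theorem germ_appLE {X S : Scheme.{u}} (f : X ⟶ S) {V : S.Opens} {W : X.Opens} (e : W ≤ f ⁻¹ᵁ V) {x : X}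
    (hx : x ∈ W) (a : Γ(S, V)) :
    X.presheaf.germ W x hx (f.appLE V W e a) = f.stalkMap x (S.presheaf.germ V (f x) (e hx) a) := by
  rw [Scheme.Hom.germ_stalkMap_apply, Scheme.Hom.appLE, CommRingCat.comp_apply,
    TopCat.Presheaf.germ_res_apply]

/-- If the stalk map at `x` is surjective, near `x` sections surject from an affine open. -/
theorem exists_surjective_appLE {X S : Scheme.{u}} (f : X ⟶ S) [LocallyOfFiniteType f] (x : X)
    (hsurj : Function.Surjective (f.stalkMap x)) (O : Set X) (hO : IsOpen O) (hxO : x ∈ O) :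
    ∃ (N : S.Opens) (W : X.Opens) (eN : W ≤ f ⁻¹ᵁ N), IsAffineOpen N ∧ IsAffineOpen W ∧ x ∈ W ∧
      (W : Set X) ⊆ O ∧ Function.Surjective (f.appLE N W eN) := by
  classical
  obtain ⟨_, ⟨V, hV, rfl⟩, hxV, -⟩ :=
    S.isBasis_affineOpens.exists_subset_of_mem_open (Set.mem_univ (f x)) isOpen_univ
  obtain ⟨_, ⟨W, hW, rfl⟩, hxW, hWV⟩ :=
    X.isBasis_affineOpens.exists_subset_of_mem_open (show x ∈ O ∩ f ⁻¹' V from ⟨hxO, hxV⟩)
      (hO.inter (V.isOpen.preimage f.continuous))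
  have hV : IsAffineOpen V := hV
  have hW : IsAffineOpen W := hW
  have e : W ≤ f ⁻¹ᵁ V := fun y hy => (hWV hy).2
  let φ := (f.appLE V W e).hom
  have hft : φ.FiniteType := f.finiteType_appLE hV hW e
  letI := φ.toAlgebra
  obtain ⟨G, hG⟩ := Algebra.FiniteType.out (self := hft)
  -- express each generator near `x`
  have key : ∀ b : Γ(X, W), ∃ (a s : Γ(S, V)) (t : Γ(X, W)),
      f x ∈ S.basicOpen s ∧ x ∈ X.basicOpen t ∧ t * (φ s * b - φ a) = 0 := by
    intro b
    obtain ⟨σ, hσ⟩ := hsurj (X.presheaf.germ W x hxW b)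
    letI := TopCat.Presheaf.algebra_section_stalk S.presheaf (⟨f x, e hxW⟩ : V)
    haveI : IsLocalization.AtPrime (S.presheaf.stalk (f x)) (hV.primeIdealOf ⟨f x, e hxW⟩).asIdeal :=
      hV.isLocalization_stalk ⟨f x, e hxW⟩
    obtain ⟨⟨a, s⟩, hs⟩ := IsLocalization.surj (hV.primeIdealOf ⟨f x, e hxW⟩).asIdeal.primeCompl σ
    have hs' : σ * S.presheaf.germ V (f x) (e hxW) s.1 = S.presheaf.germ V (f x) (e hxW) a := hs
    have hu : IsUnit (S.presheaf.germ V (f x) (e hxW) s.1) := IsLocalization.map_units (S.presheaf.stalk (f x)) s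
    have h0 : X.presheaf.germ W x hxW (φ s.1 * b - φ a) = 0 := by
      show X.presheaf.germ W x hxW (f.appLE V W e s.1 * b - f.appLE V W e a) = 0
      rw [map_sub, map_mul, germ_appLE, germ_appLE, ← hσ, ← hs', map_mul, mul_comm, sub_self]
    letI := TopCat.Presheaf.algebra_section_stalk X.presheaf (⟨x, hxW⟩ : W)
    haveI : IsLocalization.AtPrime (X.presheaf.stalk x) (hW.primeIdealOf ⟨x, hxW⟩).asIdeal :=
      hW.isLocalization_stalk ⟨x, hxW⟩
    obtain ⟨t, ht⟩ := (IsLocalization.map_eq_zero_iff (hW.primeIdealOf ⟨x, hxW⟩).asIdeal.primeCompl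
      (X.presheaf.stalk x) _).mp h0
    exact ⟨a, s.1, t.1, (S.mem_basicOpen _ _ _).mpr hu, (X.mem_basicOpen _ _ hxW).mpr
      (IsLocalization.map_units (X.presheaf.stalk x) t), ht⟩
  choose a s t hxs hxt hrel using key
  let s₀ : Γ(S, V) := ∏ b ∈ G, s b
  let t₀ : Γ(X, W) := ∏ b ∈ G, t b
  let w : Γ(X, W) := φ s₀ * t₀
  have hgs : IsUnit (S.presheaf.germ V (f x) (e hxW) s₀) := by
    rw [map_prod]
    exact (IsUnit.prod_iff).mpr fun b _ => (S.mem_basicOpen _ _ _).mp (hxs b)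
  have hfs : f x ∈ S.basicOpen s₀ := (S.mem_basicOpen _ _ _).mpr hgs
  have hxw : x ∈ X.basicOpen w := by
    rw [X.mem_basicOpen _ _ hxW, map_mul]
    refine IsUnit.mul ?_ ?_
    · show IsUnit (X.presheaf.germ W x hxW (f.appLE V W e s₀))
      rw [germ_appLE]
      exact hgs.map (f.stalkMap x).hom
    · rw [map_prod]
      exact (IsUnit.prod_iff).mpr fun b _ => (X.mem_basicOpen _ _ hxW).mp (hxt b)
  let D := S.basicOpen s₀
  let W' := X.basicOpen w
  have hW' : IsAffineOpen W' := hW.basicOpen w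
  have e' : W' ≤ f ⁻¹ᵁ D := by
    intro y hy
    have h1 : y ∈ X.basicOpen (φ s₀) := (X.basicOpen_mul _ _).le hy |>.1
    have h2 := (Scheme.basicOpen_appLE f W V e s₀).le h1
    exact h2.2
  let ψ := (f.appLE D W' e').hom
  let ρ := (X.presheaf.map (homOfLE (X.basicOpen_le w)).op).hom
  let ρS := (S.presheaf.map (homOfLE (S.basicOpen_le s₀)).op).hom
  have hnat : ∀ c, ψ (ρS c) = ρ (φ c) := fun c => by
    show (S.presheaf.map _ ≫ f.appLE D W' e') c = (f.appLE V W e ≫ X.presheaf.map _) c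
    rw [Scheme.Hom.map_appLE, Scheme.Hom.appLE_map]
  have hwu : IsUnit (ρ (φ s₀) * ρ t₀) := by
    rw [← map_mul]
    exact RingedSpace.isUnit_res_basicOpen _ w
  have hsu : IsUnit (ρS s₀) := RingedSpace.isUnit_res_basicOpen _ s₀
  have hgen : ∀ b ∈ G, ρ b ∈ ψ.range := by
    intro b hb
    obtain ⟨r, hr⟩ : s b ∣ s₀ := Finset.dvd_prod_of_mem _ hb
    have hsb : IsUnit (ρS (s b)) := isUnit_of_dvd_unit ⟨ρS r, by rw [← map_mul, ← hr]⟩ hsu
    have htb : IsUnit (ρ (t b)) :=
      isUnit_of_dvd_unit (map_dvd ρ (Finset.dvd_prod_of_mem _ hb)) (isUnit_of_mul_isUnit_right hwu)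
    have h1 : ρ (φ (s b)) * ρ b = ρ (φ (a b)) := by
      have := congrArg ρ (hrel b)
      rw [map_zero, map_mul, htb.mul_right_eq_zero, map_sub, map_mul, sub_eq_zero] at this
      exact this
    obtain ⟨v, hv⟩ := hsb.exists_left_inv
    refine ⟨v * ρS (a b), ?_⟩
    rw [map_mul, hnat, ← h1, ← hnat, ← mul_assoc, ← map_mul, hv, map_one, one_mul]
  have hall : ∀ b, ρ b ∈ ψ.range := by
    intro b
    have hb : b ∈ Algebra.adjoin Γ(S, V) (G : Set Γ(X, W)) := by rw [hG]; trivial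
    induction hb using Algebra.adjoin_induction with
    | mem b hb => exact hgen b hb
    | algebraMap c => exact ⟨ρS c, hnat c⟩
    | add b c _ _ hb hc => rw [map_add]; exact add_mem hb hc
    | mul b c _ _ hb hc => rw [map_mul]; exact mul_mem hb hc
  obtain ⟨α, hα⟩ := hall t₀
  let N := S.basicOpen α
  have hN : IsAffineOpen N := (hV.basicOpen s₀).basicOpen α
  have eN : W' ≤ f ⁻¹ᵁ N := by
    intro y hy
    have h1 : y ∈ X.basicOpen (f.appLE D W' e' α) := by
      show y ∈ X.basicOpen (ψ α)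
      rw [hα]
      show y ∈ X.basicOpen (X.presheaf.map _ t₀)
      rw [Scheme.basicOpen_res]
      exact ⟨hy, ((X.basicOpen_mul _ _).le hy).2⟩
    exact ((Scheme.basicOpen_appLE f W' D e' α).le h1).2
  let χ := (f.appLE N W' eN).hom
  let ρN := (S.presheaf.map (homOfLE (S.basicOpen_le α)).op).hom
  have hnat' : ∀ c, χ (ρN c) = ψ c := fun c => by
    show (S.presheaf.map _ ≫ f.appLE N W' eN) c = f.appLE D W' e' c
    rw [Scheme.Hom.map_appLE]
  have hχ : Function.Surjective χ := by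
    intro y
    letI := ρ.toAlgebra
    haveI : IsLocalization.Away w Γ(X, W') := hW.isLocalization_basicOpen w
    obtain ⟨n, b, hb⟩ := IsLocalization.Away.surj w y
    have hu : IsUnit (ρN (ρS s₀ * α)) := by
      rw [map_mul]
      exact (hsu.map ρN).mul (RingedSpace.isUnit_res_basicOpen _ α)
    obtain ⟨v, hv⟩ := (hu.pow n).exists_left_inv
    obtain ⟨β, hβ⟩ := hall b
    refine ⟨v * ρN β, ?_⟩
    have hw : χ (ρN (ρS s₀ * α)) = ρ w := by rw [hnat', map_mul, hnat, hα, map_mul]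
    have hb' : y * ρ w ^ n = ρ b := hb
    rw [map_mul, hnat', hβ, ← hb', ← hw, ← map_pow, mul_left_comm, ← map_mul, hv, map_one, mul_one]
  exact ⟨N, W', eN, hN, hW', hxw, fun y hy => (hWV (X.basicOpen_le w hy)).1, hχ⟩

/-- If the stalk map at `x` is surjective, near `x` the map is a closed embedding into an open. -/
theorem exists_isClosed_image {X S : Scheme.{u}} (f : X ⟶ S) [LocallyOfFiniteType f] (x : X)
    (hsurj : Function.Surjective (f.stalkMap x)) (O : Set X) (hO : IsOpen O) (hxO : x ∈ O) :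
    ∃ (N : S.Opens) (W : X.Opens), IsAffineOpen N ∧ x ∈ W ∧ (W : Set X) ⊆ O ∧ W ≤ f ⁻¹ᵁ N ∧
      IsOpen ((N : Set S) \ f '' W) := by
  obtain ⟨N, W', eN, hN, hW', hxw, hWO, hχ⟩ := exists_surjective_appLE f x hsurj O hO hxO
  refine ⟨N, W', hN, hxw, hWO, eN, ?_⟩
  have hcl : IsClosed (Set.range (Spec.map (f.appLE N W' eN))) :=
    (IsClosedImmersion.spec_of_surjective (f.appLE N W' eN) hχ).base_closed.isClosed_range
  have himg : hN.fromSpec '' Set.range (Spec.map (f.appLE N W' eN)) = f '' W' := by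
    rw [← Set.range_comp, ← TopCat.coe_comp, ← Scheme.Hom.comp_base, hN.SpecMap_appLE_fromSpec f hW',
      Scheme.Hom.comp_base, TopCat.coe_comp, Set.range_comp, hW'.range_fromSpec]
  rw [← himg, ← hN.range_fromSpec, ← Set.image_univ, ← Set.image_diff hN.fromSpec.isOpenEmbedding.injective]
  exact hN.fromSpec.isOpenEmbedding.isOpenMap _ (by
    rw [Set.diff_eq, Set.univ_inter]; exact hcl.isOpen_compl)

/-- A flat map of finite type with surjective stalk maps which is an isomorphism over a dense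
retrocompact open is an open map. -/
theorem isOpenMap_of_surjective_stalkMap {X S : Scheme.{u}} (f : X ⟶ S) [LocallyOfFiniteType f] [Flat f]
    (U : S.Opens) [QuasiCompact U.ι] (hU : Dense (U : Set S)) [IsIso (f ∣_ U)]
    (hsurj : ∀ x, Function.Surjective (f.stalkMap x)) : IsOpenMap f := by
  rw [isOpenMap_iff_nhds_le]
  intro x
  intro A hA
  rw [Filter.mem_map, mem_nhds_iff] at hA
  obtain ⟨O, hOA, hO, hxO⟩ := hA
  obtain ⟨N, W, hN, hxW, hWO, eN, hopen⟩ := exists_isClosed_image f x (hsurj x) O hO hxO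
  -- the image of `W` over `U` is open
  have hWU : IsOpen (f '' ((W : Set X) ∩ f ⁻¹' U)) := by
    let j := X.homOfLE (show W ⊓ f ⁻¹ᵁ U ≤ f ⁻¹ᵁ U from inf_le_right)
    have : IsOpenImmersion (j ≫ (f ∣_ U) ≫ U.ι) := inferInstance
    have h := (j ≫ (f ∣_ U) ≫ U.ι).isOpenEmbedding.isOpen_range
    rw [morphismRestrict_ι, ← Category.assoc, Scheme.homOfLE_ι, Scheme.Hom.comp_base, TopCat.coe_comp,
      Set.range_comp, Scheme.Opens.range_ι] at h
    exact h
  haveI : CompactSpace ((N ⊓ U : S.Opens) : Scheme.{u}) :=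
    isCompact_iff_compactSpace.mp (by
      have := (U.ι.isCompact_preimage hN.isCompact).image U.ι.continuous
      rwa [Scheme.Hom.coe_preimage, Set.image_preimage_eq_inter_range, Scheme.Opens.range_ι] at this)
  let j : ((N ⊓ U : S.Opens) : Scheme.{u}) ⟶ (N : Scheme.{u}) := S.homOfLE inf_le_left
  haveI : IsAffine (N : Scheme.{u}) := hN
  haveI : QuasiCompact j := quasiCompact_of_compactSpace j
  have hjval : ∀ z, (j z).1 = z.1 := fun z => by
    rw [← Scheme.Opens.ι_apply, ← Scheme.Hom.comp_apply, Scheme.homOfLE_ι]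
    rfl
  let C : Set ((N ⊓ U : S.Opens) : Scheme.{u}) := Subtype.val ⁻¹' (f '' ((W : Set X) ∩ f ⁻¹' U))ᶜ
  have hC : IsClosed C := hWU.isClosed_compl.preimage continuous_subtype_val
  have hfx : (⟨f x, eN hxW⟩ : (N : Scheme.{u})) ∉ closure (j '' C) := by
    intro h
    obtain ⟨c, hc, hcx⟩ := FFDescLib.exists_specializes_of_mem_closure_image j hC h
    have hcx' : c.1 ⤳ f x := by
      have := hcx.map continuous_subtype_val
      rwa [hjval] at this
    obtain ⟨w, hwx, hfw⟩ := (Flat.generalizingMap f) hcx'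
    exact hc ⟨w, ⟨hwx.mem_open W.isOpen hxW, show f w ∈ U by rw [hfw]; exact c.2.2⟩, hfw⟩
  let N' : Set S := Subtype.val '' (closure (j '' C))ᶜ
  have hN' : IsOpen N' := N.isOpen.isOpenMap_subtype_val _ isClosed_closure.isOpen_compl
  have hsub : N' ⊆ f '' W := by
    rintro _ ⟨y, hy, rfl⟩
    by_contra hne
    obtain ⟨z, ⟨hzo, hzN'⟩, hzU⟩ := hU.inter_open_nonempty _ (hopen.inter hN') ⟨y.1, ⟨y.2, hne⟩, y, hy, rfl⟩
    obtain ⟨y', hy', rfl⟩ := hzN'
    refine hy' (subset_closure ⟨⟨y'.1, y'.2, hzU⟩, ?_, Subtype.ext (hjval _)⟩)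
    rintro ⟨w, hw, hfw⟩
    exact hzo.2 ⟨w, hw.1, hfw⟩
  exact mem_nhds_iff.mpr ⟨N', fun y hy => by
    obtain ⟨w, hw, rfl⟩ := hsub hy
    exact hOA (hWO hw), hN', _, hfx, rfl⟩

end MiscFlat6
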