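import Mathlib
import Groth.Agent.ChevLib.Main

universe u

open CategoryTheory Limits AlgebraicGeometry TopologicalSpace

namespace MiscFlat6

theorem isSeparated_of_comp_surjective {S X Y : Scheme.{u}} (q : Y ⟶ S) (π : X ⟶ Y)
    [Surjective π] [UniversallyClosed π] [IsSeparated (π ≫ q)] : IsSeparated q := by
  refine ⟨IsClosedImmersion.of_isPreimmersion _ ?_⟩
  let m := pullback.map (π ≫ q) (π ≫ q) q q π π (𝟙 _) (Category.comp_id _) (Category.comp_id _)
  have hd : pullback.diagonal (π ≫ q) ≫ m = π ≫ pullback.diagonal q := by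
    apply pullback.hom_ext
    · simp only [m, pullback.map, Category.assoc, pullback.lift_fst, pullback.diagonal_fst,
        Category.comp_id, pullback.diagonal_fst_assoc]
    · simp only [m, pullback.map, Category.assoc, pullback.lift_snd, pullback.diagonal_snd,
        Category.comp_id, pullback.diagonal_snd_assoc]
  have : UniversallyClosed m :=
    MorphismProperty.pullbackMap (P := @UniversallyClosed) ‹_› ‹_› rfl rfl
  have hrange : Set.range (pullback.diagonal q) = m '' Set.range (pullback.diagonal (π ≫ q)) := by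
    rw [← Set.range_comp]
    have : (m ∘ pullback.diagonal (π ≫ q) : X → _) = pullback.diagonal q ∘ π := by
      ext x
      simp only [Function.comp_apply, ← Scheme.Hom.comp_apply, hd]
    rw [this, π.surjective.range_comp]
  rw [hrange]
  exact m.isClosedMap _ (pullback.diagonal (π ≫ q)).isClosedEmbedding.isClosed_range

theorem quasiSeparatedSpace_of_surjective {X Y : Scheme.{u}} (f : X ⟶ Y) [Surjective f]
    [QuasiCompact f] [QuasiSeparatedSpace X] : QuasiSeparatedSpace Y := by
  constructor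
  intro U V hUo hUc hVo hVc
  have h : IsCompact (f ⁻¹' U ∩ f ⁻¹' V) :=
    QuasiSeparatedSpace.inter_isCompact _ _ (hUo.preimage f.continuous)
      (QuasiCompact.isCompact_preimage _ hUo hUc) (hVo.preimage f.continuous) (QuasiCompact.isCompact_preimage _ hVo hVc)
  have h2 := h.image f.continuous
  rw [← Set.preimage_inter, Set.image_preimage_eq _ f.surjective] at h2
  exact h2

theorem isIntegralHom_of_section {X S : Scheme.{u}} (π : X ⟶ S) (ε : S ⟶ X) (hε : ε ≫ π = 𝟙 S)
    (hinj : Function.Injective π) : IsIntegralHom π := by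
  have h1 : ∀ s, π (ε s) = s := fun s => by rw [← Scheme.Hom.comp_apply, hε]; rfl
  have h2 : ∀ x, ε (π x) = x := fun x => hinj (h1 _)
  have hind : Topology.IsInducing π := by
    have : IsHomeomorph π := by
      refine ⟨π.continuous, fun U hU => ?_, ⟨hinj, fun s => ⟨ε s, h1 s⟩⟩⟩
      have : π '' U = ε ⁻¹' U := by
        ext s; constructor
        · rintro ⟨x, hx, rfl⟩; simpa [h2 x] using hx
        · exact fun hs => ⟨ε s, hs, h1 s⟩
      rw [this]; exact hU.preimage ε.continuous
    exact this.isInducing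
  have hr : IsClosed (Set.range π) := by
    rw [Set.range_eq_univ.2 fun s => ⟨ε s, h1 s⟩]; exact isClosed_univ
  have : IsAffineHom π := isAffineHom_of_isInducing π hind hr
  have : Surjective ε := ⟨fun x => ⟨π x, h2 x⟩⟩
  have : UniversallyClosed (ε ≫ π) := by rw [hε]; infer_instance
  have : UniversallyClosed π := .of_comp_surjective ε π
  exact IsIntegralHom.iff_universallyClosed_and_isAffineHom.2 ⟨this, ‹_›⟩

theorem eq_of_specializes_of_integral {X S : Scheme.{u}} (f : X ⟶ S) [IsIntegralHom f] {x y : X}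
    (h : x ⤳ y) (he : f y = f x) : y = x := by
  obtain ⟨W, hW, hyW, -⟩ := exists_isAffineOpen_mem_and_subset (U := ⊤) (x := f y) trivial
  have hV : IsAffineOpen (f ⁻¹ᵁ W) := hW.preimage f
  have hxV : x ∈ f ⁻¹ᵁ W := by simpa [he] using hyW
  have hint : (f.app W).hom.IsIntegral := IsIntegralHom.isIntegral_app f W hW
  let P := hV.primeIdealOf ⟨x, hxV⟩
  let Q := hV.primeIdealOf ⟨y, hyW⟩
  have hP : hV.fromSpec P = x := hV.fromSpec_primeIdealOf ⟨x, hxV⟩
  have hQ : hV.fromSpec Q = y := hV.fromSpec_primeIdealOf ⟨y, hyW⟩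
  have hle : P.asIdeal ≤ Q.asIdeal := by
    rw [PrimeSpectrum.asIdeal_le_asIdeal, PrimeSpectrum.le_iff_specializes]
    exact (hV.fromSpec.isOpenEmbedding.isInducing.specializes_iff (x := P) (y := Q)).1 (by rw [hP, hQ]; exact h)
  have key : ∀ p, f (hV.fromSpec p) = hW.fromSpec (PrimeSpectrum.comap (f.app W).hom p) := by
    intro p
    rw [← Scheme.Hom.comp_apply, ← hW.SpecMap_appLE_fromSpec f hV le_rfl, ← f.app_eq_appLE]
    rfl
  have hc : Q.asIdeal.comap (f.app W).hom = P.asIdeal.comap (f.app W).hom := by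
    have : PrimeSpectrum.comap (f.app W).hom Q = PrimeSpectrum.comap (f.app W).hom P :=
      hW.fromSpec.isOpenEmbedding.injective (by rw [← key, ← key, hP, hQ, he])
    exact congrArg PrimeSpectrum.asIdeal this
  rcases hle.eq_or_lt with h' | h'
  · rw [← hP, ← hQ, PrimeSpectrum.ext h']
  · exfalso
    obtain ⟨q, hqQ, hqP⟩ := Set.exists_of_ssubset h'
    algebraize [(f.app W).hom]
    exact (Ideal.comap_lt_comap_of_integral_mem_sdiff hle ⟨hqQ, hqP⟩
      (Algebra.IsIntegral.isIntegral q)).ne hc.symm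

theorem quasiSeparated_coprod_desc {X' X'' Y : Scheme.{u}} (f' : X' ⟶ Y) (f'' : X'' ⟶ Y)
    [QuasiSeparated f'] [QuasiSeparated f''] : QuasiSeparated (coprod.desc f' f'') := by
  rw [IsZariskiLocalAtTarget.iff_of_iSup_eq_top (P := @QuasiSeparated) _ (iSup_affineOpens_eq_top Y)]
  intro U
  have hg : ∀ {X : Scheme.{u}} (g : X ⟶ Y) [QuasiSeparated g],
      QuasiSeparatedSpace ((g ⁻¹ᵁ U.1 : X.Opens) : Scheme) := fun g _ =>
    haveI : IsAffine (U.1 : Scheme) := U.2
    quasiSeparatedSpace_of_quasiSeparated (g ∣_ U.1)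
  haveI : IsAffine (U.1 : Scheme) := U.2
  rw [quasiSeparated_iff_quasiSeparatedSpace]
  let W := (coprod.desc f' f'') ⁻¹ᵁ U.1
  let i : X' ⟶ X' ⨿ X'' := coprod.inl
  let j : X'' ⟶ X' ⨿ X'' := coprod.inr
  haveI : IsOpenImmersion i := inferInstanceAs (IsOpenImmersion (coprod.inl : X' ⟶ X' ⨿ X''))
  haveI : IsOpenImmersion j := inferInstanceAs (IsOpenImmersion (coprod.inr : X'' ⟶ X' ⨿ X''))
  have hcompl : IsCompl (Set.range i) (Set.range j) := isCompl_range_inl_inr X' X''
  have hi : i ⁻¹ᵁ W = f' ⁻¹ᵁ U.1 := by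
    rw [← Scheme.Hom.comp_preimage, show i ≫ coprod.desc f' f'' = f' from coprod.inl_desc f' f'']
  have hj : j ⁻¹ᵁ W = f'' ⁻¹ᵁ U.1 := by
    rw [← Scheme.Hom.comp_preimage, show j ≫ coprod.desc f' f'' = f'' from coprod.inr_desc f' f'']
  have hq : ∀ {Z : Scheme.{u}} (k : Z ⟶ X' ⨿ X'') [IsOpenImmersion k] (T : Set ↥(X' ⨿ X'')),
      T ⊆ W → IsOpen T → IsCompact T → IsClosed (Set.range k) →
      IsCompact (k ⁻¹' T) := fun k _ T _ _ hT hc => by
    rw [k.isOpenEmbedding.isInducing.isCompact_iff, Set.image_preimage_eq_inter_range]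
    exact hT.inter_right hc
  have hci : IsClosed (Set.range i) := by
    rw [← isOpen_compl_iff, hcompl.compl_eq]; exact j.isOpenEmbedding.isOpen_range
  have hcj : IsClosed (Set.range j) := by
    rw [← isOpen_compl_iff, hcompl.symm.compl_eq]
    exact i.isOpenEmbedding.isOpen_range
  refine (isQuasiSeparated_iff_quasiSeparatedSpace (W : Set ↥(X' ⨿ X'')) W.2).1 ?_
  intro A B hAs hA hAc hBs hB hBc
  have hA' : IsQuasiSeparated (i ⁻¹' (W : Set ↥(X' ⨿ X''))) := by
    have := hg f'
    rw [← hi] at this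
    exact (isQuasiSeparated_iff_quasiSeparatedSpace _ (i ⁻¹ᵁ W).2).2 this
  have hB' : IsQuasiSeparated (j ⁻¹' (W : Set ↥(X' ⨿ X''))) := by
    have := hg f''
    rw [← hj] at this
    exact (isQuasiSeparated_iff_quasiSeparatedSpace _ (j ⁻¹ᵁ W).2).2 this
  have h1 := (hA' _ _ (Set.preimage_mono hAs) (hA.preimage i.continuous) (hq i A hAs hA hAc hci)
    (Set.preimage_mono hBs) (hB.preimage i.continuous) (hq i B hBs hB hBc hci)).image i.continuous
  have h2 := (hB' _ _ (Set.preimage_mono hAs) (hA.preimage j.continuous) (hq j A hAs hA hAc hcj)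
    (Set.preimage_mono hBs) (hB.preimage j.continuous) (hq j B hBs hB hBc hcj)).image j.continuous
  rw [← Set.preimage_inter, Set.image_preimage_eq_inter_range] at h1 h2
  have := h1.union h2
  rw [← Set.inter_union_distrib_left, show Set.range i ∪ Set.range j = Set.univ from hcompl.sup_eq_top,
    Set.inter_univ] at this
  exact this

theorem isReduced_image {X Y : Scheme.{u}} (f : X ⟶ Y) [IsReduced X] : IsReduced f.image := by
  have hr : f.ker.radical = f.ker := by
    refine le_antisymm (Scheme.IdealSheafData.le_ofIdeals_iff.2 fun U => ?_) f.ker.le_radical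
    rw [Scheme.IdealSheafData.radical_ideal]
    have hk : (RingHom.ker (f.app U.1).hom).IsRadical := by
      rw [RingHom.ker_eq_comap_bot]
      exact Ideal.IsRadical.comap _ (Ideal.isRadical_bot_iff.2 inferInstance)
    exact (Ideal.radical_mono (f.ideal_ker_le U)).trans hk
  have : ∀ i, IsReduced (f.ker.subschemeCover.openCover.X i) := fun (U : Y.affineOpens) => by
    change IsReduced (Spec (CommRingCat.of (Γ(Y, U) ⧸ f.ker.ideal U)))
    have : _root_.IsReduced (Γ(Y, U) ⧸ f.ker.ideal U) :=
      (Ideal.isRadical_iff_quotient_reduced _).1 (by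
        rw [← hr, Scheme.IdealSheafData.radical_ideal]; exact Ideal.radical_isRadical _)
    infer_instance
  exact IsReduced.of_openCover (𝒰 := f.ker.subschemeCover.openCover)

theorem lfp_iff_ker_fg {X Y : Scheme.{u}} (j : X ⟶ Y) [IsClosedImmersion j] :
    LocallyOfFinitePresentation j ↔ ∀ U : Y.affineOpens, (RingHom.ker (j.app U).hom).FG := by
  have hsurj : ∀ U : Y.affineOpens, Function.Surjective (j.app U).hom := fun U =>
    j.app_surjective U.1 U.2
  constructor
  · intro _ U
    have h := HasRingHomProperty.appLE (P := @LocallyOfFinitePresentation) j ‹_› U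
      ⟨_, U.2.preimage j⟩ le_rfl
    rw [← j.app_eq_appLE] at h
    algebraize [(j.app U.1).hom]
    exact Algebra.FinitePresentation.ker_fG_of_surjective (Algebra.ofId Γ(Y, U) Γ(X, j ⁻¹ᵁ U))
      (hsurj U)
  · intro h
    rw [IsZariskiLocalAtTarget.iff_of_iSup_eq_top (P := @LocallyOfFinitePresentation) _
      (iSup_affineOpens_eq_top Y)]
    intro U
    haveI : IsAffine (U.1 : Scheme) := U.2
    haveI : IsAffine ((j ⁻¹ᵁ U.1 : X.Opens) : Scheme) := U.2.preimage j
    rw [HasRingHomProperty.iff_of_isAffine (P := @LocallyOfFinitePresentation)]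
    have e := arrowResLEAppIso j U.1 (j ⁻¹ᵁ U.1) le_rfl
    haveI : (RingHom.toMorphismProperty RingHom.FinitePresentation).RespectsIso :=
      RingHom.toMorphismProperty_respectsIso_iff.1 RingHom.finitePresentation_respectsIso
    rw [← j.resLE_eq_morphismRestrict]
    refine (MorphismProperty.arrow_mk_iso_iff (RingHom.toMorphismProperty RingHom.FinitePresentation) e).2 ?_
    rw [← j.app_eq_appLE]
    exact RingHom.FinitePresentation.of_surjective _ (hsurj U) (h U)

end MiscFlat6
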