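import Groth.Agent.AmpleThLib.Ample
import Groth.Agent.AmpleDevLib.Pull
import Groth.Agent.MiscFlat6.AmpleSep

/-!
# Ampleness along closed immersions which are homeomorphisms
-/

universe u
open CategoryTheory CategoryTheory.Limits AlgebraicGeometry TopologicalSpace Opposite
open AmpleLib AmpleThLib
open TwistLib (genSet)
open KFlatLib (pb puSec)

noncomputable section

namespace MiscFlat6

variable {X : Scheme.{u}}

/-- chart functions with a common locus `V`, agreeing on `V`: powers glue to a global section -/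
theorem exists_locus_of_charts [QuasiSeparatedSpace X] {M : X.Modules} (hM : PicF.IsInvertible M)
    {ι : Type u} [Finite ι] (U : ι → X.Opens) (hcov : ∀ x, ∃ i, x ∈ U i) (haff : ∀ i, IsAffineOpen (U i))
    (e : ∀ i, Γ(M, U i)) (he : ∀ i, GenOn M (e i)) (p : ℕ) (V : X.Opens) (r : ∀ i, Γ(X, U i))
    (hD : ∀ i, X.basicOpen (r i) = V ⊓ U i)
    (hag : ∀ (i j : ι) (W : X.Opens) (hi : W ≤ U i) (hj : W ≤ U j), W ≤ V →
      rX hi (r i) • res _ hi (pS (e i) p) = rX hj (r j) • res _ hj (pS (e j) p)) :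
    ∃ K : ℕ, 0 < K ∧ IsLocus hM (p * K) V := by
  classical
  haveI := Fintype.ofFinite ι
  have hc : ∀ i j, ∃ c : Γ(X, U i ⊓ U j), c • res M inf_le_left (e i) = res M inf_le_right (e j) :=
    fun i j => ((he i) _ inf_le_left).2 (res M inf_le_right (e j))
  choose c hc using hc
  have hcm : ∀ i j m, res _ (inf_le_right : U i ⊓ U j ≤ U j) (pS (e j) m) =
      c i j ^ m • res _ inf_le_left (pS (e i) m) := fun i j m => by
    rw [pS_res, pS_res, ← hc, pS_smul]
  let a : ∀ i j, Γ(X, U i ⊓ U j) := fun i j => rX inf_le_left (r i)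
  let b : ∀ i j, Γ(X, U i ⊓ U j) := fun i j => rX inf_le_right (r j) * c i j ^ p
  have hbound : ∀ q : ι × ι, ∃ N : ℕ, a q.1 q.2 ^ N * (a q.1 q.2 - b q.1 q.2) = 0 ∧
      b q.1 q.2 ^ N * (a q.1 q.2 - b q.1 q.2) = 0 := by
    rintro ⟨i, j⟩
    let W := U i ⊓ U j
    have hcW : IsCompact (W : Set X) := QuasiSeparatedSpace.inter_isCompact _ _ (U i).2 (haff i).isCompact
      (U j).2 (haff j).isCompact
    have hz : ∀ (W' : X.Opens) (h : W' ≤ W), W' ≤ V → rX h (a i j - b i j) = 0 := by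
      intro W' h hV
      refine ((pS_genOn (he i) p) W' (h.trans inf_le_left)).1 ?_
      dsimp only
      simp only [rX, map_sub, zero_smul, sub_smul, sub_eq_zero]
      have h1 := hag i j W' (h.trans inf_le_left) (h.trans inf_le_right) hV
      have h2 := congrArg (res _ h) (hcm i j p)
      rw [res_res, res_smul, res_res] at h2
      rw [h2] at h1
      simp only [a, b, map_mul, rX, ← CommRingCat.comp_apply, ← Functor.map_comp, ← op_comp,
        homOfLE_comp]
      refine h1.trans ?_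
      rw [smul_smul]
    have ha : X.basicOpen (a i j) ≤ V := by
      simp only [a, rX, Scheme.basicOpen_res, hD]
      exact inf_le_right.trans inf_le_left
    have hb : X.basicOpen (b i j) ≤ V := by
      simp only [b, rX, Scheme.basicOpen_mul, Scheme.basicOpen_res, hD]
      exact inf_le_left.trans (inf_le_right.trans inf_le_left)
    obtain ⟨N₁, h₁⟩ := exists_pow_mul_eq_zero_of_res_basicOpen_eq_zero_of_isCompact X hcW (a i j - b i j) (a i j)
      (hz _ (X.basicOpen_le _) ha)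
    obtain ⟨N₂, h₂⟩ := exists_pow_mul_eq_zero_of_res_basicOpen_eq_zero_of_isCompact X hcW (a i j - b i j) (b i j)
      (hz _ (X.basicOpen_le _) hb)
    exact ⟨N₁ + N₂, by rw [pow_add, mul_comm (a i j ^ N₁), mul_assoc, h₁, mul_zero],
      by rw [pow_add, mul_assoc, h₂, mul_zero]⟩
  choose N hN using hbound
  let B := Finset.univ.sum N + 1
  have hpow : ∀ i j, a i j ^ (B + B) = b i j ^ (B + B) := fun i j => by
    have hle : N (i, j) ≤ B := (Finset.single_le_sum (fun q _ => Nat.zero_le (N q))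
      (Finset.mem_univ (i, j))).trans (Nat.le_succ _)
    obtain ⟨h1, h2⟩ := hN (i, j)
    have h1' : a i j ^ B * (a i j - b i j) = 0 := by
      rw [← Nat.sub_add_cancel hle, pow_add, mul_assoc, h1, mul_zero]
    have h2' : b i j ^ B * (a i j - b i j) = 0 := by
      rw [← Nat.sub_add_cancel hle, pow_add, mul_assoc, h2, mul_zero]
    have key : ∀ k, a i j ^ (B + k) = a i j ^ B * b i j ^ k ∧ b i j ^ (B + k) = b i j ^ B * a i j ^ k := by
      intro k
      induction k with
      | zero => simp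
      | succ k ih =>
        constructor
        · rw [← add_assoc, pow_succ, ih.1, pow_succ]
          linear_combination b i j ^ k * h1'
        · rw [← add_assoc, pow_succ, ih.2, pow_succ]
          linear_combination (-(a i j ^ k)) * h2'
    rw [(key B).1, (key B).2, mul_comm]
  refine ⟨B + B, by omega, ?_⟩
  have hcov' : (⊤ : X.Opens) ≤ ⨆ i : ι, U i := fun x _ => Opens.mem_iSup.mpr (hcov x)
  obtain ⟨σ, hσ, -⟩ := TopCat.Sheaf.existsUnique_gluing'
    (F := ⟨(CohB1.tensorPow M (p * (B + B))).presheaf, (CohB1.tensorPow M (p * (B + B))).isSheaf⟩)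
    U ⊤ (fun i => homOfLE le_top) hcov'
    (fun i => r i ^ (B + B) • pS (e i) (p * (B + B))) (fun i j => by
      change res _ inf_le_left _ = res _ inf_le_right _
      rw [res_smul, res_smul, hcm, smul_smul, map_pow, map_pow, pow_mul, ← mul_pow]
      exact congrArg (· • _) (hpow i j))
  refine ⟨σ, ?_⟩
  ext x
  obtain ⟨i, hxi⟩ := hcov x
  have h1 := SetLike.ext_iff.mp (mem_genSet_coeff (tensorPow_isInvertible hM (p * (B + B))) σ
    (pS_genOn (he i) _) (r := r i ^ (B + B)) (hσ i).symm) x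
  rw [X.basicOpen_pow (r i) (show 0 < B + B by omega), hD] at h1
  simp only [Opens.mem_inf, hxi, and_true] at h1
  exact h1

theorem exists_pow_extend {R S : Type*} [CommRing R] [CommRing S] [Algebra R S] (f : R)
    [IsLocalization.Away f S] {a : S} (h : IsNilpotent (a - algebraMap R S f)) :
    ∃ m₀, ∀ m, m₀ ≤ m → ∃ A : R, algebraMap R S (f * A) = a ^ m := by
  obtain ⟨q, hq⟩ := h
  obtain ⟨⟨t, ⟨_, k, rfl⟩⟩, ht⟩ := IsLocalization.surj (Submonoid.powers f) (a - algebraMap R S f)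
  refine ⟨q * (k + 1) + 1, fun m hm => ?_⟩
  refine ⟨(Finset.range q).sum fun i => t ^ i * f ^ (m - i - k * i - 1) * (m.choose i : R), ?_⟩
  rw [show a ^ m = ((a - algebraMap R S f) + algebraMap R S f) ^ m by rw [sub_add_cancel], add_pow,
    Finset.mul_sum, map_sum]
  refine Eq.trans ?_ (Finset.sum_subset (s₁ := Finset.range q)
    (Finset.range_mono (by nlinarith [Nat.le_mul_of_pos_right q (show 0 < k + 1 by omega)])) ?_)
  · refine Finset.sum_congr rfl fun i hi => ?_
    rw [Finset.mem_range] at hi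
    have h1 : i * (k + 1) ≤ q * (k + 1) := Nat.mul_le_mul_right _ hi.le
    have h3 : i * (k + 1) = i + k * i := by ring
    have h2 : m - i = k * i + (m - i - k * i - 1 + 1) := by omega
    simp only [map_mul, map_pow, map_natCast]
    rw [h2, pow_add, pow_mul, ← mul_assoc ((a - algebraMap R S f) ^ i), ← mul_pow,
      ← map_pow (algebraMap R S) f k, ht, pow_succ, ← h2]
    ring
  · intro i _ hi
    rw [Finset.mem_range, not_lt] at hi
    rw [← Nat.sub_add_cancel hi, pow_add, hq]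
    ring

variable {Z : Scheme.{u}} (i : Z ⟶ X) [IsClosedImmersion i]

theorem isAmple_of_isAmple_pb_homeomorph (hi : IsHomeomorph i) {L : X.Modules} (hL : PicF.IsInvertible L)
    (hA : CohB1.IsAmple (pb i L)) : CohB1.IsAmple L := by
  classical
  let h : Z ≃ₜ X := hi.homeomorph
  haveI : CompactSpace Z := hA.2.1
  haveI := AmpleThLib.quasiSeparatedSpace_of_isAmple hA
  haveI : CompactSpace X := h.compactSpace
  haveI : QuasiSeparatedSpace X := QuasiSeparatedSpace.of_isOpenEmbedding h.symm.isOpenEmbedding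
  have hinj : ∀ A B : X.Opens, i ⁻¹ᵁ A = i ⁻¹ᵁ B → A = B := fun A B e => Opens.ext
    (Set.preimage_injective.mpr hi.surjective (congrArg SetLike.coe e))
  refine (AmpleThLib.isAmple_iff (hL := hL)).mpr ⟨inferInstance, fun x => ?_⟩
  obtain ⟨z, rfl⟩ := hi.surjective x
  obtain ⟨U₀', e₀', hxU₀', he₀'⟩ := TwistLib.exists_genOn hL (i z)
  obtain ⟨U₀, hU₀, hxU₀, hle₀⟩ := exists_isAffineOpen_mem_and_subset hxU₀'
  obtain ⟨n, V, hn, ⟨τ₁, hτ₁⟩, hzV, -, hVle⟩ :=
    exists_locus_le (AmpleDevLib.isInvertible_pb i hL) hA (W := i ⁻¹ᵁ U₀) (x := z) hxU₀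
  obtain ⟨φ, -⟩ := AmpleDevLib.exists_pullPowIso i hL n
  let M := CohB1.tensorPow L n
  have hM : PicF.IsInvertible M := tensorPow_isInvertible hL n
  let τ : Γ(pb i M, ⊤) := φ.inv.app ⊤ τ₁
  have hτ : genSet (AmpleDevLib.isInvertible_pb i hM) τ = V :=
    (genSet_iso _ (AmpleDevLib.isInvertible_pb i hM) φ.symm τ₁).trans hτ₁
  -- lifted coefficients of `τ` on affine charts
  have hlift : ∀ (W : X.Opens), IsAffineOpen W → ∀ g : Γ(M, W), GenOn M g → ∃ f : Γ(X, W),
      i.app W f • puSec i g = res (pb i M) le_top τ ∧ i ⁻¹ᵁ X.basicOpen f = V ⊓ i ⁻¹ᵁ W := by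
    intro W hW g hg
    obtain ⟨c, hc⟩ := exists_coeff τ (AmpleDevLib.puSec_genOn i hg)
    obtain ⟨f, rfl⟩ := i.app_surjective W hW c
    refine ⟨f, hc, ?_⟩
    rw [Scheme.preimage_basicOpen, ← hτ]
    exact (mem_genSet_coeff _ τ (AmpleDevLib.puSec_genOn i hg) hc).symm
  let g₀ : Γ(M, U₀) := pS (res L hle₀ e₀') n
  obtain ⟨f₀, hf₀, hDf₀⟩ := hlift U₀ hU₀ g₀ (pS_genOn (he₀'.res hle₀) n)
  let U : X.Opens := X.basicOpen f₀
  have hiU : i ⁻¹ᵁ U = V := hDf₀.trans (inf_eq_left.mpr hVle)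
  have hUU₀ : U ≤ U₀ := X.basicOpen_le _
  let g : Γ(M, U) := res M hUU₀ (f₀ • g₀)
  have hg : GenOn M g := TwistLib.genOn_of_genAt fun y hy => (genAt_res hUU₀ _ hy).mpr
    ((genAt_smul_iff f₀ g₀ (hUU₀ hy) ((pS_genOn (he₀'.res hle₀) n).genAt _)).mpr hy)
  have hgτ : puSec i g = res (pb i M) le_top τ := by
    show puSec i (res M hUU₀ (f₀ • g₀)) = _
    rw [TwistLib.puSec_res i hUU₀, TwistLib.puSec_smul, hf₀, res_res]
  -- the other charts
  have hloc : ∀ y : X, ∃ (W : X.Opens) (e : Γ(M, W)), y ∈ W ∧ GenOn M e ∧ IsAffineOpen W := by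
    intro y
    obtain ⟨W', e, hy, he⟩ := TwistLib.exists_genOn hM y
    obtain ⟨W, hW, hyW, hWW'⟩ := exists_isAffineOpen_mem_and_subset hy
    exact ⟨W, res M hWW' e, hyW, he.res hWW', hW⟩
  choose W₀ e hmem hgen haff using hloc
  obtain ⟨S, hS⟩ := isCompact_univ.elim_finite_subcover (fun y => (W₀ y : Set X))
    (fun y => (W₀ y).2) fun y _ => Set.mem_iUnion.mpr ⟨y, hmem y⟩
  choose f hf hDf using fun j : S => hlift (W₀ j.1) (haff j.1) (e j.1) (hgen j.1)
  have hUj : ∀ j : S, X.basicOpen (f j) = U ⊓ W₀ j.1 := fun j => hinj _ _ (by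
    rw [hDf j, Scheme.Hom.preimage_inf, hiU])
  have hDU : ∀ j : S, X.basicOpen (f j) ≤ U := fun j => (hUj j).le.trans inf_le_left
  have hDW : ∀ j : S, X.basicOpen (f j) ≤ W₀ j.1 := fun j => X.basicOpen_le _
  choose a ha using fun j : S => ((hgen j.1) (X.basicOpen (f j)) (hDW j)).2 (res M (hDU j) g)
  dsimp only at ha
  have hnil : ∀ j : S, IsNilpotent (a j - rX (hDW j) (f j)) := by
    intro j
    refine (Scheme.isNilpotent_iff_basicOpen_eq_bot_of_isCompact ((haff j.1).basicOpen (f j)).isCompact _).mpr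
      (hinj _ _ ?_)
    have h1 := congrArg (puSec i) (ha j)
    rw [TwistLib.puSec_smul, TwistLib.puSec_res i, TwistLib.puSec_res i, hgτ, res_res] at h1
    have h2 := congrArg (res (pb i M) (i.preimage_mono (hDW j))) (hf j)
    rw [res_smul, res_res] at h2
    have h3 := ((AmpleDevLib.puSec_genOn i (hgen j.1)) _ (i.preimage_mono (hDW j))).1 (h1.trans h2.symm)
    have h4 : i.app _ (a j) = i.app _ (rX (hDW j) (f j)) :=
      h3.trans (congr($(i.naturality (homOfLE (hDW j)).op) (f j))).symm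
    rw [Scheme.preimage_basicOpen, map_sub, h4]
    refine (congrArg Z.basicOpen (sub_self _)).trans ?_
    exact (Scheme.basicOpen_zero _ _).trans rfl
  have hext : ∀ j : S, ∃ m₀, ∀ m, m₀ ≤ m → ∃ A : Γ(X, W₀ j.1), rX (hDW j) (f j * A) = a j ^ m := by
    intro j
    letI : Algebra Γ(X, W₀ j.1) Γ(X, X.basicOpen (f j)) :=
      (X.presheaf.map (homOfLE (hDW j)).op).hom.toAlgebra
    haveI : IsLocalization.Away (f j) Γ(X, X.basicOpen (f j)) := (haff j.1).isLocalization_basicOpen (f j)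
    exact exists_pow_extend (f j) (hnil j)
  choose m₀ hm₀ using hext
  let m := Finset.univ.sum m₀ + 1
  choose A hA' using fun j : S => hm₀ j m
    ((Finset.single_le_sum (fun q _ => Nat.zero_le (m₀ q)) (Finset.mem_univ j)).trans (Nat.le_succ _))
  have hagree : ∀ (j : S) (W : X.Opens) (hW : W ≤ W₀ j.1) (hU : W ≤ U),
      rX hW (f j * A j) • res _ hW (pS (e j.1) m) = res _ hU (pS g m) := by
    intro j W hW hU
    have hWD : W ≤ X.basicOpen (f j) := (hUj j).ge.trans' (le_inf hU hW)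
    have h1 := congrArg (fun z => res _ hWD (pS z m)) (ha j)
    simp only [pS_smul, res_smul] at h1
    rw [← pS_res, ← pS_res, res_res, res_res, ← hA' j] at h1
    simp only [rX, ← CommRingCat.comp_apply, ← Functor.map_comp, ← op_comp, homOfLE_comp] at h1 ⊢
    exact h1
  obtain ⟨K, hK, hLoc⟩ := exists_locus_of_charts hM (fun j : S => W₀ j.1)
    (fun y => by
      obtain ⟨j, hj, hy⟩ := Set.mem_iUnion₂.mp (hS (Set.mem_univ y))
      exact ⟨⟨j, hj⟩, hy⟩) (fun j => haff j.1) (fun j => e j.1) (fun j => hgen j.1) m U (fun j => f j * A j)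
    (fun j => le_antisymm ((X.basicOpen_mul _ _).le.trans (inf_le_left.trans (hUj j).le)) fun y hy => by
      rw [← genAt_smul_iff _ (pS (e j.1) m) hy.2 ((pS_genOn (hgen j.1) m).genAt _),
        ← genAt_res (inf_le_right : U ⊓ W₀ j.1 ≤ W₀ j.1) _ hy, res_smul,
        show _ • _ = _ from hagree j (U ⊓ W₀ j.1) inf_le_right inf_le_left, genAt_res]
      exact (pS_genOn hg m).genAt _)
    (fun j k W hj hk hU => (hagree j W hj hU).trans (hagree k W hk hU).symm)
  obtain ⟨σ, hσ⟩ := hLoc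
  obtain ⟨ψ, -⟩ := exists_powIso hL n (m * K)
  exact ⟨n * (m * K), U, Nat.mul_pos hn (Nat.mul_pos (Nat.succ_pos _) hK),
    ⟨ψ.hom.app ⊤ σ, (genSet_iso _ _ ψ σ).trans hσ⟩, hiU.ge hzV, hU₀.basicOpen f₀⟩

end MiscFlat6
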