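import Groth.Agent.GeomRedFieldLib.Stratify
import Mathlib.AlgebraicGeometry.Morphisms.SchemeTheoreticallyDominant

/-!
# Scheme-theoretic images of reduced schemes and reduced subschemes
-/

set_option autoImplicit false
universe u

open CategoryTheory Limits AlgebraicGeometry TopologicalSpace

namespace MiscFlat6

variable {X Y : Scheme.{u}} (π : X ⟶ Y)

/-- The closure of the image. -/
def closureRange : Closeds Y := ⟨closure (Set.range π), isClosed_closure⟩

theorem ker_app_le_vanishing (U : Y.affineOpens) :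
    RingHom.ker (π.app U).hom ≤ (Scheme.IdealSheafData.vanishingIdeal (closureRange π)).ideal U := by
  intro s hs
  rw [Scheme.IdealSheafData.vanishingIdeal_ideal, PrimeSpectrum.mem_vanishingIdeal]
  intro p hp
  by_contra hsp
  have h1 : U.2.fromSpec p ∈ Y.basicOpen s := by
    have : p ∈ U.2.fromSpec ⁻¹ᵁ Y.basicOpen s := by
      rw [U.2.fromSpec_preimage_basicOpen]; exact hsp
    exact this
  obtain ⟨y, hy, x, rfl⟩ := mem_closure_iff.mp hp _ (Y.basicOpen s).isOpen h1
  have h2 : x ∈ π ⁻¹ᵁ Y.basicOpen s := hy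
  rw [Scheme.preimage_basicOpen, RingHom.mem_ker.mp hs, Scheme.basicOpen_zero] at h2
  exact h2

theorem vanishing_le_ker [IsReduced X] :
    Scheme.IdealSheafData.vanishingIdeal (closureRange π) ≤ π.ker := by
  refine Scheme.IdealSheafData.le_ofIdeals_iff.mpr fun U s hs => ?_
  rw [Scheme.IdealSheafData.vanishingIdeal_ideal, PrimeSpectrum.mem_vanishingIdeal] at hs
  rw [RingHom.mem_ker, ← basicOpen_eq_bot_iff, ← Scheme.preimage_basicOpen, eq_bot_iff]
  intro x hx
  have hxU : π x ∈ U.1 := Y.basicOpen_le s hx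
  have h := hs (U.2.primeIdealOf ⟨π x, hxU⟩) (by
    show U.2.fromSpec _ ∈ closure (Set.range π)
    rw [U.2.fromSpec_primeIdealOf]
    exact subset_closure ⟨x, rfl⟩)
  have h1 : U.2.primeIdealOf ⟨π x, hxU⟩ ∈ U.2.fromSpec ⁻¹ᵁ Y.basicOpen s := by
    show U.2.fromSpec (U.2.primeIdealOf ⟨π x, hxU⟩) ∈ Y.basicOpen s
    rw [U.2.fromSpec_primeIdealOf]
    exact hx
  rw [U.2.fromSpec_preimage_basicOpen] at h1
  exact absurd h h1

theorem ker_eq_vanishing [IsReduced X] :
    π.ker = Scheme.IdealSheafData.vanishingIdeal (closureRange π) :=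
  le_antisymm (fun U => (π.ideal_ker_le U).trans (ker_app_le_vanishing π U)) (vanishing_le_ker π)

theorem ker_ideal_eq [IsReduced X] (U : Y.affineOpens) : π.ker.ideal U = RingHom.ker (π.app U).hom := by
  refine le_antisymm (π.ideal_ker_le U) ?_
  rw [ker_eq_vanishing π]
  exact ker_app_le_vanishing π U

theorem support_ker_eq [IsReduced X] : (π.ker.support : Set Y) = closure (Set.range π) := by
  rw [ker_eq_vanishing π, Scheme.IdealSheafData.coe_support_vanishingIdeal]
  rfl

theorem subscheme_reduced_iff (Y : Scheme.{u}) (I : Y.IdealSheafData) (hI : I.support = ⊤) :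
    IsReduced I.subscheme ↔ I = Y.nilradical := by
  constructor
  · intro h
    rw [← I.ker_subschemeι, ker_eq_vanishing, ← Scheme.IdealSheafData.vanishingIdeal_top]
    congr 1
    refine Closeds.ext ?_
    show closure (Set.range I.subschemeι) = _
    rw [Scheme.IdealSheafData.range_subschemeι, hI]
    simp
  · rintro rfl
    exact GeomRedFieldLib.isReduced_nilradical Y

/-- The reduced closed subscheme on the closure of the image. -/
noncomputable def redClosure : Scheme.{u} :=
  (Scheme.IdealSheafData.vanishingIdeal (closureRange π)).subscheme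

/-- Its inclusion. -/
noncomputable def redClosureι : redClosure π ⟶ Y :=
  (Scheme.IdealSheafData.vanishingIdeal (closureRange π)).subschemeι

instance : IsClosedImmersion (redClosureι π) := inferInstanceAs (IsClosedImmersion
  (Scheme.IdealSheafData.vanishingIdeal (closureRange π)).subschemeι)

instance : IsReduced (redClosure π) := GeomRedFieldLib.isReduced_vanishing _

theorem range_redClosureι : Set.range (redClosureι π) = closure (Set.range π) :=
  (Scheme.IdealSheafData.range_subschemeι _).trans (Scheme.IdealSheafData.coe_support_vanishingIdeal _)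

/-- An immersion of a reduced scheme is open in the reduced closure of its image. -/
theorem exists_openImmersion_redClosure {Z : Scheme.{u}} (h : Z ⟶ Y) [IsImmersion h] [IsReduced Z] :
    ∃ j : Z ⟶ redClosure h, IsOpenImmersion j ∧ j ≫ redClosureι h = h := by
  have H : (redClosureι h).ker ≤ h.ker := by
    rw [show (redClosureι h).ker = _ from Scheme.IdealSheafData.ker_subschemeι _]
    exact vanishing_le_ker h
  let j : Z ⟶ redClosure h := IsClosedImmersion.lift (redClosureι h) h H
  have hj : j ≫ redClosureι h = h := IsClosedImmersion.lift_fac _ _ _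
  refine ⟨j, ?_, hj⟩
  let O : Y.Opens := h.coborderRange
  let O' : (redClosure h).Opens := redClosureι h ⁻¹ᵁ O
  have hrange : Set.range j ⊆ Set.range O'.ι := by
    rintro _ ⟨z, rfl⟩
    rw [Scheme.Opens.range_ι]
    show redClosureι h (j z) ∈ O
    rw [← Scheme.Hom.comp_apply, hj]
    exact subset_coborder ⟨z, rfl⟩
  let j' : Z ⟶ O' := IsOpenImmersion.lift O'.ι j hrange
  have hj' : j' ≫ O'.ι = j := IsOpenImmersion.lift_fac _ _ _
  have hfac : j' ≫ (redClosureι h ∣_ O) = h.liftCoborder := by
    rw [← cancel_mono O.ι, Category.assoc, morphismRestrict_ι, reassoc_of% hj', hj, Scheme.Hom.liftCoborder_ι]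
  have : IsClosedImmersion (j' ≫ (redClosureι h ∣_ O)) := hfac ▸ inferInstance
  have : IsClosedImmersion j' := .of_comp j' (redClosureι h ∣_ O)
  have : Surjective j' := ⟨fun w => by
    have hw1 : redClosureι h w.1 ∈ closure (Set.range h) := range_redClosureι h ▸ ⟨w.1, rfl⟩
    have hw2 : redClosureι h w.1 ∈ coborder (Set.range h) := w.2
    obtain ⟨z, hz⟩ : redClosureι h w.1 ∈ Set.range h :=
      coborder_inter_closure.le ⟨hw2, hw1⟩
    refine ⟨z, Subtype.ext ((redClosureι h).isClosedEmbedding.injective ?_)⟩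
    show redClosureι h (O'.ι (j' z)) = _
    rw [← Scheme.Hom.comp_apply j' O'.ι, hj', ← Scheme.Hom.comp_apply, hj, hz]⟩
  have : IsIso j' := isIso_of_isClosedImmersion_of_surjective j'
  rw [← hj']
  infer_instance

theorem exists_reduced_subscheme {Z : Set Y} (hZ : IsLocallyClosed Z) :
    ∃ (W : Scheme.{u}) (i : W ⟶ Y), IsImmersion i ∧ IsReduced W ∧ Set.range i = Z := by
  let I := Scheme.IdealSheafData.vanishingIdeal (⟨closure Z, isClosed_closure⟩ : Closeds Y)
  haveI : IsReduced I.subscheme := GeomRedFieldLib.isReduced_vanishing _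
  let O : Y.Opens := ⟨coborder Z, hZ.isOpen_coborder⟩
  let W := I.subschemeι ⁻¹ᵁ O
  refine ⟨W, W.ι ≫ I.subschemeι, inferInstance, inferInstance, ?_⟩
  rw [Scheme.Hom.comp_base, TopCat.coe_comp, Set.range_comp, Scheme.Opens.range_ι]
  show I.subschemeι '' (I.subschemeι ⁻¹' (coborder Z)) = Z
  rw [Set.image_preimage_eq_inter_range, Scheme.IdealSheafData.range_subschemeι,
    Scheme.IdealSheafData.coe_support_vanishingIdeal]
  exact coborder_inter_closure

theorem exists_iso_of_range_eq {Z Z' : Scheme.{u}} (i : Z ⟶ Y) (i' : Z' ⟶ Y) [IsImmersion i] [IsReduced Z]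
    [IsImmersion i'] [IsReduced Z'] (h : Set.range i = Set.range i') : ∃ e : Z ≅ Z', e.hom ≫ i' = i := by
  obtain ⟨j, hj, e1⟩ := exists_openImmersion_redClosure i
  obtain ⟨j', hj', e2⟩ := exists_openImmersion_redClosure i'
  have hc : closureRange i' = closureRange i := Closeds.ext (by rw [closureRange, closureRange]; simp [h])
  let e : redClosure i' ≅ redClosure i := eqToIso (by rw [redClosure, redClosure, hc])
  have he : e.hom ≫ redClosureι i = redClosureι i' := by
    have : ∀ (C C' : Closeds Y) (hC : C = C'),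
        (eqToIso (congrArg (fun C => (Scheme.IdealSheafData.vanishingIdeal C).subscheme) hC)).hom ≫
          (Scheme.IdealSheafData.vanishingIdeal C').subschemeι =
        (Scheme.IdealSheafData.vanishingIdeal C).subschemeι := by
      rintro C C' rfl; simp
    exact this _ _ hc
  haveI : IsOpenImmersion (j' ≫ e.hom) := inferInstance
  have hr : Set.range j = Set.range (j' ≫ e.hom) := by
    apply Set.image_injective.mpr (redClosureι i).isClosedEmbedding.injective
    rw [← Set.range_comp, ← Set.range_comp, ← TopCat.coe_comp, ← TopCat.coe_comp, ← Scheme.Hom.comp_base,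
      ← Scheme.Hom.comp_base, e1, Category.assoc, he, e2, h]
  refine ⟨IsOpenImmersion.isoOfRangeEq j (j' ≫ e.hom) hr, ?_⟩
  calc _ = (IsOpenImmersion.isoOfRangeEq j (j' ≫ e.hom) hr).hom ≫ (j' ≫ e.hom) ≫ redClosureι i := by
        rw [Category.assoc, he, e2]
    _ = i := by rw [← Category.assoc, IsOpenImmersion.isoOfRangeEq_hom_fac, e1]

theorem isOpenImmersion_red (f : X ⟶ Y) [IsOpenImmersion f]
    (g : X.nilradical.subscheme ⟶ Y.nilradical.subscheme)
    (hg : g ≫ Y.nilradical.subschemeι = X.nilradical.subschemeι ≫ f) : IsOpenImmersion g := by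
  haveI := GeomRedFieldLib.isReduced_nilradical Y
  let W := Y.nilradical.subschemeι ⁻¹ᵁ f.opensRange
  have hrange : Set.range g ⊆ Set.range W.ι := by
    rintro _ ⟨z, rfl⟩
    rw [Scheme.Opens.range_ι]
    show Y.nilradical.subschemeι (g z) ∈ f.opensRange
    rw [← Scheme.Hom.comp_apply, hg]
    exact ⟨X.nilradical.subschemeι z, rfl⟩
  let g' : X.nilradical.subscheme ⟶ W := IsOpenImmersion.lift W.ι g hrange
  have hg' : g' ≫ W.ι = g := IsOpenImmersion.lift_fac _ _ _
  let k : (W : Scheme.{u}) ⟶ X := IsOpenImmersion.lift f (W.ι ≫ Y.nilradical.subschemeι) (by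
    rintro _ ⟨w, rfl⟩
    exact w.2)
  have hk : k ≫ f = W.ι ≫ Y.nilradical.subschemeι := IsOpenImmersion.lift_fac _ _ _
  haveI : Mono k := mono_of_mono_fac hk
  have hfac : g' ≫ k = X.nilradical.subschemeι := by
    rw [← cancel_mono f, Category.assoc, hk, reassoc_of% hg', hg]
  have : IsClosedImmersion (g' ≫ k) := hfac ▸ inferInstance
  have : IsClosedImmersion g' := .of_comp g' k
  have : Surjective g' := ⟨fun w => by
    obtain ⟨z, hz⟩ := (GeomRedFieldLib.surjective_nilradical X).surj (k w)
    refine ⟨z, k.injective ?_⟩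
    rw [← Scheme.Hom.comp_apply, hfac, hz]⟩
  have : IsIso g' := isIso_of_isClosedImmersion_of_surjective g'
  rw [← hg']
  infer_instance

theorem schDom_restrict_iff (U : Y.Opens) [IsReduced (U : Scheme.{u})] :
    (IsSchemeTheoreticallyDominant U.ι ↔
      ∀ W : Y.Opens, IsSchemeTheoreticallyDominant (Y.homOfLE (inf_le_right : U ⊓ W ≤ W))) ∧
    (IsSchemeTheoreticallyDominant U.ι → IsReduced Y) := by
  have hred : IsSchemeTheoreticallyDominant U.ι → IsReduced Y := fun h => by
    haveI : ∀ i, IsReduced ((Y.openCoverOfIsOpenCover _ (iSup_affineOpens_eq_top Y)).X i) := fun (V : Y.affineOpens) => by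
      show IsReduced (V.1 : Scheme.{u})
      haveI : IsAffine (V.1 : Scheme.{u}) := V.2
      haveI : _root_.IsReduced Γ(Y, V.1) := by
        refine isReduced_of_injective (U.ι.app V.1).hom ?_
        rw [RingHom.injective_iff_ker_eq_bot, ← ker_ideal_eq U.ι V, h.ker_eq_bot]
        simp
      haveI : _root_.IsReduced Γ((V.1 : Scheme.{u}), ⊤) :=
        isReduced_of_injective V.1.topIso.hom.hom (ConcreteCategory.bijective_of_isIso V.1.topIso.hom).1
      exact isReduced_of_isAffine_isReduced (V.1 : Scheme.{u})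
    exact IsReduced.of_openCover (𝒰 := Y.openCoverOfIsOpenCover _ (iSup_affineOpens_eq_top Y))
  refine ⟨⟨fun h W => ?_, fun H => ?_⟩, hred⟩
  · haveI := hred h
    haveI : IsDominant (Y.homOfLE (inf_le_right : U ⊓ W ≤ W)) := by
      have hd : closure (U : Set Y) = Set.univ := by
        have := support_ker_eq U.ι
        rw [h.ker_eq_bot, Scheme.IdealSheafData.support_bot, Scheme.Opens.range_ι] at this
        simpa using this.symm
      refine ⟨fun w => ?_⟩
      refine closure_subtype.mpr (closure_mono ?_ (W.isOpen.inter_closure ⟨w.2, (hd.ge trivial : w.1 ∈ closure (U : Set Y))⟩))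
      rintro y ⟨hy1, hy2⟩
      refine ⟨⟨y, hy1⟩, ⟨⟨y, hy2, hy1⟩, Subtype.ext ?_⟩, rfl⟩
      exact congrArg (fun φ => φ.base ⟨y, hy2, hy1⟩) (Y.homOfLE_ι (inf_le_right : U ⊓ W ≤ W))
    exact .of_isDominant _
  · haveI := H ⊤
    have e : U.ι = (Y.isoOfEq (inf_top_eq U)).inv ≫ Y.homOfLE (inf_le_right : U ⊓ ⊤ ≤ ⊤) ≫ Y.topIso.hom := by
      simp
    rw [e]
    infer_instance

end MiscFlat6
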