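import Groth.Agent.MiscFlat6.AmpleFamily

/-!
# Extension of sections of a twisted invertible module off the locus of a section of another one
-/

universe u
open CategoryTheory CategoryTheory.Limits AlgebraicGeometry TopologicalSpace Opposite
open AmpleLib AmpleThLib
open TwistLib (genSet)

noncomputable section

namespace MiscFlat6

variable {X : Scheme.{u}}

theorem tensorMod_isInvertible {M K : X.Modules} (hM : PicF.IsInvertible M) (hK : PicF.IsInvertible K) :
    PicF.IsInvertible (CohB1.tensorMod M K) := fun x => by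
  obtain ⟨U, g, hxU, hg⟩ := TwistLib.exists_genOn hM x
  obtain ⟨V, e, hxV, he⟩ := TwistLib.exists_genOn hK x
  exact ⟨U ⊓ V, ⟨hxU, hxV⟩, TwistLib.nonempty_iso_of_genOn (shT (res M inf_le_left g) (res K inf_le_right e))
    (shT_genOn (hg.res inf_le_left) (he.res inf_le_right))⟩

theorem exists_extend_mixed [CompactSpace X] [QuasiSeparatedSpace X] {M K : X.Modules}
    (hM : PicF.IsInvertible M) (hK : PicF.IsInvertible K) (t : Γ(K, ⊤)) (s : Γ(M, genSet hK t)) :
    ∃ N : ℕ, ∀ N', N ≤ N' → ∃ u : Γ(CohB1.tensorMod M (CohB1.tensorPow K N'), ⊤),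
      res _ le_top u = shT s (res _ le_top (pS t N')) := by
  classical
  let V := genSet hK t
  have hloc : ∀ x : X, ∃ (U : X.Opens) (g : Γ(M, U)) (e : Γ(K, U)),
      x ∈ U ∧ GenOn M g ∧ GenOn K e ∧ IsAffineOpen U := by
    intro x
    obtain ⟨U, g, hx, hg⟩ := TwistLib.exists_genOn hM x
    obtain ⟨U', e, hx', he⟩ := TwistLib.exists_genOn hK x
    obtain ⟨W, hW, hxW, hWU⟩ := exists_isAffineOpen_mem_and_subset (U := U ⊓ U') (x := x) ⟨hx, hx'⟩
    exact ⟨W, res M (fun y hy => (hWU hy).1) g, res K (fun y hy => (hWU hy).2) e, hxW,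
      hg.res _, he.res _, hW⟩
  choose U₀ g₀ e₀ hmem hgM hgen haff using hloc
  obtain ⟨S, hS⟩ := isCompact_univ.elim_finite_subcover (fun x => (U₀ x : Set X))
    (fun x => (U₀ x).2) fun x _ => Set.mem_iUnion.mpr ⟨x, hmem x⟩
  choose f hf using fun i : S => exists_coeff t (hgen i.1)
  have hB : ∀ i : S, V ⊓ U₀ i.1 = X.basicOpen (f i) := fun i => mem_genSet_coeff hK t (hgen i.1) (hf i)
  have hBV : ∀ i : S, X.basicOpen (f i) ≤ V := fun i => (hB i) ▸ inf_le_left
  have hBU : ∀ i : S, X.basicOpen (f i) ≤ U₀ i.1 := fun i => Scheme.basicOpen_le _ _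
  choose a ha using fun i : S => ((hgM i.1) (X.basicOpen (f i)) (hBU i)).2 (res _ (hBV i) s)
  dsimp only at ha
  choose n b hb using fun i : S => exists_eq_pow_mul_of_isCompact_of_isQuasiSeparated X (U₀ i.1)
    (haff i.1).isCompact (haff i.1).isQuasiSeparated (f i) (a i)
  let N₀ := Finset.univ.sum n
  have hn : ∀ i, n i ≤ N₀ := fun i => Finset.single_le_sum (fun j _ => Nat.zero_le _) (Finset.mem_univ i)
  let F : ℕ → ∀ i : S, Γ(X, U₀ i.1) := fun N i => f i ^ (N - n i) * b i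
  let G : ∀ (N : ℕ) (i : S), Γ(CohB1.tensorMod M (CohB1.tensorPow K N), U₀ i.1) :=
    fun N i => shT (g₀ i.1) (pS (e₀ i.1) N)
  have hG : ∀ N i, GenOn _ (G N i) := fun N i => shT_genOn (hgM i.1) (pS_genOn (hgen i.1) N)
  -- value on the locus
  have hval : ∀ (i : S) (N : ℕ), n i ≤ N → ∀ (W : X.Opens) (hW : W ≤ X.basicOpen (f i)),
      rX (hW.trans (hBU i)) (F N i) • res _ (hW.trans (hBU i)) (G N i) =
        res _ (hW.trans (hBV i)) (shT s (res _ le_top (pS t N))) := by
    intro i N hN W hW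
    have e1 : rX (hBU i) (b i) = rX (hBU i) (f i) ^ n i * a i := hb i
    have e2 : rX (hW.trans (hBU i)) (F N i) = rX hW (a i) * rX (hW.trans (hBU i)) (f i) ^ N := by
      have e3 := congrArg (rX hW) e1
      simp only [map_mul, map_pow, rX, ← CommRingCat.comp_apply, ← Functor.map_comp, ← op_comp,
        homOfLE_comp] at e3
      simp only [F, map_mul, map_pow, rX]
      rw [e3, ← mul_assoc, ← pow_add, Nat.sub_add_cancel hN, mul_comm]
    rw [shT_res, shT_res, res_res, e2, ← shT_smul]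
    congr 1
    · have := congrArg (res _ hW) (ha i)
      rw [res_smul, res_res, res_res] at this
      exact this
    · have := congrArg (res _ (hW.trans (hBU i))) (hf i)
      rw [res_smul, res_res] at this
      rw [pS_res, pS_res, ← pS_smul, this]
  -- the obstruction
  have hKp : ∀ p : S × S, ∃ k : ℕ, ∀ N, N₀ + k ≤ N →
      res _ (inf_le_left : U₀ p.1.1 ⊓ U₀ p.2.1 ≤ U₀ p.1.1) (F N p.1 • G N p.1) =
        res _ (inf_le_right : U₀ p.1.1 ⊓ U₀ p.2.1 ≤ U₀ p.2.1) (F N p.2 • G N p.2) := by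
    rintro ⟨i, j⟩
    let W := U₀ i.1 ⊓ U₀ j.1
    have hi : W ≤ U₀ i.1 := inf_le_left
    have hj : W ≤ U₀ j.1 := inf_le_right
    obtain ⟨c, hc⟩ := ((hgen i.1) W hi).2 (res K hj (e₀ j.1))
    obtain ⟨γ, hγ⟩ := ((hgM i.1) W hi).2 (res M hj (g₀ j.1))
    dsimp only at hc hγ
    have hcn : ∀ m, res _ hj (G m j) = (γ * c ^ m) • res _ hi (G m i) := fun m => by
      rw [shT_res, shT_res, pS_res, pS_res, ← hc, ← hγ, pS_smul, shT_smul]
    have hff : rX hi (f i) = rX hj (f j) * c := by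
      refine ((hgen i.1) W hi).1 ?_
      dsimp only
      rw [mul_smul, hc, ← res_smul, ← res_smul, hf, hf, res_res, res_res]
    let h : ℕ → Γ(X, W) := fun N => rX hi (F N i) - rX hj (F N j) * (γ * c ^ N)
    have hstep : ∀ k, h (N₀ + k) = rX hi (f i) ^ k * h N₀ := by
      intro k
      have t1 : ∀ l : S, F (N₀ + k) l = f l ^ k * F N₀ l := fun l => by
        simp only [F]
        rw [Nat.sub_add_comm (hn l), pow_add]
        ring
      simp only [h, t1, map_mul, map_pow, rX]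
      have hff' : (X.presheaf.map (homOfLE hi).op) (f i) = (X.presheaf.map (homOfLE hj).op) (f j) * c := hff
      rw [hff']
      ring
    have h0 : X.presheaf.map (homOfLE (Scheme.basicOpen_le _ (rX hi (f i)))).op (h N₀) = 0 := by
      have hWi : X.basicOpen (rX hi (f i)) ≤ X.basicOpen (f i) := by
        rw [rX, Scheme.basicOpen_res]; exact inf_le_right
      have hWj : X.basicOpen (rX hi (f i)) ≤ X.basicOpen (f j) := by
        rw [← hB j]
        exact le_inf (hWi.trans (hBV i)) ((Scheme.basicOpen_le _ _).trans hj)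
      refine ((hG N₀ i) _ ((Scheme.basicOpen_le _ _).trans hi)).1 ?_
      dsimp only
      rw [zero_smul]
      simp only [h, map_sub, map_mul, sub_smul, sub_eq_zero, mul_smul]
      have hcB := congrArg (res _ (Scheme.basicOpen_le _ (rX hi (f i)))) (hcn N₀)
      rw [res_res, res_smul, res_res, map_mul, mul_smul] at hcB
      rw [← hcB]
      simp only [rX, ← CommRingCat.comp_apply, ← Functor.map_comp, ← op_comp, homOfLE_comp]
      refine (hval i N₀ (hn i) _ hWi).trans ?_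
      exact (hval j N₀ (hn j) _ hWj).symm
    obtain ⟨k₀, hk₀⟩ := exists_pow_mul_eq_zero_of_res_basicOpen_eq_zero_of_isCompact X
      (QuasiSeparatedSpace.inter_isCompact _ _ (U₀ i.1).2 (haff i.1).isCompact (U₀ j.1).2 (haff j.1).isCompact)
      (h N₀) (rX hi (f i)) h0
    refine ⟨k₀, fun N hN => ?_⟩
    have hz : h N = 0 := by
      obtain ⟨k, rfl⟩ := Nat.exists_eq_add_of_le hN
      rw [Nat.add_assoc, hstep, pow_add, mul_assoc (rX hi (f i) ^ k₀), mul_comm (rX hi (f i) ^ k),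
        ← mul_assoc, hk₀, zero_mul]
    dsimp only
    rw [res_smul, res_smul, hcn, smul_smul]
    exact congrArg (· • _) (sub_eq_zero.mp hz)
  choose k hk using hKp
  let Kt := Finset.univ.sum k
  have hKt : ∀ p, k p ≤ Kt := fun p => Finset.single_le_sum (fun q _ => Nat.zero_le _) (Finset.mem_univ p)
  refine ⟨N₀ + Kt, fun N hN => ?_⟩
  have hcov : (⊤ : X.Opens) ≤ ⨆ i : S, U₀ i.1 := fun x _ => by
    obtain ⟨i, hi, hx⟩ := Set.mem_iUnion₂.mp (hS (Set.mem_univ x))
    exact Opens.mem_iSup.mpr ⟨⟨i, hi⟩, hx⟩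
  let T := CohB1.tensorMod M (CohB1.tensorPow K N)
  obtain ⟨u, hu, -⟩ := TopCat.Sheaf.existsUnique_gluing' (F := ⟨T.presheaf, T.isSheaf⟩)
    (fun i : S => U₀ i.1) ⊤ (fun i => homOfLE le_top) hcov
    (fun i => F N i • G N i) (fun i j => hk (i, j) N ((Nat.add_le_add_left (hKt (i, j)) N₀).trans hN))
  refine ⟨u, TwistLib.mod_ext _ fun x hx => ?_⟩
  obtain ⟨i, hi, hxi⟩ := Set.mem_iUnion₂.mp (hS (Set.mem_univ x))
  have hxB : x ∈ X.basicOpen (f ⟨i, hi⟩) := (hB ⟨i, hi⟩) ▸ ⟨hx, hxi⟩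
  rw [← germ_res _ (hBV ⟨i, hi⟩) (res _ le_top u) hxB, ← germ_res _ (hBV ⟨i, hi⟩) (shT s _) hxB, res_res]
  congr 1
  refine Eq.trans ?_ (hval ⟨i, hi⟩ N ((hn _).trans (le_trans (Nat.le_add_right _ _) hN)) _ le_rfl)
  have h1 := congrArg (res _ (hBU ⟨i, hi⟩)) (show res _ (le_top : U₀ i ≤ ⊤) u = _ from hu ⟨i, hi⟩)
  rw [res_res, res_smul] at h1
  exact h1

end MiscFlat6
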