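import Groth.Agent.MiscFlat6.AmpleFpqc
import Groth.Agent.MiscFlat6.RelAmpleLocal

/-!
# Fpqc descent of relative ampleness
-/

universe u
open CategoryTheory CategoryTheory.Limits AlgebraicGeometry TopologicalSpace Opposite
open AmpleLib AmpleThLib
open KFlatLib (pb)

noncomputable section

namespace MiscFlat6

theorem isRelAmple_of_baseChange {X S S' : Scheme.{u}} (f : X ⟶ S) {L : X.Modules} (hL : PicF.IsInvertible L)
    (g : S' ⟶ S) [QuasiCompact g] [Flat g] [Surjective g]
    (h : RelAmple.IsRelAmple (pullback.snd f g) (pb (pullback.fst f g) L)) : RelAmple.IsRelAmple f L := by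
  have := h.1
  haveI : Surjective (pullback.fst f g) := MorphismProperty.pullback_fst _ _ inferInstance
  haveI : QuasiCompact f := by
    rw [quasiCompact_iff_forall_isAffineOpen]
    intro V hV
    have h1 := (pullback.snd f g).isCompact_preimage (U := g ⁻¹ᵁ V) (g.isCompact_preimage hV.isCompact)
    rw [← Scheme.Hom.comp_preimage, ← pullback.condition, Scheme.Hom.comp_preimage] at h1
    rw [← Set.image_preimage_eq (f ⁻¹ᵁ V : Set X) (pullback.fst f g).surjective]
    exact h1.image (pullback.fst f g).continuous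
  refine ⟨inferInstance, fun V => ?_⟩
  let B : X.Opens := f ⁻¹ᵁ V.1
  let T : S'.Opens := g ⁻¹ᵁ V.1
  haveI : CompactSpace (T : Scheme.{u}) := isCompact_iff_compactSpace.mp (g.isCompact_preimage V.2.isCompact)
  let 𝒰 : (T : Scheme.{u}).OpenCover := (T : Scheme.{u}).affineCover.finiteSubcover
  let Y' : Scheme.{u} := ∐ 𝒰.X
  let d : Y' ⟶ (T : Scheme.{u}) := Sigma.desc 𝒰.f
  haveI : Flat d := IsZariskiLocalAtSource.sigmaDesc fun j => inferInstance
  haveI : Surjective d := inferInstance
  haveI : IsAffine (V.1 : Scheme.{u}) := V.2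
  haveI : Flat (g ∣_ V.1) := IsZariskiLocalAtTarget.restrict ‹Flat g› V.1
  haveI : Surjective (g ∣_ V.1) := IsZariskiLocalAtTarget.restrict ‹Surjective g› V.1
  let q : Y' ⟶ (V.1 : Scheme.{u}) := d ≫ g ∣_ V.1
  let a := f ∣_ V.1
  let p := pullback.fst f g
  have H1 : IsPullback (pullback.fst a q ≫ B.ι) (pullback.snd a q) f (q ≫ V.1.ι) :=
    (IsPullback.of_hasPullback a q).paste_horiz (isPullback_morphismRestrict f V.1).flip
  have hq : q ≫ V.1.ι = (d ≫ T.ι) ≫ g := by
    simp only [q, Category.assoc, T, morphismRestrict_ι]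
  have H2 : IsPullback (pullback.fst (pullback.snd f g) (d ≫ T.ι) ≫ p) (pullback.snd (pullback.snd f g) (d ≫ T.ι))
      f ((d ≫ T.ι) ≫ g) :=
    (IsPullback.of_hasPullback (pullback.snd f g) (d ≫ T.ι)).paste_horiz (IsPullback.of_hasPullback f g)
  rw [← hq] at H2
  let e := H1.isoIsPullback _ _ H2
  have he : e.hom ≫ pullback.fst (pullback.snd f g) (d ≫ T.ι) ≫ p = pullback.fst a q ≫ B.ι :=
    H1.isoIsPullback_hom_fst _ _ H2
  have hR := (isRelAmple_iff_isAmple (pullback.snd (pullback.snd f g) (d ≫ T.ι)) _).mp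
    (isRelAmple_baseChange (pullback.snd f g) (d ≫ T.ι) h)
  have h1 := AmpleDevLib.isAmple_pb e.hom hR.1 hR
  have hB : PicF.IsInvertible (L.restrict B.ι) := restrict_isInvertible hL B.ι
  have hP := AmpleDevLib.isInvertible_pb (pullback.fst a q) hB
  refine isAmple_of_isAmple_pb_fpqc a q hB (AmpleDevLib.isAmple_of_iso h1.1 hP ?_ h1)
  exact (Scheme.Modules.pullback e.hom).mapIso
      ((Scheme.Modules.pullbackComp (pullback.fst (pullback.snd f g) (d ≫ T.ι)) p).app L) ≪≫
    (Scheme.Modules.pullbackComp e.hom _).app L ≪≫ (Scheme.Modules.pullbackCongr he).app L ≪≫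
    ((Scheme.Modules.pullbackComp (pullback.fst a q) B.ι).app L).symm ≪≫
    (Scheme.Modules.pullback (pullback.fst a q)).mapIso ((Scheme.Modules.restrictFunctorIsoPullback B.ι).app L).symm

end MiscFlat6
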