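import Groth.Agent.MiscFlat6.ProjBaseChange
import Groth.Agent.MiscFlat6.RelProjEasy
import Groth.Agent.GrModLib6.Rel

/-!
# The relative Proj commutes with base change
-/

set_option autoImplicit false
universe u
open CategoryTheory CategoryTheory.Limits AlgebraicGeometry TopologicalSpace Opposite
open scoped HomogeneousIdeal

noncomputable section

namespace MiscFlat6

variable {Y Y' P P' : Scheme.{u}}

/-- being cartesian is local on the base of the base change -/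
theorem isPullback_of_local_base {p : P ⟶ Y} {p' : P' ⟶ Y'} {ψ : Y' ⟶ Y} {g : P' ⟶ P}
    (V : Y' → Y'.Opens) (hV : ∀ y, y ∈ V y)
    (h : ∀ y, IsPullback ((p' ⁻¹ᵁ V y).ι ≫ g) (p' ∣_ V y) p ((V y).ι ≫ ψ)) : IsPullback g p' p ψ := by
  let 𝒰 : Y'.OpenCover := Y'.openCoverOfIsOpenCover V (eq_top_iff.mpr fun y _ => Opens.mem_iSup.mpr ⟨y, hV y⟩)
  refine (Scheme.isPullback_of_openCover _ _ _ _ 𝒰 fun y => ?_).flip
  have h1 : IsPullback (p' ⁻¹ᵁ V y).ι (p' ∣_ V y) p' (V y).ι := (isPullback_morphismRestrict p' (V y)).flip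
  refine (h y).flip.of_iso h1.isoPullback (Iso.refl _) (Iso.refl _) (Iso.refl _) ?_ ?_ ?_ ?_
  · show _ ≫ 𝟙 _ = h1.isoPullback.hom ≫ pullback.snd p' (V y).ι
    rw [Category.comp_id]
    exact h1.isoPullback_hom_snd.symm
  · show _ ≫ 𝟙 _ = h1.isoPullback.hom ≫ pullback.fst p' (V y).ι ≫ g
    rw [Category.comp_id]
    exact (h1.isoPullback_hom_fst_assoc g).symm
  · exact (Category.comp_id _).trans (Category.id_comp _).symm
  · simp

variable {𝒮 : RelProj.QCGrAlg Y} {p : P ⟶ Y}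
  {chart : ∀ (U : Y.Opens) (hU : IsAffineOpen U), (((p ⁻¹ᵁ U : P.Opens) : Scheme.{u}) ≅ Proj (𝒮.deg U hU))}

/-- the chart as a cartesian square over the base -/
theorem isPullback_chart (hP : RelProj.IsRelProj 𝒮 p chart) (U : Y.Opens) (hU : IsAffineOpen U) :
    IsPullback (RelProj.emb p chart U hU) (Proj.toSpecZero (𝒮.deg U hU) ≫ Spec.map (𝒮.strZero U hU))
      p hU.fromSpec := by
  refine (isPullback_morphismRestrict p U).flip.of_iso (chart U hU) (Iso.refl _) hU.isoSpec (Iso.refl _) ?_ ?_ ?_ ?_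
  · show _ ≫ 𝟙 _ = (chart U hU).hom ≫ (chart U hU).inv ≫ _
    rw [Category.comp_id, Iso.hom_inv_id_assoc]
  · exact relProj_restrict_eq hP U hU
  · simp
  · rw [Iso.refl_hom, Category.comp_id, IsAffineOpen.isoSpec_hom_fromSpec]

theorem isPullback_relProj (ψ : Y' ⟶ Y) (𝒮' : RelProj.QCGrAlg Y') (u : 𝒮.presheaf ⟶ ψ.base _* 𝒮'.presheaf)
    (φ : ∀ (U : Y.Opens) (hU : IsAffineOpen U) (U' : Y'.Opens) (hU' : IsAffineOpen U') (_ : U' ≤ ψ ⁻¹ᵁ U),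
      𝒮.deg U hU →+*ᵍ 𝒮'.deg U' hU')
    (hφ : ∀ (U : Y.Opens) (hU : IsAffineOpen U) (U' : Y'.Opens) (hU' : IsAffineOpen U') (hle : U' ≤ ψ ⁻¹ᵁ U),
      (φ U hU U' hU' hle).toRingHom =
        ((u.app (op U) : 𝒮.presheaf.obj (op U) ⟶ 𝒮'.presheaf.obj (op (ψ ⁻¹ᵁ U))) ≫
          𝒮'.presheaf.map (homOfLE hle).op).hom)
    (hpo : ∀ (U : Y.Opens) (hU : IsAffineOpen U) (U' : Y'.Opens) (hU' : IsAffineOpen U') (hle : U' ≤ ψ ⁻¹ᵁ U),
      IsPushout (ψ.appLE U U' hle) (𝒮.str.app (op U)) (𝒮'.str.app (op U'))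
        ((u.app (op U) : 𝒮.presheaf.obj (op U) ⟶ 𝒮'.presheaf.obj (op (ψ ⁻¹ᵁ U))) ≫
          𝒮'.presheaf.map (homOfLE hle).op))
    (hirr : ∀ (U : Y.Opens) (hU : IsAffineOpen U) (U' : Y'.Opens) (hU' : IsAffineOpen U') (hle : U' ≤ ψ ⁻¹ᵁ U),
      (𝒮'.deg U' hU')₊ ≤ ((𝒮.deg U hU)₊).map (φ U hU U' hU' hle))
    (hP : RelProj.IsRelProj 𝒮 p chart) (p' : P' ⟶ Y')
    (chart' : ∀ (U' : Y'.Opens) (hU' : IsAffineOpen U'), (((p' ⁻¹ᵁ U' : P'.Opens) : Scheme.{u}) ≅ Proj (𝒮'.deg U' hU')))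
    (hP' : RelProj.IsRelProj 𝒮' p' chart') (g : P' ⟶ P)
    (hg : ∀ (U : Y.Opens) (hU : IsAffineOpen U) (U' : Y'.Opens) (hU' : IsAffineOpen U') (hle : U' ≤ ψ ⁻¹ᵁ U),
      (p' ⁻¹ᵁ U').ι ≫ g =
        (chart' U' hU').hom ≫ Proj.map (φ U hU U' hU' hle) (hirr U hU U' hU' hle) ≫ RelProj.emb p chart U hU) :
    IsPullback g p' p ψ := by
  have key : ∀ y : Y', ∃ (U : Y.Opens) (_ : IsAffineOpen U) (U' : Y'.Opens) (_ : IsAffineOpen U'),
      U' ≤ ψ ⁻¹ᵁ U ∧ y ∈ U' := fun y => by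
    obtain ⟨U, hU, hy, -⟩ := exists_isAffineOpen_mem_and_subset (TopologicalSpace.Opens.mem_top (ψ y))
    obtain ⟨U', hU', hy', hle⟩ := exists_isAffineOpen_mem_and_subset (U := ψ ⁻¹ᵁ U) (x := y) hy
    exact ⟨U, hU, U', hU', hle, hy'⟩
  choose U hU U' hU' hle hy using key
  refine isPullback_of_local_base U' hy fun y => ?_
  have e1 : CommRingCat.ofHom ((φ (U y) (hU y) (U' y) (hU' y) (hle y) : _ →+* _)) =
      (u.app (op (U y)) : 𝒮.presheaf.obj (op (U y)) ⟶ 𝒮'.presheaf.obj (op (ψ ⁻¹ᵁ U y))) ≫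
        𝒮'.presheaf.map (homOfLE (hle y)).op :=
    CommRingCat.hom_ext (hφ (U y) (hU y) (U' y) (hU' y) (hle y))
  have hc := (hpo (U y) (hU y) (U' y) (hU' y) (hle y)).w
  have h1 := isPullback_proj_baseChange (𝒮.deg (U y) (hU y)) (𝒮'.deg (U' y) (hU' y))
    (φ (U y) (hU y) (U' y) (hU' y) (hle y)) (𝒮.strZero (U y) (hU y)).hom (𝒮'.strZero (U' y) (hU' y)).hom
    (ψ.appLE (U y) (U' y) (hle y)).hom (hirr (U y) (hU y) (U' y) (hU' y) (hle y))
    (fun r => (congrArg (fun z : _ →+* _ => z ((𝒮.str.app (op (U y))).hom r))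
      (hφ (U y) (hU y) (U' y) (hU' y) (hle y))).trans
        (congr($(hc).hom r)).symm)
    (by rw [e1]; exact hpo (U y) (hU y) (U' y) (hU' y) (hle y))
  have h2 := h1.paste_horiz (isPullback_chart hP (U y) (hU y))
  refine h2.of_iso (chart' (U' y) (hU' y)).symm (Iso.refl _) (hU' y).isoSpec.symm (Iso.refl _) ?_ ?_ ?_ ?_
  · show _ ≫ 𝟙 _ = (chart' (U' y) (hU' y)).inv ≫ _
    rw [hg (U y) (hU y) (U' y) (hU' y) (hle y), Iso.inv_hom_id_assoc, Category.comp_id]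
  · show _ = (chart' (U' y) (hU' y)).inv ≫ _
    rw [Iso.symm_hom, ← cancel_mono (hU' y).isoSpec.hom]
    simp only [Category.assoc, Iso.inv_hom_id, Category.comp_id, relProj_restrict_eq hP' (U' y) (hU' y),
      Iso.inv_hom_id_assoc]
    rfl
  · simp
  · show _ ≫ 𝟙 _ = _
    rw [Category.comp_id, Iso.symm_hom]
    show Spec.map (ψ.appLE (U y) (U' y) (hle y)) ≫ (hU y).fromSpec = _
    rw [(hU y).SpecMap_appLE_fromSpec ψ (hU' y), ← Category.assoc, IsAffineOpen.isoSpec_inv_ι]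

end MiscFlat6

end
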