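import Groth.Prelude
import Groth.Agent.AmpleThLib.Ample
import Groth.Agent.AmpleThLib.FiniteSet
import Groth.Agent.AmpleThLib.Restr

/-!
# Affine loci of sections of invertible modules on quasi-affine schemes
-/

universe u
open CategoryTheory CategoryTheory.Limits AlgebraicGeometry TopologicalSpace
open AmpleLib
open TwistLib (genSet)

namespace MiscFlat6

open AmpleThLib

variable {X : Scheme.{u}}

theorem exists_tensorPowOneIso {L : X.Modules} (hL : PicF.IsInvertible L) :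
    Nonempty (CohB1.tensorPow L 1 ≅ L) := by
  obtain ⟨φ, -⟩ := exists_iso_gens (M := CohB1.tensorPow L 1) (N := L) (fun a : Gens L => a.1)
    (fun a => pS a.2.1 1) (fun a => a.2.1) (gens_cover hL) (fun a => pS_genOn a.2.2 1)
    (fun a => a.2.2) (fun a b V ha hb => by
      obtain ⟨c, hc⟩ := (a.2.2 V ha).2 (res L hb b.2.1)
      dsimp only at hc
      refine ⟨c, ?_, hc⟩
      rw [pS_res, pS_res, ← hc, pS_smul, pow_one])
  exact ⟨φ⟩

theorem exists_degreeOne_locus [X.IsQuasiAffine] {L : X.Modules} (hL : PicF.IsInvertible L)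
    {W : X.Opens} {x : X} (hx : x ∈ W) :
    ∃ V : X.Opens, IsLocus hL 1 V ∧ x ∈ V ∧ IsAffineOpen V ∧ V ≤ W := by
  obtain ⟨U, e, hxU, he⟩ := TwistLib.exists_genOn hL x
  obtain ⟨_, ⟨f, hfaff, rfl⟩, hxf, hfU⟩ :=
    Opens.isBasis_iff_nbhd.mp (Scheme.IsQuasiAffine.isBasis_basicOpen X) (show x ∈ W ⊓ U from ⟨hx, hxU⟩)
  let t : Γ(CohB1.tensorPow L 0, ⊤) := f
  have ht : genSet (tensorPow_isInvertible hL 0) t = X.basicOpen f := zero_genSet hL f
  have hle : genSet (tensorPow_isInvertible hL 0) t ≤ U := ht.le.trans (hfU.trans inf_le_right)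
  obtain ⟨N, hN⟩ := isLocus_of_gen hL t (r := 1) ((pS_genOn he 1).res hle)
  have h1 := hN N le_rfl
  rw [zero_mul, add_zero] at h1
  exact ⟨_, h1, ht ▸ hxf, ht ▸ hfaff, ht ▸ (hfU.trans inf_le_left)⟩

theorem exists_affine_genLocus [X.IsQuasiAffine] (L : X.Modules) (hL : PicF.IsInvertible L)
    (U : X.Opens) (E : Set X) (hE : E.Finite) (hEU : E ⊆ U) :
    ∃ s : Coh.structureModule X ⟶ L, IsAffineOpen (CohB1.genLocus L s) ∧ E ⊆ CohB1.genLocus L s ∧
      CohB1.genLocus L s ≤ U := by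
  classical
  let hM := tensorPow_isInvertible hL 1
  obtain ⟨φ⟩ := exists_tensorPowOneIso hL
  suffices h : ∃ σ : Γ(CohB1.tensorPow L 1, ⊤), IsAffineOpen (genSet hM σ) ∧ E ⊆ genSet hM σ ∧
      genSet hM σ ≤ U by
    obtain ⟨σ, h1, h2, h3⟩ := h
    refine ⟨QCohLib.unitHom L (φ.hom.app ⊤ σ), ?_⟩
    rw [genLocus_unitHom hL, genSet_iso hM hL φ σ]
    exact ⟨h1, h2, h3⟩
  let Zs : Finset X := hE.toFinset.filter fun z => ∀ z' ∈ E, z ⤳ z' → z' ⤳ z
  let Us : X → X.Opens := fun z => U ⊓ ⟨(⋃ z' ∈ {z' ∈ E | ¬ z' ⤳ z}, closure {z'})ᶜ,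
    (Set.Finite.isClosed_biUnion (hE.subset fun _ h => h.1) fun _ _ => isClosed_closure).isOpen_compl⟩
  have hUs : ∀ z ∈ Zs, z ∈ Us z := fun z hz => by
    refine ⟨hEU (hE.mem_toFinset.1 (Finset.mem_filter.1 hz).1), ?_⟩
    simp only [Set.mem_compl_iff, SetLike.mem_coe, Opens.mem_mk, Set.mem_iUnion]
    rintro ⟨z', hz', hcl⟩
    exact hz'.2 (specializes_iff_mem_closure.2 hcl)
  have hmax : ∀ z ∈ E, ∃ z₀ ∈ Zs, z ⤳ z₀ := by
    intro z hz
    obtain ⟨z₀, hz₀, hmin⟩ := Set.Finite.exists_maximalFor (fun w : X => {u ∈ E | u ⤳ w})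
      {w ∈ E | z ⤳ w} (hE.subset fun _ h => h.1) ⟨z, hz, specializes_rfl⟩
    refine ⟨z₀, Finset.mem_filter.2 ⟨hE.mem_toFinset.2 hz₀.1, fun z' hz' h => ?_⟩, hz₀.2⟩
    exact (hmin ⟨hz', hz₀.2.trans h⟩ (fun u hu => ⟨hu.1, hu.2.trans h⟩) ⟨hz', specializes_rfl⟩).2
  choose V hV hzV haff hle using fun z : Zs => exists_degreeOne_locus hL (hUs z.1 z.2)
  choose σ hσ using hV
  have haff' : IsAffineOpen (genSet hM (∑ z : Zs, σ z)) :=
    isAffineOpen_genSet_sum _ fun z _ => (hσ z) ▸ haff z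
  refine ⟨_, haff', fun z hz => ?_, fun x hx => ?_⟩
  · obtain ⟨z₀, hz₀, hs⟩ := hmax z hz
    refine hs.mem_open (genSet _ _).2 (mem_genSet_sum _ (a := ⟨z₀, hz₀⟩) (Finset.mem_univ _)
      ((hσ ⟨z₀, hz₀⟩).symm ▸ hzV ⟨z₀, hz₀⟩) fun b _ hb hzb => ?_)
    rw [hσ b] at hzb
    have hh := (hle b hzb).2
    simp only [Set.mem_compl_iff, SetLike.mem_coe, Opens.mem_mk, Set.mem_iUnion] at hh
    have hz₀' := Finset.mem_filter.1 hz₀
    by_cases hsp : z₀ ⤳ b.1
    · have hb' := (Finset.mem_filter.1 b.2)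
      have hback := hz₀'.2 b.1 (hE.mem_toFinset.1 hb'.1) hsp
      exact hb (Subtype.ext (hback.antisymm hsp).eq)
    · exact hh ⟨z₀, ⟨hE.mem_toFinset.1 hz₀'.1, hsp⟩, subset_closure rfl⟩
  · by_contra hxU
    obtain ⟨W, e, hxW, he⟩ := TwistLib.exists_genOn hM x
    choose r hr using fun b => exists_coeff (σ b) he
    have hsum : (∑ b, r b) • e = res (CohB1.tensorPow L 1) le_top (∑ b, σ b) := by
      rw [Finset.sum_smul, res_sum]
      exact Finset.sum_congr rfl fun b _ => hr b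
    have hxr : ∀ b, x ∉ X.basicOpen (r b) := fun b hb => by
      rw [← mem_genSet_coeff hM (σ b) he (hr b), hσ b] at hb
      exact hxU (hle b hb.1).1
    have h := (mem_genSet_coeff _ _ he hsum).le ⟨hx, hxW⟩
    rw [Scheme.mem_basicOpen X _ x hxW, map_sum] at h
    exact (Ideal.sum_mem (IsLocalRing.maximalIdeal (X.presheaf.stalk x)) fun b _ hb =>
      hxr b ((Scheme.mem_basicOpen X _ x hxW).2 hb) : _) h

theorem isQuasiAffine_of_isAmple_structureModule (X : Scheme.{u})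
    (h : CohB1.IsAmple (Coh.structureModule X)) : X.IsQuasiAffine := by
  have hg : AmpleLib.GenOn (Coh.structureModule X) (W := ⊤) (1 : Γ(X, ⊤)) := AmpleLib.one_genOn ⊤
  haveI := h.2.1
  refine Scheme.IsQuasiAffine.of_forall_exists_mem_basicOpen X fun x => ?_
  obtain ⟨n, V, -, hV, hxV, haff⟩ := ((AmpleThLib.isAmple_iff (hL := h.1)).mp h).2 x
  obtain ⟨f, rfl⟩ := hV.exists_basicOpen hg
  exact ⟨f, haff, hxV⟩

theorem isInvertible_structureModule (X : Scheme.{u}) : PicF.IsInvertible (Coh.structureModule X) :=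
  fun _ => ⟨⊤, trivial, TwistLib.nonempty_iso_of_genOn _ (AmpleLib.one_genOn ⊤)⟩

theorem nonempty_restrict_structureModule {Y : Scheme.{u}} (j : Y ⟶ X) [IsOpenImmersion j] :
    Nonempty ((Coh.structureModule X).restrict j ≅ Coh.structureModule Y) := by
  have hg := (AmpleLib.one_genOn (X := X) ⊤).restrict j ⊤ le_top
  let σ : Γ((Coh.structureModule X).restrict j, ⊤) :=
    AmpleLib.res (Coh.structureModule X) (le_top : j ''ᵁ ⊤ ≤ ⊤) (1 : Γ(X, ⊤))
  haveI : IsIso (QCohLib.unitHom ((Coh.structureModule X).restrict j) σ) := AmpleLib.isIso_unitHom σ hg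
  exact ⟨(asIso (QCohLib.unitHom ((Coh.structureModule X).restrict j) σ)).symm⟩

end MiscFlat6
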