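import Groth.Agent.RpushLib.Finite

/-!
# Finiteness of the sections of the structure sheaf of a proper scheme
-/

set_option autoImplicit false
universe u

open CategoryTheory Limits AlgebraicGeometry Opposite

namespace MiscFlat6

/-- Global functions of a scheme proper over a Noetherian ring form a finite module. -/
theorem toGlobal_finite {A : Type u} [CommRing A] [IsNoetherianRing A] {X : Scheme.{u}}
    (q : X ⟶ Spec (CommRingCat.of A)) [IsProper q] :
    (show A →+* Γ(X, ⊤) from Coh.toGlobal q).Finite := by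
  have : IsLocallyNoetherian X := LocallyOfFiniteType.isLocallyNoetherian q
  let M := Coh.structureModule X
  let _ : Module A (Coh.HH X M 0) := Module.compHom (Coh.HH X M 0) (Coh.toGlobal q)
  have hfin : Module.Finite A (Coh.HH X M 0) :=
    AtlasCoh.finiteCoh_of_isProper q M (DevissLib.isCoh_structureModule X) 0
  let _ : Module A Γ(M, ⊤) := Module.compHom Γ(M, ⊤) (show A →+* Γ(X, ⊤) from Coh.toGlobal q)
  let e : Coh.HH X M 0 ≃+ Γ(M, ⊤) := (QCohLib.hEquiv (Coh.toAb M) 0).trans QCohLib.h0
  have hs : ∀ (a : A) (x : Coh.HH X M 0), e (a • x) = a • e x := fun a x => by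
    let r := Coh.toGlobal q a
    refine (congrArg QCohLib.h0 (QCohLib.hEquiv_map (Coh.smulAb M r) 0 x)).trans ?_
    refine (QCohLib.h0_comp _ _).trans ((Coh.smulAb_app M r (op ⊤) _).trans ?_)
    refine congrArg (fun t : Γ(X, ⊤) => t • (show Γ(M, ⊤) from e x)) ?_
    exact congr($((congrArg X.presheaf.map (Subsingleton.elim _ (𝟙 (op (⊤ : X.Opens))))).trans
      (X.presheaf.map_id _)) r)
  have h2 : Module.Finite A Γ(M, ⊤) := AtlasCoh.finite_of_addEquiv e hs
  exact h2

/-- Functions on the preimage of an affine open under a proper morphism to a locally Noetherian scheme. -/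
theorem app_finite {X S : Scheme.{u}} (f : X ⟶ S) [IsProper f] [IsLocallyNoetherian S] {W : S.Opens}
    (hW : IsAffineOpen W) : (f.app W).hom.Finite := by
  have : IsNoetherianRing Γ(S, W) := IsLocallyNoetherian.component_noetherian ⟨W, hW⟩
  have : IsProper (f ∣_ W) := MorphismProperty.of_isPullback
    (isPullback_morphismRestrict f W).flip inferInstance
  have : IsProper (RpushLib.overW f hW) := inferInstanceAs (IsProper ((f ∣_ W) ≫ hW.isoSpec.hom))
  have h := toGlobal_finite (RpushLib.overW f hW)
  have e : (show Γ(S, W) →+* Γ((f ⁻¹ᵁ W : Scheme.{u}), ⊤) from Coh.toGlobal (RpushLib.overW f hW)) = (f ⁻¹ᵁ W).topIso.inv.hom.comp (f.app W).hom :=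
    RingHom.ext fun r => RpushLib.toGlobal_overW f hW r
  rw [e] at h
  have he : (f.app W).hom = (f ⁻¹ᵁ W).topIso.hom.hom.comp ((f ⁻¹ᵁ W).topIso.inv.hom.comp (f.app W).hom) := by
    ext r
    exact congr($((f ⁻¹ᵁ W).topIso.inv_hom_id.symm) (f.app W r))
  rw [he]
  exact RingHom.Finite.comp (RingHom.Finite.of_surjective _
    ((ConcreteCategory.bijective_of_isIso (f ⁻¹ᵁ W).topIso.hom).2)) h

end MiscFlat6
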