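import Groth.Agent.MiscFlat6.MixedExtend
import Groth.Agent.SerreVanLib.Main
import Groth.Agent.QCohLib.QcqsSections
import Groth.Agent.QCohLib.Gen
import Groth.Agent.NegTwistLib.Main

/-!
# Extension of sections of quasi-coherent modules into twists, and global generation
-/

set_option autoImplicit false
universe u
open CategoryTheory CategoryTheory.Limits AlgebraicGeometry TopologicalSpace Opposite
open AmpleLib AmpleThLib
open TwistLib (genSet)

noncomputable section

namespace MiscFlat6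

variable {X : Scheme.{u}}

/-- tensoring with a generator is bijective on sections -/
theorem shT_right_surjective {P : X.Modules} (M : X.Modules) [Coh.IsQCoh M]
    {W : X.Opens} {g : Γ(P, W)} (hg : GenOn P g) (w : Γ(CohB1.tensorMod M P, W)) :
    ∃ a : Γ(M, W), shT a g = w := by
  classical
  let F : TopCat.Sheaf AddCommGrpCat.{u} X.toTopCat := ⟨M.presheaf, M.isSheaf⟩
  let F' : TopCat.Sheaf AddCommGrpCat.{u} X.toTopCat :=
    ⟨(CohB1.tensorMod M P).presheaf, (CohB1.tensorMod M P).isSheaf⟩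
  have hinj : ∀ (x : X) (hx : x ∈ W), Function.Bijective fun a : M.presheaf.stalk x =>
      KFlatLib.stalkTensorLin M P x (a ⊗ₜ[X.presheaf.stalk x] P.presheaf.germ W x hx g) := fun x hx =>
    NegTwistLib.bijective_jmap M hg hx
  have hloc : ∀ x : W, ∃ (V : X.Opens) (a : Γ(M, V)) (hV : V ≤ W), x.1 ∈ V ∧
      shT a (res P hV g) = res (CohB1.tensorMod M P) hV w := by
    rintro ⟨x, hx⟩
    obtain ⟨a, ha⟩ := (hinj x hx).2 ((CohB1.tensorMod M P).presheaf.germ W x hx w)
    obtain ⟨U, hxU, a', rfl⟩ := M.presheaf.exists_germ_eq (x := x) a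
    have h : (CohB1.tensorMod M P).presheaf.germ (U ⊓ W) x ⟨hxU, hx⟩
        (shT (res M inf_le_left a') (res P inf_le_right g)) =
        (CohB1.tensorMod M P).presheaf.germ (U ⊓ W) x ⟨hxU, hx⟩ (res _ inf_le_right w) := by
      rw [NegTwistLib.germ_shT, AmpleLib.germ_res M inf_le_left a' (x := x) (show x ∈ U ⊓ W from ⟨hxU, hx⟩),
        AmpleLib.germ_res P inf_le_right g (x := x) (show x ∈ U ⊓ W from ⟨hxU, hx⟩),
        AmpleLib.germ_res (CohB1.tensorMod M P) inf_le_right w (x := x) (show x ∈ U ⊓ W from ⟨hxU, hx⟩)]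
      exact ha
    obtain ⟨V, hxV, i₁, i₂, e⟩ := (CohB1.tensorMod M P).presheaf.germ_eq x _ _ _ _ h
    refine ⟨V, res M (i₁.le.trans inf_le_left) a', i₁.le.trans inf_le_right, hxV, ?_⟩
    change res _ i₁.le _ = res _ i₂.le _ at e
    rwa [shT_res, res_res, res_res, res_res] at e
  choose V a hV hmem ha using hloc
  have hcompat : ∀ i j : W, res M (inf_le_left : V i ⊓ V j ≤ V i) (a i) =
      res M (inf_le_right : V i ⊓ V j ≤ V j) (a j) := by
    intro i j
    refine TopCat.Presheaf.section_ext F _ _ _ fun x hx => ?_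
    refine (hinj x (hV i hx.1)).1 ?_
    dsimp only
    have e1 := congrArg (res _ (inf_le_left : V i ⊓ V j ≤ V i)) (ha i)
    have e2 := congrArg (res _ (inf_le_right : V i ⊓ V j ≤ V j)) (ha j)
    rw [shT_res, res_res, res_res] at e1 e2
    have e3 := congrArg ((CohB1.tensorMod M P).presheaf.germ _ x hx) (e1.trans e2.symm)
    rw [NegTwistLib.germ_shT, NegTwistLib.germ_shT] at e3
    rwa [AmpleLib.germ_res P ((inf_le_left : V i ⊓ V j ≤ V i).trans (hV i)) g (x := x) hx] at e3
  obtain ⟨s, hs, -⟩ := F.existsUnique_gluing' V W (fun i => homOfLE (hV i))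
    (fun y hy => Opens.mem_iSup.mpr ⟨⟨y, hy⟩, hmem ⟨y, hy⟩⟩) a hcompat
  refine ⟨s, ?_⟩
  refine TopCat.Sheaf.eq_of_locally_eq' (F := F') V W (fun i => homOfLE (hV i))
    (fun y hy => Opens.mem_iSup.mpr ⟨⟨y, hy⟩, hmem ⟨y, hy⟩⟩) _ _ fun i => ?_
  show res _ (hV i) (shT s g) = res _ (hV i) w
  rw [shT_res, show res M (hV i) s = a i from hs i, ha i]

/-- sections on the locus of a section of `P` extend after twisting by powers of `P` -/
theorem exists_extend_tensor [CompactSpace X] [QuasiSeparatedSpace X] {P : X.Modules}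
    (hP : PicF.IsInvertible P) (M : X.Modules) [Coh.IsQCoh M] (t : Γ(P, ⊤)) (m : Γ(M, genSet hP t)) :
    ∃ N : ℕ, ∀ N', N ≤ N' → ∃ u : Γ(CohB1.tensorMod M (CohB1.tensorPow P N'), ⊤),
      res _ le_top u = shT m (res _ le_top (pS t N')) := by
  classical
  let T := genSet hP t
  have hloc : ∀ x : X, ∃ (U : X.Opens) (e : Γ(P, U)), x ∈ U ∧ GenOn P e ∧ IsAffineOpen U := by
    intro x
    obtain ⟨U, e, hx, he⟩ := TwistLib.exists_genOn hP x
    obtain ⟨W, hW, hxW, hWU⟩ := exists_isAffineOpen_mem_and_subset hx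
    exact ⟨W, res P hWU e, hxW, he.res hWU, hW⟩
  choose U e hmem hgen haff using hloc
  obtain ⟨S, hS⟩ := isCompact_univ.elim_finite_subcover (fun x => (U x : Set X))
    (fun x => (U x).2) fun x _ => Set.mem_iUnion.mpr ⟨x, hmem x⟩
  choose f hf using fun i : S => exists_coeff t (hgen i.1)
  have hB : ∀ i : S, T ⊓ U i.1 = X.basicOpen (f i) := fun i => mem_genSet_coeff hP t (hgen i.1) (hf i)
  have hBV : ∀ i : S, X.basicOpen (f i) ≤ T := fun i => (hB i) ▸ inf_le_left
  choose n b hb using fun i : S => (QCohLib.localizingAt_of_qcqs M (haff i.1).isCompact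
    (haff i.1).isQuasiSeparated (f i)).exists_extend (res M (hBV i) m)
  let N₀ := Finset.univ.sum n
  let B : ℕ → ∀ i : S, Γ(M, U i.1) := fun N i => f i ^ (N - n i) • b i
  have hval : ∀ (i : S) (N : ℕ), N₀ ≤ N → ∀ (W : X.Opens) (hW : W ≤ X.basicOpen (f i)),
      res M (hW.trans (X.basicOpen_le _)) (B N i) =
        rX (hW.trans (X.basicOpen_le _)) (f i) ^ N • res M (hW.trans (hBV i)) m := by
    intro i N hN W hW
    have e1 : res M (X.basicOpen_le (f i)) (b i) = rX (X.basicOpen_le _) (f i) ^ n i • res M (hBV i) m := hb i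
    have e2 := congrArg (res M hW) e1
    rw [res_res, res_smul, res_res, map_pow] at e2
    simp only [rX, ← CommRingCat.comp_apply, ← Functor.map_comp, ← op_comp, homOfLE_comp] at e2
    show res M _ (f i ^ (N - n i) • b i) = _
    rw [res_smul, map_pow, e2, smul_smul, rX, ← pow_add,
      Nat.sub_add_cancel (le_trans (Finset.single_le_sum (fun j _ => Nat.zero_le (n j)) (Finset.mem_univ i)) hN)]
  have hBdef : ∀ N i, B N i = f i ^ (N - n i) • b i := fun _ _ => rfl
  clear_value B
  have hK : ∀ p : S × S, ∃ K : ℕ, ∀ N, N₀ + K ≤ N →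
      res (CohB1.tensorMod M (CohB1.tensorPow P N)) (inf_le_left : U p.1.1 ⊓ U p.2.1 ≤ U p.1.1)
          (shT (B N p.1) (pS (e p.1.1) N)) =
        res (CohB1.tensorMod M (CohB1.tensorPow P N)) (inf_le_right : U p.1.1 ⊓ U p.2.1 ≤ U p.2.1)
          (shT (B N p.2) (pS (e p.2.1) N)) := by
    rintro ⟨i, j⟩
    let W := U i.1 ⊓ U j.1
    have hi : W ≤ U i.1 := inf_le_left
    have hj : W ≤ U j.1 := inf_le_right
    obtain ⟨c, hc⟩ := ((hgen i.1) W hi).2 (res P hj (e j.1))
    dsimp only at hc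
    have hff : rX hi (f i) = rX hj (f j) * c := by
      refine ((hgen i.1) W hi).1 ?_
      dsimp only
      rw [mul_smul, hc]
      have h1 := congrArg (res P hi) (hf i)
      have h2 := congrArg (res P hj) (hf j)
      rw [res_smul, res_res] at h1 h2
      exact h1.trans h2.symm
    let r : Γ(X, W) := rX hi (f i)
    have hcW : IsCompact (W : Set X) :=
      (quasiSeparatedSpace_iff X).mp inferInstance _ _ (U i.1).2 (haff i.1).isCompact (U j.1).2 (haff j.1).isCompact
    let D := W ⊓ X.basicOpen r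
    obtain ⟨K, hK⟩ := QCohLib.exists_pow_smul_eq_zero (M := M) r W hcW le_rfl
      (res M hi (B N₀ i) - c ^ N₀ • res M hj (B N₀ j)) (by
        have hDi : D ≤ X.basicOpen (f i) := by
          simp only [D, r, rX, Scheme.basicOpen_res]; exact inf_le_right.trans inf_le_right
        have hDj : D ≤ X.basicOpen (f j) := by
          rw [← hB j]; exact le_inf (hDi.trans (hBV i)) (inf_le_left.trans inf_le_right)
        show res M (inf_le_left : D ≤ W) _ = 0
        rw [AmpleLib.res, map_sub, sub_eq_zero]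
        show res M (inf_le_left : D ≤ W) _ = res M (inf_le_left : D ≤ W) _
        rw [res_smul, res_res, res_res, hval i N₀ le_rfl D hDi, hval j N₀ le_rfl D hDj, smul_smul, map_pow,
          ← mul_pow]
        congr 2
        have h1 := congrArg (rX (inf_le_left : D ≤ W)) hff
        simp only [rX, map_mul, ← CommRingCat.comp_apply, ← Functor.map_comp, ← op_comp, homOfLE_comp] at h1
        exact h1.trans (mul_comm _ _))
    have e0 : X.presheaf.map (homOfLE (le_refl W)).op r = r := congr($(X.presheaf.map_id _) r)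
    rw [e0] at hK
    refine ⟨K, fun N hN => ?_⟩
    obtain ⟨l, rfl⟩ : ∃ l, N = l + K + N₀ := ⟨N - K - N₀, by omega⟩
    have hshift : ∀ (k : S) (hk : W ≤ U k.1),
        res M hk (B (l + K + N₀) k) = rX hk (f k) ^ (l + K) • res M hk (B N₀ k) := by
      intro k hk
      rw [hBdef, hBdef, res_smul M hk (f k ^ (N₀ - n k))]
      have : l + K + N₀ - n k = l + K + (N₀ - n k) := by
        have := Finset.single_le_sum (fun j _ => Nat.zero_le (n j)) (Finset.mem_univ k)
        have : n k ≤ N₀ := this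
        omega
      rw [this, res_smul, smul_smul, map_pow, map_pow, ← pow_add]
    have h0 : res M hi (B (l + K + N₀) i) = c ^ (l + K + N₀) • res M hj (B (l + K + N₀) j) := by
      have h1 : r ^ (l + K) • (res M hi (B N₀ i) - c ^ N₀ • res M hj (B N₀ j)) = 0 := by
        rw [pow_add, mul_smul, hK, smul_zero]
      rw [smul_sub, sub_eq_zero] at h1
      rw [hshift i hi, hshift j hj, smul_smul]
      refine h1.trans ?_
      rw [smul_smul]
      congr 1
      show r ^ (l + K) * c ^ N₀ = _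
      rw [show r = rX hj (f j) * c from hff]
      ring
    rw [shT_res, shT_res, pS_res, pS_res, h0, ← hc, pS_smul]
    have h2 := shT_smul (c ^ (l + K + N₀)) 1 (res M hj (B (l + K + N₀) j)) (pS (res P hi (e i.1)) (l + K + N₀))
    have h3 := shT_smul 1 (c ^ (l + K + N₀)) (res M hj (B (l + K + N₀) j)) (pS (res P hi (e i.1)) (l + K + N₀))
    rw [one_smul, mul_one] at h2
    rw [one_smul, one_mul] at h3
    exact h2.trans h3.symm
  choose K hK using hK
  refine ⟨N₀ + Finset.univ.sum K, fun N hN => ?_⟩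
  have hNK : ∀ p, N₀ + K p ≤ N := fun p =>
    le_trans (Nat.add_le_add_left (Finset.single_le_sum (fun q _ => Nat.zero_le (K q)) (Finset.mem_univ p)) _) hN
  obtain ⟨u, hu, -⟩ := TopCat.Sheaf.existsUnique_gluing'
    (F := ⟨(CohB1.tensorMod M (CohB1.tensorPow P N)).presheaf, (CohB1.tensorMod M (CohB1.tensorPow P N)).isSheaf⟩)
    (fun i : S => U i.1) ⊤ (fun i => homOfLE le_top)
    (fun y _ => by
      obtain ⟨i, hi, hyi⟩ := Set.mem_iUnion₂.mp (hS (Set.mem_univ y))
      exact Opens.mem_iSup.mpr ⟨⟨i, hi⟩, hyi⟩)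
    (fun i => shT (B N i) (pS (e i.1) N)) (fun i j => hK (i, j) N (hNK _))
  refine ⟨u, ?_⟩
  refine TopCat.Sheaf.eq_of_locally_eq'
    (F := ⟨(CohB1.tensorMod M (CohB1.tensorPow P N)).presheaf, (CohB1.tensorMod M (CohB1.tensorPow P N)).isSheaf⟩)
    (fun i : S => X.basicOpen (f i)) T (fun i => homOfLE (hBV i))
    (fun y hy => by
      obtain ⟨i, hi, hyi⟩ := Set.mem_iUnion₂.mp (hS (Set.mem_univ y))
      exact Opens.mem_iSup.mpr ⟨⟨i, hi⟩, (hB ⟨i, hi⟩).le ⟨hy, hyi⟩⟩) _ _ fun i => ?_
  show res _ (hBV i) (res _ (le_top : T ≤ ⊤) u) = res _ (hBV i) _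
  rw [res_res]
  have hui : res _ (le_top : U i.1 ≤ ⊤) u = shT (B N i) (pS (e i.1) N) := hu i
  rw [show res _ ((hBV i).trans le_top : X.basicOpen (f i) ≤ ⊤) u =
    res _ (X.basicOpen_le (f i)) (res _ (le_top : U i.1 ≤ ⊤) u) from (res_res _ _ _ _).symm, hui,
    shT_res, shT_res, res_res, pS_res, pS_res, hval i N (by omega) _ le_rfl]
  have h1 := congrArg (res P (X.basicOpen_le (f i))) (hf i)
  rw [res_smul, res_res] at h1
  rw [← h1, pS_smul]
  have h2 := shT_smul (rX (X.basicOpen_le (f i)) (f i) ^ N) 1 (res M (hBV i) m) (pS (res P (X.basicOpen_le (f i)) (e i.1)) N)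
  have h3 := shT_smul 1 (rX (X.basicOpen_le (f i)) (f i) ^ N) (res M (hBV i) m) (pS (res P (X.basicOpen_le (f i)) (e i.1)) N)
  rw [one_smul, mul_one] at h2
  rw [one_smul, one_mul] at h3
  exact h2.trans h3.symm

end MiscFlat6
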