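import Groth.Agent.MiscFlat6.TwistMod

/-!
# Untwisting a map into a twist
-/

set_option autoImplicit false
universe u
open CategoryTheory CategoryTheory.Limits AlgebraicGeometry TopologicalSpace Opposite
open AmpleLib AmpleThLib

noncomputable section

namespace MiscFlat6

variable {X : Scheme.{u}} {G : Type u} {D : G → X.Opens} {C : Cocycle G D} {A M : X.Modules}

theorem app_res {A B : X.Modules} (φ : A ⟶ B) {V W : X.Opens} (h : V ≤ W) (s : Γ(A, W)) :
    res B h (φ.app W s) = φ.app V (res A h s) := (QCohLib.app_map φ (homOfLE h) s).symm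

/-- the local value of the untwisted map -/
def untwVal (γ : A ⟶ tw C M) {W : X.Opens} (s : Γ(tw C.inv A, W)) (a : G) : Γ(M, W ⊓ D a) :=
  res M (le_inf le_rfl inf_le_right) (twVal (γ.app (W ⊓ D a) (twVal s a)) a)

theorem untwVal_add (γ : A ⟶ tw C M) {W : X.Opens} (s t : Γ(tw C.inv A, W)) (a : G) :
    untwVal γ (s + t) a = untwVal γ s a + untwVal γ t a := by
  simp only [untwVal, twVal_add, map_add, AmpleLib.res]

theorem untwVal_smul (γ : A ⟶ tw C M) {W : X.Opens} (r : Γ(X, W)) (s : Γ(tw C.inv A, W)) (a : G) :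
    untwVal γ (r • s) a = rX (inf_le_left : W ⊓ D a ≤ W) r • untwVal γ s a := by
  simp only [untwVal]
  rw [twVal_smul, QCohLib.app_smul, twVal_smul, res_smul]
  refine congrArg (fun t : Γ(X, W ⊓ D a) => t • res M _ (twVal (γ.app (W ⊓ D a) (twVal s a)) a)) ?_
  exact (rX_rX _ _ _).trans ((rX_rX _ _ _).trans rfl)

theorem untwVal_agree (γ : A ⟶ tw C M) {W : X.Opens} (s : Γ(tw C.inv A, W)) (a b : G) {V : X.Opens}
    (ha : V ≤ W ⊓ D a) (hb : V ≤ W ⊓ D b) : res M ha (untwVal γ s a) = res M hb (untwVal γ s b) := by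
  have hVa : V ≤ D a := ha.trans inf_le_right
  have hVb : V ≤ D b := hb.trans inf_le_right
  have k : ∀ (d : G) (hd : V ≤ W ⊓ D d), res M hd (untwVal γ s d) =
      res M (le_inf le_rfl (hd.trans inf_le_right)) (twVal (γ.app V (res A hd (twVal s d))) d) := by
    intro d hd
    rw [← app_res, twVal_res, untwVal, res_res, res_res]
  rw [k a ha, k b hb, twVal_compat s a b ha hb, QCohLib.app_smul, twVal_smul, res_smul]
  have h2 := twVal_compat (γ.app V (res A hb (twVal s b))) a b (V := V) (le_inf le_rfl hVa) (le_inf le_rfl hVb)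
  rw [h2, smul_smul]
  refine Eq.trans ?_ (one_smul Γ(X, V) _)
  refine congrArg (fun t : Γ(X, V) => t • res M _ (twVal (γ.app V (res A hb (twVal s b))) b)) ?_
  show rX _ (rX _ (rX _ (rX _ (C.c b a)))) * rX _ (C.c a b) = 1
  rw [rX_rX, rX_rX, rX_rX, C.trans b a b V hVb hVa hVb, C.self]
  exact map_one (X.presheaf.map _).hom

theorem exists_untwApp (hcov : ∀ x, ∃ a, x ∈ D a) (γ : A ⟶ tw C M) {W : X.Opens} (s : Γ(tw C.inv A, W)) :
    ∃! g : Γ(M, W), ∀ a, res M (inf_le_left : W ⊓ D a ≤ W) g = untwVal γ s a := by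
  refine TopCat.Sheaf.existsUnique_gluing' (F := ⟨M.presheaf, M.isSheaf⟩) (fun a => W ⊓ D a) W
    (fun a => homOfLE inf_le_left) (fun y hy => ?_) (fun a => untwVal γ s a) fun a b => ?_
  · obtain ⟨a, ha⟩ := hcov y
    exact Opens.mem_iSup.mpr ⟨a, hy, ha⟩
  · exact untwVal_agree γ s a b inf_le_left inf_le_right

theorem untw_nat (hcov : ∀ x, ∃ a, x ∈ D a) (γ : A ⟶ tw C M) {V W : X.Opens} (h : V ≤ W)
    (s : Γ(tw C.inv A, W)) (a : G) :
    res M (inf_le_left : V ⊓ D a ≤ V) (res M h (exists_untwApp hcov γ s).choose) =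
      untwVal γ (res (tw C.inv A) h s) a := by
  have e1 : res M (inf_le_inf_right (D a) h) (res M (inf_le_left : W ⊓ D a ≤ W) (exists_untwApp hcov γ s).choose) =
      res M (inf_le_inf_right (D a) h) (untwVal γ s a) := congrArg _ ((exists_untwApp hcov γ s).choose_spec.1 a)
  have e2 : res M (inf_le_left : V ⊓ D a ≤ V) (res M h (exists_untwApp hcov γ s).choose) =
      res M (inf_le_inf_right (D a) h) (res M (inf_le_left : W ⊓ D a ≤ W) (exists_untwApp hcov γ s).choose) :=
    (res_res M _ _ _).trans (res_res M _ _ _).symm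
  refine e2.trans (e1.trans ?_)
  rw [untwVal, untwVal, twVal_res, ← app_res, twVal_res, res_res, res_res]

/-- the untwisted map -/
def untw (hcov : ∀ x, ∃ a, x ∈ D a) (γ : A ⟶ tw C M) : tw C.inv A ⟶ M :=
  ⟨PresheafOfModules.homMk (M₁ := (tw C.inv A).val) (M₂ := M.val)
    { app := fun U => AddCommGrpCat.ofHom
        (AddMonoidHom.mk' (fun s => (exists_untwApp hcov γ s).choose) fun s t => by
          refine ((exists_untwApp hcov γ (s + t)).choose_spec.2 _ fun a => ?_).symm
          refine (map_add (M.presheaf.map _).hom _ _).trans (Eq.trans ?_ (untwVal_add γ s t a).symm)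
          exact congr_arg₂ (· + ·) ((exists_untwApp hcov γ s).choose_spec.1 a) ((exists_untwApp hcov γ t).choose_spec.1 a))
      naturality := fun U V i => by
        refine ConcreteCategory.hom_ext _ _ fun s => ?_
        refine ((exists_untwApp hcov γ (res (tw C.inv A) i.unop.le s)).choose_spec.2 _ fun a => ?_).symm
        exact untw_nat hcov γ i.unop.le s a }
    (fun U r s => by
      refine ((exists_untwApp hcov γ _).choose_spec.2 _ fun a => ?_).symm
      refine (res_smul M _ _ _).trans (Eq.trans ?_ (untwVal_smul γ r s a).symm)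
      exact congrArg (_ • ·) ((exists_untwApp hcov γ s).choose_spec.1 a))⟩

theorem untw_spec (hcov : ∀ x, ∃ a, x ∈ D a) (γ : A ⟶ tw C M) {W : X.Opens} (s : Γ(tw C.inv A, W)) (a : G) :
    res M (inf_le_left : W ⊓ D a ≤ W) ((untw hcov γ).app W s) = untwVal γ s a :=
  (exists_untwApp hcov γ s).choose_spec.1 a

/-- what the untwisted map kills, the twist kills on the image -/
theorem twMap_comp_eq_zero (hcov : ∀ x, ∃ a, x ∈ D a) (γ : A ⟶ tw C M) {M' : X.Modules} (q : M ⟶ M')
    (h : untw hcov γ ≫ q = 0) : γ ≫ twMap C q = 0 := by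
  apply Scheme.Modules.hom_ext
  intro W
  refine ConcreteCategory.hom_ext _ _ fun s => tw_ext fun a => ?_
  show q.app _ (twVal (γ.app W s) a) = 0
  let V := W ⊓ D a
  have hV : V ≤ D a := inf_le_right
  let s' : Γ(tw C.inv A, V) := twUntriv a hV (res A inf_le_left s)
  have h1 : res M (inf_le_left : V ⊓ D a ≤ V) ((untw hcov γ).app V s') =
      res M inf_le_left (twVal (γ.app W s) a) := by
    rw [untw_spec, untwVal, twVal_untriv_self, res_res, ← app_res, twVal_res, res_res]
  have h2 : q.app V ((untw hcov γ).app V s') = 0 :=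
    congr($(congrArg (fun φ => Scheme.Modules.Hom.app φ V) h) s')
  have h3 := congrArg (res M' (inf_le_left : V ⊓ D a ≤ V)) h2
  rw [app_res, h1, ← app_res, show res M' _ (0 : Γ(M', V)) = 0 from map_zero _] at h3
  have h4 := congrArg (res M' (le_inf le_rfl hV : V ≤ V ⊓ D a)) h3
  rw [res_res, res_refl, show res M' _ (0 : Γ(M', V ⊓ D a)) = 0 from map_zero _] at h4
  exact h4

end MiscFlat6
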