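import Groth.Prelude
import Groth.Agent.AmpleDevLib.Pull
import Groth.Agent.AmpleDevLib.Components
import Groth.Agent.AmpleThLib.FiniteSet
import Groth.Agent.AmpleThLib.Restr
import Groth.Agent.RichLib.QuasiAffineMor
import Groth.Agent.MiscFlat6.QALocus

/-!
# Ampleness is preserved by pullback along quasi-affine morphisms
-/

universe u
open CategoryTheory CategoryTheory.Limits AlgebraicGeometry TopologicalSpace
open AmpleLib AmpleThLib
open TwistLib (genSet)
open KFlatLib (pb puSec)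

noncomputable section

namespace MiscFlat6

variable {X' X : Scheme.{u}} (g : X' ⟶ X) {L : X.Modules}

theorem isAmple_pb_of_isQuasiAffine (hg : Mor2.IsQuasiAffine g) (hA : CohB1.IsAmple L) :
    CohB1.IsAmple (pb g L) := by
  have hL := hA.1
  haveI : CompactSpace X := hA.2.1
  haveI : QuasiSeparatedSpace X := AmpleThLib.quasiSeparatedSpace_of_isAmple hA
  haveI : QuasiCompact g := hg.1
  haveI : CompactSpace X' := QuasiCompact.compactSpace_of_compactSpace g
  haveI : IsSeparated g := RichLib.QA.isSeparated_of_cover g (fun V : X.affineOpens => V.1)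
    (iSup_affineOpens_eq_top X) fun V => by
      haveI := hg.2 V.1 V.2
      haveI : IsAffine (V.1 : Scheme.{u}) := V.2
      infer_instance
  haveI : QuasiSeparatedSpace X' := quasiSeparatedSpace_of_quasiSeparated g
  have hM := AmpleDevLib.isInvertible_pb g hL
  refine (isAmple_iff (hL := hM)).mpr ⟨inferInstance, fun x => ?_⟩
  obtain ⟨d, V, hd, ⟨σ, hσ⟩, hxV, hV⟩ := ((isAmple_iff (hL := hL)).mp hA).2 (g x)
  obtain ⟨φ, -⟩ := AmpleDevLib.exists_pullPowIso g hL d
  let t : Γ(CohB1.tensorPow (pb g L) d, ⊤) := φ.hom.app ⊤ (puSec g σ : Γ(pb g (CohB1.tensorPow L d), ⊤))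
  let T := genSet (tensorPow_isInvertible hM d) t
  have ht : T = g ⁻¹ᵁ V := by
    rw [← hσ, ← AmpleDevLib.genSet_puSec g (tensorPow_isInvertible hL d) σ]
    exact genSet_iso (AmpleDevLib.isInvertible_pb g (tensorPow_isInvertible hL d)) _ φ _
  haveI : Scheme.IsQuasiAffine (T : Scheme.{u}) := by
    rw [ht]
    exact hg.2 V hV
  have hxT : x ∈ T := ht.symm ▸ hxV
  obtain ⟨_, ⟨_, ⟨r, hr, rfl⟩, rfl⟩, hxr, -⟩ :=
    (Scheme.IsQuasiAffine.isBasis_basicOpen (T : Scheme.{u})).exists_subset_of_mem_open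
      (Set.mem_univ (⟨x, hxT⟩ : T)) isOpen_univ
  let q : Γ(X', T) := T.topIso.hom r
  have hq : IsAffineOpen (X'.basicOpen q) ∧ x ∈ X'.basicOpen q := by
    have he : T.ι ''ᵁ T.toScheme.basicOpen r = X'.basicOpen q := by
      simp only [q, Scheme.image_basicOpen, Scheme.Opens.ι_appIso, Iso.refl_inv,
        Scheme.Opens.topIso_hom, Scheme.basicOpen_res]
      exact ((inf_eq_right.mpr ((X'.basicOpen_le _).trans T.ι_image_top.le)).symm.trans
        (X'.basicOpen_res (V := T) r (eqToHom T.ι_image_top.symm).op).symm)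
    rw [← he]
    exact ⟨hr.image_of_isOpenImmersion T.ι, ⟨x, hxT⟩, hxr, rfl⟩
  obtain ⟨N, hN⟩ := exists_extend hM (r := 0) t q
  obtain ⟨u, hu⟩ := hN N le_rfl
  have hgen : GenOn _ (mul hM (m := 0) (show Γ(CohB1.tensorPow (pb g L) 0, T) from (1 : Γ(X', T)))
      (res _ le_top (tPow hM t N))) :=
    mul_genOn hM (one_genOn _) (tPow_genOn hM t le_rfl N)
  have hcoef : q • mul hM (m := 0) (show Γ(CohB1.tensorPow (pb g L) 0, T) from (1 : Γ(X', T)))
      (res _ le_top (tPow hM t N)) = res _ le_top u := by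
    rw [hu]
    have e := mul_smul_smul hM (m := 0) q 1 (show Γ(CohB1.tensorPow (pb g L) 0, T) from (1 : Γ(X', T)))
      (res _ le_top (tPow hM t N))
    rw [one_smul, mul_one] at e
    rw [← e]
    exact congrArg (fun z : Γ(CohB1.tensorPow (pb g L) 0, T) =>
      mul hM z (res _ le_top (tPow hM t N))) (mul_one q)
  have hl := AmpleThLib.mem_genSet_coeff (tensorPow_isInvertible hM (0 + d * N)) u hgen hcoef
  exact ⟨0 + d * N + d, X'.basicOpen q, by omega,
    ⟨mul hM u t, (genSet_mul hM u t).trans hl⟩, hq.2, hq.1⟩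

theorem isRelAmple_pb {Y : Scheme.{u}} (f : X ⟶ Y) [QuasiCompact f] (hg : Mor2.IsQuasiAffine g)
    (hL : RelAmple.IsRelAmple f L) : RelAmple.IsRelAmple (g ≫ f) (pb g L) := by
  haveI : QuasiCompact g := hg.1
  refine ⟨inferInstance, fun V => ?_⟩
  let U : X.Opens := f ⁻¹ᵁ V.1
  let U' : X'.Opens := g ⁻¹ᵁ U
  let r : (U' : Scheme.{u}) ⟶ U := g ∣_ U
  have hr : Mor2.IsQuasiAffine r := RichLib.QA.of_isPullback (isPullback_morphismRestrict g U).flip hg
  have hA := isAmple_pb_of_isQuasiAffine r hr (hL.2 V)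
  let e : pb r (L.restrict U.ι) ≅ (pb g L).restrict U'.ι :=
    (Scheme.Modules.pullback r).mapIso ((Scheme.Modules.restrictFunctorIsoPullback U.ι).app L) ≪≫
      (Scheme.Modules.pullbackComp r U.ι).app L ≪≫
      (Scheme.Modules.pullbackCongr (morphismRestrict_ι g U)).app L ≪≫
      ((Scheme.Modules.pullbackComp U'.ι g).app L).symm ≪≫
      ((Scheme.Modules.restrictFunctorIsoPullback U'.ι).app (pb g L)).symm
  exact AmpleDevLib.isAmple_of_iso hA.1
    (AmpleThLib.restrict_isInvertible (AmpleDevLib.isInvertible_pb g (invertible_of_restrict f hL)) U'.ι) e hA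
where
  invertible_of_restrict {X Y : Scheme.{u}} (f : X ⟶ Y) {L : X.Modules}
      (hL : RelAmple.IsRelAmple f L) : PicF.IsInvertible L := by
    intro x
    obtain ⟨_, ⟨V, hV, rfl⟩, hxV, -⟩ :=
      Y.isBasis_affineOpens.exists_subset_of_mem_open (Set.mem_univ (f x)) isOpen_univ
    obtain ⟨W, hxW, ⟨e⟩⟩ := (hL.2 ⟨V, hV⟩).1 ⟨x, hxV⟩
    let U : X.Opens := f ⁻¹ᵁ V
    let k := U.ι.isoImage W
    have hk : k.inv ≫ W.ι ≫ U.ι = (U.ι ''ᵁ W).ι := by
      rw [Iso.inv_comp_eq]
      exact (U.ι.isoImage_hom_ι W).symm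
    obtain ⟨e₀⟩ := nonempty_restrict_structureModule (X := (W : Scheme.{u})) k.inv
    exact ⟨U.ι ''ᵁ W, ⟨⟨x, hxV⟩, hxW, rfl⟩,
      ⟨(Scheme.Modules.restrictFunctorCongr hk.symm).app L ≪≫
        (Scheme.Modules.restrictFunctorComp k.inv (W.ι ≫ U.ι)).app L ≪≫
        (Scheme.Modules.restrictFunctor k.inv).mapIso
          ((Scheme.Modules.restrictFunctorComp W.ι U.ι).app L ≪≫ e) ≪≫ e₀⟩⟩

end MiscFlat6
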