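import Groth.Agent.MiscFlat6.AmpleFamilyRel

universe u
open CategoryTheory CategoryTheory.Limits AlgebraicGeometry TopologicalSpace
open AmpleLib AmpleThLib
open TwistLib (genSet)
open KFlatLib (pb puSec)

noncomputable section

namespace MiscFlat6

/-- ampleness can be checked on a cover by non-vanishing loci of functions -/
theorem isAmple_of_basicOpen_cover {X : Scheme.{u}} [CompactSpace X] [QuasiSeparatedSpace X] {L : X.Modules}
    (hL : PicF.IsInvertible L)
    (h : ∀ x : X, ∃ q : Γ(X, ⊤), x ∈ X.basicOpen q ∧ CohB1.IsAmple (L.restrict (X.basicOpen q).ι)) :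
    CohB1.IsAmple L := by
  refine (isAmple_iff (hL := hL)).mpr ⟨inferInstance, fun x => ?_⟩
  obtain ⟨q, hxq, hA⟩ := h x
  let t : Γ(CohB1.tensorPow L 0, ⊤) := q
  let T := genSet (tensorPow_isInvertible hL 0) t
  have ht : T = X.basicOpen q := zero_genSet hL q
  let U : X.Opens := X.basicOpen q
  have hLU := restrict_isInvertible hL U.ι
  obtain ⟨n, W, hn, ⟨σ, hσ⟩, hxW, hW⟩ := ((isAmple_iff (hL := hLU)).mp hA).2 ⟨x, hxq⟩
  have hM := tensorPow_isInvertible hL n
  let φ := (exists_restrIso hL U.ι n).choose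
  let σ' : Γ((CohB1.tensorPow L n).restrict U.ι, ⊤) := φ.hom.app ⊤ σ
  have hσ' : genSet (restrict_isInvertible hM U.ι) σ' = W := (genSet_iso _ _ φ σ).trans hσ
  have htop : U.ι ''ᵁ ⊤ = T := (U.ι_image_top).trans ht.symm
  let σX : Γ(CohB1.tensorPow L n, T) :=
    res (CohB1.tensorPow L n) htop.ge (show Γ(CohB1.tensorPow L n, U.ι ''ᵁ ⊤) from σ')
  obtain ⟨N, hN⟩ := exists_extend hL t σX
  obtain ⟨u, hu⟩ := hN N le_rfl
  refine ⟨n + 0 * N + 0, U.ι ''ᵁ W, by omega, ⟨mul hL u t, ?_⟩, ⟨⟨x, hxq⟩, hxW, rfl⟩,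
    hW.image_of_isOpenImmersion U.ι⟩
  rw [genSet_mul hL u t]
  ext y
  by_cases hy : y ∈ T
  · have hyU : y ∈ U := SetLike.le_def.1 ht.le hy
    obtain ⟨A, e, hyA, he⟩ := TwistLib.exists_genOn hM y
    have he' := he.res (inf_le_left : A ⊓ T ≤ A)
    have htN := (tPow_genOn hL t (le_refl T) N).res (inf_le_right : A ⊓ T ≤ T)
    have hyA' : y ∈ A ⊓ T := ⟨hyA, hy⟩
    obtain ⟨c, hc⟩ := (he' (A ⊓ T) le_rfl).2 (res _ inf_le_right σX)
    dsimp only at hc
    rw [res_refl] at hc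
    have e0 : GenAt _ u (show y ∈ (⊤ : X.Opens) from trivial) ↔ GenAt (CohB1.tensorPow L n) σX hy := by
      rw [← genAt_res (le_top : T ≤ ⊤) u hy, hu,
        ← genAt_res (inf_le_right : A ⊓ T ≤ T) (mul hL σX _) hyA',
        ← genAt_res (inf_le_right : A ⊓ T ≤ T) σX hyA', mul_res, ← hc]
      have hsm : ∀ B : Γ(CohB1.tensorPow L (0 * N), A ⊓ T),
          mul hL (c • res (CohB1.tensorPow L n) inf_le_left e) B =
            c • mul hL (res (CohB1.tensorPow L n) (inf_le_left : A ⊓ T ≤ A) e) B := fun B => by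
        have := mul_smul_smul hL c 1 (res (CohB1.tensorPow L n) (inf_le_left : A ⊓ T ≤ A) e) B
        rwa [one_smul, mul_one] at this
      rw [hsm, genAt_smul_iff c _ hyA' ((mul_genOn hL he' htN).genAt hyA'),
        genAt_smul_iff c _ hyA' (he'.genAt hyA')]
    have e1 : GenAt (CohB1.tensorPow L n) σX hy ↔ (⟨y, hyU⟩ : U) ∈ genSet (restrict_isInvertible hM U.ι) σ' :=
      (genAt_res htop.ge _ hy).trans (genAt_restrict_iff hM U.ι σ' ⟨y, hyU⟩).symm
    rw [hσ'] at e1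
    constructor
    · rintro ⟨h, -⟩; exact ⟨⟨y, hyU⟩, e1.1 (e0.1 h), rfl⟩
    · rintro ⟨z, hz, rfl⟩; exact ⟨e0.2 (e1.2 hz), hy⟩
  · refine ⟨fun h => absurd h.2 hy, ?_⟩
    rintro ⟨z, -, rfl⟩
    exact absurd (SetLike.le_def.1 ht.ge z.2) hy

/-- restricting an ample module to a quasi-compact open immersion -/
theorem isAmple_restrict_of_comp {X A B : Scheme.{u}} {L : X.Modules} (hL : PicF.IsInvertible L)
    (i : A ⟶ X) (j : B ⟶ X) [IsOpenImmersion i] [IsOpenImmersion j] (k : B ⟶ A) (hk : k ≫ i = j)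
    [CompactSpace B] [QuasiSeparatedSpace A] (hA : CohB1.IsAmple (L.restrict i)) :
    CohB1.IsAmple (L.restrict j) := by
  haveI : IsOpenImmersion (k ≫ i) := hk ▸ inferInstance
  haveI : IsOpenImmersion k := IsOpenImmersion.of_comp k i
  haveI : QuasiCompact k := quasiCompact_of_compactSpace k
  have h := isAmple_pb_of_isQuasiAffine k (RichLib.QA.of_isImmersion k) hA
  let e : pb k (L.restrict i) ≅ L.restrict j :=
    (Scheme.Modules.pullback k).mapIso ((Scheme.Modules.restrictFunctorIsoPullback i).app L) ≪≫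
      (Scheme.Modules.pullbackComp k i).app L ≪≫ (Scheme.Modules.pullbackCongr hk).app L ≪≫
      ((Scheme.Modules.restrictFunctorIsoPullback j).app L).symm
  exact AmpleDevLib.isAmple_of_iso h.1 (restrict_isInvertible hL j) e h

theorem isRelAmple_of_comp {X Y Z : Scheme.{u}} (f : X ⟶ Y) (g : Y ⟶ Z) [QuasiCompact f] {L : X.Modules}
    (hR : RelAmple.IsRelAmple (f ≫ g) L) : RelAmple.IsRelAmple f L := by
  have hL : PicF.IsInvertible L := isRelAmple_pb.invertible_of_restrict (f ≫ g) hR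
  refine ⟨‹_›, fun V => ?_⟩
  let U : X.Opens := f ⁻¹ᵁ V.1
  have hLU := restrict_isInvertible hL U.ι
  haveI : IsAffine (V.1 : Scheme.{u}) := V.2
  haveI : CompactSpace (U : Scheme.{u}) := isCompact_iff_compactSpace.mp (f.isCompact_preimage V.2.isCompact)
  haveI : QuasiSeparatedSpace (U : Scheme.{u}) := by
    haveI : QuasiSeparated f := by
      have : QuasiSeparated (f ≫ g) := by
        rw [IsZariskiLocalAtTarget.iff_of_iSup_eq_top (P := @QuasiSeparated) _ (iSup_affineOpens_eq_top Z)]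
        intro W
        haveI : IsAffine (W.1 : Scheme.{u}) := W.2
        rw [quasiSeparated_iff_quasiSeparatedSpace]
        exact AmpleThLib.quasiSeparatedSpace_of_isAmple (hR.2 W)
      exact QuasiSeparated.of_comp f g
    exact quasiSeparatedSpace_of_quasiSeparated (f ∣_ V.1)
  refine isAmple_of_basicOpen_cover hLU fun x => ?_
  obtain ⟨W, hW, hxW, -⟩ := exists_isAffineOpen_mem_and_subset (U := ⊤) (x := g (f x.1)) trivial
  obtain ⟨h, hhW, hxh⟩ := V.2.exists_basicOpen_le (V := g ⁻¹ᵁ W) ⟨f x.1, hxW⟩ x.2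
  let q : Γ((U : Scheme.{u}), ⊤) := U.topIso.inv (f.app V.1 h)
  have hq : U.ι ''ᵁ (U : Scheme.{u}).basicOpen q = f ⁻¹ᵁ Y.basicOpen h := by
    simp only [q, Scheme.image_basicOpen, Scheme.Opens.ι_appIso, Iso.refl_inv, Scheme.Opens.topIso_inv,
      Scheme.preimage_basicOpen]
    exact X.basicOpen_res_eq (f.app V.1 h) (eqToHom U.ι_image_top).op
  let B : X.Opens := f ⁻¹ᵁ Y.basicOpen h
  refine ⟨q, ?_, ?_⟩
  · have hx : x.1 ∈ U.ι ''ᵁ (U : Scheme.{u}).basicOpen q := hq ▸ (show x.1 ∈ B from hxh)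
    obtain ⟨z, hz, hzx⟩ := hx
    exact U.ι.isOpenEmbedding.injective (hzx : U.ι z = U.ι x) ▸ hz
  · let A : X.Opens := (f ≫ g) ⁻¹ᵁ W
    haveI : QuasiSeparatedSpace (A : Scheme.{u}) := AmpleThLib.quasiSeparatedSpace_of_isAmple (hR.2 ⟨W, hW⟩)
    let T := (U : Scheme.{u}).basicOpen q
    have hTA : (T.ι ≫ U.ι).opensRange ≤ A := by
      rintro _ ⟨z, rfl⟩
      have hz : U.ι z.1 ∈ f ⁻¹ᵁ Y.basicOpen h := hq.le ⟨z.1, z.2, rfl⟩
      exact hhW hz
    haveI : CompactSpace (T : Scheme.{u}) := by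
      have hc : IsCompact ((U.ι ''ᵁ T : X.Opens) : Set X) := by
        rw [hq]; exact f.isCompact_preimage (V.2.basicOpen h).isCompact
      exact isCompact_iff_compactSpace.mp ((U.ι.isOpenEmbedding.isInducing.isCompact_iff).mpr hc)
    let k : (T : Scheme.{u}) ⟶ A := IsOpenImmersion.lift A.ι (T.ι ≫ U.ι) (by
      rw [Scheme.Opens.range_ι]; exact hTA)
    have h1 := isAmple_restrict_of_comp hL A.ι (T.ι ≫ U.ι) k (IsOpenImmersion.lift_fac _ _ _) (hR.2 ⟨W, hW⟩)
    exact AmpleDevLib.isAmple_of_iso h1.1 (restrict_isInvertible hLU T.ι)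
      ((Scheme.Modules.restrictFunctorComp T.ι U.ι).app L) h1

end MiscFlat6
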