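import Groth.Prelude.Def_FDesc
import Groth.Agent.RichLib.ModFlatLimit
import Groth.Agent.DepthLib.FlatGenerization
import Groth.Agent.ConsLib.ModLoci
import Groth.Agent.S4357

universe u

open CategoryTheory Limits AlgebraicGeometry TensorProduct

namespace MiscFlat6.QFlat

theorem flat_sections {X S : Scheme.{u}} (f : X ⟶ S) (M : X.Modules) [Coh.IsQCoh M]
    (hM : FlatMod.IsFlatOver f M) (U : S.Opens) (hU : IsAffineOpen U) (V : X.Opens) (hV : IsAffineOpen V)
    (hVU : V ≤ f ⁻¹ᵁ U) [Algebra Γ(S, U) Γ(X, V)]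
    (halg : algebraMap Γ(S, U) Γ(X, V) = (f.appLE U V hVU).hom)
    [Module Γ(S, U) Γ(M, V)] [IsScalarTower Γ(S, U) Γ(X, V) Γ(M, V)] :
    Module.Flat Γ(S, U) Γ(M, V) := by
  refine Module.flat_of_isLocalized_maximal (R := Γ(S, U)) (S := Γ(X, V)) (M := Γ(M, V))
    (fun P => LocalizedModule P.primeCompl Γ(M, V)) (fun P _ => LocalizedModule.mkLinearMap _ _) fun P hP => ?_
  let p : PrimeSpectrum Γ(X, V) := ⟨P, inferInstance⟩
  have hx : hV.fromSpec p ∈ V := by
    show hV.fromSpec p ∈ (V : Set X)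
    rw [← hV.range_fromSpec]; exact ⟨p, rfl⟩
  have h := (FlatLib.isFlatOverAt_iff f M U hU V hV hVU hx halg).1 (hM _)
  have : hV.primeIdealOf ⟨_, hx⟩ = p :=
    hV.fromSpec.isOpenEmbedding.injective (hV.fromSpec_primeIdealOf ⟨_, hx⟩)
  rw [this] at h
  exact h

theorem isFlatOver_pullback_affine {W S T : Scheme.{u}} [IsAffine W] [IsAffine S] [IsAffine T] (g : W ⟶ S)
    (t : T ⟶ S) (G : W.Modules) [Coh.IsQCoh G] (hG : FlatMod.IsFlatOver g G) :
    FlatMod.IsFlatOver (pullback.snd g t) ((Scheme.Modules.pullback (pullback.fst g t)).obj G) := by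
  intro z
  let M := KFlatLib.pb (pullback.fst g t) G
  haveI : Coh.IsQCoh M := KFlatLib.isQCoh_pullback (pullback.fst g t) G
  letI : Algebra Γ(S, ⊤) Γ(W, ⊤) := g.appTop.hom.toAlgebra
  letI : Algebra Γ(S, ⊤) Γ(T, ⊤) := t.appTop.hom.toAlgebra
  letI : Algebra Γ(T, ⊤) Γ(pullback g t, ⊤) := (pullback.snd g t).appTop.hom.toAlgebra
  letI : Algebra Γ(W, ⊤) Γ(pullback g t, ⊤) := (pullback.fst g t).appTop.hom.toAlgebra
  letI : Algebra Γ(S, ⊤) Γ(pullback g t, ⊤) :=
    ((pullback.fst g t).appTop.hom.comp (algebraMap Γ(S, ⊤) Γ(W, ⊤))).toAlgebra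
  haveI : IsScalarTower Γ(S, ⊤) Γ(W, ⊤) Γ(pullback g t, ⊤) := IsScalarTower.of_algebraMap_eq fun _ => rfl
  haveI : IsScalarTower Γ(S, ⊤) Γ(T, ⊤) Γ(pullback g t, ⊤) := IsScalarTower.of_algebraMap_eq fun s => by
    show (pullback.fst g t).appTop (g.appTop s) = (pullback.snd g t).appTop (t.appTop s)
    exact congrArg (fun h : pullback g t ⟶ S => h.appTop s) pullback.condition
  haveI : Algebra.IsPushout Γ(S, ⊤) Γ(T, ⊤) Γ(W, ⊤) Γ(pullback g t, ⊤) :=
    CommRingCat.isPushout_iff_isPushout.mp (isPushout_appTop_of_isPullback (IsPullback.of_hasPullback g t).flip)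
  letI : Module Γ(S, ⊤) Γ(G, ⊤) := Module.compHom Γ(G, ⊤) g.appTop.hom
  haveI : IsScalarTower Γ(S, ⊤) Γ(W, ⊤) Γ(G, ⊤) := IsScalarTower.of_algebraMap_smul fun _ _ => rfl
  letI : Module Γ(W, ⊤) Γ(M, ⊤) := Module.compHom Γ(M, ⊤) (pullback.fst g t).appTop.hom
  haveI : IsScalarTower Γ(W, ⊤) Γ(pullback g t, ⊤) Γ(M, ⊤) := IsScalarTower.of_algebraMap_smul fun _ _ => rfl
  letI : Module Γ(T, ⊤) Γ(M, ⊤) := Module.compHom Γ(M, ⊤) (pullback.snd g t).appTop.hom
  haveI : IsScalarTower Γ(T, ⊤) Γ(pullback g t, ⊤) Γ(M, ⊤) := IsScalarTower.of_algebraMap_smul fun _ _ => rfl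
  have hle : (⊤ : (pullback g t).Opens) ≤ (pullback.fst g t) ⁻¹ᵁ ⊤ := le_top
  let ψ : Γ(G, ⊤) →ₗ[Γ(W, ⊤)] Γ(M, ⊤) :=
    { toFun := KFlatLib.puSecLE (pullback.fst g t) G hle
      map_add' := map_add _
      map_smul' := fun r m => by
        rw [KFlatLib.puSecLE_smul, RingHom.id_apply]
        show _ = (pullback.fst g t).appTop r • (KFlatLib.puSecLE (pullback.fst g t) G hle m : Γ(M, ⊤))
        simp [Scheme.Hom.appLE, M] }
  have hψ : IsBaseChange Γ(pullback g t, ⊤) ψ :=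
    KFlatLib.isBaseChange_puSec (pullback.fst g t) G (isAffineOpen_top W) (isAffineOpen_top _) hle
      (fun r => by simp [Scheme.Hom.appLE, RingHom.algebraMap_toAlgebra]) ψ fun _ => rfl
  have hflat : Module.Flat Γ(S, ⊤) Γ(G, ⊤) :=
    flat_sections g G hG ⊤ (isAffineOpen_top S) ⊤ (isAffineOpen_top W) le_top
      (by simp [Scheme.Hom.appLE, RingHom.algebraMap_toAlgebra])
  let e : Γ(T, ⊤) ⊗[Γ(S, ⊤)] Γ(G, ⊤) ≃ₗ[Γ(T, ⊤)] Γ(M, ⊤) :=
    (Algebra.IsPushout.cancelBaseChange Γ(S, ⊤) Γ(T, ⊤) Γ(W, ⊤) Γ(pullback g t, ⊤) Γ(G, ⊤)).symm ≪≫ₗ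
      hψ.equiv.restrictScalars Γ(T, ⊤)
  have hMflat : Module.Flat Γ(T, ⊤) Γ(M, ⊤) := Module.Flat.of_linearEquiv e.symm
  refine (FlatLib.isFlatOverAt_iff (pullback.snd g t) M ⊤ (isAffineOpen_top T) ⊤ (isAffineOpen_top _) le_top
    trivial (by simp [Scheme.Hom.appLE, RingHom.algebraMap_toAlgebra])).2 ?_
  haveI : IsLocalizedModule (⊥ : Submonoid Γ(pullback g t, ⊤))
      (LinearMap.id (R := Γ(pullback g t, ⊤)) (M := Γ(M, ⊤))) :=
    ⟨fun x => by rw [Submonoid.mem_bot.1 x.2, map_one]; exact isUnit_one,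
      fun y => ⟨(y, 1), one_smul _ _⟩, fun {x y} h => ⟨1, congrArg ((1 : (⊥ : Submonoid Γ(pullback g t, ⊤))) • ·) h⟩⟩
  exact FlatLib.flat_of_le (⊥ : Submonoid Γ(pullback g t, ⊤)) LinearMap.id
    ((isAffineOpen_top (pullback g t)).primeIdealOf ⟨z, trivial⟩).asIdeal.primeCompl
    (LocalizedModule.mkLinearMap ((isAffineOpen_top (pullback g t)).primeIdealOf ⟨z, trivial⟩).asIdeal.primeCompl _) bot_le hMflat

theorem isFlatOver_pullback {X Y T : Scheme.{u}} (f : X ⟶ Y) (M : X.Modules) [Coh.IsQCoh M]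
    (hM : FlatMod.IsFlatOver f M) (g : T ⟶ Y) :
    FlatMod.IsFlatOver (pullback.snd f g) ((Scheme.Modules.pullback (pullback.fst f g)).obj M) := by
  intro z
  set x₀ := pullback.fst f g z
  obtain ⟨U, hU, hyU, -⟩ := exists_isAffineOpen_mem_and_subset (U := ⊤) (x := f x₀) trivial
  obtain ⟨V, hV, hxV, hVU⟩ := exists_isAffineOpen_mem_and_subset (U := f ⁻¹ᵁ U) (x := x₀) hyU
  have hzU : g (pullback.snd f g z) ∈ U := by
    rw [← Scheme.Hom.comp_apply, ← pullback.condition, Scheme.Hom.comp_apply]; exact hyU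
  obtain ⟨W, hW, hzW, hWU⟩ := exists_isAffineOpen_mem_and_subset (U := g ⁻¹ᵁ U) (x := pullback.snd f g z) hzU
  let k := f.resLE U V hVU
  let t' := g.resLE U W hWU
  have hk : k ≫ U.ι = V.ι ≫ f := f.resLE_comp_ι hVU
  have ht : t' ≫ U.ι = W.ι ≫ g := g.resLE_comp_ι hWU
  let j := pullback.map k t' f g V.ι W.ι U.ι hk ht
  haveI : IsAffine (U : Scheme) := hU
  haveI : IsAffine (V : Scheme) := hV
  haveI : IsAffine (W : Scheme) := hW
  haveI : Coh.IsQCoh ((Scheme.Modules.pullback V.ι).obj M) := KFlatLib.isQCoh_pullback V.ι M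
  have hG : FlatMod.IsFlatOver k ((Scheme.Modules.pullback V.ι).obj M) := fun v =>
    (RichLib.ModFlat.isFlatOverAt_congr V.ι U.ι hk (Iso.refl _) v).2 (hM _)
  obtain ⟨z', rfl⟩ : z ∈ Set.range j := by
    rw [show Set.range j = _ from Scheme.Pullback.range_map k t' f g V.ι W.ι U.ι hk ht]
    exact ⟨by rw [Set.mem_preimage, Scheme.Opens.range_ι]; exact hxV,
      by rw [Set.mem_preimage, Scheme.Opens.range_ι]; exact hzW⟩
  refine (RichLib.ModFlat.isFlatOverAt_congr j W.ι (pullback.lift_snd _ _ _).symm ?_ z').1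
    (isFlatOver_pullback_affine k t' _ hG z')
  exact (Scheme.Modules.pullbackComp _ _).app M ≪≫
    (Scheme.Modules.pullbackCongr (pullback.lift_fst _ _ _).symm).app M ≪≫
    ((Scheme.Modules.pullbackComp _ _).app M).symm

theorem support_eq_univ {X : Scheme.{u}} {M : X.Modules} (h : ∀ x : X, Nontrivial (M.presheaf.stalk x)) (x : X) :
    x ∈ CohB1.support M := not_subsingleton_iff_nontrivial.2 (h x)

theorem generalizingMap {X Y : Scheme.{u}} (f : X ⟶ Y) (hf : FDesc.IsQuasiFlat f) : GeneralizingMap f := by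
  obtain ⟨M, ⟨hq, hft⟩, hflat, hs⟩ := hf
  haveI : Coh.IsQCoh M := hq
  intro x t ht
  obtain ⟨x', -, h1, h2⟩ := DepthLib.exists_support_generization f M hft (support_eq_univ hs x) (hflat x) ht
  exact ⟨x', h2, h1⟩

theorem isQuasiFlat_snd {X Y T : Scheme.{u}} (f : X ⟶ Y) (hf : FDesc.IsQuasiFlat f) (g : T ⟶ Y) :
    FDesc.IsQuasiFlat (pullback.snd f g) := by
  obtain ⟨M, hM, hflat, hs⟩ := hf
  haveI : Coh.IsQCoh M := hM.1
  refine ⟨_, ConsLib.isCoh_pullback (pullback.fst f g) hM, isFlatOver_pullback f M hflat g, fun z => ?_⟩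
  have h : z ∈ CohB1.support ((Scheme.Modules.pullback (pullback.fst f g)).obj M) := by
    rw [Groth.Agent.S4357.result (pullback.fst f g) M hM.2]
    exact support_eq_univ hs _
  exact not_subsingleton_iff_nontrivial.1 h

theorem universallyOpen {X Y : Scheme.{u}} (f : X ⟶ Y) (hf : FDesc.IsQuasiFlat f)
    [LocallyOfFinitePresentation f] : UniversallyOpen f := by
  constructor
  intro A B g h k hh
  have : IsOpenMap (pullback.snd f h) := by
    haveI : LocallyOfFinitePresentation (pullback.snd f h) :=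
      MorphismProperty.pullback_snd (P := @LocallyOfFinitePresentation) _ _ inferInstance
    exact isOpenMap_of_generalizingMap _ (generalizingMap _ (isQuasiFlat_snd f hf h))
  have e : k = hh.flip.isoPullback.hom ≫ pullback.snd f h := hh.flip.isoPullback_hom_snd.symm
  show IsOpenMap k
  rw [e]
  exact this.comp hh.flip.isoPullback.hom.isOpenEmbedding.isOpenMap

theorem isClosed_image_aux {X : Scheme.{u}} {R : CommRingCat.{u}} (f : X ⟶ Spec R) [CompactSpace X]
    {Z : Set X} (hZ : IsClosed Z) (H : StableUnderSpecialization (f '' Z)) : IsClosed (f '' Z) := by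
  obtain ⟨S, g, hg⟩ := compactSpace_iff_exists.mp ‹CompactSpace X›
  obtain ⟨φ, hφ⟩ := Spec.map_surjective (g ≫ f)
  have he : (g ≫ f) '' (g ⁻¹' Z) = f '' Z := by
    simp_rw [Scheme.Hom.comp_base, TopCat.comp_app, ← Set.image_image, Set.image_preimage_eq _ hg]
  rw [← he, ← hφ]
  rw [← he, ← hφ] at H
  exact PrimeSpectrum.isClosed_image_of_stableUnderSpecialization φ.hom _ (hZ.preimage g.continuous) H

theorem isClosed_image {X Y : Scheme.{u}} (f : X ⟶ Y) [QuasiCompact f]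
    {Z : Set X} (hZ : IsClosed Z) (H : StableUnderSpecialization (f '' Z)) : IsClosed (f '' Z) := by
  rw [← isOpen_compl_iff, Y.affineCover.isOpenCover_opensRange.isOpen_iff_inter]
  intro i
  rw [Scheme.Hom.coe_opensRange, ← Set.image_preimage_eq_inter_range, Set.preimage_compl]
  refine (Y.affineCover.f i).isOpenEmbedding.isOpenMap _ (isOpen_compl_iff.2 ?_)
  have e : Y.affineCover.f i ⁻¹' (f '' Z) =
      pullback.snd f (Y.affineCover.f i) '' (pullback.fst f (Y.affineCover.f i) ⁻¹' Z) := by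
    ext u
    constructor
    · rintro ⟨x, hx, hxu⟩
      obtain ⟨z, hz1, hz2⟩ := Scheme.Pullback.exists_preimage_pullback (f := f) (g := Y.affineCover.f i) x u hxu
      exact ⟨z, by simpa [Set.mem_preimage, hz1] using hx, hz2⟩
    · rintro ⟨z, hz, rfl⟩
      exact ⟨pullback.fst f (Y.affineCover.f i) z, hz, by rw [← Scheme.Hom.comp_apply, pullback.condition, Scheme.Hom.comp_apply]⟩
  rw [e]
  haveI : CompactSpace ↥(pullback f (Y.affineCover.f i)) :=
    QuasiCompact.compactSpace_of_compactSpace (pullback.snd f (Y.affineCover.f i))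
  exact isClosed_image_aux (pullback.snd f (Y.affineCover.f i)) (hZ.preimage (pullback.fst f _).continuous)
    (Eq.mp (congrArg StableUnderSpecialization e) (H.preimage (Y.affineCover.f i).continuous))

theorem isQuotientMap {X Y : Scheme.{u}} (f : X ⟶ Y) (hf : FDesc.IsQuasiFlat f) [QuasiCompact f]
    [Surjective f] : Topology.IsQuotientMap f := by
  rw [Topology.isQuotientMap_iff]
  refine ⟨.of_isOpen_preimage_iff_isOpen fun s ↦ ⟨fun hs ↦ ?_, fun hs ↦ hs.preimage f.continuous⟩, f.surjective⟩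
  have e : f '' (f ⁻¹' sᶜ) = sᶜ := Set.image_preimage_eq _ f.surjective
  rw [← isClosed_compl_iff, ← e]
  refine isClosed_image f (by rw [Set.preimage_compl]; exact hs.isClosed_compl) ?_
  rw [e]
  refine (stableUnderSpecialization_compl_iff).2 ?_
  have hg := (generalizingMap f hf).stableUnderGeneralization_image hs.stableUnderGeneralization
  rwa [Set.image_preimage_eq _ f.surjective] at hg

end MiscFlat6.QFlat
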