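import Mathlib.AlgebraicGeometry.ProjectiveSpectrum.Functor
import Mathlib.AlgebraicGeometry.Pullbacks
import Mathlib.RingTheory.GradedAlgebra.RingHom
import Mathlib.Algebra.Category.Ring.Constructions
import Groth.Agent.GrModLib6.Top

/-!
# `Proj` commutes with base change
-/

set_option autoImplicit false
universe u

open CategoryTheory CategoryTheory.Limits AlgebraicGeometry TopologicalSpace HomogeneousLocalization
open scoped TensorProduct

noncomputable section

namespace MiscFlat6

variable {R R' A B σ τ : Type u} [CommRing R] [CommRing R'] [CommRing A] [CommRing B]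
  [SetLike σ A] [AddSubgroupClass σ A] [SetLike τ B] [AddSubgroupClass τ B]
  (𝒜 : ℕ → σ) [GradedRing 𝒜] (ℬ : ℕ → τ) [GradedRing ℬ]
  (φ : 𝒜 →+*ᵍ ℬ) (ρ : R →+* 𝒜 0) (ρ' : R' →+* ℬ 0) (g : R →+* R')

/-- the structure map of the ambient ring -/
abbrev amb (ρ : R →+* 𝒜 0) : R →+* A := (SetLike.GradeZero.subring 𝒜).subtype.comp ρ

/-- the structure map of a degree-zero localisation -/
abbrev awayStr (ρ : R →+* 𝒜 0) (t : A) : R →+* Away 𝒜 t := (fromZeroRingHom 𝒜 _).comp ρ

open scoped Classical in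
theorem decompose_amb_mul (r : R) (a : A) (n : ℕ) :
    (DirectSum.decompose 𝒜 (amb 𝒜 ρ r * a) n : A) = amb 𝒜 ρ r * (DirectSum.decompose 𝒜 a n : A) := by
  have h := DirectSum.coe_decompose_mul_of_left_mem_of_le 𝒜 (a := amb 𝒜 ρ r) (b := a) (ρ r).2 (Nat.zero_le n)
  simpa using h

open scoped Classical in
/-- the component map to a degree-zero localisation -/
def awayComp [Algebra R A] (hA : algebraMap R A = amb 𝒜 ρ) {d : ℕ} {t : A} (ht : t ∈ 𝒜 d)
    [Algebra R (Away 𝒜 t)] (hT : algebraMap R (Away 𝒜 t) = awayStr 𝒜 ρ t) (k : ℕ) : A →ₗ[R] Away 𝒜 t where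
  toFun a := Away.mk 𝒜 ht k (DirectSum.decompose 𝒜 a (k • d) : A) (SetLike.coe_mem _)
  map_add' a b := by
    apply HomogeneousLocalization.val_injective
    rw [HomogeneousLocalization.val_add, Away.val_mk, Away.val_mk, Away.val_mk, DirectSum.decompose_add,
      DirectSum.add_apply, AddMemClass.coe_add, Localization.add_mk_self]
  map_smul' r a := by
    apply HomogeneousLocalization.val_injective
    rw [Away.val_mk, Algebra.smul_def r a, hA, decompose_amb_mul, RingHom.id_apply, Algebra.smul_def r, hT,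
      HomogeneousLocalization.val_mul, Away.val_mk]
    show _ = HomogeneousLocalization.val (HomogeneousLocalization.mk ⟨0, ρ r, (1 : 𝒜 0), one_mem _⟩) * _
    rw [HomogeneousLocalization.val_mk, Localization.mk_mul]
    refine congrArg₂ Localization.mk rfl (Subtype.ext ?_)
    simp

open scoped Classical in
theorem awayComp_decompose [Algebra R A] (hA : algebraMap R A = amb 𝒜 ρ) {d : ℕ} {t : A} (ht : t ∈ 𝒜 d)
    [Algebra R (Away 𝒜 t)] (hT : algebraMap R (Away 𝒜 t) = awayStr 𝒜 ρ t) (k : ℕ) (a : A) :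
    awayComp 𝒜 ρ hA ht hT k (DirectSum.decompose 𝒜 a (k • d) : A) = awayComp 𝒜 ρ hA ht hT k a := by
  apply HomogeneousLocalization.val_injective
  simp only [awayComp, LinearMap.coe_mk, AddHom.coe_mk, Away.val_mk]
  rw [DirectSum.decompose_of_mem_same 𝒜 (SetLike.coe_mem _)]

open scoped Classical in
theorem awayComp_shift [Algebra R A] (hA : algebraMap R A = amb 𝒜 ρ) {d : ℕ} {t : A} (ht : t ∈ 𝒜 d)
    [Algebra R (Away 𝒜 t)] (hT : algebraMap R (Away 𝒜 t) = awayStr 𝒜 ρ t) (m k : ℕ) (a : A) :
    awayComp 𝒜 ρ hA ht hT (m + k) (t ^ m * a) = awayComp 𝒜 ρ hA ht hT k a := by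
  apply HomogeneousLocalization.val_injective
  simp only [awayComp, LinearMap.coe_mk, AddHom.coe_mk, Away.val_mk]
  rw [DirectSum.coe_decompose_mul_of_left_mem_of_le 𝒜 (SetLike.pow_mem_graded m ht)
      (show m • d ≤ (m + k) • d by rw [add_smul]; exact Nat.le_add_right _ _),
    show (m + k) • d - m • d = k • d by rw [add_smul, Nat.add_sub_cancel_left]]
  rw [Localization.mk_eq_mk_iff, Localization.r_iff_exists]
  refine ⟨1, ?_⟩
  simp only [OneMemClass.coe_one, one_mul, pow_add]
  ring

open scoped Classical in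
/-- degree-zero localisations commute with base change -/
theorem isPushout_away (hcomm : ∀ r, φ (amb 𝒜 ρ r) = amb ℬ ρ' (g r))
    (hpo : IsPushout (CommRingCat.ofHom g) (CommRingCat.ofHom (amb 𝒜 ρ)) (CommRingCat.ofHom (amb ℬ ρ'))
      (CommRingCat.ofHom (φ : A →+* B)))
    {d : ℕ} (hd : 0 < d) {t : A} (ht : t ∈ 𝒜 d) :
    IsPushout (CommRingCat.ofHom g) (CommRingCat.ofHom (awayStr 𝒜 ρ t)) (CommRingCat.ofHom (awayStr ℬ ρ' (φ t)))
      (CommRingCat.ofHom (Away.map φ t)) := by
  letI : Algebra R R' := g.toAlgebra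
  letI : Algebra R A := (amb 𝒜 ρ).toAlgebra
  letI : Algebra R' B := (amb ℬ ρ').toAlgebra
  letI : Algebra A B := (φ : A →+* B).toAlgebra
  letI : Algebra R B := ((amb ℬ ρ').comp g).toAlgebra
  haveI : IsScalarTower R R' B := .of_algebraMap_eq' rfl
  haveI : IsScalarTower R A B := .of_algebraMap_eq fun r => (hcomm r).symm
  haveI hP : Algebra.IsPushout R R' A B := CommRingCat.isPushout_iff_isPushout.mp hpo
  letI : Algebra R (Away 𝒜 t) := (awayStr 𝒜 ρ t).toAlgebra
  letI : Algebra R' (Away ℬ (φ t)) := (awayStr ℬ ρ' (φ t)).toAlgebra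
  letI : Algebra (Away 𝒜 t) (Away ℬ (φ t)) := (Away.map φ t).toAlgebra
  letI : Algebra R (Away ℬ (φ t)) := ((awayStr ℬ ρ' (φ t)).comp g).toAlgebra
  haveI : IsScalarTower R R' (Away ℬ (φ t)) := .of_algebraMap_eq' rfl
  haveI : IsScalarTower R (Away 𝒜 t) (Away ℬ (φ t)) := .of_algebraMap_eq fun r => by
    apply HomogeneousLocalization.val_injective
    show HomogeneousLocalization.val (HomogeneousLocalization.mk ⟨0, ρ' (g r), (1 : ℬ 0), one_mem _⟩) =
      HomogeneousLocalization.val (Away.map φ t (HomogeneousLocalization.mk ⟨0, ρ r, (1 : 𝒜 0), one_mem _⟩))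
    erw [HomogeneousLocalization.map_mk]
    rw [HomogeneousLocalization.val_mk, HomogeneousLocalization.val_mk]
    refine congrArg₂ Localization.mk (hcomm r).symm (Subtype.ext ?_)
    simp
  refine CommRingCat.isPushout_iff_isPushout.mpr ⟨?_⟩
  let e : R' ⊗[R] A ≃ₐ[R'] B := Algebra.IsPushout.equiv R R' A B
  let L : ℕ → R' ⊗[R] A →ₗ[R] R' ⊗[R] Away 𝒜 t := fun k => (awayComp 𝒜 ρ rfl ht rfl k).lTensor R'
  let θ : R' ⊗[R] Away 𝒜 t →ₐ[R'] Away ℬ (φ t) := Algebra.TensorProduct.lift (Algebra.ofId R' (Away ℬ (φ t)))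
    (IsScalarTower.toAlgHom R (Away 𝒜 t) (Away ℬ (φ t))) (fun x y => mul_comm _ _)
  have hθ : ∀ (k : ℕ) (w : R' ⊗[R] A), HomogeneousLocalization.val (θ (L k w)) =
      Localization.mk (DirectSum.decompose ℬ (e w) (k • d) : B) (⟨φ t ^ k, k, rfl⟩ : Submonoid.powers (φ t)) := by
    intro k w
    induction w using TensorProduct.induction_on with
    | zero => simp [Localization.mk_zero]
    | add x y hx hy =>
      rw [map_add, map_add, HomogeneousLocalization.val_add, hx, hy, Localization.add_mk_self, map_add,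
        DirectSum.decompose_add, DirectSum.add_apply, AddMemClass.coe_add]
    | tmul r a =>
      rw [show L k (r ⊗ₜ[R] a) = r ⊗ₜ[R] awayComp 𝒜 ρ rfl ht rfl k a from rfl,
        Algebra.TensorProduct.lift_tmul, HomogeneousLocalization.val_mul,
        show e (r ⊗ₜ[R] a) = amb ℬ ρ' r * φ a from Algebra.IsPushout.equiv_tmul R R' A B r a,
        decompose_amb_mul, ← GradedRingHom.map_directSumDecompose]
      show HomogeneousLocalization.val (HomogeneousLocalization.mk ⟨0, ρ' r, (1 : ℬ 0), one_mem _⟩) *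
        HomogeneousLocalization.val (Away.map φ t (Away.mk 𝒜 ht k _ (SetLike.coe_mem _))) = _
      rw [Away.map_mk, Away.val_mk, HomogeneousLocalization.val_mk, Localization.mk_mul]
      refine congrArg₂ Localization.mk rfl (Subtype.ext ?_)
      simp
  have hL : ∀ z, ∃ k w, L k w = z := by
    intro z
    induction z using TensorProduct.induction_on with
    | zero => exact ⟨0, 0, map_zero _⟩
    | add x y hx hy =>
      obtain ⟨k, w, rfl⟩ := hx
      obtain ⟨l, v, rfl⟩ := hy
      have hsh : ∀ m k (w : R' ⊗[R] A), L (m + k) ((LinearMap.mulLeft R (t ^ m)).lTensor R' w) = L k w := by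
        intro m k w
        induction w using TensorProduct.induction_on with
        | zero => simp
        | add x y hx hy => rw [map_add, map_add, map_add, hx, hy]
        | tmul r a =>
          show r ⊗ₜ[R] awayComp 𝒜 ρ rfl ht rfl (m + k) (t ^ m * a) = _
          rw [awayComp_shift]
          rfl
      exact ⟨l + k, (LinearMap.mulLeft R (t ^ l)).lTensor R' w + (LinearMap.mulLeft R (t ^ k)).lTensor R' v,
        by rw [map_add, hsh l k w, add_comm l k, hsh k l v]⟩
    | tmul r z =>
      obtain ⟨k, a, ha, rfl⟩ := Away.mk_surjective 𝒜 ht z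
      refine ⟨k, r ⊗ₜ a, congrArg (r ⊗ₜ[R] ·) ?_⟩
      apply HomogeneousLocalization.val_injective
      simp only [awayComp, LinearMap.coe_mk, AddHom.coe_mk, Away.val_mk, DirectSum.decompose_of_mem_same 𝒜 ha]
  have hbij : Function.Bijective θ := by
    refine ⟨(injective_iff_map_eq_zero θ).mpr fun z hz => ?_, fun z => ?_⟩
    · obtain ⟨k, w, rfl⟩ := hL z
      have h0 := hθ k w
      rw [hz, HomogeneousLocalization.val_zero, ← Localization.mk_zero (1 : Submonoid.powers (φ t)),
        Localization.mk_eq_mk_iff, Localization.r_iff_exists] at h0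
      obtain ⟨⟨_, N, rfl⟩, hN⟩ := h0
      have hN' : φ t ^ N * (DirectSum.decompose ℬ (e w) (k • d) : B) = 0 := by simpa using hN.symm
      let v := (LinearMap.mulLeft R (t ^ N)).lTensor R' w
      have hv : L (N + k) v = L k w := by
        show (awayComp 𝒜 ρ rfl ht rfl (N + k)).lTensor R' ((LinearMap.mulLeft R (t ^ N)).lTensor R' w) = _
        rw [← LinearMap.lTensor_comp_apply]
        congr 2
        exact LinearMap.ext fun a => awayComp_shift 𝒜 ρ rfl ht rfl N k a
      let D : A →ₗ[R] A :=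
        { toFun := fun a => (DirectSum.decompose 𝒜 a ((N + k) • d) : A)
          map_add' := fun a b => by rw [DirectSum.decompose_add, DirectSum.add_apply, AddMemClass.coe_add]
          map_smul' := fun r a => by
            rw [Algebra.smul_def, RingHom.id_apply, Algebra.smul_def]
            exact decompose_amb_mul 𝒜 ρ r a _ }
      have he : ∀ x, e (D.lTensor R' x) = (DirectSum.decompose ℬ (e x) ((N + k) • d) : B) := by
        intro x
        induction x using TensorProduct.induction_on with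
        | zero => simp
        | add x y hx hy =>
          rw [map_add, map_add, hx, hy, map_add, DirectSum.decompose_add, DirectSum.add_apply, AddMemClass.coe_add]
        | tmul r a =>
          rw [LinearMap.lTensor_tmul,
            show e (r ⊗ₜ[R] a) = amb ℬ ρ' r * φ a from Algebra.IsPushout.equiv_tmul R R' A B r a,
            show e (r ⊗ₜ[R] D a) = amb ℬ ρ' r * φ (D a) from Algebra.IsPushout.equiv_tmul R R' A B r (D a),
            decompose_amb_mul, ← GradedRingHom.map_directSumDecompose]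
          rfl
      have hev : ∀ w' : R' ⊗[R] A, e ((LinearMap.mulLeft R (t ^ N)).lTensor R' w') = φ t ^ N * e w' := by
        intro w'
        induction w' using TensorProduct.induction_on with
        | zero => simp
        | add x y hx hy => rw [map_add, map_add, hx, hy, map_add, mul_add]
        | tmul r a =>
          rw [LinearMap.lTensor_tmul,
            show e (r ⊗ₜ[R] a) = amb ℬ ρ' r * φ a from Algebra.IsPushout.equiv_tmul R R' A B r a,
            show e (r ⊗ₜ[R] (LinearMap.mulLeft R (t ^ N) a)) = amb ℬ ρ' r * φ (t ^ N * a) from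
              Algebra.IsPushout.equiv_tmul R R' A B r _, map_mul, map_pow]
          ring
      have hzero : D.lTensor R' v = 0 := by
        apply e.injective
        rw [he, show e v = φ t ^ N * e w from hev w, map_zero, DirectSum.coe_decompose_mul_of_left_mem_of_le ℬ
          (SetLike.pow_mem_graded N (show φ t ∈ ℬ d from φ.map_mem ht))
          (show N • d ≤ (N + k) • d by rw [add_smul]; exact Nat.le_add_right _ _),
          show (N + k) • d - N • d = k • d by rw [add_smul, Nat.add_sub_cancel_left], hN']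
      rw [← hv]
      calc L (N + k) v = L (N + k) (D.lTensor R' v) := by
            show _ = (awayComp 𝒜 ρ rfl ht rfl (N + k)).lTensor R' (D.lTensor R' v)
            exact (congrArg (fun ψ : A →ₗ[R] Away 𝒜 t => ψ.lTensor R' v) (LinearMap.ext fun a =>
              (awayComp_decompose 𝒜 ρ rfl ht rfl (N + k) a).symm :
                awayComp 𝒜 ρ rfl ht rfl (N + k) = (awayComp 𝒜 ρ rfl ht rfl (N + k)).comp D)).trans
              (LinearMap.lTensor_comp_apply R' _ _ v)
        _ = 0 := by rw [hzero, map_zero]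
    · obtain ⟨k, b, hb, rfl⟩ := Away.mk_surjective ℬ (φ.map_mem ht) z
      refine ⟨L k (e.symm b), ?_⟩
      apply HomogeneousLocalization.val_injective
      rw [hθ, AlgEquiv.apply_symm_apply, DirectSum.decompose_of_mem_same ℬ hb, Away.val_mk]
      rfl
  exact IsBaseChange.of_equiv (AlgEquiv.ofBijective θ hbij).toLinearEquiv fun x => by
    show θ (1 ⊗ₜ[R] x) = _
    rw [Algebra.TensorProduct.lift_tmul, map_one, one_mul]
    rfl

/-- `Proj` commutes with base change -/
theorem isPullback_proj_baseChange (hφ : HomogeneousIdeal.irrelevant ℬ ≤ (HomogeneousIdeal.irrelevant 𝒜).map φ)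
    (hcomm : ∀ r, φ (amb 𝒜 ρ r) = amb ℬ ρ' (g r))
    (hpo : IsPushout (CommRingCat.ofHom g) (CommRingCat.ofHom (amb 𝒜 ρ)) (CommRingCat.ofHom (amb ℬ ρ'))
      (CommRingCat.ofHom (φ : A →+* B))) :
    IsPullback (Proj.map φ hφ) (Proj.toSpecZero ℬ ≫ Spec.map (CommRingCat.ofHom ρ'))
      (Proj.toSpecZero 𝒜 ≫ Spec.map (CommRingCat.ofHom ρ)) (Spec.map (CommRingCat.ofHom g)) := by
  let 𝒰 := (Proj.affineOpenCover 𝒜).openCover
  refine Scheme.isPullback_of_openCover _ _ _ _ 𝒰 fun ⟨⟨d, hd⟩, t, ht⟩ => ?_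
  let a := Proj.awayι ℬ (φ t) (φ.map_mem ht) hd
  let b := Proj.awayι 𝒜 t ht hd
  have hsq : a ≫ Proj.map φ hφ = Spec.map (CommRingCat.ofHom (Away.map φ t)) ≫ b :=
    Proj.awayι_comp_map φ hφ hd t ht
  have h1 : IsPullback (Spec.map (CommRingCat.ofHom (Away.map φ t))) a b (Proj.map φ hφ) :=
    IsOpenImmersion.isPullback _ _ _ _ hsq (by
      rw [Proj.opensRange_awayι, Proj.opensRange_awayι, Proj.map_preimage_basicOpen])
  have h2 := isPullback_SpecMap_of_isPushout _ _ _ _ (isPushout_away 𝒜 ℬ φ ρ ρ' g hcomm hpo hd ht)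
  have hb : b ≫ Proj.toSpecZero 𝒜 ≫ Spec.map (CommRingCat.ofHom ρ) =
      Spec.map (CommRingCat.ofHom (awayStr 𝒜 ρ t)) := by
    rw [Proj.awayι_toSpecZero_assoc, ← Spec.map_comp]; rfl
  have ha : a ≫ Proj.toSpecZero ℬ ≫ Spec.map (CommRingCat.ofHom ρ') =
      Spec.map (CommRingCat.ofHom (awayStr ℬ ρ' (φ t))) := by
    rw [Proj.awayι_toSpecZero_assoc, ← Spec.map_comp]; rfl
  rw [← ha, ← hb] at h2
  let i := h1.isoPullback
  refine h2.flip.of_iso (i ≪≫ pullbackSymmetry _ _) (Iso.refl _) (Iso.refl _) (Iso.refl _) ?_ ?_ ?_ ?_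
  · show _ ≫ 𝟙 _ = (i.hom ≫ (pullbackSymmetry b (Proj.map φ hφ)).hom) ≫ pullback.snd (Proj.map φ hφ) b
    rw [Category.comp_id, Category.assoc, pullbackSymmetry_hom_comp_snd]
    exact h1.isoPullback_hom_fst.symm
  · show _ ≫ 𝟙 _ = (i.hom ≫ (pullbackSymmetry b (Proj.map φ hφ)).hom) ≫ pullback.fst (Proj.map φ hφ) b ≫ _
    rw [Category.comp_id, Category.assoc, pullbackSymmetry_hom_comp_fst_assoc]
    exact (h1.isoPullback_hom_snd_assoc _).symm
  · show _ ≫ 𝟙 _ = 𝟙 _ ≫ _
    rw [Category.comp_id, Category.id_comp]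
    rfl
  · simp

end MiscFlat6

end
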