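import Groth.Agent.MiscFlat6.InfNbhd

/-!
# Flatness and smoothness at points over a closed subscheme from the infinitesimal neighbourhoods
-/

set_option autoImplicit false
universe u

open CategoryTheory CategoryTheory.Limits AlgebraicGeometry TensorProduct

namespace MiscFlat6

/-- An affine chart at a point over a closed subscheme. -/
theorem exists_chart {X S : Scheme.{u}} (f : X ⟶ S) (I : S.IdealSheafData) (x : X) (hx : f x ∈ I.support) :
    ∃ (U : S.Opens) (hU : IsAffineOpen U) (V : X.Opens) (hV : IsAffineOpen V) (e : V ≤ f ⁻¹ᵁ U) (hxV : x ∈ V),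
      (I.ideal ⟨U, hU⟩).map (f.appLE U V e).hom ≤ (hV.primeIdealOf ⟨x, hxV⟩).asIdeal := by
  obtain ⟨_, ⟨U, hU, rfl⟩, hxU, -⟩ := S.isBasis_affineOpens.exists_subset_of_mem_open (Set.mem_univ (f x)) isOpen_univ
  have hU : IsAffineOpen U := hU
  obtain ⟨_, ⟨V, hV, rfl⟩, hxV, e⟩ :=
    X.isBasis_affineOpens.exists_subset_of_mem_open (show x ∈ f ⁻¹ᵁ U from hxU) (f ⁻¹ᵁ U).2
  have hV : IsAffineOpen V := hV
  refine ⟨U, hU, V, hV, e, hxV, Ideal.map_le_iff_le_comap.mpr fun a ha => ?_⟩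
  have hcomap := IsAffineOpen.comap_primeIdealOf_appLE U hU V hV e hxV
  show a ∈ (PrimeSpectrum.comap (f.appLE U V e).hom (hV.primeIdealOf ⟨x, hxV⟩)).asIdeal
  erw [hcomap]
  by_contra hap
  have hz : f x ∈ S.zeroLocus (U := U) (I.ideal ⟨U, hU⟩ : Set Γ(S, U)) :=
    (I.mem_supportSet_iff_of_mem (U := ⟨U, hU⟩) hxU).mp hx
  rw [Scheme.mem_zeroLocus_iff] at hz
  refine hz a ha ?_
  have h1 : hU.primeIdealOf ⟨f x, hxU⟩ ∈ hU.fromSpec ⁻¹ᵁ S.basicOpen a := by
    rw [hU.fromSpec_preimage_basicOpen]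
    exact hap
  have e1 : hU.fromSpec.base (hU.primeIdealOf ⟨f x, hxU⟩) = f x := hU.fromSpec_primeIdealOf ⟨f x, hxU⟩
  exact e1 ▸ (h1 : hU.fromSpec.base (hU.primeIdealOf ⟨f x, hxU⟩) ∈ S.basicOpen a)

/-- Flatness in a chart. -/
theorem flat_chart {X S : Scheme.{u}} (f : X ⟶ S) [IsLocallyNoetherian X] [IsLocallyNoetherian S]
    (I : S.IdealSheafData) (h : ∀ n : ℕ, Flat (pullback.snd f (I ^ (n + 1)).subschemeι))
    {U : S.Opens} (hU : IsAffineOpen U) {V : X.Opens} (hV : IsAffineOpen V) (e : V ≤ f ⁻¹ᵁ U) (q : Ideal Γ(X, V))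
    [q.IsPrime] (hq : (I.ideal ⟨U, hU⟩).map (f.appLE U V e).hom ≤ q) :
    letI := (f.appLE U V e).hom.toAlgebra
    Module.Flat Γ(S, U) (Localization.AtPrime q) := by
  letI := (f.appLE U V e).hom.toAlgebra
  have : IsNoetherianRing Γ(S, U) := IsLocallyNoetherian.component_noetherian ⟨U, hU⟩
  have : IsNoetherianRing Γ(X, V) := IsLocallyNoetherian.component_noetherian ⟨V, hV⟩
  refine flat_localization_of_quotient_pow (I.ideal ⟨U, hU⟩) q hq fun m => ?_
  cases m with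
  | zero =>
    haveI : Subsingleton (Γ(S, U) ⧸ I.ideal ⟨U, hU⟩ ^ 0) := Ideal.Quotient.subsingleton_iff.mpr (by simp)
    haveI := Module.subsingleton (Γ(S, U) ⧸ I.ideal ⟨U, hU⟩ ^ 0)
      ((Γ(S, U) ⧸ I.ideal ⟨U, hU⟩ ^ 0) ⊗[Γ(S, U)] Γ(X, V))
    infer_instance
  | succ n =>
    have h1 := ringHom_of_subscheme @Flat (fun j _ => inferInstance) f (I ^ (n + 1)) (h n) hU hV e
      (I.ideal ⟨U, hU⟩ ^ (n + 1)) rfl
    exact RingHom.flat_algebraMap_iff.mp (Flat.SpecMap_iff.mp h1)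

/-- Smoothness in a chart. -/
theorem smooth_chart {X S : Scheme.{u}} (f : X ⟶ S) [IsLocallyNoetherian X] [IsLocallyNoetherian S]
    [LocallyOfFinitePresentation f]
    (I : S.IdealSheafData) (h : ∀ n : ℕ, Smooth (pullback.snd f (I ^ (n + 1)).subschemeι))
    {U : S.Opens} (hU : IsAffineOpen U) {V : X.Opens} (hV : IsAffineOpen V) (e : V ≤ f ⁻¹ᵁ U)
    (q : PrimeSpectrum Γ(X, V)) (hq : (I.ideal ⟨U, hU⟩).map (f.appLE U V e).hom ≤ q.asIdeal) :
    letI := (f.appLE U V e).hom.toAlgebra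
    q ∈ Algebra.smoothLocus Γ(S, U) Γ(X, V) := by
  letI := (f.appLE U V e).hom.toAlgebra
  haveI : Algebra.FinitePresentation Γ(S, U) Γ(X, V) := f.finitePresentation_appLE hU hV e
  refine (DepthLib.mem_smoothLocus_iff_flat_fibSmooth _ _ q).mpr ⟨(FlatLib.mem_flatLocus_self_iff q).mpr
    (flat_chart f I (fun n => have := h n; inferInstance) hU hV e q.asIdeal hq), fun c _ => ?_⟩
  have h1 := ringHom_of_subscheme @Smooth (fun j _ => inferInstance) f (I ^ (0 + 1)) (h 0) hU hV e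
    (I.ideal ⟨U, hU⟩) (by
      show (I ^ (0 + 1)).ideal ⟨U, hU⟩ = _
      rw [Scheme.IdealSheafData.ideal_pow, zero_add, pow_one])
  have h2 := RingHom.smooth_algebraMap.mp ((HasRingHomProperty.Spec_iff (P := @Smooth)).mp h1)
  haveI := smooth_fiber_of_quotient (B := Γ(X, V)) (I.ideal ⟨U, hU⟩) (q.asIdeal.comap (algebraMap Γ(S, U) Γ(X, V)))
    (Ideal.map_le_iff_le_comap.mp hq) h2
  rw [Algebra.smoothLocus_eq_univ]
  trivial

end MiscFlat6
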