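import Groth.Prelude
import Groth.Agent.QCohLib.Extend
import Groth.Agent.QCohLib.QCoh
import Groth.Agent.QCohLib.Gen
import Groth.Agent.SweepSix.ConormalSpec

universe u
open CategoryTheory CategoryTheory.Limits AlgebraicGeometry TopologicalSpace Opposite

namespace MiscFlat6

open QCohLib

theorem exists_ft_sub_ideal (X : Scheme.{u}) [CompactSpace X] [QuasiSeparatedSpace X] {U : X.Opens}
    {x : X} (hx : x ∈ U) :
    ∃ (J : X.Modules) (ι : J ⟶ Coh.structureModule X), Mono ι ∧ Coh.IsQCoh J ∧ CohB1.IsFT J ∧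
      (∀ a : Γ(J, ⊤), ∀ y, y ∈ X.basicOpen (OmegaSh.fnSect X ⊤ (ι.app ⊤ a)) → y ∈ U) ∧
      (∃ (V : X.Opens) (hV : x ∈ V) (t : Γ(J, V)),
        (X.fromSpecResidueField x).app V (OmegaSh.fnSect X V (ι.app V t)) ≠ 0) := by
  let I := Scheme.IdealSheafData.vanishingIdeal ⟨(U : Set X)ᶜ, U.2.isClosed_compl⟩
  have hsupp : (I.support : Set X) = (U : Set X)ᶜ := by simp [I]
  obtain ⟨V, hV, hxV, -⟩ := exists_isAffineOpen_mem_and_subset (TopologicalSpace.Opens.mem_top x)
  -- a function on `V` in the ideal, not vanishing at `x`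
  obtain ⟨f, hfI, hfx⟩ : ∃ f ∈ I.ideal ⟨V, hV⟩, x ∈ X.basicOpen f := by
    have h1 : x ∉ I.support := fun h => (show x ∈ (U : Set X)ᶜ from hsupp ▸ h) hx
    rw [Scheme.IdealSheafData.mem_support_iff_of_mem (U := ⟨V, hV⟩) hxV,
      Scheme.mem_zeroLocus_iff] at h1
    push Not at h1
    exact h1
  have hF := SweepSix.ConormalSpec.isQCoh_idealMod I
  have h0 : (ClSub.toSubscheme I).app V (OmegaSh.strSect X V f) = 0 := by
    rw [OmegaSh.toSubscheme_app_strSect]
    have h := hfI
    rw [← Scheme.IdealSheafData.ker_subschemeι_app, RingHom.mem_ker] at h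
    exact h
  let f' : Γ(ClSub.idealMod I, V) := OmegaSh.kerLift _ V (OmegaSh.strSect X V f) h0
  obtain ⟨S, hft, hS⟩ := LocSub.exists_ft_through (F := ClSub.idealMod I) V hV f'
  haveI : Mono (ClSub.idealModι I) := inferInstanceAs (Mono (kernel.ι (ClSub.toSubscheme I)))
  haveI : Mono S.ι := inferInstance
  let ι : S.toModules ⟶ Coh.structureModule X := S.ι ≫ ClSub.idealModι I
  refine ⟨S.toModules, ι, mono_comp _ _, LocSub.isQCoh_toModules S hft, LocSub.isFT_toModules S hft, ?_,
    V, hxV, S.lift f' hS, ?_⟩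
  · intro a y hy
    by_contra hyU
    let b : Γ(ClSub.idealMod I, ⊤) := S.ι.app ⊤ a
    let g : Γ(X, ⊤) := OmegaSh.fnSect X ⊤ ((ClSub.idealModι I).app ⊤ b)
    have hg : I.subschemeι.app ⊤ g = 0 :=
      congr($(congrArg (fun t => Scheme.Modules.Hom.app t ⊤)
        (kernel.condition (ClSub.toSubscheme I))) b)
    obtain ⟨z, hz⟩ : y ∈ Set.range I.subschemeι := by
      rw [Scheme.IdealSheafData.range_subschemeι, hsupp]
      exact hyU
    have h2 : z ∈ I.subschemeι ⁻¹ᵁ X.basicOpen g := by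
      show I.subschemeι z ∈ X.basicOpen g
      rw [hz]
      exact hy
    rw [Scheme.preimage_basicOpen, hg, Scheme.basicOpen_zero] at h2
    exact h2
  · have e : OmegaSh.fnSect X V (ι.app V (S.lift f' hS)) = f := by
      show OmegaSh.fnSect X V ((ClSub.idealModι I).app V (S.ι.app V (S.lift f' hS))) = f
      rw [LocSub.ι_lift]
      exact congrArg (OmegaSh.fnSect X V) (OmegaSh.ι_kerLift _ V _ h0)
    rw [e]
    intro h3
    let i := X.fromSpecResidueField x
    have hz : (default : Spec (X.residueField x)) ∈ i ⁻¹ᵁ X.basicOpen f := by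
      show i default ∈ X.basicOpen f
      rw [Scheme.fromSpecResidueField_apply]
      exact hfx
    rw [Scheme.preimage_basicOpen, h3, Scheme.basicOpen_zero] at hz
    exact hz

theorem isQuasiAffine_of_gg (X : Scheme.{u}) [CompactSpace X] [QuasiSeparatedSpace X]
    (h : ∀ (J : X.Modules) (i : J ⟶ Coh.structureModule X), Mono i → Coh.IsQCoh J → CohB1.IsFT J →
      Curv2.IsGloballyGenerated J) : X.IsQuasiAffine := by
  refine Scheme.IsQuasiAffine.of_forall_exists_mem_basicOpen X fun x => ?_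
  obtain ⟨U, hU, hxU, -⟩ := exists_isAffineOpen_mem_and_subset (TopologicalSpace.Opens.mem_top x)
  obtain ⟨J, ι, hι, hJ, hJft, hle, V, hxV, t, ht⟩ := exists_ft_sub_ideal X hxU
  obtain ⟨κ, p, hp⟩ := h J ι hι hJ hJft
  haveI := hp
  by_contra hne
  push Not at hne
  let i := X.fromSpecResidueField x
  let π : Coh.structureModule X ⟶ (Scheme.Modules.pushforward i).obj (Coh.structureModule _) :=
    ClSub.unitToPush i
  have hzero : ∀ a : Γ(J, ⊤), (ι ≫ π).app ⊤ a = 0 := by
    intro a
    let g : Γ(X, ⊤) := OmegaSh.fnSect X ⊤ (ι.app ⊤ a)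
    have hgx : x ∉ X.basicOpen g := by
      intro hxg
      refine hne g ?_ hxg
      have hgU : X.basicOpen g ≤ U := fun y hy => hle a y hy
      have : X.basicOpen (X.presheaf.map (homOfLE (le_top : U ≤ ⊤)).op g) = X.basicOpen g := by
        rw [Scheme.basicOpen_res, inf_eq_right.mpr hgU]
      exact this ▸ hU.basicOpen _
    show i.app ⊤ g = 0
    by_contra h0
    apply hgx
    have hz : (default : Spec (X.residueField x)) ∈ i ⁻¹ᵁ X.basicOpen g := by
      rw [Scheme.preimage_basicOpen]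
      have hF : IsField Γ(Spec (X.residueField x), ⊤) :=
        MulEquiv.isField (Field.toIsField (X.residueField x))
          (Scheme.ΓSpecIso (X.residueField x)).commRingCatIsoToRingEquiv.toMulEquiv
      obtain ⟨v, hv⟩ := hF.mul_inv_cancel (a := i.app ⊤ g) h0
      have hu : IsUnit (i.app ⊤ g : Γ(Spec (X.residueField x), ⊤)) := IsUnit.of_mul_eq_one v hv
      rw [Scheme.basicOpen_of_isUnit _ hu]
      trivial
    rw [← Scheme.fromSpecResidueField_apply (X := X) x default]
    exact hz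
  have hcomp : p ≫ (ι ≫ π) = 0 := by
    refine Cofan.IsColimit.hom_ext (SheafOfModules.isColimitFreeCofan κ) _ _ fun j => ?_
    apply Scheme.Modules.hom_ext
    intro W
    refine ConcreteCategory.hom_ext _ _ fun r => ?_
    let m : Coh.structureModule X ⟶ J := SheafOfModules.ιFree j ≫ p
    change (ι ≫ π).app W (m.app W r) = 0
    have hr : m.app W r = (show Γ(X, W) from r) •
        J.presheaf.map (homOfLE (le_top : W ≤ ⊤)).op (m.app ⊤ (OmegaSh.strSect X ⊤ 1)) := by
      rw [← app_map, ← app_smul, ← OmegaSh.strSect_map, ← OmegaSh.strSect_mul, map_one, mul_one]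
      rfl
    rw [hr, app_smul, app_map, hzero, map_zero, smul_zero]
  have h2 : ι ≫ π = 0 := (cancel_epi p).mp (hcomp.trans comp_zero.symm)
  exact ht (congr($(congrArg (fun s => Scheme.Modules.Hom.app s V) h2) t))

end MiscFlat6
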