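import Groth.Agent.MiscFlat6.TensorExtend
import Groth.Agent.MiscFlat6.CounitTensor
import Groth.Agent.MiscFlat6.GGQuasiAffine

/-!
# Ampleness from generation of twisted ideals
-/

set_option autoImplicit false
universe u
open CategoryTheory CategoryTheory.Limits AlgebraicGeometry TopologicalSpace Opposite
open AmpleLib AmpleThLib
open TwistLib (genSet)

noncomputable section

namespace MiscFlat6

variable {X : Scheme.{u}}

theorem app_resI {A B : X.Modules} (φ : A ⟶ B) {V W : X.Opens} (h : V ≤ W) (s : Γ(A, W)) :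
    res B h (φ.app W s) = φ.app V (res A h s) := (QCohLib.app_map φ (homOfLE h) s).symm

/-- if maps killing all sections over the opens of `𝒲` vanish, some such section maps to a generator at `x` -/
theorem exists_genAt_map {F M : X.Modules} (ψ : F ⟶ M) (𝒲 : Set X.Opens)
    (hcancel : ∀ (N : X.Modules) (q : F ⟶ N), (∀ W ∈ 𝒲, ∀ s : Γ(F, W), q.app W s = 0) → q = 0)
    {x : X} {U : X.Opens} (hxU : x ∈ U) (u₀ : Γ(F, U)) (h₀ : GenAt M (ψ.app U u₀) hxU) :
    ∃ (W : X.Opens) (_ : W ∈ 𝒲) (hx : x ∈ W) (s : Γ(F, W)), GenAt M (ψ.app W s) hx := by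
  by_contra hne
  push Not at hne
  let R := X.presheaf.stalk x
  let Mx := (DerSch.stalkFunctor X x).obj M
  let I : Submodule R Mx := (IsLocalRing.maximalIdeal R) • (⊤ : Submodule R Mx)
  let a : Mx ⟶ ModuleCat.of R (Mx ⧸ I) := ModuleCat.ofHom I.mkQ
  let g : Mx := M.presheaf.germ U x hxU (ψ.app U u₀)
  have hq : ψ ≫ KFlatLib.skyLift x a = 0 := by
    refine hcancel _ _ fun W hW s => ?_
    show (KFlatLib.skyLift x a).app W (ψ.app W s) = 0
    refine KFlatLib.skyObj_ext x _ _ _ fun hx => ?_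
    refine (KFlatLib.skyLift_app x a hx (ψ.app W s)).trans ?_ |>.trans (map_zero (KFlatLib.skyVal x hx)).symm
    obtain ⟨c, hc⟩ := h₀.2 (M.presheaf.germ W x hx (ψ.app W s))
    dsimp only at hc
    refine (Submodule.Quotient.mk_eq_zero I).mpr ?_
    change (M.presheaf.germ W x hx (ψ.app W s) : Mx) ∈ I
    have hcm : c ∈ IsLocalRing.maximalIdeal R := by
      rw [IsLocalRing.mem_maximalIdeal]
      intro hu
      apply hne W hW hx s
      unfold GenAt
      rw [← hc]
      simp only [smul_smul]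
      exact h₀.comp hu.unit.mulRight_bijective
    have h3 : c • g ∈ I := Submodule.smul_mem_smul hcm trivial
    exact (congrArg (fun m : Mx => m ∈ I) (show c • g = _ from hc)).mp h3
  have h2 : g ∈ I := by
    refine (Submodule.Quotient.mk_eq_zero I).mp ?_
    have h4 : (KFlatLib.skyLift x a).app U (ψ.app U u₀) = 0 :=
      congrArg (fun φ : F ⟶ _ => φ.app U u₀) hq
    have := KFlatLib.skyLift_app x a hxU (ψ.app U u₀)
    rw [h4] at this
    exact this.symm.trans (map_zero _)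
  have htop : (⊤ : Submodule R Mx) = Submodule.span R {g} := by
    refine (eq_top_iff.mpr fun m _ => ?_).symm
    obtain ⟨c, hc⟩ := h₀.2 m
    exact Submodule.mem_span_singleton.mpr ⟨c, hc⟩
  rw [show I = IsLocalRing.maximalIdeal R • Submodule.span R {g}
    from congrArg (IsLocalRing.maximalIdeal R • ·) htop, Submodule.mem_smul_span_singleton] at h2
  obtain ⟨c, hcm, hc⟩ := h2
  have h1 : c = 1 := h₀.1 (hc.trans (one_smul R _).symm)
  exact (IsLocalRing.maximalIdeal.isMaximal R).ne_top ((Ideal.eq_top_iff_one _).mpr (h1 ▸ hcm))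

theorem exists_genAt_map_of_counit_epi {Y : Scheme.{u}} (f : X ⟶ Y) [QuasiCompact f] [QuasiSeparated f]
    {F M : X.Modules} [Coh.IsQCoh F] (ψ : F ⟶ M)
    (hepi : Epi ((Scheme.Modules.pullbackPushforwardAdjunction f).counit.app F))
    {V : Y.Opens} (hV : IsAffineOpen V) {x : X} (hxV : x ∈ f ⁻¹ᵁ V)
    {U : X.Opens} (hxU : x ∈ U) (u₀ : Γ(F, U)) (h₀ : GenAt M (ψ.app U u₀) hxU) :
    ∃ s : Γ(F, f ⁻¹ᵁ V), GenAt M (ψ.app _ s) hxV := by
  obtain ⟨_, ⟨W, rfl⟩, hxW, s, hs⟩ := exists_genAt_map ψ (Set.range fun W : Y.Opens => f ⁻¹ᵁ W)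
    (fun N q hq => by
      have hpush : (Scheme.Modules.pushforward f).map q = 0 := by
        apply Scheme.Modules.hom_ext
        intro W
        exact ConcreteCategory.hom_ext _ _ fun s => hq _ ⟨W, rfl⟩ s
      refine hepi.left_cancellation q 0 ?_
      exact ((Scheme.Modules.pullbackPushforwardAdjunction f).counit_naturality q).symm.trans
        (by rw [hpush, Functor.map_zero, zero_comp, comp_zero]))
    hxU u₀ h₀
  obtain ⟨a, haW, hxa⟩ := hV.exists_basicOpen_le (V := W) ⟨f x, hxW⟩ hxV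
  have hqs : IsQuasiSeparated ((f ⁻¹ᵁ V : X.Opens) : Set X) := by
    haveI : IsAffine (V : Scheme.{u}) := hV
    haveI : QuasiSeparated (f ∣_ V) := IsZariskiLocalAtTarget.restrict ‹QuasiSeparated f› V
    exact (isQuasiSeparated_iff_quasiSeparatedSpace _ (f ⁻¹ᵁ V).2).mpr
      (quasiSeparatedSpace_of_quasiSeparated (f ∣_ V))
  let α : Γ(X, f ⁻¹ᵁ V) := f.app V a
  have hα : X.basicOpen α = f ⁻¹ᵁ Y.basicOpen a := (Scheme.preimage_basicOpen f a).symm
  have hxα : x ∈ X.basicOpen α := hα.ge hxa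
  have hle : X.basicOpen α ≤ f ⁻¹ᵁ W := hα.le.trans (f.preimage_mono haW)
  obtain ⟨n, j, hj⟩ := (QCohLib.localizingAt_of_qcqs F (f.isCompact_preimage hV.isCompact) hqs α).exists_extend
    (res F hle s)
  refine ⟨j, (genAt_res (X.basicOpen_le α) (ψ.app _ j) hxα).mp ?_⟩
  rw [app_resI ψ (X.basicOpen_le α) j, show res F (X.basicOpen_le α) j = _ from hj, QCohLib.app_smul, ← app_resI,
    genAt_smul_iff _ _ hxα ((genAt_res hle (ψ.app _ s) hxα).mpr hs)]
  exact (Scheme.basicOpen_of_isUnit _ ((RingedSpace.isUnit_res_basicOpen _ α).pow n)).ge hxα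

/-- multiplication `J ⊗ M ⟶ M` by an ideal -/
theorem exists_idealMul {J : X.Modules} (ι : J ⟶ Coh.structureModule X) (M : X.Modules) :
    ∃ ψ : CohB1.tensorMod J M ⟶ M, ∀ (V : X.Opens) (a : Γ(J, V)) (m : Γ(M, V)),
      ψ.app V (shT a m) = OmegaSh.fnSect X V (ι.app V a) • m := by
  refine GrTildeLib.exists_tens_hom (fun V a m => OmegaSh.fnSect X V (ι.app V a) • m)
    (fun V a a' m => by rw [map_add, map_add, add_smul]) (fun V a m m' => smul_add _ m m')
    (fun V r a m => ?_) (fun V r a m => smul_comm _ r m) (fun V W h a m => ?_)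
  · rw [QCohLib.app_smul,
      show OmegaSh.fnSect X V (r • ι.app V a) = r * OmegaSh.fnSect X V (ι.app V a) from rfl, mul_smul]
  · rw [res_smul]
    refine congrArg (· • res M h m) ?_
    exact congrArg (OmegaSh.fnSect X V) (app_resI ι h a)

/-- affine loci from generation of `J ⊗ M` over `W` -/
theorem exists_affine_locus {J M : X.Modules} [Coh.IsQCoh J] (hM : PicF.IsInvertible M)
    (ι : J ⟶ Coh.structureModule X) (ψ : CohB1.tensorMod J M ⟶ M)
    (hψ : ∀ (V : X.Opens) (a : Γ(J, V)) (m : Γ(M, V)),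
      ψ.app V (shT a m) = OmegaSh.fnSect X V (ι.app V a) • m)
    {W U : X.Opens} (hU : IsAffineOpen U) (hUW : U ≤ W) {e : Γ(M, U)} (he : GenOn M e)
    (hout : ∀ (O : X.Opens) (a : Γ(J, O)) (y : X), y ∈ X.basicOpen (OmegaSh.fnSect X O (ι.app O a)) → y ∈ U)
    {x : X} (hxW : x ∈ W) (u : Γ(CohB1.tensorMod J M, W)) (hu : GenAt M (ψ.app W u) hxW) :
    ∃ T : X.Opens, x ∈ T ∧ T ≤ W ∧ IsAffineOpen T ∧
      ∀ (y : X) (hy : y ∈ W), y ∈ T ↔ GenAt M (ψ.app W u) hy := by
  let σ := ψ.app W u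
  obtain ⟨c, hc⟩ := (he U le_rfl).2 (res M hUW σ)
  dsimp only at hc
  rw [res_refl] at hc
  have hiff : ∀ (y : X) (hyU : y ∈ U), GenAt M σ (hUW hyU) ↔ y ∈ X.basicOpen c := fun y hyU => by
    rw [← genAt_res hUW σ hyU, ← hc, genAt_smul_iff _ _ hyU (he.genAt hyU)]
  have hin : ∀ (y : X) (hy : y ∈ W), GenAt M σ hy → y ∈ U := by
    intro y hy hgy
    obtain ⟨O, g, hyO, hg⟩ := TwistLib.exists_genOn hM y
    let O' := W ⊓ O
    have hg' := hg.res (inf_le_right : O' ≤ O)
    obtain ⟨a, ha⟩ := shT_right_surjective J hg' (res _ (inf_le_left : O' ≤ W) u)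
    have h1 := (genAt_res (inf_le_left : O' ≤ W) σ (x := y) (show y ∈ O' from ⟨hy, hyO⟩)).mpr hgy
    rw [show res M (inf_le_left : O' ≤ W) σ = ψ.app O' (res _ (inf_le_left : O' ≤ W) u) from app_resI ψ _ u,
      ← ha, hψ, genAt_smul_iff _ _ (show y ∈ O' from ⟨hy, hyO⟩) (hg'.genAt _)] at h1
    exact hout _ a y h1
  have hxU : x ∈ U := hin x hxW hu
  refine ⟨X.basicOpen c, (hiff x hxU).mp hu, (X.basicOpen_le c).trans hUW, hU.basicOpen c,
    fun y hy => ⟨fun h => (hiff y (X.basicOpen_le c h)).mpr h, fun h => (hiff y (hin y hy h)).mp h⟩⟩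

/-- the ideal sheaf of a quasi-coherent submodule of `O` -/
def idealOfSub {J : X.Modules} [Coh.IsQCoh J] (ι : J ⟶ Coh.structureModule X) : X.IdealSheafData where
  ideal U :=
    { carrier := Set.range fun a : Γ(J, U.1) => OmegaSh.fnSect X U.1 (ι.app U.1 a)
      add_mem' := by
        rintro _ _ ⟨a, rfl⟩ ⟨b, rfl⟩
        exact ⟨a + b, by simp only [map_add]⟩
      zero_mem' := ⟨0, by simp only [map_zero]⟩
      smul_mem' := by
        rintro r _ ⟨a, rfl⟩
        exact ⟨r • a, by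
          show OmegaSh.fnSect X U.1 (ι.app U.1 (r • a)) = _
          rw [QCohLib.app_smul]
          rfl⟩ }
  map_ideal_basicOpen U f := by
    let ρ := X.presheaf.map (homOfLE (X.basicOpen_le f)).op
    have hnat : ∀ a : Γ(J, U.1),
        ρ (OmegaSh.fnSect X U.1 (ι.app U.1 a)) =
          OmegaSh.fnSect X _ (ι.app _ (res J (X.basicOpen_le f) a)) := fun a =>
      congrArg (OmegaSh.fnSect X _) (QCohLib.app_map ι (homOfLE (X.basicOpen_le f)) a).symm
    refine le_antisymm (Ideal.map_le_iff_le_comap.mpr ?_) ?_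
    · rintro _ ⟨a, rfl⟩
      exact ⟨res J (X.basicOpen_le f) a, (hnat a).symm⟩
    · rintro _ ⟨b, rfl⟩
      obtain ⟨k, t, ht⟩ := (QCohLib.localizingAt_of_isQCoh U.2 J f).exists_extend b
      have hu : IsUnit (ρ f) := RingedSpace.isUnit_res_basicOpen _ f
      let βb : Γ(X, X.basicOpen f) := OmegaSh.fnSect X _ (ι.app _ b)
      show βb ∈ _
      refine (Ideal.unit_mul_mem_iff_mem _ (hu.pow k)).mp ?_
      have h2 : ρ f ^ k * βb = ρ (OmegaSh.fnSect X U.1 (ι.app U.1 t)) := by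
        rw [hnat, show res J (X.basicOpen_le f) t = _ from ht, QCohLib.app_smul]
        rfl
      rw [h2]
      exact Ideal.mem_map_of_mem _ ⟨t, rfl⟩

theorem isFiniteTypeIdeal_idealOfSub {J : X.Modules} [Coh.IsQCoh J] (hJ : CohB1.IsFT J)
    (ι : J ⟶ Coh.structureModule X) : BlowUp.IsFiniteTypeIdeal (idealOfSub ι) := by
  intro U
  classical
  obtain ⟨T, hT⟩ := (QCohLib.finite_of_isFT hJ U.2).fg_top
  refine ⟨T.image fun a => OmegaSh.fnSect X U.1 (ι.app U.1 a), le_antisymm ?_ ?_⟩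
  · refine Ideal.span_le.mpr fun r hr => ?_
    obtain ⟨a, -, rfl⟩ := Finset.mem_image.mp hr
    exact ⟨a, rfl⟩
  · rintro _ ⟨a, rfl⟩
    have ha : a ∈ Submodule.span Γ(X, U.1) (T : Set Γ(J, U.1)) := by rw [hT]; trivial
    induction ha using Submodule.span_induction with
    | mem b hb => exact Ideal.subset_span (Finset.mem_image_of_mem _ hb)
    | zero => dsimp only; rw [map_zero, map_zero]; exact zero_mem _
    | add b c _ _ h1 h2 => dsimp only; rw [map_add, map_add]; exact add_mem h1 h2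
    | smul r b _ h1 =>
      dsimp only
      rw [QCohLib.app_smul]
      exact Ideal.mul_mem_left _ r h1

end MiscFlat6
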