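import Groth.Agent.MiscFlat6.SubalgModel
import Mathlib.AlgebraicGeometry.ZariskisMainTheorem
import Mathlib.AlgebraicGeometry.Morphisms.SchemeTheoreticallyDominant

/-!
# Factorization through a finite scheme
-/

set_option autoImplicit false
universe u

open CategoryTheory CategoryTheory.Limits TopologicalSpace Opposite AlgebraicGeometry

namespace MiscFlat6

/-- A morphism is closed-immersive over an affine open if the preimage is affine and sections surject. -/
theorem isClosedImmersion_restrict {X Y : Scheme.{u}} (φ : X ⟶ Y) {V : Y.Opens} (hV : IsAffineOpen V)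
    (hW : IsAffineOpen (φ ⁻¹ᵁ V)) (hs : Function.Surjective (φ.app V)) : IsClosedImmersion (φ ∣_ V) := by
  haveI : IsAffine (V : Scheme.{u}) := hV
  haveI : IsAffine (φ ⁻¹ᵁ V : Scheme.{u}) := hW
  refine IsClosedImmersion.of_surjective_of_isAffine _ ?_
  rw [morphismRestrict_appTop]
  have hgen : ∀ V', V' = V → Function.Surjective (φ.app V') := fun V' e => e ▸ hs
  intro y
  obtain ⟨z, hz⟩ := (ConcreteCategory.bijective_of_isIso
    (X.presheaf.map (eqToHom (image_morphismRestrict_preimage φ V ⊤)).op)).2 y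
  obtain ⟨s, hs'⟩ := hgen _ V.ι_image_top z
  exact ⟨s, (congrArg _ hs').trans hz⟩

/-- Over an affine open where it is a closed immersion with injective sections, it is an isomorphism. -/
theorem isIso_restrict_of_injective {X Y : Scheme.{u}} (φ : X ⟶ Y) {V : Y.Opens} (hV : IsAffineOpen V)
    [IsClosedImmersion (φ ∣_ V)] (hi : Function.Injective (φ.app V)) : IsIso (φ ∣_ V) := by
  haveI : IsAffine (V : Scheme.{u}) := hV
  refine IsClosedImmersion.isIso_of_injective_of_isAffine ?_
  rw [morphismRestrict_appTop]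
  have hgen : ∀ V', V' = V → Function.Injective (φ.app V') := fun V' e => e ▸ hi
  intro y y' e
  exact hgen _ V.ι_image_top ((ConcreteCategory.bijective_of_isIso
    (X.presheaf.map (eqToHom (image_morphismRestrict_preimage φ V ⊤)).op)).1 e)

/-- A property local at the target holding over opens holds over their union. -/
theorem restrict_iSup {P : MorphismProperty Scheme.{u}} [IsZariskiLocalAtTarget P] {X Y : Scheme.{u}}
    (φ : X ⟶ Y) {ι : Type*} (O : ι → Y.Opens) (h : ∀ i, P (φ ∣_ O i)) : P (φ ∣_ ⨆ i, O i) := by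
  let V : Y.Opens := ⨆ i, O i
  have hV : ⨆ i, V.ι ⁻¹ᵁ O i = ⊤ := by
    rw [← Scheme.Hom.preimage_iSup]
    ext x; simp [V]
  refine IsZariskiLocalAtTarget.of_iSup_eq_top (P := P) _ hV fun i => ?_
  rw [MorphismProperty.arrow_mk_iso_iff P (morphismRestrictRestrict φ V _)]
  have e : V.ι ''ᵁ (V.ι ⁻¹ᵁ O i) = O i := by
    rw [Scheme.Hom.image_preimage_eq_opensRange_inf, Scheme.Opens.opensRange_ι]
    exact inf_eq_right.mpr (le_iSup O i)
  rw [e]
  exact h i

/-- Inside the coborder an immersion is affine with surjective sections on affine opens. -/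
theorem immersion_app_surjective {X Y : Scheme.{u}} (g : X ⟶ Y) [IsImmersion g] {D : Y.Opens}
    (hD : IsAffineOpen D) (hle : D ≤ g.coborderRange) :
    IsAffineOpen (g ⁻¹ᵁ D) ∧ Function.Surjective (g.app D) := by
  let D' := g.coborderRange.ι ⁻¹ᵁ D
  have e : g.coborderRange.ι ''ᵁ D' = D := by
    rw [Scheme.Hom.image_preimage_eq_opensRange_inf, Scheme.Opens.opensRange_ι]
    exact inf_eq_right.mpr hle
  have hD' : IsAffineOpen D' := hD.preimage_of_isOpenImmersion _ (by rwa [Scheme.Opens.opensRange_ι])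
  constructor
  · have := hD'.preimage g.liftCoborder
    rwa [Scheme.Hom.liftCoborder_preimage, e] at this
  · have h := g.liftCoborder.app_surjective D' hD'
    rw [liftCoborder_app] at h
    have hb := ConcreteCategory.bijective_of_isIso
      (X.presheaf.map (eqToHom (g.liftCoborder_preimage D')).op)
    have h' : Function.Surjective (g.app (g.coborderRange.ι ''ᵁ D')) := fun y => by
      obtain ⟨s, hs⟩ := h ((X.presheaf.map (eqToHom (g.liftCoborder_preimage D')).op) y)
      exact ⟨s, hb.1 hs⟩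
    rwa [e] at h'

theorem basicOpen_map {X : Scheme.{u}} {U V : X.Opens} (h : V ≤ U) (r : Γ(X, U)) :
    X.basicOpen (X.presheaf.map (homOfLE h).op r) = V ⊓ X.basicOpen r :=
  Scheme.basicOpen_res X r (homOfLE h).op

theorem exists_model {X S : Scheme.{u}} (f : X ⟶ S) [CompactSpace S] [QuasiSeparatedSpace S]
    [IsSeparated f] [LocallyOfFiniteType f] [QuasiCompact f] [IsImmersion f.toNormalization] :
    ∃ (G : GenData f.fromNormalization) (n : ℕ) (D : Fin n → G.model.Opens),
      (⨆ i, (f.toNormalization ≫ G.toModel) ⁻¹ᵁ D i = ⊤) ∧ (∀ i, IsAffineOpen (D i)) ∧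
      ∀ i, IsClosedImmersion ((f.toNormalization ≫ G.toModel) ∣_ D i) := by
  classical
  let h := f.fromNormalization
  let g := f.toNormalization
  haveI : CompactSpace X := QuasiCompact.compactSpace_of_compactSpace f
  have hgh : g ≫ h = f := f.toNormalization_fromNormalization
  -- charts
  have chart : ∀ x : X, ∃ (U : S.affineOpens) (c : Γ(f.normalization, h ⁻¹ᵁ U.1)),
      g x ∈ f.normalization.basicOpen c ∧ f.normalization.basicOpen c ≤ g.coborderRange := by
    intro x
    obtain ⟨U, hU, hxU, -⟩ := exists_isAffineOpen_mem_and_subset (x := f x) (U := ⊤) trivial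
    have hx1 : g x ∈ g.coborderRange := subset_coborder ⟨x, rfl⟩
    have hx2 : g x ∈ h ⁻¹ᵁ U := by
      show h (g x) ∈ U
      rw [← Scheme.Hom.comp_apply, hgh]
      exact hxU
    obtain ⟨c, hc, hxc⟩ := (hU.preimage h).exists_basicOpen_le (V := g.coborderRange) ⟨g x, hx1⟩ hx2
    exact ⟨⟨U, hU⟩, c, hxc, hc⟩
  choose U c hxc hcO using chart
  let W : X → X.Opens := fun x => g ⁻¹ᵁ f.normalization.basicOpen (c x)
  obtain ⟨t, ht⟩ := isCompact_univ.elim_finite_subcover (fun x : X => (W x : Set X))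
    (fun x => (W x).2) (fun x _ => Set.mem_iUnion.mpr ⟨x, hxc x⟩)
  have hWaff : ∀ x, IsAffineOpen (W x) := fun x =>
    (immersion_app_surjective g (((U x).2.preimage h).basicOpen (c x)) (hcO x)).1
  have hWU : ∀ x, W x ≤ f ⁻¹ᵁ (U x).1 := fun x y hy => by
    show f y ∈ (U x).1
    rw [← hgh, Scheme.Hom.comp_apply]
    exact f.normalization.basicOpen_le (c x) hy
  -- finitely many sections generate
  have gens : ∀ x, ∃ T : Finset Γ(f.normalization, h ⁻¹ᵁ (U x).1), c x ∈ T ∧
      ∀ R : Subring Γ(X, W x), Set.range (f.appLE (U x).1 (W x) (hWU x)) ⊆ R →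
        (∀ z ∈ T, g.appLE (h ⁻¹ᵁ (U x).1) (W x) (fun y hy => f.normalization.basicOpen_le (c x) hy) z ∈ R) →
        (∀ v, g.appLE (h ⁻¹ᵁ (U x).1) (W x) (fun y hy => f.normalization.basicOpen_le (c x) hy) (c x) * v = 1 → v ∈ R) → R = ⊤ := by
    intro x
    have hP := (U x).2.preimage h
    obtain ⟨-, hsurj⟩ := immersion_app_surjective g (hP.basicOpen (c x)) (hcO x)
    have hft := f.finiteType_appLE (U x).2 (hWaff x) (hWU x)
    letI := (f.appLE (U x).1 (W x) (hWU x)).hom.toAlgebra
    obtain ⟨Y, hY⟩ := Algebra.FiniteType.out (self := hft)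
    haveI := hP.isLocalization_basicOpen (c x)
    choose y hy using hsurj
    choose n z hz using fun w => IsLocalization.Away.surj (c x) (y w)
    refine ⟨insert (c x) (Y.image z), Finset.mem_insert_self _ _, fun R hR hT hinv => eq_top_iff.mpr fun w _ => ?_⟩
    have hYR : ∀ w ∈ Y, w ∈ R := by
      intro w hw
      have hz' : y w * f.normalization.presheaf.map (homOfLE (f.normalization.basicOpen_le (c x))).op (c x) ^ n w =
          f.normalization.presheaf.map (homOfLE (f.normalization.basicOpen_le (c x))).op (z w) := hz w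
      have h1 := congrArg (g.app (f.normalization.basicOpen (c x))) hz'
      rw [map_mul, map_pow, hy] at h1
      let ψ := g.appLE (h ⁻¹ᵁ (U x).1) (W x) (fun y hy => f.normalization.basicOpen_le (c x) hy)
      have e : ∀ a, g.app (f.normalization.basicOpen (c x))
          (f.normalization.presheaf.map (homOfLE (f.normalization.basicOpen_le (c x))).op a) = ψ a := fun a => by
        show (f.normalization.presheaf.map _ ≫ g.app _) a = ψ a
        rw [Scheme.Hom.app_eq_appLE, Scheme.Hom.map_appLE]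
      rw [e, e] at h1
      have hu : IsUnit (ψ (c x)) := by
        rw [← e]
        exact (RingedSpace.isUnit_res_basicOpen _ (c x)).map (g.app _).hom
      obtain ⟨v, hv⟩ := hu.exists_right_inv
      have hw' : w = ψ (z w) * v ^ n w := by
        rw [← h1, mul_assoc, ← mul_pow, hv, one_pow, mul_one]
      rw [hw']
      exact mul_mem (hT _ (Finset.mem_insert_of_mem (Finset.mem_image_of_mem _ hw)))
        (pow_mem (hinv _ hv) _)
    have hw : w ∈ Algebra.adjoin Γ(S, (U x).1) (Y : Set Γ(X, W x)) := by rw [hY]; trivial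
    induction hw using Algebra.adjoin_induction with
    | mem w hw => exact hYR w hw
    | algebraMap s => exact hR ⟨s, rfl⟩
    | add a b _ _ ha hb => exact add_mem (ha trivial) (hb trivial)
    | mul a b _ _ ha hb => exact mul_mem (ha trivial) (hb trivial)
  choose T hcT hT using gens
  -- submodules through the sections
  haveI := isQCoh_pushUnit (h := h)
  have sub : ∀ k : Σ x : t, T x.1, ∃ L : QCohLib.LocSub (pushUnit h),
      QCohLib.LocSub.FTBelow L ⊤ ∧ L.mem (U k.1.1).1 (toPush h _ k.2.1) := fun k =>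
    QCohLib.LocSub.exists_ft_through _ (U k.1.1).2 _
  choose L hLft hLmem using sub
  let ek := Fintype.equivFin (Σ x : t, T x.1)
  let G : GenData h := ⟨_, fun i => L (ek.symm i), fun i => hLft _⟩
  have hmemG : ∀ (x : t) (z : Γ(f.normalization, h ⁻¹ᵁ (U x.1).1)), z ∈ T x.1 → z ∈ G.alg (U x.1).1 := by
    intro x z hz
    refine G.mem_gen ⟨ek ⟨x, z, hz⟩, ?_⟩
    show (L (ek.symm (ek ⟨x, z, hz⟩))).mem _ _
    rw [Equiv.symm_apply_apply]
    exact hLmem ⟨x, z, hz⟩
  have hab : G.toModel ≫ G.toBase = h := G.toModel_toBase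
  haveI : IsFinite G.toBase := G.isFinite_toBase
  have pre : ∀ x : t, ∀ z ∈ G.alg (U x.1).1, ∃ s : Γ(G.model, G.toBase ⁻¹ᵁ (U x.1).1),
      G.toModel.appLE (G.toBase ⁻¹ᵁ (U x.1).1) (h ⁻¹ᵁ (U x.1).1)
        (by rw [← Scheme.Hom.comp_preimage, hab]) s = z := by
    intro x z hz
    obtain ⟨θ, hθ⟩ := G.exists_objIso (U x.1)
    refine ⟨θ.inv ⟨z, hz⟩, ?_⟩
    rw [hθ]
    show (θ.inv ≫ θ.hom ≫ CommRingCat.ofHom (G.alg (U x.1).1).subtype) ⟨z, hz⟩ = z
    rw [Iso.inv_hom_id_assoc]
    rfl
  choose cT hcT' using fun x : t => pre x (c x.1) (hmemG x _ (hcT x.1))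
  let D₀ : t → G.model.Opens := fun x => G.model.basicOpen (cT x)
  let φ := g ≫ G.toModel
  have hpre : ∀ x : t, φ ⁻¹ᵁ D₀ x = W x.1 := by
    intro x
    have h1 := Scheme.basicOpen_appLE G.toModel (h ⁻¹ᵁ (U x.1).1) (G.toBase ⁻¹ᵁ (U x.1).1)
      (by rw [← Scheme.Hom.comp_preimage, hab]) (cT x)
    rw [hcT' x] at h1
    show g ⁻¹ᵁ (G.toModel ⁻¹ᵁ D₀ x) = g ⁻¹ᵁ _
    congr 1
    rw [h1]
    refine (inf_eq_right.mpr fun y hy => ?_).symm
    show h y ∈ (U x.1).1
    rw [← hab, Scheme.Hom.comp_apply]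
    exact G.model.basicOpen_le (cT x) hy
  have hDaff : ∀ x : t, IsAffineOpen (D₀ x) := fun x => ((U x.1).2.preimage G.toBase).basicOpen _
  have hclosed : ∀ x : t, IsClosedImmersion (φ ∣_ D₀ x) := by
    intro x
    refine isClosedImmersion_restrict φ (hDaff x) (hpre x ▸ hWaff x.1) ?_
    have hW : φ ⁻¹ᵁ D₀ x = W x.1 := hpre x
    let χ := φ.appLE (D₀ x) (W x.1) hW.ge
    suffices hχ : (χ.hom.range) = ⊤ by
      intro w
      obtain ⟨s, hs⟩ : X.presheaf.map (eqToHom hW.symm).op w ∈ χ.hom.range := hχ ▸ trivial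
      refine ⟨s, (ConcreteCategory.bijective_of_isIso (X.presheaf.map (eqToHom hW.symm).op)).1 ?_⟩
      rw [← hs]
      show (φ.app _ ≫ X.presheaf.map _) s = χ s
      rw [Scheme.Hom.app_eq_appLE, Scheme.Hom.appLE_map]
    have eUW : W x.1 ≤ φ ⁻¹ᵁ (G.toBase ⁻¹ᵁ (U x.1).1) := by
      rw [← hW]
      exact φ.preimage_mono (G.model.basicOpen_le (cT x))
    have hres : ∀ s, χ (G.model.presheaf.map (homOfLE (G.model.basicOpen_le (cT x))).op s) =
        φ.appLE _ _ eUW s := fun s => by
      show (G.model.presheaf.map _ ≫ φ.appLE _ _ _) s = _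
      rw [Scheme.Hom.map_appLE]
    have halg : ∀ z ∈ G.alg (U x.1).1, g.appLE (h ⁻¹ᵁ (U x.1).1) (W x.1)
        (fun y hy => f.normalization.basicOpen_le (c x.1) hy) z ∈ χ.hom.range := by
      intro z hz
      obtain ⟨s, rfl⟩ := pre x z hz
      refine ⟨G.model.presheaf.map (homOfLE (G.model.basicOpen_le (cT x))).op s, (hres s).trans ?_⟩
      rw [← CommRingCat.comp_apply, Scheme.Hom.appLE_comp_appLE]
    refine hT x.1 _ ?_ (fun z hz => halg z (hmemG x z hz)) ?_
    · rintro _ ⟨s, rfl⟩
      have := halg _ (G.mem_app (U x.1).1 s)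
      rw [show f.appLE (U x.1).1 (W x.1) (hWU x.1) s = (h.app (U x.1).1 ≫ g.appLE _ _
        (fun y hy => f.normalization.basicOpen_le (c x.1) hy)) s by
          rw [Scheme.Hom.app_eq_appLE, Scheme.Hom.appLE_comp_appLE]; simp only [hgh]]
      exact this
    · intro v hv
      have hu : IsUnit (G.model.presheaf.map (homOfLE (G.model.basicOpen_le (cT x))).op (cT x)) :=
        RingedSpace.isUnit_res_basicOpen _ (cT x)
      obtain ⟨w, hw⟩ := hu.exists_left_inv
      refine ⟨w, ?_⟩
      have hc : χ (G.model.presheaf.map (homOfLE (G.model.basicOpen_le (cT x))).op (cT x)) =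
          g.appLE (h ⁻¹ᵁ (U x.1).1) (W x.1) (fun y hy => f.normalization.basicOpen_le (c x.1) hy) (c x.1) := by
        rw [hres]
        refine Eq.trans ?_ (congrArg (fun z => g.appLE (h ⁻¹ᵁ (U x.1).1) (W x.1)
          (fun y hy => f.normalization.basicOpen_le (c x.1) hy) z) (hcT' x))
        rw [← CommRingCat.comp_apply, Scheme.Hom.appLE_comp_appLE]
      have h1 : χ w * g.appLE (h ⁻¹ᵁ (U x.1).1) (W x.1)
          (fun y hy => f.normalization.basicOpen_le (c x.1) hy) (c x.1) = 1 := by
        rw [← hc, ← map_mul, hw, map_one]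
      exact left_inv_eq_right_inv h1 hv
  let et := Fintype.equivFin t
  refine ⟨G, Fintype.card t, fun i => D₀ (et.symm i), eq_top_iff.mpr fun y _ => ?_,
    fun i => hDaff _, fun i => hclosed _⟩
  obtain ⟨x, hxt, hyx⟩ := Set.mem_iUnion₂.mp (ht (Set.mem_univ y))
  refine Opens.mem_iSup.mpr ⟨et ⟨x, hxt⟩, ?_⟩
  show y ∈ φ ⁻¹ᵁ D₀ (et.symm (et ⟨x, hxt⟩))
  rw [Equiv.symm_apply_apply, hpre]
  exact hyx

theorem GenData.ker_toModel {X S : Scheme.{u}} {h : X ⟶ S} [QuasiCompact h] [QuasiSeparated h]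
    [IsIntegralHom h] (G : GenData h) : G.toModel.ker = ⊥ := by
  haveI := G.isFinite_toBase
  haveI : QuasiCompact G.toModel := by
    have : QuasiCompact (G.toModel ≫ G.toBase) := by rw [G.toModel_toBase]; infer_instance
    exact QuasiCompact.of_comp G.toModel G.toBase
  refine Scheme.IdealSheafData.ext_of_iSup_eq_top
    (fun U : S.affineOpens => ⟨G.toBase ⁻¹ᵁ U.1, U.2.preimage _⟩)
    (TopologicalSpace.IsOpenCover.comap (iSup_affineOpens_eq_top _) _) fun U => ?_
  simp only [Scheme.Hom.ker_apply, Scheme.IdealSheafData.ideal_bot, Pi.bot_apply]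
  rw [← RingHom.injective_iff_ker_eq_bot]
  obtain ⟨θ, hθ⟩ := G.exists_objIso U
  intro a b hab
  have e : ∀ c, G.toModel.appLE (G.toBase ⁻¹ᵁ U) (h ⁻¹ᵁ U.1)
      (by rw [← Scheme.Hom.comp_preimage, G.toModel_toBase]) c =
        X.presheaf.map (homOfLE (show h ⁻¹ᵁ U.1 ≤ G.toModel ⁻¹ᵁ (G.toBase ⁻¹ᵁ U) by
          rw [← Scheme.Hom.comp_preimage, G.toModel_toBase])).op (G.toModel.app _ c) := fun c => rfl
  have h1 : (θ.hom ≫ CommRingCat.ofHom (G.alg U.1).subtype) a =
      (θ.hom ≫ CommRingCat.ofHom (G.alg U.1).subtype) b := by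
    rw [← hθ, e, e]
    exact congrArg _ hab
  exact (ConcreteCategory.bijective_of_isIso θ.hom).1 (Subtype.ext h1)

/-- **Finite factorization**: if the map to the normalization is an immersion, there is an immersion into
a scheme finite over the base, open if the map to the normalization is open. -/
theorem exists_finite_factor {X S : Scheme.{u}} (f : X ⟶ S) [CompactSpace S] [QuasiSeparatedSpace S]
    [IsSeparated f] [LocallyOfFiniteType f] [QuasiCompact f] [IsImmersion f.toNormalization] :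
    ∃ (T : Scheme.{u}) (j : X ⟶ T) (π : T ⟶ S), IsImmersion j ∧ QuasiCompact j ∧ IsFinite π ∧
      j ≫ π = f ∧ (IsOpenImmersion f.toNormalization → IsOpenImmersion j) := by
  obtain ⟨G, n, D, hcov, hD, hcl⟩ := exists_model f
  haveI := G.isFinite_toBase
  let φ := f.toNormalization ≫ G.toModel
  have hfac : φ ≫ G.toBase = f := by
    rw [Category.assoc, G.toModel_toBase, f.toNormalization_fromNormalization]
  let V : G.model.Opens := ⨆ i, D i
  have hX : φ ⁻¹ᵁ V = ⊤ := by rw [Scheme.Hom.preimage_iSup]; exact hcov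
  have e : φ = (X.topIso.inv ≫ (X.isoOfEq hX).inv) ≫ (φ ∣_ V) ≫ V.ι := by
    simp [morphismRestrict_ι]
  haveI : IsClosedImmersion (φ ∣_ V) := restrict_iSup (P := @IsClosedImmersion) φ D hcl
  haveI : QuasiCompact φ := by
    have : QuasiCompact (φ ≫ G.toBase) := by rw [hfac]; infer_instance
    exact QuasiCompact.of_comp φ G.toBase
  refine ⟨G.model, φ, G.toBase, by rw [e]; infer_instance, inferInstance, inferInstance, hfac, fun hg => ?_⟩
  haveI : IsSchemeTheoreticallyDominant f.toNormalization := ⟨f.ker_toNormalization⟩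
  haveI : IsSchemeTheoreticallyDominant G.toModel := ⟨G.ker_toModel⟩
  haveI : ∀ i, IsClosedImmersion (φ ∣_ D i) := hcl
  haveI : IsIso (φ ∣_ V) := restrict_iSup (P := MorphismProperty.isomorphisms Scheme.{u}) φ D fun i =>
    isIso_restrict_of_injective φ (hD i) (φ.app_injective _)
  rw [e]
  infer_instance

end MiscFlat6
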