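import Groth.Agent.MiscFlat6.AmpleHomeo
import Groth.Agent.MiscFlat6.RelAmpleLocal
import Groth.Prelude.Def_MoreMor

/-!
# Relative ampleness and thickenings
-/

universe u
open CategoryTheory CategoryTheory.Limits AlgebraicGeometry TopologicalSpace Opposite
open AmpleLib AmpleThLib
open KFlatLib (pb)

noncomputable section

namespace MiscFlat6

theorem isHomeomorph_of_closedImmersion_surjective {X X' : Scheme.{u}} (i : X ⟶ X') [IsClosedImmersion i]
    [Surjective i] : IsHomeomorph i :=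
  (i.isClosedEmbedding.isEmbedding.toHomeomorphOfSurjective i.surjective).isHomeomorph

/-- restrictions to preimages: ampleness agrees -/
theorem isAmple_restrict_pb_iff {X X' : Scheme.{u}} (i : X ⟶ X') [IsClosedImmersion i] [Surjective i]
    {L : X'.Modules} (hL : PicF.IsInvertible L) (U : X'.Opens) :
    CohB1.IsAmple ((pb i L).restrict (i ⁻¹ᵁ U).ι) ↔ CohB1.IsAmple (L.restrict U.ι) := by
  haveI : IsClosedImmersion (i ∣_ U) := IsZariskiLocalAtTarget.restrict ‹IsClosedImmersion i› U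
  haveI : Surjective (i ∣_ U) := IsZariskiLocalAtTarget.restrict ‹Surjective i› U
  let L₀ := L.restrict U.ι
  have hL₀ : PicF.IsInvertible L₀ := restrict_isInvertible hL U.ι
  have h1 := AmpleDevLib.isInvertible_pb (i ∣_ U) hL₀
  have h2 := restrict_isInvertible (AmpleDevLib.isInvertible_pb i hL) (i ⁻¹ᵁ U).ι
  let e : pb (i ∣_ U) L₀ ≅ (pb i L).restrict (i ⁻¹ᵁ U).ι :=
    (Scheme.Modules.pullback (i ∣_ U)).mapIso ((Scheme.Modules.restrictFunctorIsoPullback U.ι).app L) ≪≫
      (Scheme.Modules.pullbackComp (i ∣_ U) U.ι).app L ≪≫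
      (Scheme.Modules.pullbackCongr (morphismRestrict_ι i U)).app L ≪≫
      ((Scheme.Modules.pullbackComp (i ⁻¹ᵁ U).ι i).app L).symm ≪≫
      ((Scheme.Modules.restrictFunctorIsoPullback (i ⁻¹ᵁ U).ι).app _).symm
  constructor
  · intro h
    exact isAmple_of_isAmple_pb_homeomorph (i ∣_ U) (isHomeomorph_of_closedImmersion_surjective _) hL₀
      (AmpleDevLib.isAmple_of_iso h2 h1 e.symm h)
  · intro h
    exact AmpleDevLib.isAmple_of_iso h1 h2 e (AmpleDevLib.isAmple_pb (i ∣_ U) hL₀ h)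

theorem isRelAmple_iff_of_thickening {X X' S S' : Scheme.{u}} (iX : X ⟶ X') (iS : S ⟶ S') (f : X ⟶ S)
    (f' : X' ⟶ S') [IsClosedImmersion iX] [Surjective iX] [IsClosedImmersion iS] [Surjective iS]
    (w : iX ≫ f' = f ≫ iS) {L' : X'.Modules} (hL' : PicF.IsInvertible L') :
    RelAmple.IsRelAmple f' L' ↔ RelAmple.IsRelAmple f (pb iX L') := by
  have hpre : ∀ V' : S'.Opens, f ⁻¹ᵁ iS ⁻¹ᵁ V' = iX ⁻¹ᵁ f' ⁻¹ᵁ V' := fun V' => by
    rw [← Scheme.Hom.comp_preimage, ← Scheme.Hom.comp_preimage, w]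
  have hset : ∀ V' : S'.Opens, (f' ⁻¹ᵁ V' : Set X') = iX '' (iX ⁻¹ᵁ f' ⁻¹ᵁ V' : Set X) := fun V' =>
    (Set.image_preimage_eq _ iX.surjective).symm
  constructor
  · intro hR
    have := hR.1
    haveI : QuasiCompact f := by
      haveI : QuasiCompact (f ≫ iS) := w ▸ inferInstance
      exact QuasiCompact.of_comp f iS
    refine isRelAmple_of_local f fun y => ?_
    obtain ⟨W', hW', hyW', -⟩ := exists_isAffineOpen_mem_and_subset (U := (⊤ : S'.Opens)) (x := iS y) trivial
    refine ⟨iS ⁻¹ᵁ W', hyW', fun V hV hVW => ?_⟩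
    refine isAmple_restrict_of_le (AmpleDevLib.isInvertible_pb iX hL') (f.preimage_mono hVW)
      (f.isCompact_preimage hV.isCompact) ?_
    rw [hpre W', isAmple_restrict_pb_iff iX hL']
    exact hR.2 ⟨W', hW'⟩
  · intro hR
    have := hR.1
    haveI : QuasiCompact f' := by
      rw [quasiCompact_iff_forall_isAffineOpen]
      intro V' hV'
      rw [hset V', ← hpre V']
      exact (f.isCompact_preimage (hV'.preimage iS).isCompact).image iX.continuous
    refine ⟨inferInstance, fun V' => ?_⟩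
    rw [← isAmple_restrict_pb_iff iX hL', ← hpre]
    exact hR.2 ⟨_, V'.2.preimage iS⟩

end MiscFlat6
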