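import Mathlib

universe u
open PrimeSpectrum

namespace MiscFlat6

variable {R : Type u} [CommRing R]

theorem exists_mem_ideal_height_lt_contains_iff [IsNoetherianRing R] (I : Ideal R) (r : ℕ) :
    ∃ f : Fin r → R, (∀ i, f i ∈ I) ∧
      ∀ (p : Ideal R) [p.IsPrime], p.height < r → (I ≤ p ↔ Ideal.span (Set.range f) ≤ p) := by
  suffices h : ∃ f : Fin r → R, (∀ i, f i ∈ I) ∧
      ∀ (p : Ideal R) [p.IsPrime], Ideal.span (Set.range f) ≤ p → ¬ I ≤ p → (r : ℕ∞) ≤ p.height by
    obtain ⟨f, hf, H⟩ := h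
    refine ⟨f, hf, fun p _ hp => ⟨fun h => le_trans ?_ h, fun h => ?_⟩⟩
    · exact Ideal.span_le.mpr (by rintro _ ⟨i, rfl⟩; exact hf i)
    · by_contra hI
      exact absurd (H p h hI) (not_le.mpr hp)
  induction r with
  | zero => exact ⟨fun i => i.elim0, fun i => i.elim0, fun p _ _ _ => by simp⟩
  | succ r ih =>
    obtain ⟨f, hf, H⟩ := ih
    let J := Ideal.span (Set.range f)
    have hS : {q | q ∈ J.minimalPrimes ∧ ¬ I ≤ q}.Finite :=
      Set.Finite.subset J.finite_minimalPrimes_of_isNoetherianRing (fun _ h => h.1)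
    have hnot : ¬ (I : Set R) ⊆ ⋃ q ∈ hS.toFinset, (q : Set R) := by
      refine (Ideal.subset_union_prime ⊥ ⊥ ?_).not.mpr ?_
      · rintro q hq - -
        exact ((Set.Finite.mem_toFinset hS).mp hq).1.isPrime
      · push Not
        intro q hq
        exact ((Set.Finite.mem_toFinset hS).mp hq).2
    simp_rw [Set.not_subset, Set.mem_iUnion, not_exists, Set.Finite.mem_toFinset] at hnot
    obtain ⟨x, hxI, hx⟩ := hnot
    refine ⟨Fin.cons x f, Fin.cases hxI hf, fun p _ hle hIp => ?_⟩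
    have hx' : x ∈ p := hle (Ideal.subset_span ⟨0, by simp⟩)
    have hJp : J ≤ p :=
      Ideal.span_le.mpr (by rintro _ ⟨i, rfl⟩; exact hle (Ideal.subset_span ⟨i.succ, by simp⟩))
    obtain ⟨q, hq, hqp⟩ := Ideal.exists_minimalPrimes_le hJp
    have hIq : ¬ I ≤ q := fun h => hIp (h.trans hqp)
    haveI := hq.isPrime
    have h1 : (r : ℕ∞) ≤ q.height := H q hq.1.2 hIq
    have hne : q < p := lt_of_le_of_ne hqp (fun e => hx q ⟨hq, hIq⟩ (e ▸ hx'))
    have h2 : q.height < p.height := Ideal.height_strict_mono_of_isPrime hne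
    rw [Nat.cast_succ]
    exact Order.add_one_le_of_lt (lt_of_le_of_lt h1 h2)

theorem exists_radical_eq_radical_span_fin_dim_succ [IsNoetherianRing R] (d : ℕ)
    (hd : ringKrullDim R = d) (I : Ideal R) :
    ∃ f : Fin (d + 1) → R, (∀ i, f i ∈ I) ∧ I.radical = (Ideal.span (Set.range f)).radical := by
  obtain ⟨f, hf, H⟩ := exists_mem_ideal_height_lt_contains_iff I (d + 1)
  refine ⟨f, hf, ?_⟩
  rw [Ideal.radical_eq_sInf I, Ideal.radical_eq_sInf (Ideal.span (Set.range f))]
  congr 1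
  ext p
  refine and_congr_left fun hp => ?_
  haveI : p.IsPrime := hp
  refine H p ?_
  have h1 : (p.height : WithBot ℕ∞) ≤ ((d : ℕ∞) : WithBot ℕ∞) :=
    (Ideal.height_le_ringKrullDim_of_ne_top hp.ne_top).trans_eq hd
  exact lt_of_le_of_lt (WithBot.coe_le_coe.mp h1) (by exact_mod_cast Nat.lt_succ_self d)

theorem exists_radical_eq_radical_span_fin_dim_of_isLocalRing [IsNoetherianRing R] [IsLocalRing R]
    (d : ℕ) (hd : ringKrullDim R = d) (I : Ideal R) (hI : I ≠ ⊤) :
    ∃ f : Fin d → R, (∀ i, f i ∈ I) ∧ I.radical = (Ideal.span (Set.range f)).radical := by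
  obtain ⟨f, hf, H⟩ := exists_mem_ideal_height_lt_contains_iff I d
  refine ⟨f, hf, le_antisymm ?_ (Ideal.radical_mono
    (Ideal.span_le.mpr (by rintro _ ⟨i, rfl⟩; exact hf i)))⟩
  rw [Ideal.radical_eq_sInf (Ideal.span (Set.range f))]
  refine le_sInf ?_
  rintro p ⟨hfp, hp⟩
  haveI : p.IsPrime := hp
  rcases eq_or_lt_of_le (IsLocalRing.le_maximalIdeal hp.ne_top) with rfl | hlt
  · exact hp.radical_le_iff.mpr (IsLocalRing.le_maximalIdeal hI)
  · refine hp.radical_le_iff.mpr ((H p ?_).mpr hfp)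
    have h1 : p.height < (IsLocalRing.maximalIdeal R).height :=
      Ideal.height_strict_mono_of_isPrime hlt
    have h2 : ((IsLocalRing.maximalIdeal R).height : WithBot ℕ∞) ≤ ((d : ℕ∞) : WithBot ℕ∞) :=
      (Ideal.height_le_ringKrullDim_of_ne_top (IsLocalRing.maximalIdeal.isMaximal R).ne_top).trans_eq hd
    exact lt_of_lt_of_le h1 (WithBot.coe_le_coe.mp h2)

theorem ringKrullDim_le_one_of_forall_prime_mem [IsNoetherianRing R] [IsLocalRing R] [IsDomain R]
    (x : R) (hx : x ≠ 0) (h : ∀ q : Ideal R, q.IsPrime → q ≠ ⊥ → x ∈ q) :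
    ringKrullDim R ≤ 1 := by
  by_contra hlt
  push Not at hlt
  rw [← IsLocalRing.maximalIdeal_height_eq_ringKrullDim] at hlt
  have hlt' : (1 : ℕ∞) < (IsLocalRing.maximalIdeal R).height := by exact_mod_cast hlt
  have hm : x ∈ IsLocalRing.maximalIdeal R := by
    refine h _ inferInstance fun e => ?_
    rw [e] at hlt'
    simp at hlt'
  let S := (Ideal.span {x}).minimalPrimes
  have hS : S.Finite := Ideal.finite_minimalPrimes_of_isNoetherianRing R _
  have hnot : ¬ (IsLocalRing.maximalIdeal R : Set R) ⊆ ⋃ q ∈ hS.toFinset, (q : Set R) := by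
    refine (Ideal.subset_union_prime ⊥ ⊥ ?_).not.mpr ?_
    · rintro q hq - -
      exact ((Set.Finite.mem_toFinset hS).mp hq).isPrime
    · push Not
      intro q hq hle
      have hq' := (Set.Finite.mem_toFinset hS).mp hq
      have h1 : q.height ≤ 1 := Ideal.height_le_one_of_isPrincipal_of_mem_minimalPrimes _ q hq'
      have h2 : IsLocalRing.maximalIdeal R = q :=
        (IsLocalRing.maximalIdeal.isMaximal R).eq_of_le hq'.isPrime.ne_top hle
      rw [h2] at hlt'
      exact absurd h1 (not_le.mpr hlt')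
  simp_rw [Set.not_subset, Set.mem_iUnion, not_exists, Set.Finite.mem_toFinset] at hnot
  obtain ⟨y, hym, hy⟩ := hnot
  obtain ⟨q₀, hq₀, -⟩ := Ideal.exists_minimalPrimes_le
    (show Ideal.span {x} ≤ IsLocalRing.maximalIdeal R from
      Ideal.span_le.mpr (Set.singleton_subset_iff.mpr hm))
  have hy0 : y ≠ 0 := fun e => hy q₀ hq₀ (e ▸ q₀.zero_mem)
  obtain ⟨Q, hQ, -⟩ := Ideal.exists_minimalPrimes_le
    (show Ideal.span {y} ≤ IsLocalRing.maximalIdeal R from
      Ideal.span_le.mpr (Set.singleton_subset_iff.mpr hym))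
  haveI := hQ.isPrime
  have hyQ : y ∈ Q := hQ.1.2 (Ideal.mem_span_singleton_self y)
  have hQ0 : Q ≠ ⊥ := fun e => hy0 (by simpa [e] using hyQ)
  have hxQ : x ∈ Q := h Q hQ.isPrime hQ0
  obtain ⟨q, hq, hqQ⟩ := Ideal.exists_minimalPrimes_le
    (show Ideal.span {x} ≤ Q from Ideal.span_le.mpr (Set.singleton_subset_iff.mpr hxQ))
  haveI := hq.isPrime
  have hne : q < Q := lt_of_le_of_ne hqQ (fun e => hy q hq (e ▸ hyQ))
  have hbq : (⊥ : Ideal R) < q := by
    refine bot_lt_iff_ne_bot.mpr fun e => hx ?_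
    simpa [e] using hq.1.2 (Ideal.mem_span_singleton_self x)
  haveI : (⊥ : Ideal R).IsPrime := Ideal.bot_prime
  have h1 : (⊥ : Ideal R).height < q.height := Ideal.height_strict_mono_of_isPrime hbq
  have h2 : q.height < Q.height := Ideal.height_strict_mono_of_isPrime hne
  have h3 : Q.height ≤ 1 := Ideal.height_le_one_of_isPrincipal_of_mem_minimalPrimes _ Q hQ
  exact absurd (lt_of_lt_of_le h2 h3) (not_lt.mpr (Order.one_le_iff_pos.mpr (bot_le.trans_lt h1)))

theorem exists_prime_coheight_one_not_containing [IsLocalRing R] [IsNoetherianRing R]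
    (I : Ideal R) (hI : I ≠ ⊤) (hdense : ∀ q ∈ minimalPrimes R, ¬ I ≤ q) :
    ∃ p : PrimeSpectrum R, ¬ I ≤ p.asIdeal ∧ ringKrullDim (R ⧸ p.asIdeal) = 1 := by
  obtain ⟨q₀, hq₀, -⟩ := Ideal.exists_minimalPrimes_le
    (show (⊥ : Ideal R) ≤ IsLocalRing.maximalIdeal R from bot_le)
  let T : Set (Ideal R) := {p | p.IsPrime ∧ ¬ I ≤ p}
  have hT : T.Nonempty := ⟨q₀, hq₀.isPrime, hdense q₀ hq₀⟩
  obtain ⟨p, ⟨hp, hIp⟩, hmax⟩ := set_has_maximal_iff_noetherian.mpr ‹IsNoetherianRing R› T hT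
  haveI := hp
  refine ⟨⟨p, hp⟩, hIp, ?_⟩
  obtain ⟨x, hxI, hxp⟩ := SetLike.not_le_iff_exists.mp hIp
  haveI : IsLocalRing (R ⧸ p) :=
    IsLocalRing.of_surjective' (Ideal.Quotient.mk p) Ideal.Quotient.mk_surjective
  refine le_antisymm ?_ ?_
  · refine ringKrullDim_le_one_of_forall_prime_mem (Ideal.Quotient.mk p x)
      (fun e => hxp (Ideal.Quotient.eq_zero_iff_mem.mp e)) fun q hq hq0 => ?_
    haveI := hq
    have hlt : p < q.comap (Ideal.Quotient.mk p) := by
      refine lt_of_le_of_ne (fun z hz => ?_) fun e => hq0 ?_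
      · rw [Ideal.mem_comap, Ideal.Quotient.eq_zero_iff_mem.mpr hz]
        exact q.zero_mem
      · rw [← Ideal.map_comap_of_surjective _ Ideal.Quotient.mk_surjective q, ← e]
        exact Ideal.map_quotient_self p
    by_contra hxq
    exact hmax _ ⟨Ideal.IsPrime.comap _, fun hle => hxq (hle hxI)⟩ hlt
  · by_contra hlt
    push Not at hlt
    have h0 : ringKrullDim (R ⧸ p) ≤ 0 := by
      induction hval : ringKrullDim (R ⧸ p) with
      | bot => exact bot_le
      | coe a =>
        rw [hval] at hlt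
        have ha : a < 1 := by exact_mod_cast hlt
        rw [ENat.lt_one_iff_eq_zero.mp ha]
        simp
    haveI : Ring.KrullDimLE 0 (R ⧸ p) :=
      Ring.krullDimLE_iff.mpr (by simpa using h0)
    have hf : IsField (R ⧸ p) := Ring.KrullDimLE.isField_of_isDomain
    have hmx : Ideal.IsMaximal p := Ideal.Quotient.maximal_of_isField p hf
    exact hIp ((IsLocalRing.le_maximalIdeal hI).trans_eq (IsLocalRing.eq_maximalIdeal hmx).symm)

theorem pure_fg_tfae (I : Ideal R) :
    List.TFAE [I.Pure ∧ I.FG, ∃ e : R, IsIdempotentElem e ∧ I = Ideal.span {e},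
      I.Pure ∧ IsOpen (zeroLocus (I : Set R)), Module.Projective R (R ⧸ I)] := by
  tfae_have 1 → 2 := by
    rintro ⟨hP, hfg⟩
    exact (Ideal.isIdempotentElem_iff_of_fg I hfg).mp (Ideal.isIdempotentElem_of_pure I)
  tfae_have 2 → 4 := by
    rintro ⟨e, he, rfl⟩
    let h := AlgEquiv.prodQuotientOfIsIdempotentElem R he he.one_sub (by simp)
      (by grind [IsIdempotentElem]) |>.toLinearEquiv
    haveI : Module.Projective R ((R ⧸ Ideal.span {e}) × R ⧸ Ideal.span {1 - e}) :=
      Module.Projective.of_equiv h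
    exact Module.Projective.of_split (LinearMap.inl R _ (R ⧸ Ideal.span {1 - e}))
      (LinearMap.fst R _ _) (by ext; simp)
  tfae_have 4 → 1 := by
    intro h
    refine ⟨inferInstance, ?_⟩
    obtain ⟨s, hs⟩ := Module.projective_lifting_property I.mkQ LinearMap.id
      (Submodule.mkQ_surjective I)
    let π : R →ₗ[R] R := LinearMap.id - s ∘ₗ I.mkQ
    have hπ : LinearMap.range π = I := by
      refine le_antisymm ?_ fun z hz => ⟨z, ?_⟩
      · rintro _ ⟨z, rfl⟩
        have h1 : I.mkQ (π z) = 0 := by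
          have := LinearMap.congr_fun hs (I.mkQ z)
          rw [LinearMap.comp_apply, LinearMap.id_apply] at this
          rw [show π z = z - s (I.mkQ z) from rfl, map_sub, this, sub_self]
        exact (Submodule.Quotient.mk_eq_zero I).mp h1
      · have hz0 : I.mkQ z = 0 := (Submodule.Quotient.mk_eq_zero I).mpr hz
        simp [π, hz0]
    rw [← hπ, LinearMap.range_eq_map]
    exact Submodule.FG.map π Module.Finite.fg_top
  tfae_have 2 → 3 := by
    rintro ⟨e, he, rfl⟩
    refine ⟨Ideal.Pure.of_isIdempotentElem (Submodule.fg_span_singleton e)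
      ((Ideal.isIdempotentElem_iff_of_fg _ (Submodule.fg_span_singleton e)).mpr ⟨e, he, rfl⟩), ?_⟩
    rw [PrimeSpectrum.zeroLocus_span, PrimeSpectrum.zeroLocus_eq_basicOpen_of_isIdempotentElem e he]
    exact (PrimeSpectrum.basicOpen _).2
  tfae_have 3 → 2 := by
    rintro ⟨hP, ho⟩
    obtain ⟨e, he, h⟩ := PrimeSpectrum.isClopen_iff_zeroLocus.mp ⟨isClosed_zeroLocus _, ho⟩
    refine ⟨e, he, ?_⟩
    haveI : (Ideal.span {e}).Pure := Ideal.Pure.of_isIdempotentElem (Submodule.fg_span_singleton e)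
      ((Ideal.isIdempotentElem_iff_of_fg _ (Submodule.fg_span_singleton e)).mpr ⟨e, he, rfl⟩)
    haveI := hP
    rw [← Ideal.zeroLocus_inj_of_pure, PrimeSpectrum.zeroLocus_span]
    exact h
  tfae_finish

end MiscFlat6
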