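import Mathlib
import Groth.Agent.ProConsLib.Top
import Groth.Agent.SpecSubLib.More

universe u
open AlgebraicGeometry Topology TopologicalSpace Set

namespace MiscFlat6

variable {X : Type u} [TopologicalSpace X] [PrespectralSpace X] [QuasiSeparatedSpace X]

omit [PrespectralSpace X] in
theorem isClopen_cons_of_isCompact_isOpen {V : Set X} (hVc : IsCompact V) (hVo : IsOpen V) :
    @IsClopen X (constructibleTopology X) V := by
  refine ⟨?_, hVc.isOpen_constructibleTopology_of_isOpen hVo⟩
  exact @IsClosed.mk X (constructibleTopology X) V
    (IsCompact.isOpen_constructibleTopology_of_isClosed (by simpa using hVc) hVo.isClosed_compl)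

omit [PrespectralSpace X] in
theorem continuous_cons_val {V : Set X} (hVc : IsCompact V) (hVo : IsOpen V) :
    @Continuous V X (constructibleTopology V) (constructibleTopology X) Subtype.val := by
  have hcomp : ∀ s : Set X, IsOpen s → IsCompact s → IsCompact (Subtype.val ⁻¹' s : Set V) := by
    intro s ho hc
    rw [Subtype.isCompact_iff, Subtype.image_preimage_coe]
    exact QuasiSeparatedSpace.inter_isCompact V s hVo hVc ho hc
  refine continuous_generateFrom_iff.mpr fun s hs => ?_
  rcases hs with ⟨ho, hc⟩ | ⟨hcl, hc⟩
  · exact (hcomp s ho hc).isOpen_constructibleTopology_of_isOpen (ho.preimage continuous_subtype_val)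
  · exact IsCompact.isOpen_constructibleTopology_of_isClosed
      (by rw [← preimage_compl]; exact hcomp sᶜ hcl.isOpen_compl hc)
      (hcl.preimage continuous_subtype_val)

theorem totallySeparated_cons [T0Space X] : @TotallySeparatedSpace X (constructibleTopology X) := by
  have key : ∀ x y : X, ¬ y ⤳ x →
      ∃ U : Set X, @IsClopen X (constructibleTopology X) U ∧ x ∈ U ∧ y ∈ Uᶜ := fun x y hxy => by
    obtain ⟨O, hO, hxO, hyO⟩ := not_specializes_iff_exists_open.mp hxy
    obtain ⟨V, ⟨hV, hVc⟩, hxV, hVO⟩ :=
      PrespectralSpace.isTopologicalBasis.exists_subset_of_mem_open hxO hO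
    exact ⟨V, isClopen_cons_of_isCompact_isOpen hVc hV, hxV, fun h => hyO (hVO h)⟩
  refine (@totallySeparatedSpace_iff_exists_isClopen X (constructibleTopology X)).mpr fun x y h => ?_
  by_cases hxy : y ⤳ x
  · obtain ⟨U, hU, hy, hx⟩ := key y x fun h' => h ((h'.antisymm hxy).eq)
    exact ⟨Uᶜ, @IsClopen.compl X (constructibleTopology X) _ hU, hx, not_not.mpr hy⟩
  · exact key x y hxy

theorem isClopen_cons_of_isLocallyConstructible {E : Set X} (hE : IsLocallyConstructible E) :
    @IsClopen X (constructibleTopology X) E := by
  have key : ∀ F : Set X, IsLocallyConstructible F → IsOpen[constructibleTopology X] F := by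
    intro F hF
    refine (@isOpen_iff_forall_mem_open X (constructibleTopology X) F).mpr fun x hx => ?_
    obtain ⟨V, ⟨hVo, hVc⟩, hxV, -⟩ :=
      PrespectralSpace.isTopologicalBasis.exists_subset_of_mem_open (mem_univ x) isOpen_univ
    haveI : CompactSpace V := isCompact_iff_compactSpace.mp hVc
    haveI : QuasiSeparatedSpace V := hVo.isOpenEmbedding_subtypeVal.quasiSeparatedSpace
    haveI : PrespectralSpace V := hVo.isOpenEmbedding_subtypeVal.prespectralSpace
    have h1 : IsConstructible (Subtype.val ⁻¹' F : Set V) :=
      (hF.preimage_of_isOpenEmbedding hVo.isOpenEmbedding_subtypeVal).isConstructible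
    have h2 : IsConstructible (F ∩ V) := by
      have := h1.image_of_isOpenEmbedding hVo.isOpenEmbedding_subtypeVal
        (by rw [Subtype.range_coe]; intro s hsc hso; exact QuasiSeparatedSpace.inter_isCompact V s hVo hVc hso hsc)
      rwa [Subtype.image_preimage_coe, inter_comm] at this
    refine ⟨F ∩ V, inter_subset_left, ?_, hx, hxV⟩
    clear h1 hx hF
    generalize F ∩ V = C at h2
    suffices H : @IsClopen X (constructibleTopology X) C from H.2
    induction h2 using IsConstructible.empty_union_induction with
    | open_retrocompact U hU hU' =>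
      -- a retrocompact open is clopen: test on compact opens
      refine ⟨?_, ?_⟩
      · refine @IsClosed.mk X (constructibleTopology X) U
          ((@isOpen_iff_forall_mem_open X (constructibleTopology X) Uᶜ).mpr fun z hz => ?_)
        obtain ⟨W, ⟨hWo, hWc⟩, hzW, -⟩ :=
          PrespectralSpace.isTopologicalBasis.exists_subset_of_mem_open (mem_univ z) isOpen_univ
        refine ⟨W ∩ (W ∩ U)ᶜ, fun w hw hwU => hw.2 ⟨hw.1, hwU⟩, ?_, hzW, fun h => hz h.2⟩
        exact @IsOpen.inter X (constructibleTopology X) _ _ (hWc.isOpen_constructibleTopology_of_isOpen hWo)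
          (@IsClopen.compl X (constructibleTopology X) _
            (isClopen_cons_of_isCompact_isOpen (by rw [inter_comm]; exact hU' hWc hWo) (hWo.inter hU))).2
      · refine (@isOpen_iff_forall_mem_open X (constructibleTopology X) U).mpr fun z hz => ?_
        obtain ⟨W, ⟨hWo, hWc⟩, hzW, hWU⟩ :=
          PrespectralSpace.isTopologicalBasis.exists_subset_of_mem_open hz hU
        exact ⟨W, hWU, hWc.isOpen_constructibleTopology_of_isOpen hWo, hzW⟩
    | union s _ t _ hs ht => exact @IsClopen.union _ (constructibleTopology X) _ _ hs ht
    | compl s _ hs => exact @IsClopen.compl _ (constructibleTopology X) _ hs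
  refine ⟨?_, key E hE⟩
  exact @IsClosed.mk X (constructibleTopology X) E
    (key Eᶜ (Groth.Agent.ProConsLib.isLocallyConstructible_compl hE))

theorem isLocallyConstructible_iff_isClopen_cons [QuasiSober X] (E : Set X) :
    IsLocallyConstructible E ↔
      (IsOpen[constructibleTopology X] E ∧ IsClosed[constructibleTopology X] E) := by
  refine ⟨fun h => (isClopen_cons_of_isLocallyConstructible h).symm, fun ⟨ho, hc⟩ x => ?_⟩
  obtain ⟨V, ⟨hVo, hVc⟩, hxV, -⟩ :=
    PrespectralSpace.isTopologicalBasis.exists_subset_of_mem_open (mem_univ x) isOpen_univ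
  refine ⟨V, hVo.mem_nhds hxV, hVo, ?_⟩
  haveI : CompactSpace V := isCompact_iff_compactSpace.mp hVc
  haveI : QuasiSeparatedSpace V := hVo.isOpenEmbedding_subtypeVal.quasiSeparatedSpace
  haveI : PrespectralSpace V := hVo.isOpenEmbedding_subtypeVal.prespectralSpace
  haveI : QuasiSober V := hVo.isOpenEmbedding_subtypeVal.quasiSober
  have hcont := continuous_cons_val hVc hVo
  exact Groth.Agent.ProConsLib.isClopen_cons_iff.mp
    ⟨@IsClosed.preimage V X (constructibleTopology V) (constructibleTopology X) _ hcont _ hc,
      @IsOpen.preimage V X (constructibleTopology V) (constructibleTopology X) _ hcont _ ho⟩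

theorem exists_isCompact_mem_nhds_cons [QuasiSober X] (x : X) :
    ∃ K : Set X, @IsCompact X (constructibleTopology X) K ∧
      IsOpen[constructibleTopology X] K ∧ x ∈ K := by
  obtain ⟨V, ⟨hVo, hVc⟩, hxV, -⟩ :=
    PrespectralSpace.isTopologicalBasis.exists_subset_of_mem_open (mem_univ x) isOpen_univ
  refine ⟨V, ?_, hVc.isOpen_constructibleTopology_of_isOpen hVo, hxV⟩
  haveI : CompactSpace V := isCompact_iff_compactSpace.mp hVc
  haveI : QuasiSeparatedSpace V := hVo.isOpenEmbedding_subtypeVal.quasiSeparatedSpace
  haveI : PrespectralSpace V := hVo.isOpenEmbedding_subtypeVal.prespectralSpace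
  haveI : QuasiSober V := hVo.isOpenEmbedding_subtypeVal.quasiSober
  have h1 := @IsCompact.image V X (constructibleTopology V) (constructibleTopology X) univ _
    (@isCompact_univ V (constructibleTopology V) Groth.Agent.ProConsLib.compactSpace_cons)
    (continuous_cons_val hVc hVo)
  rwa [image_univ, Subtype.range_coe] at h1

theorem t2_locallyCompact_totallyDisconnected_cons [T0Space X] [QuasiSober X] :
    T2Space (WithConstructibleTopology X) ∧ LocallyCompactSpace (WithConstructibleTopology X) ∧
      TotallyDisconnectedSpace (WithConstructibleTopology X) := by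
  haveI hts : TotallySeparatedSpace (WithConstructibleTopology X) := by
    refine totallySeparatedSpace_iff_exists_isClopen.mpr fun a b hab => ?_
    obtain ⟨U, hU, ha, hb⟩ :=
      (@totallySeparatedSpace_iff_exists_isClopen X (constructibleTopology X)).mp totallySeparated_cons
        (show WithTopology.ofTopology a ≠ WithTopology.ofTopology b from
          fun h => hab (by cases a; cases b; simp_all))
    refine ⟨WithTopology.ofTopology ⁻¹' U, ?_, ha, hb⟩
    exact @IsClopen.preimage _ X _ (constructibleTopology X) U hU _ (WithTopology.continuous_ofTopology _)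
  haveI : T2Space (WithConstructibleTopology X) := inferInstance
  refine ⟨inferInstance, ?_, inferInstance⟩
  haveI : WeaklyLocallyCompactSpace (WithConstructibleTopology X) := by
    refine ⟨fun a => ?_⟩
    obtain ⟨K, hKc, hKo, haK⟩ := exists_isCompact_mem_nhds_cons (WithTopology.ofTopology a)
    refine ⟨WithTopology.toTopology _ '' K,
      @IsCompact.image X _ (constructibleTopology X) _ K _ hKc (WithTopology.continuous_toTopology _), ?_⟩
    have he : WithTopology.toTopology _ '' K =
        (WithTopology.ofTopology ⁻¹' K : Set (WithConstructibleTopology X)) := by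
      ext b
      constructor
      · rintro ⟨c, hc, rfl⟩
        exact hc
      · intro hb
        exact ⟨_, hb, by cases b; rfl⟩
    rw [he]
    exact (@IsOpen.preimage _ X _ (constructibleTopology X) _
      (WithTopology.continuous_ofTopology _) K hKo).mem_nhds haK
  infer_instance

end MiscFlat6
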