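import Groth.Prelude
import Groth.Agent.QCohLib.QcqsSections
import Groth.Agent.QCohLib.Gen
import Groth.Agent.AmpleThLib.Ample
import Groth.Agent.SweepSix.ConormalSpec
import Groth.Agent.RichLib.QuasiAffineMor

/-!
# Quasi-affine morphisms and the counit `f^* f_* F ⟶ F`
-/

universe u
open CategoryTheory CategoryTheory.Limits AlgebraicGeometry TopologicalSpace Opposite
open QCohLib

namespace MiscFlat6

variable {X Y : Scheme.{u}} (f : X ⟶ Y)

theorem exists_affine_basicOpen_of_isQuasiAffine (T : X.Opens)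
    [Scheme.IsQuasiAffine (T : Scheme.{u})] {U : X.Opens} {x : X} (hxT : x ∈ T) (hxU : x ∈ U) :
    ∃ q : Γ(X, T), IsAffineOpen (X.basicOpen q) ∧ x ∈ X.basicOpen q ∧ X.basicOpen q ≤ U := by
  obtain ⟨_, ⟨_, ⟨r, hr, rfl⟩, rfl⟩, hxr, hrU⟩ :=
    (Scheme.IsQuasiAffine.isBasis_basicOpen (T : Scheme.{u})).exists_subset_of_mem_open
      (show (⟨x, hxT⟩ : T) ∈ (T.ι ⁻¹ᵁ U : Set T) from hxU) (T.ι ⁻¹ᵁ U).2
  refine ⟨T.topIso.hom r, ?_⟩
  have he : T.ι ''ᵁ T.toScheme.basicOpen r = X.basicOpen (T.topIso.hom r) := by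
    simp only [Scheme.image_basicOpen, Scheme.Opens.ι_appIso, Iso.refl_inv, Scheme.Opens.topIso_hom,
      Scheme.basicOpen_res]
    exact ((inf_eq_right.mpr ((X.basicOpen_le _).trans T.ι_image_top.le)).symm.trans
      (X.basicOpen_res (V := T) r (eqToHom T.ι_image_top.symm).op).symm)
  rw [← he]
  refine ⟨hr.image_of_isOpenImmersion T.ι, ⟨⟨x, hxT⟩, hxr, rfl⟩, ?_⟩
  rintro _ ⟨z, hz, rfl⟩
  exact hrU hz

theorem epi_counit_of_isQuasiAffine (hf : Mor2.IsQuasiAffine f) (F : X.Modules) (hF : Coh.IsQCoh F) :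
    Epi ((Scheme.Modules.pullbackPushforwardAdjunction f).counit.app F) := by
  have := hF
  refine Preadditive.epi_of_cancel_zero _ fun {N : X.Modules} (q : F ⟶ N) hq => ?_
  have hpush : (Scheme.Modules.pushforward f).map q = 0 := by
    apply ((Scheme.Modules.pullbackPushforwardAdjunction f).homEquiv _ _).symm.injective
    rw [Adjunction.homEquiv_counit, Adjunction.homEquiv_counit, Functor.map_zero, zero_comp,
      Adjunction.counit_naturality]
    exact hq
  apply Scheme.Modules.hom_ext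
  intro W
  refine ConcreteCategory.hom_ext _ _ fun t => TwistLib.mod_ext N fun x hx => ?_
  obtain ⟨_, ⟨V, hV, rfl⟩, hxV, -⟩ :=
    Y.isBasis_affineOpens.exists_subset_of_mem_open (Set.mem_univ (f x)) isOpen_univ
  haveI := hf.2 V hV
  have hc : IsCompact ((f ⁻¹ᵁ V : X.Opens) : Set X) :=
    isCompact_iff_compactSpace.mpr (inferInstanceAs (CompactSpace (f ⁻¹ᵁ V : Scheme.{u})))
  have hqs : IsQuasiSeparated ((f ⁻¹ᵁ V : X.Opens) : Set X) :=
    (isQuasiSeparated_iff_quasiSeparatedSpace _ (f ⁻¹ᵁ V).2).mpr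
      (inferInstanceAs (QuasiSeparatedSpace (f ⁻¹ᵁ V : Scheme.{u})))
  obtain ⟨a, -, hxa, haW⟩ := exists_affine_basicOpen_of_isQuasiAffine (f ⁻¹ᵁ V) hxV hx
  have hglob : ∀ j : Γ(F, f ⁻¹ᵁ V), q.app (f ⁻¹ᵁ V) j = 0 := fun j =>
    congr($(congrArg (fun φ => Scheme.Modules.Hom.app φ V) hpush) j)
  obtain ⟨n, j, hj⟩ := (QCohLib.localizingAt_of_qcqs F
    hc hqs a).exists_extend
      (F.presheaf.map (homOfLE haW).op t)
  have hu : IsUnit (X.presheaf.map (homOfLE (X.basicOpen_le a)).op a) :=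
    RingedSpace.isUnit_res_basicOpen _ a
  have h3 := congrArg (q.app (X.basicOpen a)) hj
  rw [QCohLib.app_map, hglob, map_zero, QCohLib.app_smul, QCohLib.app_map] at h3
  change N.presheaf.germ W x hx (q.app W t) = N.presheaf.germ W x hx 0
  rw [map_zero, ← AmpleLib.germ_res N haW (q.app W t) hxa]
  refine (congrArg _ (show AmpleLib.res N haW (q.app W t) = 0 from ?_)).trans (map_zero _)
  exact (hu.pow n).smul_eq_zero.mp h3.symm

theorem isQuasiAffine_of_counit_epi [QuasiCompact f] [IsSeparated f]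
    (h : ∀ F : X.Modules, Coh.IsQCoh F →
      Epi ((Scheme.Modules.pullbackPushforwardAdjunction f).counit.app F)) :
    Mor2.IsQuasiAffine f := by
  refine ⟨‹_›, fun V hV => ?_⟩
  let T := f ⁻¹ᵁ V
  haveI : IsAffine (V : Scheme.{u}) := hV
  haveI : CompactSpace (T : Scheme.{u}) :=
    isCompact_iff_compactSpace.mp (QuasiCompact.isCompact_preimage (f := f) _ V.2 hV.isCompact)
  haveI : IsSeparated (f ∣_ V) := IsZariskiLocalAtTarget.restrict ‹IsSeparated f› V
  haveI : QuasiSeparatedSpace (T : Scheme.{u}) := quasiSeparatedSpace_of_quasiSeparated (f ∣_ V)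
  refine Scheme.IsQuasiAffine.of_forall_exists_mem_basicOpen _ fun ⟨x, hxT⟩ => ?_
  obtain ⟨U, hU, hxU, hUT⟩ := exists_isAffineOpen_mem_and_subset (X := X) (x := x) (U := T) hxT
  let I := Scheme.IdealSheafData.vanishingIdeal ⟨(U : Set X)ᶜ, U.2.isClosed_compl⟩
  have hsupp : (I.support : Set X) = (U : Set X)ᶜ := by simp [I]
  have hepi : Epi ((Scheme.Modules.pullbackPushforwardAdjunction f).counit.app (ClSub.idealMod I)) :=
    h _ (SweepSix.ConormalSpec.isQCoh_idealMod I)
  let i := X.fromSpecResidueField x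
  let π : ClSub.idealMod I ⟶ (Scheme.Modules.pushforward i).obj (Coh.structureModule _) :=
    ClSub.idealModι I ≫ ClSub.unitToPush i
  -- `π` is nonzero
  have hπ : π ≠ 0 := by
    intro h0
    obtain ⟨f₀, hfI, hfx⟩ : ∃ f₀ ∈ I.ideal ⟨U, hU⟩, x ∈ X.basicOpen f₀ := by
      have h1 : x ∉ I.support := fun h => (show x ∈ (U : Set X)ᶜ from hsupp ▸ h) hxU
      rw [Scheme.IdealSheafData.mem_support_iff_of_mem (U := ⟨U, hU⟩) hxU,
        Scheme.mem_zeroLocus_iff] at h1
      push Not at h1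
      exact h1
    have h0' : (ClSub.toSubscheme I).app U (OmegaSh.strSect X U f₀) = 0 := by
      rw [OmegaSh.toSubscheme_app_strSect]
      have h := hfI
      rw [← Scheme.IdealSheafData.ker_subschemeι_app, RingHom.mem_ker] at h
      exact h
    have h2 := congr($(congrArg (fun s => Scheme.Modules.Hom.app s U) h0)
      (OmegaSh.kerLift _ U (OmegaSh.strSect X U f₀) h0'))
    change i.app U (OmegaSh.fnSect X U ((ClSub.idealModι I).app U
      (OmegaSh.kerLift _ U (OmegaSh.strSect X U f₀) h0'))) = 0 at h2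
    have e : OmegaSh.fnSect X U ((ClSub.idealModι I).app U
        (OmegaSh.kerLift _ U (OmegaSh.strSect X U f₀) h0')) = f₀ :=
      congrArg (OmegaSh.fnSect X U) (OmegaSh.ι_kerLift _ U _ h0')
    rw [e] at h2
    have hz : (default : Spec (X.residueField x)) ∈ i ⁻¹ᵁ X.basicOpen f₀ := by
      show i default ∈ X.basicOpen f₀
      rw [Scheme.fromSpecResidueField_apply]
      exact hfx
    rw [Scheme.preimage_basicOpen, h2, Scheme.basicOpen_zero] at hz
    exact hz
  have hπ' : (Scheme.Modules.pushforward f).map π ≠ 0 := by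
    intro h0
    apply hπ
    refine hepi.left_cancellation π 0 ?_
    exact ((Scheme.Modules.pullbackPushforwardAdjunction f).counit_naturality π).symm.trans
      (by rw [h0, Functor.map_zero, zero_comp, comp_zero])
  -- hence a section over the preimage of an open which does not vanish at `x`
  obtain ⟨W, s, hs⟩ : ∃ (W : Y.Opens) (s : Γ(ClSub.idealMod I, f ⁻¹ᵁ W)), π.app (f ⁻¹ᵁ W) s ≠ 0 := by
    by_contra hne
    push Not at hne
    apply hπ'
    apply Scheme.Modules.hom_ext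
    intro W
    exact ConcreteCategory.hom_ext _ _ fun s => hne W s
  let g : Γ(X, f ⁻¹ᵁ W) := OmegaSh.fnSect X _ ((ClSub.idealModι I).app _ s)
  have hgU : X.basicOpen g ≤ U := by
    intro y hy
    by_contra hyU
    have hg0 : I.subschemeι.app (f ⁻¹ᵁ W) g = 0 :=
      congr($(congrArg (fun t => Scheme.Modules.Hom.app t (f ⁻¹ᵁ W))
        (kernel.condition (ClSub.toSubscheme I))) s)
    obtain ⟨z, hz⟩ : y ∈ Set.range I.subschemeι := by
      rw [Scheme.IdealSheafData.range_subschemeι, hsupp]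
      exact hyU
    have h2 : z ∈ I.subschemeι ⁻¹ᵁ X.basicOpen g := by
      show I.subschemeι z ∈ X.basicOpen g
      rw [hz]
      exact hy
    rw [Scheme.preimage_basicOpen, hg0, Scheme.basicOpen_zero] at h2
    exact h2
  have hxg : x ∈ X.basicOpen g := by
    by_contra hxg
    apply hs
    show i.app (f ⁻¹ᵁ W) g = 0
    by_contra h0
    let j := i ⁻¹ᵁ (f ⁻¹ᵁ W)
    obtain hj | hj : j = ⊤ ∨ j = ⊥ := by
      rcases em (default ∈ j) with hd | hd
      · exact Or.inl (eq_top_iff.mpr fun z _ => by rwa [Subsingleton.elim z default])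
      · exact Or.inr (eq_bot_iff.mpr fun z hz => hd (by rwa [Subsingleton.elim default z]))
    · apply hxg
      have hF : IsField Γ(Spec (X.residueField x), i ⁻¹ᵁ (f ⁻¹ᵁ W)) := by
        rw [show i ⁻¹ᵁ (f ⁻¹ᵁ W) = ⊤ from hj]
        exact MulEquiv.isField (Field.toIsField (X.residueField x))
          (Scheme.ΓSpecIso (X.residueField x)).commRingCatIsoToRingEquiv.toMulEquiv
      obtain ⟨v, hv⟩ := hF.mul_inv_cancel (a := i.app (f ⁻¹ᵁ W) g) h0
      have hz : (default : Spec (X.residueField x)) ∈ i ⁻¹ᵁ X.basicOpen g := by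
        rw [Scheme.preimage_basicOpen, Scheme.basicOpen_of_isUnit _ (IsUnit.of_mul_eq_one v hv)]
        rw [show i ⁻¹ᵁ (f ⁻¹ᵁ W) = ⊤ from hj]
        trivial
      rw [← Scheme.fromSpecResidueField_apply (X := X) x default]
      exact hz
    · haveI : Subsingleton Γ(Spec (X.residueField x), i ⁻¹ᵁ (f ⁻¹ᵁ W)) := by
        rw [show i ⁻¹ᵁ (f ⁻¹ᵁ W) = ⊥ from hj]
        exact CommRingCat.subsingleton_of_isTerminal ((Spec (X.residueField x)).sheaf.isTerminalOfEmpty)
      exact h0 (Subsingleton.elim _ _)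
  -- shrink `W` to a basic open of `V` and extend
  obtain ⟨a, haW, hxa⟩ := hV.exists_basicOpen_le (V := W) ⟨f x, X.basicOpen_le g hxg⟩ hxT
  let α : Γ(X, T) := f.app V a
  have hα : X.basicOpen α = f ⁻¹ᵁ Y.basicOpen a := (Scheme.preimage_basicOpen f a).symm
  have hαW : X.basicOpen α ≤ f ⁻¹ᵁ W := hα.le.trans (f.preimage_mono haW)
  let g' : Γ(X, X.basicOpen α) := X.presheaf.map (homOfLE hαW).op g
  obtain ⟨n, G, hG⟩ := exists_eq_pow_mul_of_isCompact_of_isQuasiSeparated X T
    (isCompact_iff_compactSpace.mpr (inferInstanceAs (CompactSpace (T : Scheme.{u}))))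
    ((isQuasiSeparated_iff_quasiSeparatedSpace _ T.2).mpr
      (inferInstanceAs (QuasiSeparatedSpace (T : Scheme.{u})))) α g'
  dsimp only [TopCat.Presheaf.restrictOpenCommRingCat_apply] at hG
  have hb : X.basicOpen (α * G) = X.basicOpen g' := by
    have h2 := congrArg X.basicOpen hG
    rw [Scheme.basicOpen_res, Scheme.basicOpen_mul] at h2
    rw [Scheme.basicOpen_mul, h2]
    refine inf_eq_right.mpr ((X.basicOpen_le g').trans (le_of_eq ?_))
    exact (X.basicOpen_of_isUnit ((RingedSpace.isUnit_res_basicOpen _ α).pow n)).symm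
  have hg' : X.basicOpen g' = X.basicOpen α ⊓ X.basicOpen g := Scheme.basicOpen_res _ _ _
  have hle : X.basicOpen (α * G) ≤ U := by rw [hb, hg']; exact inf_le_right.trans hgU
  have haff : IsAffineOpen (X.basicOpen (α * G)) := by
    have : X.basicOpen (X.presheaf.map (homOfLE hUT).op (α * G)) = X.basicOpen (α * G) := by
      rw [Scheme.basicOpen_res, inf_eq_right.mpr hle]
    exact this ▸ hU.basicOpen _
  have hx : x ∈ X.basicOpen (α * G) := by
    rw [hb, hg']
    exact ⟨hα.ge hxa, hxg⟩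
  let r : Γ((T : Scheme.{u}), ⊤) := T.topIso.inv (α * G)
  have he : T.ι ''ᵁ T.toScheme.basicOpen r = X.basicOpen (α * G) := by
    rw [Scheme.Opens.ι_image_basicOpen']
    exact congrArg X.basicOpen (Iso.inv_hom_id_apply T.topIso (α * G))
  refine ⟨r, ?_, ?_⟩
  · rw [← Scheme.Hom.isAffineOpen_iff_of_isOpenImmersion T.ι, he]
    exact haff
  · obtain ⟨z, hz, hzx⟩ := he.ge hx
    rwa [show (⟨x, hxT⟩ : T) = z from T.ι.isOpenEmbedding.injective hzx.symm]

theorem isQuasiAffine_iff_separated_and_counit_epi [QuasiCompact f] :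
    Mor2.IsQuasiAffine f ↔ (IsSeparated f ∧ ∀ F : X.Modules, Coh.IsQCoh F →
      Epi ((Scheme.Modules.pullbackPushforwardAdjunction f).counit.app F)) := by
  refine ⟨fun hf => ⟨?_, epi_counit_of_isQuasiAffine f hf⟩,
    fun ⟨_, h⟩ => isQuasiAffine_of_counit_epi f h⟩
  refine RichLib.QA.isSeparated_of_cover f (fun V : Y.affineOpens => V.1)
    (iSup_affineOpens_eq_top Y) fun V => ?_
  haveI := hf.2 V.1 V.2
  haveI : IsAffine (V.1 : Scheme.{u}) := V.2
  infer_instance

end MiscFlat6
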