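import Groth.Agent.MiscFlat6.CounitIdeal
import Groth.Agent.SweepSix.ConormalSpec
import Groth.Agent.MiscFlat6.TensorGG

/-!
# Ampleness criteria by twisted ideals
-/

set_option autoImplicit false
universe u
open CategoryTheory CategoryTheory.Limits AlgebraicGeometry TopologicalSpace Opposite
open AmpleLib AmpleThLib
open TwistLib (genSet)

noncomputable section

namespace MiscFlat6

variable {X : Scheme.{u}}

/-- an ideal with a section not vanishing at `x`, whose sections all vanish outside `U` -/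
theorem exists_ft_sub_ideal_local [CompactSpace X] [QuasiSeparatedSpace X] {U : X.Opens} {x : X} (hx : x ∈ U) :
    ∃ (J : X.Modules) (ι : J ⟶ Coh.structureModule X), Mono ι ∧ Coh.IsQCoh J ∧ CohB1.IsFT J ∧
      (∀ (O : X.Opens) (a : Γ(J, O)) (y : X), y ∈ X.basicOpen (OmegaSh.fnSect X O (ι.app O a)) → y ∈ U) ∧
      (∃ (V : X.Opens) (_ : x ∈ V) (_ : IsAffineOpen V) (t : Γ(J, V)),
        x ∈ X.basicOpen (OmegaSh.fnSect X V (ι.app V t))) := by
  let I := Scheme.IdealSheafData.vanishingIdeal ⟨(U : Set X)ᶜ, U.2.isClosed_compl⟩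
  have hsupp : (I.support : Set X) = (U : Set X)ᶜ := by simp [I]
  obtain ⟨V, hV, hxV, -⟩ := exists_isAffineOpen_mem_and_subset (TopologicalSpace.Opens.mem_top x)
  obtain ⟨f, hfI, hfx⟩ : ∃ f ∈ I.ideal ⟨V, hV⟩, x ∈ X.basicOpen f := by
    have h1 : x ∉ I.support := fun h => (show x ∈ (U : Set X)ᶜ from hsupp ▸ h) hx
    rw [Scheme.IdealSheafData.mem_support_iff_of_mem (U := ⟨V, hV⟩) hxV,
      Scheme.mem_zeroLocus_iff] at h1
    push Not at h1
    exact h1
  have hF := SweepSix.ConormalSpec.isQCoh_idealMod I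
  have h0 : (ClSub.toSubscheme I).app V (OmegaSh.strSect X V f) = 0 := by
    rw [OmegaSh.toSubscheme_app_strSect]
    have h := hfI
    rw [← Scheme.IdealSheafData.ker_subschemeι_app, RingHom.mem_ker] at h
    exact h
  let f' : Γ(ClSub.idealMod I, V) := OmegaSh.kerLift _ V (OmegaSh.strSect X V f) h0
  obtain ⟨S, hft, hS⟩ := QCohLib.LocSub.exists_ft_through (F := ClSub.idealMod I) V hV f'
  haveI : Mono (ClSub.idealModι I) := inferInstanceAs (Mono (kernel.ι (ClSub.toSubscheme I)))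
  haveI : Mono S.ι := inferInstance
  let ι : S.toModules ⟶ Coh.structureModule X := S.ι ≫ ClSub.idealModι I
  refine ⟨S.toModules, ι, mono_comp _ _, QCohLib.LocSub.isQCoh_toModules S hft,
    QCohLib.LocSub.isFT_toModules S hft, ?_, V, hxV, hV, S.lift f' hS, ?_⟩
  · intro O a y hy
    by_contra hyU
    let b : Γ(ClSub.idealMod I, O) := S.ι.app O a
    let g : Γ(X, O) := OmegaSh.fnSect X O ((ClSub.idealModι I).app O b)
    have hg : I.subschemeι.app O g = 0 :=
      congr($(congrArg (fun t => Scheme.Modules.Hom.app t O)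
        (kernel.condition (ClSub.toSubscheme I))) b)
    obtain ⟨z, hz⟩ : y ∈ Set.range I.subschemeι := by
      rw [Scheme.IdealSheafData.range_subschemeι, hsupp]
      exact hyU
    have h2 : z ∈ I.subschemeι ⁻¹ᵁ X.basicOpen g := by
      show I.subschemeι z ∈ X.basicOpen g
      rw [hz]
      exact hy
    rw [Scheme.preimage_basicOpen, hg, Scheme.basicOpen_zero] at h2
    exact h2
  · have e : OmegaSh.fnSect X V (ι.app V (S.lift f' hS)) = f := by
      show OmegaSh.fnSect X V ((ClSub.idealModι I).app V (S.ι.app V (S.lift f' hS))) = f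
      rw [QCohLib.LocSub.ι_lift]
      exact congrArg (OmegaSh.fnSect X V) (OmegaSh.ι_kerLift _ V _ h0)
    rw [e]
    exact hfx

/-- an affine neighbourhood with a generator -/
theorem exists_affine_gen {M : X.Modules} (hM : PicF.IsInvertible M) {W : X.Opens} {x : X} (hx : x ∈ W) :
    ∃ (U : X.Opens) (e : Γ(M, U)), x ∈ U ∧ U ≤ W ∧ IsAffineOpen U ∧ GenOn M e := by
  obtain ⟨O, g, hxO, hg⟩ := TwistLib.exists_genOn hM x
  obtain ⟨U, hU, hxU, hle⟩ := exists_isAffineOpen_mem_and_subset (U := W ⊓ O) (x := x) ⟨hx, hxO⟩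
  exact ⟨U, res M (fun y hy => (hle hy).2) g, hxU, fun y hy => (hle hy).1, hU, hg.res _⟩

/-- the value of multiplication by an ideal at a generator -/
theorem genAt_idealMul {J M : X.Modules} (ι : J ⟶ Coh.structureModule X) (ψ : CohB1.tensorMod J M ⟶ M)
    (hψ : ∀ (V : X.Opens) (a : Γ(J, V)) (m : Γ(M, V)),
      ψ.app V (shT a m) = OmegaSh.fnSect X V (ι.app V a) • m)
    {U V : X.Opens} {e : Γ(M, U)} (he : GenOn M e) (a : Γ(J, V)) {x : X} (hxU : x ∈ U) (hxV : x ∈ V)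
    (ha : x ∈ X.basicOpen (OmegaSh.fnSect X V (ι.app V a))) :
    ∃ u₀ : Γ(CohB1.tensorMod J M, U ⊓ V), GenAt M (ψ.app _ u₀) (show x ∈ U ⊓ V from ⟨hxU, hxV⟩) := by
  refine ⟨shT (res J inf_le_right a) (res M inf_le_left e), ?_⟩
  rw [hψ, genAt_smul_iff _ _ (show x ∈ U ⊓ V from ⟨hxU, hxV⟩) ((he.res inf_le_left).genAt _)]
  rw [show ι.app (U ⊓ V) (res J inf_le_right a) =
    (Coh.structureModule X).presheaf.map (homOfLE (inf_le_right : U ⊓ V ≤ V)).op (ι.app V a) from
      QCohLib.app_map ι _ a]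
  show x ∈ X.basicOpen (X.presheaf.map (homOfLE (inf_le_right : U ⊓ V ≤ V)).op (OmegaSh.fnSect X V (ι.app V a)))
  rw [Scheme.basicOpen_res]
  exact ⟨⟨hxU, hxV⟩, ha⟩

theorem relAmple_of_counit_ideal_twist_epi [CompactSpace X] [QuasiSeparatedSpace X] {Y : Scheme.{u}} (f : X ⟶ Y)
    [QuasiCompact f] [QuasiSeparated f] (L : X.Modules) (hL : PicF.IsInvertible L)
    (h : ∀ (J : X.Modules) (i : J ⟶ Coh.structureModule X), Mono i → Coh.IsQCoh J → CohB1.IsFT J →
      ∃ n : ℕ, 0 < n ∧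
        Epi ((Scheme.Modules.pullbackPushforwardAdjunction f).counit.app
          (CohB1.tensorMod J (CohB1.tensorPow L n)))) :
    RelAmple.IsRelAmple f L := by
  refine isRelAmple_of_local f fun y => ⟨⊤, trivial, fun V hV _ => ?_⟩
  let W := f ⁻¹ᵁ V
  haveI : CompactSpace (W : Scheme.{u}) := isCompact_iff_compactSpace.mp (f.isCompact_preimage hV.isCompact)
  let i := W.ι
  refine (isAmple_iff (hL := restrict_isInvertible hL i)).mpr ⟨inferInstance, fun z => ?_⟩
  obtain ⟨U₁, hU₁, hxU₁, hU₁W⟩ := exists_isAffineOpen_mem_and_subset (U := W) (x := i z) z.2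
  obtain ⟨U₀, e₀, hxU₀, hU₀₁, hU₀, he₀⟩ := exists_affine_gen hL (W := U₁) hxU₁
  obtain ⟨J, ι, hι, hJ, hJft, hout, V', hxV', -, t, ht⟩ := exists_ft_sub_ideal_local hxU₀
  haveI := hJ
  obtain ⟨n, hn, hepi⟩ := h J ι hι hJ hJft
  have hM := tensorPow_isInvertible hL n
  obtain ⟨ψ, hψ⟩ := exists_idealMul ι (CohB1.tensorPow L n)
  obtain ⟨u₀, hu₀⟩ := genAt_idealMul ι ψ hψ (pS_genOn he₀ n) t hxU₀ hxV' ht
  haveI := isQCoh_tensor (M := J) hM
  obtain ⟨u, hu⟩ := exists_genAt_map_of_counit_epi f ψ hepi hV (x := i z) z.2 _ u₀ hu₀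
  obtain ⟨T, hxT, hTW, hTa, hT⟩ := exists_affine_locus hM ι ψ hψ hU₀ (hU₀₁.trans hU₁W) (pS_genOn he₀ n)
    hout (show i z ∈ W from z.2) u hu
  let σ : Γ((CohB1.tensorPow L n).restrict i, ⊤) :=
    res (CohB1.tensorPow L n) (Scheme.Opens.ι_image_top _).le (ψ.app W u)
  obtain ⟨φ, -⟩ := exists_restrIso hL i n
  have key : genSet (tensorPow_isInvertible (restrict_isInvertible hL i) n) (φ.inv.app ⊤ σ) = i ⁻¹ᵁ T := by
    rw [show φ.inv.app ⊤ σ = φ.symm.hom.app ⊤ σ from rfl,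
      genSet_iso (restrict_isInvertible hM i) _ φ.symm σ]
    ext w
    show w ∈ genSet _ σ ↔ i w ∈ T
    rw [genAt_restrict_iff hM i σ w, hT (i w) w.2]
    exact genAt_res (Scheme.Opens.ι_image_top _).le (ψ.app W u) _
  exact ⟨n, i ⁻¹ᵁ T, hn, ⟨_, key⟩, hxT, hTa.preimage_of_isOpenImmersion i (by rwa [W.opensRange_ι])⟩

theorem isAmple_of_gg_ideal_twist [CompactSpace X] [QuasiSeparatedSpace X] (L : X.Modules)
    (hL : PicF.IsInvertible L)
    (h : ∀ I : X.IdealSheafData, BlowUp.IsFiniteTypeIdeal I →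
      ∃ n : ℕ, 0 < n ∧ Curv2.IsGloballyGenerated (CohB1.tensorMod (ClSub.idealMod I) (CohB1.tensorPow L n))) :
    CohB1.IsAmple L := by
  refine (isAmple_iff (hL := hL)).mpr ⟨inferInstance, fun x => ?_⟩
  obtain ⟨U, e, hxU, -, hU, he⟩ := exists_affine_gen hL (W := (⊤ : X.Opens)) (x := x) trivial
  obtain ⟨J, ι, hι, hJ, hJft, hout, V', hxV', hV', t, ht⟩ := exists_ft_sub_ideal_local hxU
  haveI := hJ
  let I := idealOfSub ι
  obtain ⟨n, hn, κ, p, hp⟩ := h I (isFiniteTypeIdeal_idealOfSub hJft ι)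
  haveI := SweepSix.ConormalSpec.isQCoh_idealMod I
  let ι' := ClSub.idealModι I
  have hout' : ∀ (O : X.Opens) (a : Γ(ClSub.idealMod I, O)) (y : X),
      y ∈ X.basicOpen (OmegaSh.fnSect X O (ι'.app O a)) → y ∈ U := by
    intro O a y hy
    by_contra hyU
    let g : Γ(X, O) := OmegaSh.fnSect X O (ι'.app O a)
    have hg : I.subschemeι.app O g = 0 :=
      congr($(congrArg (fun t => Scheme.Modules.Hom.app t O) (kernel.condition (ClSub.toSubscheme I))) a)
    obtain ⟨z, hz⟩ : y ∈ Set.range I.subschemeι := by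
      rw [Scheme.IdealSheafData.range_subschemeι]
      obtain ⟨A, hA, hyA, -⟩ := exists_isAffineOpen_mem_and_subset (TopologicalSpace.Opens.mem_top y)
      show y ∈ I.support
      rw [Scheme.IdealSheafData.mem_support_iff_of_mem (U := ⟨A, hA⟩) hyA, Scheme.mem_zeroLocus_iff]
      rintro _ ⟨b, rfl⟩ hb
      exact hyU (hout A b y hb)
    have h2 : z ∈ I.subschemeι ⁻¹ᵁ X.basicOpen g := by
      show I.subschemeι z ∈ X.basicOpen g
      rw [hz]
      exact hy
    rw [Scheme.preimage_basicOpen, hg, Scheme.basicOpen_zero] at h2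
    exact h2
  let r : Γ(X, V') := OmegaSh.fnSect X V' (ι.app V' t)
  have h0 : (ClSub.toSubscheme I).app V' (OmegaSh.strSect X V' r) = 0 := by
    rw [OmegaSh.toSubscheme_app_strSect]
    have h' : r ∈ I.ideal ⟨V', hV'⟩ := ⟨t, rfl⟩
    rw [← Scheme.IdealSheafData.ker_subschemeι_app, RingHom.mem_ker] at h'
    exact h'
  let t' : Γ(ClSub.idealMod I, V') := OmegaSh.kerLift _ V' (OmegaSh.strSect X V' r) h0
  have ht' : x ∈ X.basicOpen (OmegaSh.fnSect X V' (ι'.app V' t')) := by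
    rw [show ι'.app V' t' = OmegaSh.strSect X V' r from OmegaSh.ι_kerLift _ V' _ h0]
    exact ht
  have hM := tensorPow_isInvertible hL n
  obtain ⟨ψ, hψ⟩ := exists_idealMul ι' (CohB1.tensorPow L n)
  obtain ⟨u₀, hu₀⟩ := genAt_idealMul ι' ψ hψ (pS_genOn he n) t' hxU hxV' ht'
  haveI := hp
  obtain ⟨W, rfl, hxW, u, hu⟩ := exists_genAt_map ψ ({⊤} : Set X.Opens) (fun N q hq => by
    refine (cancel_epi p).mp (Eq.trans ?_ comp_zero.symm)
    refine Cofan.IsColimit.hom_ext (SheafOfModules.isColimitFreeCofan κ) _ _ fun j => ?_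
    apply Scheme.Modules.hom_ext
    intro O
    refine ConcreteCategory.hom_ext _ _ fun c => ?_
    let m : Coh.structureModule X ⟶ _ := SheafOfModules.ιFree j ≫ p
    change q.app O (m.app O c) = 0
    have hr : m.app O c = (show Γ(X, O) from c) •
        (CohB1.tensorMod (ClSub.idealMod I) (CohB1.tensorPow L n)).presheaf.map
          (homOfLE (le_top : O ≤ ⊤)).op (m.app ⊤ (OmegaSh.strSect X ⊤ 1)) := by
      rw [← QCohLib.app_map, ← QCohLib.app_smul, ← OmegaSh.strSect_map, ← OmegaSh.strSect_mul, map_one, mul_one]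
      rfl
    rw [hr, QCohLib.app_smul, QCohLib.app_map, hq ⊤ rfl, map_zero, smul_zero]) _ u₀ hu₀
  obtain ⟨T, hxT, -, hTa, hT⟩ := exists_affine_locus hM ι' ψ hψ hU (le_top : U ≤ ⊤) (pS_genOn he n) hout'
    (show x ∈ (⊤ : X.Opens) from trivial) u hu
  refine ⟨n, T, hn, ⟨ψ.app ⊤ u, ?_⟩, hxT, hTa⟩
  ext y
  exact (hT y trivial).symm

end MiscFlat6
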