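import Mathlib.AlgebraicGeometry.Noetherian
import Mathlib.RingTheory.Ideal.KrullsHeightTheorem
import Mathlib.Topology.NoetherianSpace

/-!
# Countable dense subsets in Noetherian schemes
-/

set_option autoImplicit false
universe u

open CategoryTheory Limits AlgebraicGeometry TopologicalSpace

namespace MiscFlat6

/-- closures of countable subsets of `T` that are irreducible -/
def CountableClosures {α : Type u} [TopologicalSpace α] (T : Set α) : Set (Set α) :=
  {W | IsIrreducible W ∧ ∃ E ⊆ T, E.Countable ∧ closure E = W}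

theorem exists_finite_cover_closure {α : Type u} [TopologicalSpace α] [NoetherianSpace α] (T : Set α)
    (E : Set α) (hET : E ⊆ T) (hE : E.Countable) :
    ∃ F : Set (Set α), F.Finite ∧ F ⊆ CountableClosures T ∧ closure E ⊆ ⋃₀ F := by
  classical
  suffices ∀ C : Closeds α, ∀ E ⊆ T, E.Countable → closure E = (C : Set α) →
      ∃ F : Set (Set α), F.Finite ∧ F ⊆ CountableClosures T ∧ closure E ⊆ ⋃₀ F from
    this ⟨closure E, isClosed_closure⟩ E hET hE rfl
  intro C
  induction C using WellFoundedLT.induction with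
  | ind C ih =>
    intro E hET hE hC
    by_cases hne : E.Nonempty
    swap
    · exact ⟨∅, Set.finite_empty, Set.empty_subset _, by rw [Set.not_nonempty_iff_eq_empty.mp hne]; simp⟩
    by_cases hirr : IsPreirreducible (closure E)
    · exact ⟨{closure E}, Set.finite_singleton _,
        Set.singleton_subset_iff.mpr ⟨⟨hne.closure, hirr⟩, E, hET, hE, rfl⟩, by simp⟩
    rw [isPreirreducible_iff_isClosed_union_isClosed] at hirr
    push Not at hirr
    obtain ⟨A, B, hA, hB, hAB, hnA, hnB⟩ := hirr
    have h1 : ∀ D, IsClosed D → ¬ closure E ⊆ D →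
        ∃ F : Set (Set α), F.Finite ∧ F ⊆ CountableClosures T ∧ closure (E ∩ D) ⊆ ⋃₀ F := by
      intro D hD hnD
      refine ih ⟨closure (E ∩ D), isClosed_closure⟩ ?_ (E ∩ D) (Set.inter_subset_left.trans hET)
        (hE.mono Set.inter_subset_left) rfl
      refine lt_of_le_of_ne (fun x hx => (show closure E = (C : Set α) from hC).le (closure_mono Set.inter_subset_left hx)) fun he => hnD ?_
      intro x hx
      have : x ∈ closure (E ∩ D) := (congrArg SetLike.coe he).ge (hC ▸ hx)
      exact (closure_minimal Set.inter_subset_right hD) this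
    obtain ⟨F, hF, hFT, hFc⟩ := h1 A hA hnA
    obtain ⟨F', hF', hFT', hFc'⟩ := h1 B hB hnB
    refine ⟨F ∪ F', hF.union hF', Set.union_subset hFT hFT', ?_⟩
    have hsub : E ⊆ E ∩ A ∪ E ∩ B := fun x hx => (hAB (subset_closure hx)).imp (fun h => ⟨hx, h⟩) fun h => ⟨hx, h⟩
    refine (closure_mono hsub).trans ?_
    rw [closure_union, Set.sUnion_union]
    exact Set.union_subset_union hFc hFc'

theorem exists_maximal_countableClosure {S : Scheme.{u}} [IsNoetherian S] (T : Set S) {W : Set S}
    (hW : W ∈ CountableClosures T) :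
    ∃ W', W ⊆ W' ∧ Maximal (· ∈ CountableClosures T) W' := by
  classical
  obtain ⟨η, hη⟩ := QuasiSober.sober hW.1 (by obtain ⟨E, -, -, rfl⟩ := hW.2; exact isClosed_closure)
  obtain ⟨V, hV, hηV, -⟩ := exists_isAffineOpen_mem_and_subset (x := η) (U := ⊤) trivial
  haveI := IsLocallyNoetherian.component_noetherian (X := S) ⟨V, hV⟩
  let P : ℕ → Prop := fun n => ∃ W', W ⊆ W' ∧ W' ∈ CountableClosures T ∧
    ∃ p : PrimeSpectrum Γ(S, V), IsGenericPoint (hV.fromSpec p) W' ∧ p.asIdeal.height = n
  have hpt : ∀ W', W ⊆ W' → W' ∈ CountableClosures T →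
      ∃ (p : PrimeSpectrum Γ(S, V)) (n : ℕ), IsGenericPoint (hV.fromSpec p) W' ∧ p.asIdeal.height = n := by
    intro W' hsub hW'
    obtain ⟨η', hη'⟩ := QuasiSober.sober hW'.1 (by obtain ⟨E, -, -, rfl⟩ := hW'.2; exact isClosed_closure)
    have hsp : η' ⤳ η := hη'.specializes (hsub hη.mem)
    obtain ⟨p, rfl⟩ : η' ∈ Set.range hV.fromSpec := by rw [hV.range_fromSpec]; exact hsp.mem_open V.2 hηV
    obtain ⟨n, hn⟩ := ENat.ne_top_iff_exists.mp (Ideal.height_ne_top p.isPrime.ne_top)
    exact ⟨p, n, hη', hn.symm⟩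
  have hex : ∃ n, P n := by
    obtain ⟨p, n, hp, hn⟩ := hpt W subset_rfl hW
    exact ⟨n, W, subset_rfl, hW, p, hp, hn⟩
  obtain ⟨W', hWW', hW', p, hp, hn⟩ := Nat.find_spec hex
  refine ⟨W', hWW', hW', fun W'' hW'' hle => ?_⟩
  obtain ⟨q, m, hq, hm⟩ := hpt W'' (hWW'.trans hle) hW''
  have hqp : q ≤ p := (PrimeSpectrum.le_iff_specializes q p).mpr
    (hV.fromSpec.isOpenEmbedding.isInducing.specializes_iff.mp (hq.specializes (hle hp.mem)))
  rcases eq_or_lt_of_le hqp with e | hlt
  · rw [← hp.def, ← hq.def, e]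
  · have h1 : q.asIdeal.height < p.asIdeal.height :=
      Ideal.height_strict_mono_of_isPrime (lt_of_le_of_ne hqp fun e => hlt.ne (PrimeSpectrum.ext e))
    rw [hn, hm] at h1
    exact absurd (Nat.find_min' hex ⟨W'', hWW'.trans hle, hW'', q, hq, hm⟩) (not_le.mpr (by exact_mod_cast h1))

theorem exists_countable_dense (S : Scheme.{u}) [IsNoetherian S] (T : Set S) (hd : Dense T) :
    ∃ E : Set S, E ⊆ T ∧ E.Countable ∧ Dense E := by
  classical
  let M := {W | Maximal (· ∈ CountableClosures T) W}
  have hfin : M.Finite := by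
    by_contra hinf
    let W : ℕ ↪ M := Set.Infinite.natEmbedding M hinf
    choose E hET hE hcl using fun n => (W n).2.prop.2
    obtain ⟨F, hF, hFT, hFc⟩ := exists_finite_cover_closure T (⋃ n, E n) (Set.iUnion_subset hET)
      (Set.countable_iUnion hE)
    have hmem : ∀ n, (W n : Set S) ∈ F := by
      intro n
      have hsub : (W n : Set S) ⊆ ⋃₀ F := (hcl n).ge.trans ((closure_mono (Set.subset_iUnion E n)).trans hFc)
      obtain ⟨Z, hZ, hle⟩ := isIrreducible_iff_sUnion_isClosed.mp (W n).2.prop.1 hF.toFinset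
        (fun Z hZ => by obtain ⟨E', -, -, rfl⟩ := (hFT (hF.mem_toFinset.mp hZ)).2; exact isClosed_closure)
        (by rwa [hF.coe_toFinset])
      exact ((W n).2.eq_of_subset (hFT (hF.mem_toFinset.mp hZ)) hle).symm ▸ hF.mem_toFinset.mp hZ
    exact (Set.infinite_range_of_injective (f := fun n => (W n : Set S))
      (Subtype.val_injective.comp W.injective)) (hF.subset (Set.range_subset_iff.mpr hmem))
  choose E hET hE hcl using fun W : M => W.2.prop.2
  haveI := hfin.to_subtype
  refine ⟨⋃ W : M, E W, Set.iUnion_subset hET, Set.countable_iUnion hE, fun x => closure_minimal (fun t ht => ?_) isClosed_closure (hd x)⟩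
  have h : closure {t} ∈ CountableClosures T :=
    ⟨isIrreducible_singleton.closure, {t}, Set.singleton_subset_iff.mpr ht, Set.countable_singleton t, rfl⟩
  obtain ⟨W', hsub, hmax⟩ := exists_maximal_countableClosure T h
  exact closure_mono (Set.subset_iUnion E ⟨W', hmax⟩) ((hcl ⟨W', hmax⟩).ge (hsub (subset_closure rfl)))

end MiscFlat6
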