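import Mathlib
import Groth.Agent.S9501
import Groth.Agent.GeomRedFieldLib.Reduction

/-!
# Reducedness of fibres over generic points, and of generizations
-/

set_option autoImplicit false
universe u

open CategoryTheory AlgebraicGeometry

namespace MiscFlat6

/-- The maximal ideal of the local ring at a point without proper generization is nil. -/
theorem isNilpotent_of_mem_maximalIdeal {Y : Scheme.{u}} {η : Y} (hη : ∀ y : Y, y ⤳ η → y = η)
    {a : Y.presheaf.stalk η} (ha : a ∈ IsLocalRing.maximalIdeal (Y.presheaf.stalk η)) : IsNilpotent a := by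
  rw [nilpotent_iff_mem_prime]
  intro J hJ
  let q : Spec (Y.presheaf.stalk η) := ⟨J, hJ⟩
  have hq : (Y.fromSpecStalk η).base q = η := by
    refine hη _ ?_
    have h := Set.mem_range_self (f := (Y.fromSpecStalk η).base) q
    rwa [Scheme.range_fromSpecStalk] at h
  have he : q = IsLocalRing.closedPoint _ :=
    (Y.fromSpecStalk η).isEmbedding.injective (hq.trans Scheme.fromSpecStalk_closedPoint.symm)
  have hJm : J = IsLocalRing.maximalIdeal _ := congrArg PrimeSpectrum.asIdeal he
  rwa [hJm]

/-- Over a point with nil maximal ideal in its local ring, the fibre of a reduced scheme is reduced. -/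
theorem isReduced_fiber_of_nil {X Y : Scheme.{u}} (f : X ⟶ Y) [IsReduced X] (s : Y)
    (hs : ∀ a ∈ IsLocalRing.maximalIdeal (Y.presheaf.stalk s), IsNilpotent a) : IsReduced (f.fiber s) := by
  haveI : ∀ y : f.fiber s, _root_.IsReduced ((f.fiber s).presheaf.stalk y) := fun y => by
    obtain ⟨hsurj, hker⟩ := Groth.Agent.S9501.result f s y
    have hys : f.base ((f.fiberι s).base y) = s := by
      have h := Set.mem_range_self (f := (f.fiberι s).base) y
      rwa [f.range_fiberι] at h
    have hs' : ∀ a ∈ IsLocalRing.maximalIdeal (Y.presheaf.stalk (f.base ((f.fiberι s).base y))),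
        IsNilpotent a := by rw [hys]; exact hs
    have hinj : Function.Injective ((f.fiberι s).stalkMap y).hom := by
      rw [RingHom.injective_iff_ker_eq_bot, hker, eq_bot_iff, Ideal.map_le_iff_le_comap]
      intro a ha
      exact Ideal.mem_bot.mpr (IsReduced.eq_zero _ ((hs' a ha).map _))
    exact isReduced_of_injective (RingEquiv.ofBijective _ ⟨hinj, hsurj⟩).symm (RingEquiv.injective _)
  exact isReduced_of_isReduced_stalk _

/-- Reducedness of the local ring passes to generizations. -/
theorem isReduced_stalk_of_specializes {X : Scheme.{u}} {x y : X} (h : y ⤳ x)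
    [_root_.IsReduced (X.presheaf.stalk x)] : _root_.IsReduced (X.presheaf.stalk y) := by
  obtain ⟨_, ⟨U, hU, rfl⟩, hxU, -⟩ := X.isBasis_affineOpens.exists_subset_of_mem_open (Set.mem_univ x) isOpen_univ
  have hU : IsAffineOpen U := hU
  have hyU : y ∈ U := h.mem_open U.isOpen hxU
  refine ⟨fun a ⟨n, hn⟩ => ?_⟩
  letI := TopCat.Presheaf.algebra_section_stalk X.presheaf (U := U) ⟨y, hyU⟩
  haveI := hU.isLocalization_stalk ⟨y, hyU⟩
  let py := (hU.primeIdealOf ⟨y, hyU⟩).asIdeal
  obtain ⟨⟨r, s⟩, hrs⟩ := IsLocalization.surj py.primeCompl a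
  have hr : algebraMap Γ(X, U) (X.presheaf.stalk y) r ^ n = 0 := by
    rw [← hrs, mul_pow, hn, zero_mul]
  rw [← map_pow] at hr
  obtain ⟨c, hc⟩ := (IsLocalization.map_eq_zero_iff py.primeCompl _ _).mp hr
  have h0 : IsNilpotent ((c : Γ(X, U)) * r) := ⟨n + 1, by
    rw [mul_pow, pow_succ, pow_succ, mul_mul_mul_comm]
    calc ((c : Γ(X, U)) ^ n * r ^ n) * ((c : Γ(X, U)) * r) = (c : Γ(X, U)) ^ n * r * ((c : Γ(X, U)) * r ^ n) := by ring
      _ = 0 := by rw [hc, mul_zero]⟩
  have hx0 : X.presheaf.germ U x hxU ((c : Γ(X, U)) * r) = 0 := IsReduced.eq_zero _ (h0.map _)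
  have hy0 : X.presheaf.germ U y hyU ((c : Γ(X, U)) * r) = 0 := by
    rw [← TopCat.Presheaf.germ_stalkSpecializes X.presheaf hxU h]
    rw [CommRingCat.comp_apply, hx0, map_zero]
  change algebraMap Γ(X, U) (X.presheaf.stalk y) _ = 0 at hy0
  rw [map_mul] at hy0
  have hr0 : algebraMap Γ(X, U) (X.presheaf.stalk y) r = 0 :=
    (IsLocalization.map_units (X.presheaf.stalk y) c).mul_right_eq_zero.mp hy0
  rw [hr0] at hrs
  exact (IsLocalization.map_units (X.presheaf.stalk y) s).mul_left_eq_zero.mp hrs

end MiscFlat6
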