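import Mathlib

/-!
# Images of closed subsets without interior under finite morphisms
-/

set_option autoImplicit false
universe u

open CategoryTheory AlgebraicGeometry

namespace MiscFlat6

/-- At a minimal prime every element of the prime is killed, up to nilpotents, outside it. -/
theorem exists_notMem_isNilpotent_mul {R : Type u} [CommRing R] {p : Ideal R} (hp : p ∈ minimalPrimes R)
    {g : R} (hg : g ∈ p) : ∃ s ∉ p, IsNilpotent (s * g) := by
  haveI : p.IsPrime := hp.1.1
  have hr : IsNilpotent (algebraMap R (Localization.AtPrime p) g) := by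
    rw [nilpotent_iff_mem_prime]
    intro J hJ
    have hle : J.comap (algebraMap R (Localization.AtPrime p)) ≤ p := fun a ha => by
      by_contra hap
      exact hJ.ne_top (Ideal.eq_top_of_isUnit_mem _ ha
        (IsLocalization.map_units (M := p.primeCompl) _ ⟨a, hap⟩))
    exact hp.2 ⟨Ideal.IsPrime.comap _, bot_le⟩ hle hg
  obtain ⟨n, hn⟩ := hr
  rw [← map_pow] at hn
  obtain ⟨c, hc⟩ := (IsLocalization.map_eq_zero_iff p.primeCompl _ _).mp hn
  exact ⟨c.1, c.2, n + 1, by rw [mul_pow, pow_succ _ n, pow_succ _ n, mul_mul_mul_comm,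
    show (c.1 ^ n * g ^ n) * (c.1 * g) = c.1 ^ n * g * (c.1 * g ^ n) by ring, hc, mul_zero]⟩

/-- If every prime lies under `V(K)` then some non nilpotent element kills `K` up to nilpotents. -/
theorem exists_kills_of_surjective {A B : Type u} [CommRing A] [CommRing B] [Algebra A B] [Module.Finite A B]
    [Nontrivial A] (K : Ideal B)
    (hsurj : ∀ p : Ideal A, p.IsPrime → ∃ q : Ideal B, q.IsPrime ∧ K ≤ q ∧ q.comap (algebraMap A B) = p) :
    ∃ s : B, ¬IsNilpotent s ∧ ∀ x ∈ K, IsNilpotent (s * x) := by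
  classical
  obtain ⟨m, b, hb⟩ := Module.Finite.exists_fin (R := A) (M := B)
  have hex : ∃ k : ℕ, ∃ (h : A) (v : Fin k → B), ¬IsNilpotent h ∧
      ∀ x : B, ∃ (N : ℕ) (c : Fin k → A), h ^ N • x - ∑ i, c i • v i ∈ K :=
    ⟨m, 1, b, not_isNilpotent_one, fun x => by
      obtain ⟨c, hc⟩ := (Submodule.mem_span_range_iff_exists_fun A).mp (hb ▸ Submodule.mem_top (x := x))
      exact ⟨0, c, by rw [pow_zero, one_smul, hc, sub_self]; exact K.zero_mem⟩⟩
  obtain ⟨h, v, hh, hv⟩ := Nat.find_spec hex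
  have hindep : ∀ c : Fin (Nat.find hex) → A, ∑ i, c i • v i ∈ K → ∀ i, IsNilpotent (h * c i) := by
    intro c hc i₀
    by_contra hi₀
    generalize hk : Nat.find hex = k at h v hh hv c hc i₀ hi₀
    cases k with
    | zero => exact i₀.elim0
    | succ k =>
    refine Nat.find_min hex (m := k) (by omega) ⟨h * c i₀, fun j => v (i₀.succAbove j), hi₀, fun x => ?_⟩
    obtain ⟨N, a, ha⟩ := hv x
    refine ⟨N + 1, fun j => h * c i₀ ^ N * (a (i₀.succAbove j) * c i₀ - a i₀ * c (i₀.succAbove j)), ?_⟩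
    have hid : (h * c i₀) ^ (N + 1) • x
        - ∑ j, (h * c i₀ ^ N * (a (i₀.succAbove j) * c i₀ - a i₀ * c (i₀.succAbove j))) • v (i₀.succAbove j)
        = (h * c i₀ ^ (N + 1)) • (h ^ N • x - ∑ i, a i • v i) + (h * c i₀ ^ N * a i₀) • (∑ i, c i • v i) := by
      rw [Fin.sum_univ_succAbove _ i₀, Fin.sum_univ_succAbove _ i₀]
      simp only [sub_smul, mul_smul, mul_sub, smul_sub, smul_add, Finset.smul_sum, Finset.sum_sub_distrib,
        Algebra.smul_def, map_pow, map_mul]
      simp only [pow_succ, mul_pow, Finset.mul_sum, map_pow, map_mul, map_sub, sub_mul, mul_sub,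
        Finset.sum_sub_distrib, mul_add]
      ring_nf
    rw [hid]
    exact K.add_mem (Submodule.smul_of_tower_mem K _ ha) (Submodule.smul_of_tower_mem K _ hc)
  obtain ⟨P, hP, hhP⟩ : ∃ P : Ideal A, P.IsPrime ∧ h ∉ P := by
    by_contra hne
    push Not at hne
    exact hh (nilpotent_iff_mem_prime.mpr hne)
  obtain ⟨η, hη, hηP⟩ := Ideal.exists_minimalPrimes_le (I := (⊥ : Ideal A)) (J := P) bot_le
  obtain ⟨q, hq, hKq, hqη⟩ := hsurj η hη.1.1
  have hqmin : q ∈ minimalPrimes B := by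
    refine ⟨⟨hq, bot_le⟩, fun Q hQ hle => ?_⟩
    haveI : Q.IsPrime := hQ.1
    by_contra hne
    have hc : Q.comap (algebraMap A B) = q.comap (algebraMap A B) := le_antisymm (Ideal.comap_mono hle)
      (hqη.symm ▸ hη.2 ⟨Ideal.IsPrime.comap _, bot_le⟩ (hqη ▸ Ideal.comap_mono hle))
    obtain ⟨x, hxq, hxQ⟩ := Set.not_subset.mp hne
    exact (Ideal.comap_lt_comap_of_integral_mem_sdiff (R := A) hle ⟨hxq, hxQ⟩
      (Algebra.IsIntegral.isIntegral x)).ne hc
  choose N a ha using fun j => hv (b j)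
  let M := Finset.univ.sup N
  let κ : Fin m → B := fun j => h ^ (M - N j) • (h ^ N j • b j - ∑ i, a j i • v i)
  have hκ : ∀ j, κ j ∈ K := fun j => Submodule.smul_of_tower_mem K _ (ha j)
  choose t ht htn using fun j => exists_notMem_isNilpotent_mul hqmin (hKq (hκ j))
  refine ⟨algebraMap A B h ^ (M + 1) * ∏ j, t j, fun hn => ?_, fun x hx => ?_⟩
  · have := nilpotent_iff_mem_prime.mp hn q hq
    rcases hq.mem_or_mem this with h1 | h1
    · exact hhP (hηP (hqη ▸ (hq.mem_of_pow_mem _ h1 : algebraMap A B h ∈ q)))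
    · obtain ⟨j, -, hj⟩ := (hq.prod_mem_iff).mp h1
      exact ht j hj
  · obtain ⟨r, hr⟩ := (Submodule.mem_span_range_iff_exists_fun A).mp (hb ▸ Submodule.mem_top (x := x))
    let c : Fin (Nat.find hex) → A := fun i => ∑ j, r j * h ^ (M - N j) * a j i
    have hx2 : h ^ M • x = ∑ j, r j • κ j + ∑ i, c i • v i := by
      have hj : ∀ j, h ^ M • r j • b j = r j • κ j + ∑ i, (r j * h ^ (M - N j) * a j i) • v i := fun j => by
        have hM : M = (M - N j) + N j := (Nat.sub_add_cancel (Finset.le_sup (Finset.mem_univ j))).symm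
        simp only [κ, smul_sub, Finset.smul_sum, ← mul_smul]
        rw [sub_add_eq_add_sub, ← mul_assoc, mul_assoc (r j), ← pow_add, ← hM, mul_comm (h ^ M)]
        simp only [mul_assoc, add_sub_cancel_right]
      rw [← hr, Finset.smul_sum, Finset.sum_congr rfl fun j _ => hj j, Finset.sum_add_distrib]
      congr 1
      rw [Finset.sum_comm]
      exact Finset.sum_congr rfl fun i _ => (Finset.sum_smul).symm
    have hcK : ∑ i, c i • v i ∈ K := by
      rw [eq_sub_of_add_eq' hx2.symm]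
      exact K.sub_mem (Submodule.smul_of_tower_mem K _ hx)
        (K.sum_mem fun j _ => Submodule.smul_of_tower_mem K _ (hκ j))
    have hnil := hindep c hcK
    rw [← mem_nilradical]
    have key : algebraMap A B h ^ (M + 1) * (∏ j, t j) * x =
        ∑ j, (algebraMap A B (h * r j) * ((∏ j, t j) * κ j)) +
          ∑ i, algebraMap A B (h * c i) * ((∏ j, t j) * v i) := by
      have h2 : algebraMap A B h ^ (M + 1) * (∏ j, t j) * x = algebraMap A B h * (∏ j, t j) * (h ^ M • x) := by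
        rw [Algebra.smul_def, map_pow]; ring
      rw [h2, hx2, mul_add, Finset.mul_sum, Finset.mul_sum]
      congr 1 <;> refine Finset.sum_congr rfl fun _ _ => ?_ <;> rw [Algebra.smul_def, map_mul] <;> ring
    rw [key]
    refine Ideal.add_mem _ (Ideal.sum_mem _ fun j _ => Ideal.mul_mem_left _ _ ?_)
      (Ideal.sum_mem _ fun i _ => Ideal.mul_mem_right _ _ (mem_nilradical.mpr ((hnil i).map _)))
    rw [← Finset.mul_prod_erase _ _ (Finset.mem_univ j), mul_comm (t j), mul_assoc]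
    exact Ideal.mul_mem_left _ _ (mem_nilradical.mpr (htn j))

/-- A finite morphism maps closed sets without interior onto sets without interior. -/
theorem interior_image_eq_empty {X Y : Scheme.{u}} (f : X ⟶ Y) [IsFinite f] (T : Set X) (hT : IsClosed T)
    (hT' : interior T = ∅) : interior (f.base '' T) = ∅ := by
  by_contra hne
  obtain ⟨y, hy⟩ := Set.nonempty_iff_ne_empty.mpr hne
  obtain ⟨_, ⟨U, hU, rfl⟩, hyU, hUT⟩ := Y.isBasis_affineOpens.exists_subset_of_mem_open hy isOpen_interior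
  have hU : IsAffineOpen U := hU
  have hV : IsAffineOpen (f ⁻¹ᵁ U) := hU.preimage f
  letI := (f.app U).hom.toAlgebra
  haveI : Module.Finite Γ(Y, U) Γ(X, f ⁻¹ᵁ U) := f.finite_app U hU
  haveI : Nontrivial Γ(Y, U) := PrimeSpectrum.nonempty_iff_nontrivial.mp ⟨hU.primeIdealOf ⟨y, hyU⟩⟩
  have happ : ∀ q, hU.fromSpec.base (PrimeSpectrum.comap (f.app U).hom q) = f.base (hV.fromSpec.base q) := by
    intro q
    have e := IsAffineOpen.SpecMap_appLE_fromSpec f hU hV le_rfl
    rw [← Scheme.Hom.app_eq_appLE] at e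
    exact congr($(e).base q)
  let K : Ideal Γ(X, f ⁻¹ᵁ U) := PrimeSpectrum.vanishingIdeal (hV.fromSpec.base ⁻¹' T)
  have hzero : PrimeSpectrum.zeroLocus (K : Set Γ(X, f ⁻¹ᵁ U)) = hV.fromSpec.base ⁻¹' T := by
    rw [PrimeSpectrum.zeroLocus_vanishingIdeal_eq_closure]
    exact (hT.preimage hV.fromSpec.continuous).closure_eq
  obtain ⟨s, hs, hsK⟩ := exists_kills_of_surjective (A := Γ(Y, U)) K fun p hp => by
    have hmem : hU.fromSpec.base ⟨p, hp⟩ ∈ (U : Set Y) := by
      rw [← hU.range_fromSpec]; exact ⟨_, rfl⟩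
    obtain ⟨x, hxT, hx⟩ := interior_subset (hUT hmem)
    have hxV : x ∈ f ⁻¹ᵁ U := by
      show f.base x ∈ U
      rw [hx]; exact hmem
    refine ⟨(hV.primeIdealOf ⟨x, hxV⟩).asIdeal, inferInstance, ?_, ?_⟩
    · have h1 : hV.primeIdealOf ⟨x, hxV⟩ ∈ PrimeSpectrum.zeroLocus (K : Set Γ(X, f ⁻¹ᵁ U)) := by
        rw [hzero]
        show hV.fromSpec.base (hV.primeIdealOf ⟨x, hxV⟩) ∈ T
        rwa [hV.fromSpec_primeIdealOf]
      exact h1
    · refine congrArg PrimeSpectrum.asIdeal (hU.fromSpec.isOpenEmbedding.injective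
        (a₁ := PrimeSpectrum.comap (f.app U).hom (hV.primeIdealOf ⟨x, hxV⟩)) (a₂ := ⟨p, hp⟩) ?_)
      rw [happ, hV.fromSpec_primeIdealOf]
      exact hx
  have hsub : hV.fromSpec.base '' ((PrimeSpectrum.basicOpen s : TopologicalSpace.Opens (PrimeSpectrum Γ(X, f ⁻¹ᵁ U))) : Set (PrimeSpectrum Γ(X, f ⁻¹ᵁ U))) ⊆ interior T := by
    refine interior_maximal ?_ (hV.fromSpec.isOpenEmbedding.isOpenMap _ (PrimeSpectrum.basicOpen s).isOpen)
    rintro _ ⟨q, hq, rfl⟩
    show q ∈ hV.fromSpec.base ⁻¹' T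
    rw [← hzero]
    exact fun x hx => (q.isPrime.mem_or_mem (nilpotent_iff_mem_prime.mp (hsK x hx) _ q.isPrime)).resolve_left hq
  rw [hT'] at hsub
  refine hs (nilpotent_iff_mem_prime.mpr fun J hJ => ?_)
  by_contra hJs
  exact hsub ⟨⟨J, hJ⟩, hJs, rfl⟩

end MiscFlat6
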