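import Groth.Agent.MiscFlat6.GenericPieces

/-!
# Finite over open subsets of the target
-/

set_option autoImplicit false
universe u

open CategoryTheory Limits AlgebraicGeometry TopologicalSpace Topology

namespace MiscFlat6

/-- Restriction of a piece to the preimage of an open. -/
theorem isFinite_piece_restrict {Y X : Scheme.{u}} (f : Y ⟶ X) (V : Y.Opens) (hV : IsFinite (V.ι ≫ f))
    (U : X.Opens) : IsFinite (((f ⁻¹ᵁ U).ι ⁻¹ᵁ V).ι ≫ (f ∣_ U)) := by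
  have : IsFinite ((V.ι ≫ f) ∣_ U) := IsZariskiLocalAtTarget.restrict hV U
  let k := V.ι ∣_ (f ⁻¹ᵁ U)
  have hrange : Set.range k.base = Set.range ((f ⁻¹ᵁ U).ι ⁻¹ᵁ V).ι.base := by
    rw [← Scheme.Hom.coe_opensRange, ← Scheme.Hom.coe_opensRange, Scheme.Opens.opensRange_ι]
    congr 1
    ext z
    constructor
    · rintro ⟨w, rfl⟩
      show (k.base w).1 ∈ V
      rw [morphismRestrict_base_coe]
      exact w.1.2
    · intro hz
      refine ⟨⟨⟨z.1, hz⟩, z.2⟩, Subtype.ext ?_⟩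
      rw [morphismRestrict_base_coe]
      rfl
  let e := IsOpenImmersion.isoOfRangeEq ((f ⁻¹ᵁ U).ι ⁻¹ᵁ V).ι k hrange.symm
  rw [← IsOpenImmersion.isoOfRangeEq_hom_fac ((f ⁻¹ᵁ U).ι ⁻¹ᵁ V).ι k hrange.symm, Category.assoc,
    show k ≫ (f ∣_ U) = (V.ι ≫ f) ∣_ U from (morphismRestrict_comp _ _ _).symm]
  exact MorphismProperty.comp_mem @IsFinite _ _ inferInstance ‹IsFinite ((V.ι ≫ f) ∣_ U)›

/-- Images of the boundaries of the overlaps. -/
def badSet {Y X : Scheme.{u}} (f : Y ⟶ X) {n : ℕ} (V : Fin n → Y.Opens) (i j : Fin n) : Set X :=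
  ((V i).ι ≫ f).base '' (closure ((V i).ι ⁻¹ᵁ V j : Set (V i : Scheme.{u})) \ ((V i).ι ⁻¹ᵁ V j : Set (V i : Scheme.{u})))

theorem isClosed_badSet {Y X : Scheme.{u}} (f : Y ⟶ X) {n : ℕ} (V : Fin n → Y.Opens)
    (hfin : ∀ i, IsFinite ((V i).ι ≫ f)) (i j : Fin n) : IsClosed (badSet f V i j) := by
  haveI := hfin i
  exact ((V i).ι ≫ f).isClosedMap _ (isClosed_closure.sdiff ((V i).ι ⁻¹ᵁ V j).2)

theorem interior_badSet {Y X : Scheme.{u}} (f : Y ⟶ X) {n : ℕ} (V : Fin n → Y.Opens)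
    (hfin : ∀ i, IsFinite ((V i).ι ≫ f)) (i j : Fin n) : interior (badSet f V i j) = ∅ := by
  haveI := hfin i
  refine interior_image_eq_empty _ _ (isClosed_closure.sdiff ((V i).ι ⁻¹ᵁ V j).2) ?_
  rw [Set.eq_empty_iff_forall_notMem]
  intro z hz
  obtain ⟨w, hw, hw'⟩ := mem_closure_iff.mp (interior_subset hz).1 _ isOpen_interior hz
  exact (interior_subset hw).2 hw'

/-- Away from the boundaries the pieces glue to a finite morphism. -/
theorem isFinite_restrict_of_avoid {Y X : Scheme.{u}} (f : Y ⟶ X) {n : ℕ} (V : Fin n → Y.Opens)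
    (hcov : ∀ y, ∃ i, y ∈ V i) (hfin : ∀ i, IsFinite ((V i).ι ≫ f))
    (U : X.Opens) (hU : IsAffineOpen U) (havoid : ∀ i j, ∀ x ∈ U, x ∉ badSet f V i j) : IsFinite (f ∣_ U) := by
  haveI : IsAffine (U : Scheme.{u}) := hU
  refine isFinite_of_pieces (f ∣_ U) (fun i => (f ⁻¹ᵁ U).ι ⁻¹ᵁ V i) (fun y => hcov y.1)
    (fun i => isFinite_piece_restrict f (V i) (hfin i) U) fun i j y hy hycl => ?_
  by_contra hyj
  refine havoid i j (f.base y.1) y.2 ⟨⟨y.1, hy⟩, ⟨mem_closure_iff.mpr fun O hO hyO => ?_, hyj⟩, rfl⟩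
  obtain ⟨O', hO', rfl⟩ := isOpen_induced_iff.mp hO
  obtain ⟨w, hwO, hwi, hwj⟩ := mem_closure_iff.mp hycl _ (hO'.preimage continuous_subtype_val) hyO
  exact ⟨⟨w.1, hwi⟩, hwO, hwj⟩

/-- A nonempty affine open contains a point without proper generization. -/
theorem exists_generic {X : Scheme.{u}} [IsAffine X] [Nonempty X] : ∃ η : X, ∀ x, x ⤳ η → x = η := by
  have hX := isAffineOpen_top X
  obtain ⟨x⟩ := ‹Nonempty X›
  obtain ⟨η, hη, -⟩ := Ideal.exists_minimalPrimes_le (I := (⊥ : Ideal Γ(X, ⊤)))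
    (J := (hX.primeIdealOf ⟨x, trivial⟩).asIdeal) bot_le
  let p : PrimeSpectrum Γ(X, ⊤) := ⟨η, hη.1.1⟩
  refine ⟨hX.fromSpec.base p, fun z hz => ?_⟩
  let q := hX.primeIdealOf ⟨z, trivial⟩
  have hq : hX.fromSpec.base q = z := hX.fromSpec_primeIdealOf ⟨z, trivial⟩
  have h1 : q ⤳ p := hX.fromSpec.isOpenEmbedding.isInducing.specializes_iff.mp (by
    show hX.fromSpec.base q ⤳ hX.fromSpec.base p
    rwa [show hX.fromSpec.base q = z from hq])
  have h2 : q.asIdeal ≤ η := (PrimeSpectrum.le_iff_specializes q p).mpr h1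
  rw [← hq, show q = p from PrimeSpectrum.ext (le_antisymm h2 (hη.2 ⟨q.isPrime, bot_le⟩ h2))]

/-- A quasi-finite morphism is finite over a nonempty open inside any nonempty open. -/
theorem exists_open_finite {Y X : Scheme.{u}} (f : Y ⟶ X) [LocallyQuasiFinite f] [LocallyOfFiniteType f] [QuasiCompact f]
    (O : X.Opens) (hO : (O : Set X).Nonempty) :
    ∃ U : X.Opens, U ≤ O ∧ (U : Set X).Nonempty ∧ IsFinite (f ∣_ U) := by
  classical
  obtain ⟨x, hx⟩ := hO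
  obtain ⟨_, ⟨U₀, hU₀, rfl⟩, hxU₀, hU₀O⟩ := X.isBasis_affineOpens.exists_subset_of_mem_open hx O.2
  haveI : IsAffine (U₀ : Scheme.{u}) := hU₀
  haveI : Nonempty (U₀ : Scheme.{u}) := ⟨⟨x, hxU₀⟩⟩
  haveI : LocallyQuasiFinite (f ∣_ U₀) := IsZariskiLocalAtTarget.restrict ‹_› U₀
  haveI : LocallyOfFiniteType (f ∣_ U₀) := IsZariskiLocalAtTarget.restrict ‹_› U₀
  haveI : QuasiCompact (f ∣_ U₀) := IsZariskiLocalAtTarget.restrict ‹_› U₀
  obtain ⟨η, hη⟩ := exists_generic (X := (U₀ : Scheme.{u}))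
  obtain ⟨h, hηh, n, V, hcov, hfin⟩ := exists_pieces (f ∣_ U₀) η hη ((f ∣_ U₀).finite_preimage_singleton η)
  let U₁ := (U₀ : Scheme.{u}).basicOpen h
  let g := (f ∣_ U₀) ∣_ U₁
  have hdense : ∀ S : Finset (Fin n × Fin n),
      Dense (⋂ p ∈ S, (badSet g V p.1 p.2)ᶜ) ∧ IsOpen (⋂ p ∈ S, (badSet g V p.1 p.2)ᶜ) := fun S => by
    induction S using Finset.induction with
    | empty => simp
    | insert p S _ ih =>
      rw [Finset.set_biInter_insert]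
      exact ⟨(interior_eq_empty_iff_dense_compl.mp (interior_badSet g V hfin p.1 p.2)).inter_of_isOpen_left ih.1
        (isClosed_badSet g V hfin p.1 p.2).isOpen_compl, (isClosed_badSet g V hfin p.1 p.2).isOpen_compl.inter ih.2⟩
  haveI : Nonempty (U₁ : Scheme.{u}) := ⟨⟨η, hηh⟩⟩
  obtain ⟨z, hz⟩ := (hdense Finset.univ).1.nonempty
  obtain ⟨_, ⟨U₂, hU₂, rfl⟩, hzU₂, hU₂le⟩ :=
    (U₁ : Scheme.{u}).isBasis_affineOpens.exists_subset_of_mem_open hz (hdense Finset.univ).2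
  have hfinU : IsFinite (g ∣_ U₂) := isFinite_restrict_of_avoid g V hcov hfin U₂ hU₂ fun i j w hw =>
    Set.mem_iInter₂.mp (hU₂le hw) (i, j) (Finset.mem_univ _)
  refine ⟨Scheme.Opens.ι U₀ ''ᵁ (Scheme.Opens.ι U₁ ''ᵁ U₂), fun w hw => ?_, ⟨z.1.1, ⟨z.1, ⟨z, hzU₂, rfl⟩, rfl⟩⟩, ?_⟩
  · obtain ⟨a, -, rfl⟩ := hw
    exact hU₀O a.2
  · rw [← MorphismProperty.arrow_mk_iso_iff @IsFinite (morphismRestrictRestrict f U₀ (Scheme.Opens.ι U₁ ''ᵁ U₂)),
      ← MorphismProperty.arrow_mk_iso_iff @IsFinite (morphismRestrictRestrict (f ∣_ U₀) U₁ U₂)]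
    exact hfinU

end MiscFlat6
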