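import Groth.Agent.S6372
import Mathlib.AlgebraicGeometry.Morphisms.SchemeTheoreticallyDominant
import Mathlib.AlgebraicGeometry.Morphisms.ClosedImmersion
import Mathlib.AlgebraicGeometry.Morphisms.Separated
import Mathlib.Algebra.Category.Ring.Epi

/-!
# Flat monomorphisms: stalk maps are isomorphisms; separated flat maps iso over a dense open are mono
-/

set_option autoImplicit false
universe u

open CategoryTheory Limits AlgebraicGeometry

namespace MiscFlat6

/-- Stalk maps of a flat monomorphism are isomorphisms. -/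
theorem isIso_stalkMap_of_flat_mono {X S : Scheme.{u}} (f : X ⟶ S) [Flat f] [Mono f] (x : X) :
    IsIso (f.stalkMap x) := by
  have : Mono (Spec.map (f.stalkMap x) ≫ S.fromSpecStalk (f x)) := by
    rw [Scheme.SpecMap_stalkMap_fromSpecStalk]
    infer_instance
  have : Mono (Spec.map (f.stalkMap x)) := mono_of_mono _ (S.fromSpecStalk (f x))
  have hepi : Epi (f.stalkMap x) := ⟨fun g h e => Spec.map_injective <| by
    rw [← cancel_mono (Spec.map (f.stalkMap x)), ← Spec.map_comp, ← Spec.map_comp, e]⟩
  have hflat : (f.stalkMap x).hom.Flat := Flat.stalkMap f x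
  algebraize [(f.stalkMap x).hom]
  haveI : IsLocalHom (algebraMap (S.presheaf.stalk (f x)) (X.presheaf.stalk x)) :=
    inferInstanceAs (IsLocalHom (f.stalkMap x).hom)
  haveI : Module.FaithfullyFlat (S.presheaf.stalk (f x)) (X.presheaf.stalk x) :=
    Module.FaithfullyFlat.of_flat_of_isLocalHom
  haveI : Algebra.IsEpi (S.presheaf.stalk (f x)) (X.presheaf.stalk x) :=
    CommRingCat.epi_iff_epi.mp hepi
  exact (ConcreteCategory.isIso_iff_bijective _).mpr
    (Groth.Agent.S6372.bijective_of_ff (S.presheaf.stalk (f x)) (X.presheaf.stalk x))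

/-- A separated flat morphism which is an isomorphism over a quasi-compact scheme-theoretically dense
open is a monomorphism. -/
theorem mono_of_iso_over_dense {X S : Scheme.{u}} (f : X ⟶ S) [IsSeparated f] [Flat f]
    (U : S.Opens) [QuasiCompact U.ι] [IsSchemeTheoreticallyDominant U.ι] [IsIso (f ∣_ U)] : Mono f := by
  let g : pullback f f ⟶ S := pullback.fst f f ≫ f
  have : Flat (pullback.fst f f) := inferInstance
  have : Flat g := Flat.comp _ _
  let p : pullback g U.ι ⟶ pullback f f := pullback.fst g U.ι
  have hmem : ∀ (a : pullback g U.ι ⟶ X), a ≫ f = p ≫ g → Set.range a ⊆ Set.range (f ⁻¹ᵁ U).ι := by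
    rintro a ha _ ⟨z, rfl⟩
    rw [Scheme.Opens.range_ι]
    show f (a z) ∈ U
    rw [← Scheme.Hom.comp_apply, ha, pullback.condition, Scheme.Hom.comp_apply]
    exact (pullback.snd g U.ι z).2
  have h1 := hmem (p ≫ pullback.fst f f) (Category.assoc _ _ _)
  have h2 := hmem (p ≫ pullback.snd f f) (by rw [Category.assoc, ← pullback.condition])
  have hab : p ≫ pullback.fst f f = p ≫ pullback.snd f f := by
    rw [← IsOpenImmersion.lift_fac _ _ h1, ← IsOpenImmersion.lift_fac _ _ h2]
    congr 1
    rw [← cancel_mono (f ∣_ U ≫ U.ι), morphismRestrict_ι, IsOpenImmersion.lift_fac_assoc,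
      IsOpenImmersion.lift_fac_assoc, Category.assoc, Category.assoc,
      pullback.condition (f := f) (g := f)]
  have hfac : (p ≫ pullback.fst f f) ≫ pullback.diagonal f = p := by
    apply pullback.hom_ext
    · simp
    · simp [hab]
  have hker : (pullback.diagonal f).ker = ⊥ := by
    apply le_bot_iff.mp
    have hp : p.ker = ⊥ := Scheme.Hom.ker_eq_bot p
    rw [← hp]
    conv_rhs => rw [← hfac]
    exact Scheme.Hom.le_ker_comp _ _
  have : IsIso (pullback.diagonal f) := IsClosedImmersion.isIso_iff_ker_eq_bot.mpr hker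
  exact (pullback.isIso_diagonal_iff f).mp this

end MiscFlat6
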