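import Groth.Agent.MiscFlat6.FiniteImage

/-!
# Quasi-finite morphisms are finite over open neighbourhoods of generic points
-/

set_option autoImplicit false
universe u

open CategoryTheory Limits AlgebraicGeometry TensorProduct TopologicalSpace

namespace MiscFlat6

/-- Over a minimal prime with finite fibre every element satisfies a polynomial with a coefficient outside it. -/
theorem exists_poly {A B : Type u} [CommRing A] [CommRing B] [Algebra A B] {η : Ideal A} [η.IsPrime]
    (hη : η ∈ minimalPrimes A) [Module.Finite η.ResidueField (η.Fiber B)] (b : B) :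
    ∃ (g : Polynomial A) (d : ℕ), g.natDegree ≤ d ∧ g.coeff d ∉ η ∧ Polynomial.aeval b g = 0 := by
  obtain ⟨G, hG, hG0⟩ := IsIntegral.of_finite η.ResidueField ((1 : η.ResidueField) ⊗ₜ[A] b)
  have hG1 : Polynomial.aeval ((1 : η.ResidueField) ⊗ₜ[A] b : η.Fiber B) G = 0 := hG0
  obtain ⟨g, hgG, hdeg⟩ : ∃ g : Polynomial A,
      (∃ a ∉ η, g.map (algebraMap A η.ResidueField) = Polynomial.C (algebraMap A η.ResidueField a) * G) ∧
      g.natDegree ≤ G.natDegree := by
    obtain ⟨g₁, hg₁⟩ : ∃ g₁ : Polynomial (A ⧸ η), g₁ = IsLocalization.integerNormalization (nonZeroDivisors (A ⧸ η)) G :=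
      ⟨_, rfl⟩
    obtain ⟨c, hc⟩ := IsLocalization.integerNormalization_map_to_map (nonZeroDivisors (A ⧸ η)) G
    obtain ⟨a, ha⟩ := Ideal.Quotient.mk_surjective (c : A ⧸ η)
    obtain ⟨g, hg, hdeg⟩ : ∃ g : Polynomial A, g.map (Ideal.Quotient.mk η) = g₁ ∧ g.natDegree ≤ g₁.natDegree := by
      obtain ⟨g, hg, hd⟩ := Polynomial.mem_lifts_and_degree_eq
        (show g₁ ∈ Polynomial.lifts (Ideal.Quotient.mk η) from
          Polynomial.map_surjective _ Ideal.Quotient.mk_surjective g₁)
      exact ⟨g, hg, (Polynomial.natDegree_le_natDegree (le_of_eq hd))⟩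
    refine ⟨g, ⟨a, fun h => nonZeroDivisors.coe_ne_zero c ?_, ?_⟩, hdeg.trans ?_⟩
    · rw [← ha]; exact Ideal.Quotient.eq_zero_iff_mem.mpr h
    · rw [IsScalarTower.algebraMap_eq A (A ⧸ η) η.ResidueField, ← Polynomial.map_map,
        Ideal.Quotient.algebraMap_eq, hg, hg₁, hc, RingHom.comp_apply, ha, Algebra.smul_def,
        Polynomial.algebraMap_apply]
    · refine Polynomial.natDegree_le_iff_coeff_eq_zero.mpr fun n hn => ?_
      have := congrArg (fun P => Polynomial.coeff P n) hc
      simp only [Polynomial.coeff_map, Polynomial.coeff_smul,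
        Polynomial.coeff_eq_zero_of_natDegree_lt hn, smul_zero] at this
      rw [hg₁]
      exact IsFractionRing.injective (A ⧸ η) η.ResidueField (this.trans (map_zero _).symm)
  obtain ⟨a, ha, hga⟩ := hgG
  let x := Polynomial.aeval b g
  have hx1 : (1 : η.ResidueField) ⊗ₜ[A] x = 0 := by
    have h1 : (Algebra.TensorProduct.includeRight : B →ₐ[A] η.Fiber B) x =
        Polynomial.aeval ((1 : η.ResidueField) ⊗ₜ[A] b : η.Fiber B) (g.map (algebraMap A η.ResidueField)) := by
      rw [Polynomial.aeval_map_algebraMap, ← Polynomial.aeval_algHom_apply]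
      rfl
    rw [hga, map_mul, hG1, mul_zero] at h1
    exact h1
  have hxq : ∀ q : Ideal B, q.IsPrime → q.comap (algebraMap A B) = η → x ∈ q := by
    intro q hq hqη
    haveI := hq
    let ψ : η.Fiber B →ₐ[A] q.ResidueField := Algebra.TensorProduct.lift
      { Ideal.ResidueField.map η q (algebraMap A B) hqη.symm with
        commutes' := fun r => by
          show Ideal.ResidueField.map η q (algebraMap A B) hqη.symm (algebraMap A η.ResidueField r) = _
          rw [Ideal.ResidueField.map_algebraMap]; exact (IsScalarTower.algebraMap_apply A B q.ResidueField r).symm }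
      (IsScalarTower.toAlgHom A B q.ResidueField) fun _ _ => Commute.all _ _
    have := congrArg ψ hx1
    rw [map_zero, Algebra.TensorProduct.lift_tmul, map_one, one_mul] at this
    exact Ideal.algebraMap_residueField_eq_zero.mp this
  obtain ⟨s, hs, n, hn⟩ : ∃ s ∉ η, ∃ n : ℕ, algebraMap A B s * x ^ n = 0 := by
    have hr : IsNilpotent (algebraMap B (Localization (Algebra.algebraMapSubmonoid B η.primeCompl)) x) := by
      rw [nilpotent_iff_mem_prime]
      intro J hJ
      obtain ⟨hq, hdis⟩ := (IsLocalization.isPrime_iff_isPrime_disjoint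
        (Algebra.algebraMapSubmonoid B η.primeCompl) _ J).mp hJ
      refine hxq _ hq ?_
      have hle : (Ideal.comap (algebraMap B (Localization (Algebra.algebraMapSubmonoid B η.primeCompl))) J).comap
          (algebraMap A B) ≤ η := fun r hr => by
        by_contra hr'
        exact Set.disjoint_left.mp hdis ⟨r, hr', rfl⟩ hr
      exact le_antisymm hle (hη.2 ⟨Ideal.IsPrime.comap _, bot_le⟩ hle)
    obtain ⟨n, hn⟩ := hr
    rw [← map_pow] at hn
    obtain ⟨⟨_, s, hs, rfl⟩, hc⟩ := (IsLocalization.map_eq_zero_iff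
      (Algebra.algebraMapSubmonoid B η.primeCompl) _ _).mp hn
    exact ⟨s, hs, n, hc⟩
  refine ⟨Polynomial.C s * g ^ n, n * G.natDegree, ?_, ?_, ?_⟩
  · exact (Polynomial.natDegree_C_mul_le _ _).trans
      (Polynomial.natDegree_pow_le.trans (Nat.mul_le_mul_left n hdeg))
  · rw [Polynomial.coeff_C_mul, Polynomial.coeff_pow_of_natDegree_le hdeg]
    have hc : g.coeff G.natDegree ∉ η := by
      intro h
      have := congrArg (fun P => Polynomial.coeff P G.natDegree) hga
      simp only [Polynomial.coeff_map, Polynomial.coeff_C_mul, hG.coeff_natDegree, mul_one] at this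
      rw [Ideal.algebraMap_residueField_eq_zero.mpr h] at this
      exact ha (Ideal.algebraMap_residueField_eq_zero.mp this.symm)
    exact fun h => (‹η.IsPrime›.mem_or_mem h).elim hs fun h' => hc (‹η.IsPrime›.mem_of_pow_mem _ h')
  · rw [map_mul, Polynomial.aeval_C, map_pow]
    exact hn

/-- Over an affine base, finite pieces that are relatively closed glue to a finite morphism. -/
theorem isFinite_of_pieces {Y X : Scheme.{u}} [IsAffine X] (f : Y ⟶ X) {n : ℕ} (V : Fin n → Y.Opens)
    (hcov : ∀ y, ∃ i, y ∈ V i) (hfin : ∀ i, IsFinite ((V i).ι ≫ f))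
    (hcl : ∀ i j, ∀ y ∈ V i, y ∈ closure ((V i : Set Y) ∩ V j) → y ∈ V j) : IsFinite f := by
  classical
  have hopen : ∀ i, IsOpen ((V i : Set Y) \ ⋃ j : Fin n, ⋃ _ : j < i, (V j : Set Y)) := fun i => by
    have : (V i : Set Y) \ ⋃ j : Fin n, ⋃ _ : j < i, (V j : Set Y) =
        (V i : Set Y) \ ⋃ j : Fin n, ⋃ _ : j < i, closure ((V i : Set Y) ∩ V j) := by
      ext y
      simp only [Set.mem_diff, Set.mem_iUnion, not_exists, SetLike.mem_coe]
      exact and_congr_right fun hy => forall_congr' fun j => forall_congr' fun _ =>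
        not_congr ⟨fun h => subset_closure ⟨hy, h⟩, hcl i j y hy⟩
    rw [this]
    exact (V i).2.sdiff (isClosed_iUnion_of_finite fun j => isClosed_iUnion_of_finite fun _ => isClosed_closure)
  let P : Fin n → Y.Opens := fun i => ⟨_, hopen i⟩
  have hPV : ∀ i, P i ≤ V i := fun i y hy => hy.1
  have hPfin : ∀ i, IsFinite ((P i).ι ≫ f) := fun i => by
    haveI : IsClosedImmersion (Y.homOfLE (hPV i)) := by
      refine IsClosedImmersion.of_isPreimmersion _ ?_
      rw [← Scheme.Hom.coe_opensRange, Scheme.opensRange_homOfLE]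
      have : ((V i).ι ⁻¹ᵁ P i : Set (V i : Scheme.{u})) =
          (Subtype.val ⁻¹' (⋃ j : Fin n, ⋃ _ : j < i, (V j : Set Y)) : Set (V i : Scheme.{u}))ᶜ := by
        ext ⟨y, hy⟩
        exact ⟨fun h => h.2, fun h => ⟨hy, h⟩⟩
      rw [this, isClosed_compl_iff]
      exact (isOpen_iUnion fun j => isOpen_iUnion fun _ => (V j).2).preimage continuous_subtype_val
    haveI := hfin i
    rw [← Scheme.homOfLE_ι Y (hPV i), Category.assoc]
    infer_instance
  have hPcov : ∀ y, ∃ i, y ∈ P i := fun y => by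
    obtain ⟨i₀, hi₀⟩ := hcov y
    let S := Finset.univ.filter fun i => y ∈ V i
    have hS : S.Nonempty := ⟨i₀, by simp [S, hi₀]⟩
    refine ⟨S.min' hS, (Finset.mem_filter.mp (S.min'_mem hS)).2, ?_⟩
    simp only [Set.mem_iUnion, not_exists, SetLike.mem_coe]
    exact fun j hj hy => absurd (S.min'_le j (by simp [S, hy])) (not_le.mpr hj)
  have haff : ∀ i, IsAffineOpen (P i) := fun i => haveI := hPfin i; isAffine_of_isAffineHom ((P i).ι ≫ f)
  have htop : ⨆ i, P i = ⊤ := top_le_iff.mp fun y _ => Opens.mem_iSup.mpr (hPcov y)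
  have hY : IsAffineOpen (⊤ : Y.Opens) := htop ▸ IsAffineOpen.iSup_of_disjoint haff (fun i j hij => by
    have key : ∀ i j, i < j → Disjoint (P i) (P j) := fun i j h =>
      disjoint_iff_inf_le.mpr fun y hy => (hy.2.2 (Set.mem_iUnion₂.mpr ⟨i, h, hy.1.1⟩)).elim
    rcases hij.lt_or_gt with h | h
    exacts [key i j h, (key j i h).symm])
  haveI : IsAffine Y := haveI : IsAffine ((⊤ : Y.Opens) : Scheme.{u}) := hY; .of_isIso Y.topIso.inv
  haveI : LocallyOfFiniteType f := (IsZariskiLocalAtSource.iff_of_openCover (P := @LocallyOfFiniteType)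
    (Y.openCoverOfIsOpenCover P htop)).mpr fun i => haveI := hPfin i; inferInstanceAs (LocallyOfFiniteType ((P i).ι ≫ f))
  refine (HasAffineProperty.iff_of_isAffine (P := @IsFinite)).mpr ⟨inferInstance, ?_⟩
  refine RingHom.IsIntegral.to_finite (fun b => ?_) ((HasRingHomProperty.iff_of_isAffine (P := @LocallyOfFiniteType)).mp inferInstance)
  have hi : ∀ i, ∃ p : Polynomial Γ(X, ⊤), p.Monic ∧
      p.eval₂ ((P i).ι ≫ f).appTop.hom ((P i).ι.appTop b) = 0 := fun i =>
    haveI := hPfin i
    ((HasAffineProperty.iff_of_isAffine (P := @IsFinite)).mp (hPfin i)).2.to_isIntegral _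
  choose p hp hp0 using hi
  refine ⟨∏ i, p i, Polynomial.monic_prod_of_monic _ _ fun i _ => hp i, ?_⟩
  refine TopCat.Sheaf.eq_of_locally_eq' Y.sheaf P ⊤ (fun i => homOfLE le_top) htop.ge _ _ fun i => ?_
  refine Eq.trans ?_ (map_zero _).symm
  have h0 : (P i).ι.appTop ((∏ j, p j).eval₂ f.appTop.hom b) = 0 := by
    rw [Polynomial.hom_eval₂]
    have : (P i).ι.appTop.hom.comp f.appTop.hom = ((P i).ι ≫ f).appTop.hom := by
      rw [Scheme.Hom.comp_appTop]; rfl
    rw [this, Polynomial.eval₂_finsetProd, Finset.prod_eq_zero (Finset.mem_univ i) (hp0 i)]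
  have h1 := congrArg (P i).topIso.hom h0
  rw [map_zero] at h1
  refine Eq.trans ?_ h1
  rw [← CommRingCat.comp_apply]
  exact congr($(show Y.presheaf.map (homOfLE le_top).op = (P i).ι.appTop ≫ (P i).topIso.hom by simp [Scheme.Hom.appTop]; exact (congrArg Y.presheaf.map (Subsingleton.elim _ _)).trans (Y.presheaf.map_comp _ _)) _)

end MiscFlat6
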