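import Groth.Agent.MiscFlat6.GenericFinite

/-!
# Finite pieces over a neighbourhood of a generic point
-/

set_option autoImplicit false
universe u

open CategoryTheory Limits AlgebraicGeometry TensorProduct TopologicalSpace Topology

namespace MiscFlat6

/-- A finite spectrum of a finite type algebra over a field means a finite algebra. -/
theorem module_finite_of_finite_primeSpectrum {k R : Type u} [Field k] [CommRing R] [Algebra k R]
    [Algebra.FiniteType k R] [Finite (PrimeSpectrum R)] : Module.Finite k R := by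
  haveI : IsJacobsonRing R := isJacobsonRing_of_finiteType (A := k)
  haveI : IsNoetherianRing R := Algebra.FiniteType.isNoetherianRing k R
  haveI : DiscreteTopology (PrimeSpectrum R) := inferInstance
  haveI : Ring.KrullDimLE 0 R := (PrimeSpectrum.discreteTopology_iff_finite_and_krullDimLE_zero.mp inferInstance).2
  haveI : IsArtinianRing R := IsNoetherianRing.isArtinianRing_of_krullDimLE_zero
  exact Module.finite_of_isArtinianRing k R

/-- Finitely generated algebras become finite after inverting a coefficient. -/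
theorem finite_restrict_of_affine {Y X : Scheme.{u}} [IsAffine Y] [IsAffine X] (g : Y ⟶ X) [LocallyOfFiniteType g]
    (η : X) (hη : ∀ x, x ⤳ η → x = η) (hfib : (g.base ⁻¹' {η}).Finite) :
    ∃ h : Γ(X, ⊤), η ∈ X.basicOpen h ∧ ∀ h', h ∣ h' → IsFinite (g ∣_ X.basicOpen h') := by
  classical
  letI := g.appTop.hom.toAlgebra
  have hft : Algebra.FiniteType Γ(X, ⊤) Γ(Y, ⊤) :=
    (HasRingHomProperty.iff_of_isAffine (P := @LocallyOfFiniteType)).mp ‹_›
  let hX := isAffineOpen_top X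
  let hY := isAffineOpen_top Y
  let p := hX.primeIdealOf ⟨η, trivial⟩
  have hpmin : p.asIdeal ∈ minimalPrimes Γ(X, ⊤) := by
    rw [← PrimeSpectrum.isMin_iff]
    intro q hq
    have hs : hX.fromSpec.base q ⤳ η := by
      have := ((PrimeSpectrum.le_iff_specializes q p).mp hq).map hX.fromSpec.continuous
      rwa [show hX.fromSpec.base p = η from hX.fromSpec_primeIdealOf ⟨η, trivial⟩] at this
    rw [show q = p from hX.fromSpec.isOpenEmbedding.injective
      ((hη _ hs).trans (hX.fromSpec_primeIdealOf ⟨η, trivial⟩).symm)]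
  have happ : ∀ q, hX.fromSpec.base (PrimeSpectrum.comap (g.appTop).hom q) = g.base (hY.fromSpec.base q) := by
    intro q
    have e := IsAffineOpen.SpecMap_appLE_fromSpec g hX hY le_top
    rw [show g.appLE ⊤ ⊤ le_top = g.appTop from (Scheme.Hom.app_eq_appLE g (U := ⊤)).symm] at e
    exact congr($(e).base q)
  haveI : Finite (PrimeSpectrum (p.asIdeal.Fiber Γ(Y, ⊤))) := by
    let e := PrimeSpectrum.preimageOrderIsoFiber Γ(X, ⊤) Γ(Y, ⊤) p
    haveI : Finite (PrimeSpectrum.comap (algebraMap Γ(X, ⊤) Γ(Y, ⊤)) ⁻¹' {p}) := by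
      refine Set.Finite.to_subtype (Set.Finite.subset (hfib.preimage hY.fromSpec.isOpenEmbedding.injective.injOn) ?_)
      intro q hq
      show g.base (hY.fromSpec.base q) = η
      rw [← happ, show PrimeSpectrum.comap g.appTop.hom q = p from hq]
      exact hX.fromSpec_primeIdealOf ⟨η, trivial⟩
    exact Finite.of_equiv _ e.toEquiv
  haveI : Module.Finite p.asIdeal.ResidueField (p.asIdeal.Fiber Γ(Y, ⊤)) := module_finite_of_finite_primeSpectrum
  obtain ⟨G, hG⟩ := hft.out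
  choose P d hdeg hco hP using fun b : Γ(Y, ⊤) => exists_poly (η := p.asIdeal) hpmin b
  refine ⟨∏ b ∈ G, (P b).coeff (d b), ?_, fun h' hdvd => ?_⟩
  · have h1 : p ∈ hX.fromSpec ⁻¹ᵁ X.basicOpen (∏ b ∈ G, (P b).coeff (d b)) := by
      rw [hX.fromSpec_preimage_basicOpen]
      intro h
      obtain ⟨b, -, hb⟩ := (p.isPrime.prod_mem_iff).mp h
      exact hco b hb
    have e1 : hX.fromSpec.base p = η := hX.fromSpec_primeIdealOf ⟨η, trivial⟩
    exact e1 ▸ (h1 : hX.fromSpec.base p ∈ X.basicOpen _)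
  · let U := X.basicOpen h'
    let W := g ⁻¹ᵁ U
    have hW : W = Y.basicOpen (g.appTop h') := Scheme.preimage_basicOpen_top g h'
    haveI : IsAffine (U : Scheme.{u}) := hX.basicOpen h'
    have hWaff : IsAffineOpen W := hW ▸ hY.basicOpen _
    haveI : IsAffine (g ⁻¹ᵁ U : Scheme.{u}) := hWaff
    let θ := (g.appLE U W le_rfl).hom
    let rX := (X.presheaf.map (homOfLE (le_top : U ≤ ⊤)).op).hom
    let rY := (Y.presheaf.map (homOfLE (le_top : W ≤ ⊤)).op).hom
    have hcomm : θ.comp rX = rY.comp g.appTop.hom := by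
      have : X.presheaf.map (homOfLE (le_top : U ≤ ⊤)).op ≫ g.appLE U W le_rfl =
          g.app ⊤ ≫ Y.presheaf.map (homOfLE (le_top : W ≤ ⊤)).op := Scheme.Hom.map_appLE g le_rfl _
      exact congrArg CommRingCat.Hom.hom this
    haveI hloc : IsLocalization.Away h' Γ(X, U) := hX.isLocalization_basicOpen h'
    obtain ⟨uh, huh⟩ : IsUnit (rX h') := IsLocalization.Away.algebraMap_isUnit (S := Γ(X, U)) h'
    have hunit : ∀ b ∈ G, IsUnit (rX ((P b).coeff (d b))) := fun b hb =>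
      isUnit_of_dvd_unit (map_dvd rX ((Finset.dvd_prod_of_mem _ hb).trans hdvd)) ⟨uh, huh⟩
    have hGint : ∀ b ∈ G, θ.IsIntegralElem (rY b) := fun b hb => by
      obtain ⟨c, hc⟩ := hunit b hb
      refine ⟨Polynomial.C (↑c⁻¹ : Γ(X, U)) * (P b).map rX,
        Polynomial.monic_of_natDegree_le_of_coeff_eq_one (d b) ?_ ?_, ?_⟩
      · exact (Polynomial.natDegree_C_mul_le _ _).trans (Polynomial.natDegree_map_le.trans (hdeg b))
      · rw [Polynomial.coeff_C_mul, Polynomial.coeff_map, ← hc, Units.inv_mul]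
      · rw [Polynomial.eval₂_mul, Polynomial.eval₂_map, hcomm, ← Polynomial.hom_eval₂]
        have h0 : (P b).eval₂ g.appTop.hom b = 0 := hP b
        rw [h0, map_zero, mul_zero]
    have hint : θ.IsIntegral := by
      letI := θ.toAlgebra
      letI : Algebra Γ(X, ⊤) Γ(Y, W) := (θ.comp rX).toAlgebra
      let ρ : Γ(Y, ⊤) →ₐ[Γ(X, ⊤)] Γ(Y, W) := ⟨rY, fun r => congr($hcomm r).symm⟩
      let I : Subalgebra Γ(X, ⊤) Γ(Y, W) :=
        { (integralClosure Γ(X, U) Γ(Y, W)).toSubsemiring with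
          algebraMap_mem' := fun r => (integralClosure Γ(X, U) Γ(Y, W)).algebraMap_mem (rX r) }
      have hall : ∀ b, IsIntegral Γ(X, U) (rY b) := fun b => by
        have hb : b ∈ Algebra.adjoin Γ(X, ⊤) (G : Set Γ(Y, ⊤)) := hG ▸ Algebra.mem_top
        exact (Algebra.adjoin_le (S := I.comap ρ) fun z hz => hGint z hz) hb
      letI : Algebra Γ(Y, ⊤) Γ(Y, W) := rY.toAlgebra
      have hlocY : IsLocalization.Away (g.appTop h') Γ(Y, W) := hY.isLocalization_of_eq_basicOpen (g.appTop h') (homOfLE le_top) hW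
      intro z
      obtain ⟨⟨b, ⟨_, n, rfl⟩⟩, hb⟩ := IsLocalization.surj (Submonoid.powers (g.appTop h')) z
      have hz : z = rY b * θ (↑uh⁻¹ : Γ(X, U)) ^ n := by
        have hb' : z * rY (g.appTop h') ^ n = rY b := by rw [← map_pow]; exact hb
        have h1 : rY (g.appTop h') = θ (uh : Γ(X, U)) := by rw [huh]; exact congr($hcomm h').symm
        rw [← hb', h1, mul_assoc, ← mul_pow, ← map_mul, Units.mul_inv, map_one, one_pow, mul_one]
      rw [hz]
      exact (hall b).mul ((isIntegral_algebraMap (x := (↑uh⁻¹ : Γ(X, U)))).pow n)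
    have hfin : θ.Finite := hint.to_finite (g.finiteType_appLE (hX.basicOpen h') hWaff le_rfl)
    refine (HasAffineProperty.iff_of_isAffine (P := @IsFinite)).mpr ⟨inferInstance, ?_⟩
    simp only [Scheme.Hom.appTop, morphismRestrict_app', Opens.map_top]
    exact (Scheme.Hom.appLE_congr g _ U.ι_image_top (Scheme.Opens.ι_image_top _) (fun φ => φ.hom.Finite)).mpr hfin

/-- Finitely many pieces finite over a neighbourhood of a generic point with finite fibre. -/
theorem exists_pieces {Y X : Scheme.{u}} [IsAffine X] (f : Y ⟶ X) [LocallyOfFiniteType f] [QuasiCompact f]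
    (η : X) (hη : ∀ x, x ⤳ η → x = η) (hfib : (f.base ⁻¹' {η}).Finite) :
    ∃ h : Γ(X, ⊤), η ∈ X.basicOpen h ∧ ∃ (n : ℕ) (V : Fin n → (f ⁻¹ᵁ X.basicOpen h : Scheme.{u}).Opens),
      (∀ y, ∃ i, y ∈ V i) ∧ ∀ i, IsFinite ((V i).ι ≫ (f ∣_ X.basicOpen h)) := by
  classical
  haveI : CompactSpace Y := QuasiCompact.compactSpace_of_compactSpace f
  choose V₀ hV₀ hyV₀ using fun y : Y => show ∃ V : Y.Opens, IsAffineOpen V ∧ y ∈ V by
    obtain ⟨_, ⟨V, hV, rfl⟩, hyV, -⟩ := Y.isBasis_affineOpens.exists_subset_of_mem_open (Set.mem_univ y) isOpen_univ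
    exact ⟨V, hV, hyV⟩
  obtain ⟨s, hs⟩ := isCompact_univ.elim_finite_subcover (fun y : Y => (V₀ y : Set Y)) (fun y => (V₀ y).2)
    fun y _ => Set.mem_iUnion.mpr ⟨y, hyV₀ y⟩
  have key : ∀ y : Y, ∃ h : Γ(X, ⊤), η ∈ X.basicOpen h ∧
      ∀ h', h ∣ h' → IsFinite (((V₀ y).ι ≫ f) ∣_ X.basicOpen h') := fun y => by
    haveI : IsAffine (V₀ y : Scheme.{u}) := hV₀ y
    exact finite_restrict_of_affine ((V₀ y).ι ≫ f) η hη
      ((hfib.preimage (V₀ y).ι.isOpenEmbedding.injective.injOn).subset fun z hz => hz)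
  choose h hηh hfin using key
  refine ⟨∏ y ∈ s, h y, ?_, s.card, fun i => (f ⁻¹ᵁ X.basicOpen (∏ y ∈ s, h y)).ι ⁻¹ᵁ V₀ (s.equivFin.symm i).1,
    fun z => ?_, fun i => ?_⟩
  · have hX := isAffineOpen_top X
    have e1 : hX.fromSpec.base (hX.primeIdealOf ⟨η, trivial⟩) = η := hX.fromSpec_primeIdealOf ⟨η, trivial⟩
    have h1 : hX.primeIdealOf ⟨η, trivial⟩ ∈ hX.fromSpec ⁻¹ᵁ X.basicOpen (∏ y ∈ s, h y) := by
      rw [hX.fromSpec_preimage_basicOpen]
      intro hm
      obtain ⟨y, -, hy⟩ := ((hX.primeIdealOf ⟨η, trivial⟩).isPrime.prod_mem_iff).mp hm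
      have h2 : hX.primeIdealOf ⟨η, trivial⟩ ∈ hX.fromSpec ⁻¹ᵁ X.basicOpen (h y) := by
        show hX.fromSpec.base _ ∈ X.basicOpen (h y)
        rw [e1]; exact hηh y
      rw [hX.fromSpec_preimage_basicOpen] at h2
      exact h2 hy
    exact e1 ▸ (h1 : hX.fromSpec.base (hX.primeIdealOf ⟨η, trivial⟩) ∈ X.basicOpen _)
  · obtain ⟨y, hys, hzy⟩ := Set.mem_iUnion₂.mp (hs (Set.mem_univ z.1))
    refine ⟨s.equivFin ⟨y, hys⟩, ?_⟩
    simp only [Equiv.symm_apply_apply]
    exact hzy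
  · let y := (s.equivFin.symm i).1
    let U := X.basicOpen (∏ y ∈ s, h y)
    haveI : IsFinite (((V₀ y).ι ≫ f) ∣_ U) := hfin y _ (Finset.dvd_prod_of_mem _ (s.equivFin.symm i).2)
    show IsFinite (((f ⁻¹ᵁ U).ι ⁻¹ᵁ V₀ y).ι ≫ (f ∣_ U))
    let k := (V₀ y).ι ∣_ (f ⁻¹ᵁ U)
    have hrange : Set.range k.base = Set.range ((f ⁻¹ᵁ U).ι ⁻¹ᵁ V₀ y).ι.base := by
      rw [← Scheme.Hom.coe_opensRange, ← Scheme.Hom.coe_opensRange, Scheme.Opens.opensRange_ι]
      congr 1
      ext z
      constructor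
      · rintro ⟨w, rfl⟩
        show (k.base w).1 ∈ V₀ y
        rw [morphismRestrict_base_coe]
        exact w.1.2
      · intro hz
        refine ⟨⟨⟨z.1, hz⟩, z.2⟩, Subtype.ext ?_⟩
        rw [morphismRestrict_base_coe]
        rfl
    let e := IsOpenImmersion.isoOfRangeEq ((f ⁻¹ᵁ U).ι ⁻¹ᵁ V₀ y).ι k hrange.symm
    have he : e.hom ≫ k = ((f ⁻¹ᵁ U).ι ⁻¹ᵁ V₀ y).ι := IsOpenImmersion.isoOfRangeEq_hom_fac _ _ _
    rw [← he, Category.assoc]
    have hc : k ≫ (f ∣_ U) = ((V₀ y).ι ≫ f) ∣_ U := (morphismRestrict_comp _ _ _).symm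
    rw [hc]
    exact MorphismProperty.comp_mem @IsFinite _ _ inferInstance ‹IsFinite (((V₀ y).ι ≫ f) ∣_ U)›

end MiscFlat6
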