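import Groth.Agent.DepthLib.SmoothCons
import Groth.Agent.FlatCrit.Basic
import Groth.Agent.FlatLib.SchemeFlat

/-!
# Properties at a point from properties over the infinitesimal neighbourhoods
-/

set_option autoImplicit false
universe u

attribute [local instance] Algebra.TensorProduct.rightAlgebra

open CategoryTheory CategoryTheory.Limits AlgebraicGeometry TensorProduct

namespace MiscFlat6

/-- A pullback square stays one after composing the corner with a monomorphism. -/
theorem isPullback_comp_mono {C : Type*} [Category C] {P X Y Z Z' : C} {fst : P ⟶ X} {snd : P ⟶ Y}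
    {f : X ⟶ Z} {g : Y ⟶ Z} (sq : IsPullback fst snd f g) (i : Z ⟶ Z') [Mono i] :
    IsPullback fst snd (f ≫ i) (g ≫ i) := by
  refine ⟨⟨by rw [reassoc_of% sq.w]⟩, ⟨PullbackCone.IsLimit.mk _
    (fun s => sq.lift s.fst s.snd ((cancel_mono i).mp (by simpa only [Category.assoc] using s.condition)))
    (fun s => sq.lift_fst _ _ _) (fun s => sq.lift_snd _ _ _) fun s m h1 h2 => ?_⟩⟩
  exact sq.hom_ext (h1.trans (sq.lift_fst _ _ _).symm) (h2.trans (sq.lift_snd _ _ _).symm)

/-- Properties of the base change to a closed subscheme, read in a chart. -/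
theorem ringHom_of_subscheme (P : MorphismProperty Scheme.{u}) [P.IsStableUnderBaseChange] [P.RespectsIso]
    [P.IsStableUnderComposition] (hP : ∀ {X Y : Scheme.{u}} (j : X ⟶ Y) [IsOpenImmersion j], P j)
    {X S : Scheme.{u}} (f : X ⟶ S) (K : S.IdealSheafData) (h : P (pullback.snd f K.subschemeι))
    {U : S.Opens} (hU : IsAffineOpen U) {V : X.Opens} (hV : IsAffineOpen V) (e : V ≤ f ⁻¹ᵁ U)
    (J : Ideal Γ(S, U)) (hJ : K.ideal ⟨U, hU⟩ = J) :
    letI := (f.appLE U V e).hom.toAlgebra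
    P (Spec.map (CommRingCat.ofHom (algebraMap (Γ(S, U) ⧸ J) ((Γ(S, U) ⧸ J) ⊗[Γ(S, U)] Γ(X, V))))) := by
  subst hJ
  letI := (f.appLE U V e).hom.toAlgebra
  let b := Spec.map (CommRingCat.ofHom (Ideal.Quotient.mk (K.ideal ⟨U, hU⟩))) ≫ hU.fromSpec
  let a := K.subschemeCover.f ⟨U, hU⟩
  have hab : a ≫ K.subschemeι = b := by
    show K.subschemeCover.f ⟨U, hU⟩ ≫ K.subschemeι = _
    rw [K.subschemeCover_map_subschemeι]
    simp only [Scheme.IdealSheafData.glueDataObjι, Category.assoc, b]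
    rfl
  have h1 : P (pullback.snd f b) := by
    rw [← hab]
    let e1 := pullbackLeftPullbackSndIso f K.subschemeι a
    have h2 : P (pullback.snd (pullback.snd f K.subschemeι) a) := P.pullback_snd _ _ h
    rw [← P.cancel_left_of_respectsIso e1.inv] at h2
    rw [pullbackLeftPullbackSndIso_inv_snd_snd] at h2
    exact h2
  have h3 : P (pullback.snd (hV.fromSpec ≫ f) b) := by
    rw [← pullbackRightPullbackFstIso_inv_snd_snd f b hV.fromSpec]
    exact P.comp_mem _ _ (hP _) (P.comp_mem _ _ (hP _) h1)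
  have sq := isPullback_SpecMap_of_isPushout _ _ _ _
    (CommRingCat.isPushout_tensorProduct Γ(S, U) (Γ(S, U) ⧸ K.ideal ⟨U, hU⟩) Γ(X, V))
  have sq' := isPullback_comp_mono sq.flip hU.fromSpec
  have e2 : Spec.map (CommRingCat.ofHom (algebraMap Γ(S, U) Γ(X, V))) ≫ hU.fromSpec = hV.fromSpec ≫ f :=
    IsAffineOpen.SpecMap_appLE_fromSpec f hU hV e
  rw [e2] at sq'
  rw [← P.cancel_left_of_respectsIso sq'.isoPullback.hom, IsPullback.isoPullback_hom_snd] at h3
  exact h3

variable {A B : Type u} [CommRing A] [CommRing B] [Algebra A B]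

/-- Flatness at a prime over the support from flatness of all truncations. -/
theorem flat_localization_of_quotient_pow [IsNoetherianRing A] [IsNoetherianRing B] (J : Ideal A) (q : Ideal B)
    [q.IsPrime] (hJq : J.map (algebraMap A B) ≤ q)
    (h : ∀ m : ℕ, Module.Flat (A ⧸ J ^ m) ((A ⧸ J ^ m) ⊗[A] B)) :
    Module.Flat A (Localization.AtPrime q) := by
  have hloc : IsNoetherianRing (Localization.AtPrime q) := IsLocalization.isNoetherianRing q.primeCompl _ inferInstance
  refine FlatCrit.flat_of_flat_quotient_pow (S := Localization.AtPrime q) J ?_ fun m => ?_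
  · rw [IsLocalRing.jacobson_eq_maximalIdeal _ bot_ne_top, IsScalarTower.algebraMap_eq A B (Localization.AtPrime q),
      ← Ideal.map_map, ← IsLocalization.AtPrime.map_eq_maximalIdeal q (Localization.AtPrime q)]
    exact Ideal.map_mono hJq
  · let φ : (A ⧸ J ^ m) ⊗[A] B →ₐ[A ⧸ J ^ m] (A ⧸ J ^ m) ⊗[A] Localization.AtPrime q :=
      Algebra.TensorProduct.map (AlgHom.id _ _) (IsScalarTower.toAlgHom A B (Localization.AtPrime q))
    letI := φ.toRingHom.toAlgebra
    haveI : IsScalarTower (A ⧸ J ^ m) ((A ⧸ J ^ m) ⊗[A] B) ((A ⧸ J ^ m) ⊗[A] Localization.AtPrime q) :=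
      .of_algebraMap_eq' φ.comp_algebraMap.symm
    have hloc' : IsLocalization (Algebra.algebraMapSubmonoid ((A ⧸ J ^ m) ⊗[A] B) q.primeCompl)
        ((A ⧸ J ^ m) ⊗[A] Localization.AtPrime q) := by
      exact IsLocalization.tensorProduct_tensorProduct_right A (A ⧸ J ^ m) q.primeCompl (Localization.AtPrime q)
        (by ext; simp [φ, RingHom.algebraMap_toAlgebra])
    haveI := h m
    haveI : Module.Flat ((A ⧸ J ^ m) ⊗[A] B) ((A ⧸ J ^ m) ⊗[A] Localization.AtPrime q) :=
      IsLocalization.flat _ (Algebra.algebraMapSubmonoid ((A ⧸ J ^ m) ⊗[A] B) q.primeCompl)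
    exact Module.Flat.trans (A ⧸ J ^ m) ((A ⧸ J ^ m) ⊗[A] B) _

/-- The fibre over a prime containing `J` is a base change of the quotient by `J`. -/
theorem smooth_fiber_of_quotient (J : Ideal A) (p : Ideal A) [p.IsPrime] (hJp : J ≤ p)
    (h : Algebra.Smooth (A ⧸ J) ((A ⧸ J) ⊗[A] B)) : Algebra.Smooth p.ResidueField (p.Fiber B) := by
  let ψ : A ⧸ J →+* p.ResidueField := Ideal.Quotient.lift J (algebraMap A p.ResidueField) fun a ha =>
    Ideal.algebraMap_residueField_eq_zero.mpr (hJp ha)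
  letI := ψ.toAlgebra
  haveI : IsScalarTower A (A ⧸ J) p.ResidueField := .of_algebraMap_eq fun _ => rfl
  exact Algebra.Smooth.of_equiv
    (Algebra.TensorProduct.cancelBaseChange A (A ⧸ J) p.ResidueField p.ResidueField B)

/-- Unramified at the primes over `J` from unramified modulo `J`. -/
theorem isUnramifiedAt_of_quotient [Algebra.EssFiniteType A B] (J : Ideal A) (q : Ideal B) [q.IsPrime]
    (hJq : J.map (algebraMap A B) ≤ q) (h : Algebra.FormallyUnramified (A ⧸ J) ((A ⧸ J) ⊗[A] B)) :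
    Algebra.IsUnramifiedAt A q := by
  have h0 : Subsingleton ((A ⧸ J) ⊗[A] Ω[B⁄A]) :=
    (KaehlerDifferential.tensorKaehlerEquivBase A (A ⧸ J) B ((A ⧸ J) ⊗[A] B)).toEquiv.subsingleton
  have h1 : Subsingleton (Ω[B⁄A] ⧸ (J • ⊤ : Submodule A Ω[B⁄A])) :=
    (TensorProduct.quotTensorEquivQuotSMul Ω[B⁄A] J).symm.toEquiv.subsingleton
  have h2 : (⊤ : Submodule B Ω[B⁄A]) ≤ J.map (algebraMap A B) • ⊤ := by
    intro x _
    have hx : x ∈ (J • ⊤ : Submodule A Ω[B⁄A]) :=
      (Submodule.Quotient.mk_eq_zero _).mp (Subsingleton.elim _ _)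
    refine Submodule.smul_induction_on hx (fun a ha y _ => ?_) fun y z hy hz => add_mem hy hz
    rw [← algebraMap_smul B a y]
    exact Submodule.smul_mem_smul (Ideal.mem_map_of_mem _ ha) trivial
  obtain ⟨r, hr, hr0⟩ := Submodule.exists_sub_one_mem_and_smul_eq_zero_of_fg_of_le_smul
    (J.map (algebraMap A B)) ⊤ Module.Finite.fg_top h2
  show (⟨q, ‹_›⟩ : PrimeSpectrum B) ∈ Algebra.unramifiedLocus A B
  rw [Algebra.unramifiedLocus_eq_compl_support, Set.mem_compl_iff, Module.mem_support_iff_exists_annihilator]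
  rintro ⟨x, hx⟩
  refine ‹q.IsPrime›.ne_top ((Ideal.eq_top_iff_one _).mpr ?_)
  have hrq : r ∈ q := hx ((Submodule.mem_annihilator_span_singleton _ _).mpr (hr0 x trivial))
  have := q.sub_mem hrq (hJq hr)
  rwa [sub_sub_cancel] at this

end MiscFlat6
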