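import Mathlib

universe u
open CategoryTheory AlgebraicGeometry Opposite TopologicalSpace

namespace MiscFlat6

theorem preconnectedSpace_iff_idempotent (Z : LocallyRingedSpace.{u}) :
    PreconnectedSpace Z ↔
      ∀ e : Z.presheaf.obj (op ⊤), IsIdempotentElem e → e = 0 ∨ e = 1 := by
  constructor
  · intro h e he
    let g : (x : Z) → Z.presheaf.obj (op ⊤) →+* Z.presheaf.stalk x :=
      fun x => (Z.presheaf.germ ⊤ x trivial).hom
    have hmem : ∀ (a : Z.presheaf.obj (op ⊤)) (x : Z),
        x ∈ Z.toRingedSpace.basicOpen a ↔ IsUnit (g x a) :=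
      fun a x => Z.toRingedSpace.mem_basicOpen a x trivial
    have hclopen : IsClopen (X := Z) ((Z.toRingedSpace.basicOpen e).carrier) := by
      refine ⟨?_, (Z.toRingedSpace.basicOpen e).2⟩
      rw [← isOpen_compl_iff]
      suffices hcompl : ((Z.toRingedSpace.basicOpen e).carrier)ᶜ =
          (Z.toRingedSpace.basicOpen (1 - e)).carrier by
        rw [hcompl]
        exact (Z.toRingedSpace.basicOpen (1 - e)).2
      ext x
      refine ⟨fun hx => (hmem (1 - e) x).mpr ?_, fun hx hx' => ?_⟩
      · rw [map_sub, map_one]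
        exact IsLocalRing.isUnit_one_sub_self_of_mem_nonunits _ (fun hu => hx ((hmem e x).mpr hu))
      · have h1 := ((hmem e x).mp hx').mul ((hmem (1 - e) x).mp hx)
        rw [← map_mul, mul_sub, mul_one, he.eq, sub_self, map_zero] at h1
        exact not_isUnit_zero h1
    rcases isClopen_iff.mp hclopen with hb | hb
    · left
      have : IsUnit (1 - e) := Z.toRingedSpace.isUnit_of_isUnit_germ ⊤ (1 - e) fun x _ => by
        show IsUnit (g x (1 - e))
        rw [map_sub, map_one]
        refine IsLocalRing.isUnit_one_sub_self_of_mem_nonunits _ fun hu => ?_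
        exact (Set.eq_empty_iff_forall_notMem.mp hb x) ((hmem e x).mpr hu)
      exact (this.mul_left_eq_zero).mp (by rw [mul_sub, mul_one, he.eq, sub_self])
    · right
      have : IsUnit e := Z.toRingedSpace.isUnit_of_isUnit_germ ⊤ e fun x _ =>
        (hmem e x).mp (Set.eq_univ_iff_forall.mp hb x)
      exact (this.mul_left_cancel (by rw [mul_one]; exact he.eq))
  · intro h
    rw [preconnectedSpace_iff_clopen]
    intro s hs
    let F : TopCat.Sheaf CommRingCat Z.toTopCat := ⟨Z.presheaf, Z.IsSheaf⟩
    let W : ULift.{u} Bool → Opens Z := fun b =>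
      if b.down then ⟨s, hs.2⟩ else ⟨sᶜ, hs.compl.2⟩
    let sf : (b : ULift.{u} Bool) → Z.presheaf.obj (op (W b)) := fun b => if b.down then 1 else 0
    have hcov : (⊤ : Opens Z) ≤ iSup W := fun x _ => by
      by_cases hx : x ∈ s
      · exact Opens.mem_iSup.mpr ⟨⟨true⟩, hx⟩
      · exact Opens.mem_iSup.mpr ⟨⟨false⟩, hx⟩
    obtain ⟨e, he, huniq⟩ := TopCat.Sheaf.existsUnique_gluing' F W ⊤ (fun b => homOfLE le_top) hcov sf
      (fun i j => by
        rcases eq_or_ne i j with rfl | hij
        · rfl
        · have : W i ⊓ W j = ⊥ := by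
            refine eq_bot_iff.mpr fun y hy => ?_
            obtain ⟨i⟩ := i
            obtain ⟨j⟩ := j
            rcases i with _ | _ <;> rcases j with _ | _
            · exact (hij rfl).elim
            · exact (hy.1 hy.2).elim
            · exact (hy.2 hy.1).elim
            · exact (hij rfl).elim
          haveI : Subsingleton (Z.presheaf.obj (op (W i ⊓ W j))) := by
            rw [this]
            exact CommRingCat.subsingleton_of_isTerminal (F.isTerminalOfEmpty)
          exact Subsingleton.elim (α := Z.presheaf.obj (op (W i ⊓ W j))) _ _)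
    have hidem : IsIdempotentElem e := huniq (e * e) fun b => by
      have hb := he b
      change Z.presheaf.map _ e = sf b at hb
      change Z.presheaf.map _ (e * e) = sf b
      rw [map_mul, hb]
      obtain ⟨_ | _⟩ := b <;> simp [sf]
    rcases h e hidem with rfl | rfl
    · left
      refine Set.eq_empty_iff_forall_notMem.mpr fun x hx => ?_
      have h1 := congrArg (Z.presheaf.germ (W ⟨true⟩) x hx) (he ⟨true⟩)
      change Z.presheaf.germ (W ⟨true⟩) x hx (Z.presheaf.map _ 0) =
        Z.presheaf.germ (W ⟨true⟩) x hx 1 at h1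
      rw [map_zero, map_zero, map_one] at h1
      exact zero_ne_one h1
    · right
      refine Set.eq_univ_iff_forall.mpr fun x => ?_
      by_contra hx
      have h1 := congrArg (Z.presheaf.germ (W ⟨false⟩) x hx) (he ⟨false⟩)
      change Z.presheaf.germ (W ⟨false⟩) x hx (Z.presheaf.map _ 1) =
        Z.presheaf.germ (W ⟨false⟩) x hx 0 at h1
      rw [map_one, map_one, map_zero] at h1
      exact one_ne_zero h1

end MiscFlat6
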