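import Groth.Agent.MiscFlat6.ProjMapIso
import Mathlib.AlgebraicGeometry.ProjectiveSpectrum.Basic

/-!
# `Proj` of a graded ring localised at an element of degree zero
-/

set_option autoImplicit false
universe u

open CategoryTheory CategoryTheory.Limits AlgebraicGeometry TopologicalSpace HomogeneousLocalization

noncomputable section

namespace MiscFlat6

variable {A B σ τ : Type u} [CommRing A] [SetLike σ A] [AddSubgroupClass σ A] [CommRing B] [SetLike τ B]
  [AddSubgroupClass τ B] (𝒜 : ℕ → σ) [GradedRing 𝒜] (ℬ : ℕ → τ) [GradedRing ℬ]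
  (φ : 𝒜 →+*ᵍ ℬ) (hφ : HomogeneousIdeal.irrelevant ℬ ≤ (HomogeneousIdeal.irrelevant 𝒜).map φ)

open scoped Classical in
theorem awayMap_bijective_of_localization {c : A} (hc : c ∈ 𝒜 0) (hu : IsUnit (φ c))
    (hsurj : ∀ b : B, ∃ (M : ℕ) (x : A), b * φ c ^ M = φ x)
    (hker : ∀ a : A, φ a = 0 → ∃ M : ℕ, c ^ M * a = 0) {d : ℕ} {t' : A} (ht' : t' ∈ 𝒜 d)
    (ht : c * t' ∈ 𝒜 d) :
    Function.Bijective (Away.map φ (c * t')) := by
  refine ⟨(injective_iff_map_eq_zero _).mpr fun z hz => ?_, fun z => ?_⟩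
  · obtain ⟨k, a, ha, rfl⟩ := Away.mk_surjective 𝒜 ht z
    have h' := congrArg HomogeneousLocalization.val ((Away.map_mk φ (c * t') ht k a ha).symm.trans hz)
    rw [Away.val_mk, HomogeneousLocalization.val_zero, ← Localization.mk_zero (1 : Submonoid.powers (φ (c * t'))),
      Localization.mk_eq_mk_iff, Localization.r_iff_exists] at h'
    obtain ⟨⟨_, N, rfl⟩, hc'⟩ := h'
    have h2 : φ ((c * t') ^ N * a) = 0 := by simpa using hc'
    obtain ⟨M, hM⟩ := hker _ h2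
    apply HomogeneousLocalization.val_injective
    rw [Away.val_mk, HomogeneousLocalization.val_zero, ← Localization.mk_zero (1 : Submonoid.powers (c * t')),
      Localization.mk_eq_mk_iff, Localization.r_iff_exists]
    refine ⟨⟨(c * t') ^ (M + N), M + N, rfl⟩, ?_⟩
    simp only [Submonoid.coe_one, one_mul, mul_zero]
    calc (c * t') ^ (M + N) * a = t' ^ M * (c ^ M * ((c * t') ^ N * a)) := by rw [pow_add, mul_pow]; ring
      _ = 0 := by rw [hM, mul_zero]
  · obtain ⟨k, b, hb, rfl⟩ := Away.mk_surjective ℬ (φ.map_mem ht) z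
    obtain ⟨M, x, hx⟩ := hsurj b
    let a : A := DirectSum.decompose 𝒜 x (k • d)
    have ha : a ∈ 𝒜 (k • d) := SetLike.coe_mem _
    have hφa : φ a = b * φ c ^ M := by
      have h1 : b * φ c ^ M ∈ ℬ (k • d) := by
        simpa only [smul_zero, add_zero] using
          SetLike.mul_mem_graded hb (SetLike.pow_mem_graded (A := ℬ) M (show φ c ∈ ℬ 0 from φ.map_mem hc))
      show φ (DirectSum.decompose 𝒜 x (k • d) : A) = _
      rw [GradedRingHom.map_directSumDecompose, ← hx, DirectSum.decompose_of_mem_same ℬ h1]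
    have ha2 : a * t' ^ M ∈ 𝒜 ((k + M) • d) := by
      rw [add_smul]; exact SetLike.mul_mem_graded ha (SetLike.pow_mem_graded M ht')
    refine ⟨Away.mk 𝒜 ht (k + M) (a * t' ^ M) ha2, (Away.map_mk φ (c * t') ht _ _ ha2).trans ?_⟩
    apply HomogeneousLocalization.val_injective
    rw [Away.val_mk, Away.val_mk, Localization.mk_eq_mk_iff, Localization.r_iff_exists]
    refine ⟨1, ?_⟩
    simp only [OneMemClass.coe_one, one_mul, map_mul, map_pow, hφa]
    ring_nf
    change φ c ^ k * φ t' ^ k * b * φ c ^ M * φ t' ^ M = _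
    ring

theorem map_preimage_eq_top {c : A} (hu : IsUnit (φ c)) : Proj.map φ hφ ⁻¹ᵁ Proj.basicOpen 𝒜 c = ⊤ := by
  rw [Proj.map_preimage_basicOpen]
  refine eq_top_iff.mpr fun x _ hx => x.isPrime.ne_top ?_
  exact Ideal.eq_top_of_isUnit_mem _ hx hu

/-- `Proj` of the localisation is the open where `c` does not vanish -/
theorem isOpenImmersion_map_localization {c : A} (hc : c ∈ 𝒜 0) (hu : IsUnit (φ c))
    (hsurj : ∀ b : B, ∃ (M : ℕ) (x : A), b * φ c ^ M = φ x)
    (hker : ∀ a : A, φ a = 0 → ∃ M : ℕ, c ^ M * a = 0) :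
    ∃ _ : IsOpenImmersion (Proj.map φ hφ), (Proj.map φ hφ).opensRange = Proj.basicOpen 𝒜 c := by
  let W := Proj.basicOpen 𝒜 c
  let h := Proj.map φ hφ
  have hiso : IsIso (h ∣_ W) := by
    change MorphismProperty.isomorphisms Scheme (h ∣_ W)
    refine IsZariskiLocalAtTarget.of_iSup_eq_top (P := MorphismProperty.isomorphisms Scheme.{u})
      (fun t : Σ d : {d : ℕ // 0 < d}, 𝒜 d.1 => W.ι ⁻¹ᵁ Proj.basicOpen 𝒜 (c * (t.2 : A)))
      (eq_top_iff.mpr fun x _ => ?_) fun ⟨⟨d, hd⟩, t', ht'⟩ => ?_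
    · obtain ⟨t, ht⟩ := Opens.mem_iSup.mp ((GrModLib6.iSup_pos_basicOpen 𝒜).ge (Opens.mem_top (W.ι x)))
      refine Opens.mem_iSup.mpr ⟨t, ?_⟩
      show W.ι x ∈ Proj.basicOpen 𝒜 (c * (t.2 : A))
      rw [Proj.basicOpen_mul]
      exact ⟨x.2, ht⟩
    · have ht : c * t' ∈ 𝒜 d := by simpa using SetLike.mul_mem_graded hc ht'
      refine ((MorphismProperty.isomorphisms Scheme.{u}).arrow_mk_iso_iff
        (morphismRestrictRestrict h W _ ≪≫ morphismRestrictEq h (U := W.ι ''ᵁ (W.ι ⁻¹ᵁ Proj.basicOpen 𝒜 (c * t')))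
          (V := Proj.basicOpen 𝒜 (c * t')) ?_)).mpr (isIso_map_restrict 𝒜 ℬ φ hφ hd ht
            (awayMap_bijective_of_localization 𝒜 ℬ φ hc hu hsurj hker ht' ht))
      rw [Scheme.Hom.image_preimage_eq_opensRange_inf, Scheme.Opens.opensRange_ι]
      exact inf_eq_right.mpr ((Proj.basicOpen_mul 𝒜 c t').le.trans inf_le_left)
  have htop : h ⁻¹ᵁ W = ⊤ := map_preimage_eq_top 𝒜 ℬ φ hφ hu
  have he : h = (Scheme.topIso (Proj ℬ)).inv ≫ ((Proj ℬ).isoOfEq htop).inv ≫ (h ∣_ W) ≫ W.ι := by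
    rw [morphismRestrict_ι, Scheme.isoOfEq_inv, Scheme.homOfLE_ι_assoc, ← Scheme.topIso_hom, Iso.inv_hom_id_assoc]
  haveI := hiso
  haveI hoi : IsOpenImmersion h := by rw [he]; infer_instance
  refine ⟨hoi, Opens.ext (le_antisymm ?_ ?_)⟩
  · rintro _ ⟨y, rfl⟩
    exact htop.ge (Opens.mem_top y)
  · intro x hx
    obtain ⟨y, hy⟩ := (h ∣_ W).homeomorph.surjective (⟨x, hx⟩ : W)
    refine ⟨(h ⁻¹ᵁ W).ι y, ?_⟩
    rw [← Scheme.Hom.comp_apply, ← morphismRestrict_ι, Scheme.Hom.comp_apply]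
    exact congrArg W.ι hy

/-- the locus in `Proj` where an element of degree zero is invertible on the base -/
theorem toSpecZero_preimage_basicOpen (c : 𝒜 0) :
    Proj.toSpecZero 𝒜 ⁻¹ᵁ (PrimeSpectrum.basicOpen c : (Spec (CommRingCat.of (𝒜 0))).Opens) =
      Proj.basicOpen 𝒜 (c : A) := by
  refine Opens.ext (Set.ext fun x => ?_)
  obtain ⟨d, f, hd, hf, hfx⟩ := GrModLib6.exists_pos_not_mem 𝒜 x
  obtain ⟨y, rfl⟩ := (Proj.opensRange_awayι 𝒜 f hf hd).ge (show x ∈ Proj.basicOpen 𝒜 f from hfx)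
  have hfy : Proj.awayι 𝒜 f hf hd y ∈ Proj.basicOpen 𝒜 f := hfx
  have hx : (f * (c : A)) = f * (c : A) := rfl
  let m := Spec.map (CommRingCat.ofHom (awayMap 𝒜 c.2 hx))
  have h1 : Proj.awayι 𝒜 f hf hd y ∈ Proj.basicOpen 𝒜 (c : A) ↔ y ∈ Set.range m := by
    constructor
    · intro hc
      have : Proj.awayι 𝒜 f hf hd y ∈ Proj.basicOpen 𝒜 (f * (c : A)) := by
        rw [Proj.basicOpen_mul]; exact ⟨hfy, hc⟩
      obtain ⟨z, hz⟩ := (Proj.opensRange_awayι 𝒜 (f * (c : A)) (SetLike.mul_mem_graded hf c.2)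
        (hd.trans_le (Nat.le_add_right d 0))).ge this
      refine ⟨z, (Proj.awayι 𝒜 f hf hd).isOpenEmbedding.injective ?_⟩
      rw [← Scheme.Hom.comp_apply, Proj.SpecMap_awayMap_awayι]
      exact hz
    · rintro ⟨z, rfl⟩
      rw [← Scheme.Hom.comp_apply, Proj.SpecMap_awayMap_awayι]
      have := (Proj.opensRange_awayι 𝒜 (f * (c : A)) (SetLike.mul_mem_graded hf c.2)
        (hd.trans_le (Nat.le_add_right d 0))).le ⟨z, rfl⟩
      rw [Proj.basicOpen_mul] at this
      exact this.2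
  letI := (awayMap 𝒜 c.2 hx).toAlgebra
  haveI := Away.isLocalization_mul hf c.2 hx hd.ne'
  have h2 : Set.range m = (PrimeSpectrum.basicOpen (Away.isLocalizationElem hf c.2) : Set (PrimeSpectrum _)) :=
    PrimeSpectrum.localization_away_comap_range (Away 𝒜 (f * (c : A))) (Away.isLocalizationElem hf c.2)
  have h3 : Away.isLocalizationElem hf c.2 = (fromZeroRingHom 𝒜 (Submonoid.powers f) c) ^ d := by
    apply HomogeneousLocalization.val_injective
    rw [Away.val_mk, HomogeneousLocalization.val_pow]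
    show _ = (HomogeneousLocalization.val (HomogeneousLocalization.mk ⟨0, c, (1 : 𝒜 0), one_mem _⟩)) ^ d
    rw [HomogeneousLocalization.val_mk, Localization.mk_pow]
    simp
  show Proj.toSpecZero 𝒜 (Proj.awayι 𝒜 f hf hd y) ∈ PrimeSpectrum.basicOpen c ↔ _
  refine Iff.trans ?_ h1.symm
  rw [h2, h3, PrimeSpectrum.basicOpen_pow _ _ hd, ← Scheme.Hom.comp_apply, Proj.awayι_toSpecZero]
  rfl

end MiscFlat6

end
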