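import Groth.Agent.GrModLib6.Top
import Groth.Agent.ProjClosedLib.Map

/-!
# Maps between `Proj`s which are isomorphisms
-/

set_option autoImplicit false
universe u

open CategoryTheory CategoryTheory.Limits AlgebraicGeometry TopologicalSpace HomogeneousLocalization

noncomputable section

namespace MiscFlat6

variable {A B σ τ : Type u} [CommRing A] [SetLike σ A] [AddSubgroupClass σ A] [CommRing B] [SetLike τ B]
  [AddSubgroupClass τ B] (𝒜 : ℕ → σ) [GradedRing 𝒜] (ℬ : ℕ → τ) [GradedRing ℬ]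
  (φ : 𝒜 →+*ᵍ ℬ) (hφ : HomogeneousIdeal.irrelevant ℬ ≤ (HomogeneousIdeal.irrelevant 𝒜).map φ)

/-- the restriction over a chart is an isomorphism when the map of degree-zero localisations is bijective -/
theorem isIso_map_restrict {d : ℕ} (hd : 0 < d) {t : A} (ht : t ∈ 𝒜 d) (hA : Function.Bijective (Away.map φ t)) :
    IsIso (Proj.map φ hφ ∣_ Proj.basicOpen 𝒜 t) := by
  let U := Proj.basicOpen 𝒜 t
  have : IsAffine U.toScheme := Proj.isAffineOpen_basicOpen 𝒜 t ht hd
  have : IsAffine (Proj.map φ hφ ⁻¹ᵁ U).toScheme :=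
    show IsAffine (Proj.basicOpen ℬ (φ t)).toScheme from
      Proj.isAffineOpen_basicOpen ℬ (φ t) (φ.map_mem ht) hd
  have e : (Proj.map φ hφ ∣_ U).appTop = U.topIso.hom ≫
      (Proj.map φ hφ).appLE U (Proj.map φ hφ ⁻¹ᵁ U) le_rfl ≫ (Proj.map φ hφ ⁻¹ᵁ U).topIso.inv := by
    rw [← Scheme.Hom.resLE_eq_morphismRestrict, Scheme.Hom.appTop, Scheme.Hom.resLE_app_top]
  have hb : Function.Bijective ((Proj.map φ hφ).appLE U (Proj.map φ hφ ⁻¹ᵁ U) le_rfl) := by
    have h1 : IsIso (Proj.awayToSection ℬ (φ t)) := by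
      rw [← Proj.basicOpenIsoAway_hom ℬ (φ t) (φ.map_mem ht) hd]; infer_instance
    have h2 : IsIso (Proj.awayToSection 𝒜 t) := by
      rw [← Proj.basicOpenIsoAway_hom 𝒜 t ht hd]; infer_instance
    refine (Function.Bijective.of_comp_iff _ (ConcreteCategory.bijective_of_isIso (Proj.awayToSection 𝒜 t))).mp ?_
    refine Eq.mp (congrArg Function.Bijective (funext fun z => ?_))
      ((ConcreteCategory.bijective_of_isIso (Proj.awayToSection ℬ (φ t))).comp hA)
    exact (congrArg (fun g => g z) (Proj.awayToSection_comp_appLE φ hφ ht)).symm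
  have : IsIso (Proj.map φ hφ ∣_ U).appTop := by
    rw [ConcreteCategory.isIso_iff_bijective, e]
    simp only [CommRingCat.hom_comp, RingHom.coe_comp]
    exact ((ConcreteCategory.bijective_of_isIso (Proj.map φ hφ ⁻¹ᵁ U).topIso.inv).comp hb).comp
      (ConcreteCategory.bijective_of_isIso U.topIso.hom)
  have hb' := ConcreteCategory.bijective_of_isIso (Proj.map φ hφ ∣_ U).appTop
  have : IsClosedImmersion (Proj.map φ hφ ∣_ U) :=
    (HasAffineProperty.iff_of_isAffine (P := @IsClosedImmersion)).mpr ⟨inferInstance, hb'.2⟩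
  exact IsClosedImmersion.isIso_of_injective_of_isAffine hb'.1

/-- bijective in positive degrees: an isomorphism -/
theorem isIso_map (hbij : ∀ n : ℕ, 0 < n → Set.BijOn φ (𝒜 n) (ℬ n)) :
    IsIso (Proj.map φ hφ) := by
  change MorphismProperty.isomorphisms Scheme (Proj.map φ hφ)
  refine IsZariskiLocalAtTarget.of_iSup_eq_top
    (fun t : Σ d : {d : ℕ // 0 < d}, 𝒜 d.1 => Proj.basicOpen 𝒜 (t.2 : A))
    (GrModLib6.iSup_pos_basicOpen 𝒜) fun ⟨⟨d, hd⟩, t, ht⟩ => ?_
  change IsIso (Proj.map φ hφ ∣_ Proj.basicOpen 𝒜 t)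
  have hA : Function.Bijective (Away.map φ t) := by
    have key : ∀ (k : ℕ) (z : Away 𝒜 t), ∀ a (ha : a ∈ 𝒜 (k • d)), Away.mk 𝒜 ht k a ha = z →
        ∃ (k' : ℕ) (a' : A) (ha' : a' ∈ 𝒜 (k' • d)), 0 < k' • d ∧ Away.mk 𝒜 ht k' a' ha' = z := by
      intro k z a ha hz
      refine ⟨k + 1, a * t, by rw [add_smul, one_smul]; exact SetLike.mul_mem_graded ha ht,
        Nat.mul_pos (Nat.succ_pos k) hd, ?_⟩
      rw [← hz]
      apply HomogeneousLocalization.val_injective
      rw [Away.val_mk, Away.val_mk, Localization.mk_eq_mk_iff, Localization.r_iff_exists]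
      exact ⟨1, by simp [pow_succ]; ring⟩
    refine ⟨(injective_iff_map_eq_zero _).mpr fun z hz => ?_, fun z => ?_⟩
    · obtain ⟨k, a, ha, rfl⟩ := Away.mk_surjective 𝒜 ht z
      have h' := congrArg HomogeneousLocalization.val
        ((Away.map_mk φ t ht k a ha).symm.trans hz)
      rw [Away.val_mk, HomogeneousLocalization.val_zero, ← Localization.mk_zero (1 : Submonoid.powers (φ t)),
        Localization.mk_eq_mk_iff, Localization.r_iff_exists] at h'
      obtain ⟨⟨_, N, rfl⟩, hc⟩ := h'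
      have hc' : φ (t ^ (N + 1) * a) = 0 := by
        have h2 : φ t ^ N * φ a = 0 := by simpa using hc
        rw [map_mul, map_pow, pow_succ, mul_comm (φ t ^ N), mul_assoc, h2, mul_zero]
      have hmem : t ^ (N + 1) * a ∈ 𝒜 ((N + 1) • d + k • d) :=
        SetLike.mul_mem_graded (SetLike.pow_mem_graded (N + 1) ht) ha
      have h0 : t ^ (N + 1) * a = 0 :=
        (hbij _ (Nat.add_pos_left (Nat.mul_pos (Nat.succ_pos N) hd) _)).2.1 hmem (zero_mem _)
          (hc'.trans (map_zero φ).symm)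
      apply HomogeneousLocalization.val_injective
      rw [Away.val_mk, HomogeneousLocalization.val_zero, ← Localization.mk_zero (1 : Submonoid.powers t),
        Localization.mk_eq_mk_iff, Localization.r_iff_exists]
      exact ⟨⟨t ^ (N + 1), N + 1, rfl⟩, by simpa using h0⟩
    · obtain ⟨k, b, hb, rfl⟩ := Away.mk_surjective ℬ (φ.map_mem ht) z
      have hb' : b * φ t ∈ ℬ ((k + 1) • d) := by
        rw [add_smul, one_smul]; exact SetLike.mul_mem_graded hb (φ.map_mem ht)
      obtain ⟨a, ha, hab⟩ := (hbij _ (Nat.mul_pos (Nat.succ_pos k) hd)).2.2 hb'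
      refine ⟨Away.mk 𝒜 ht (k + 1) a ha, (Away.map_mk φ t ht _ a ha).trans ?_⟩
      apply HomogeneousLocalization.val_injective
      rw [Away.val_mk, Away.val_mk, Localization.mk_eq_mk_iff, Localization.r_iff_exists]
      refine ⟨1, ?_⟩
      simp only [OneMemClass.coe_one, one_mul, hab]
      rw [Nat.succ_eq_add_one, pow_succ]
      simp [mul_comm, mul_left_comm, mul_assoc]
  exact isIso_map_restrict _ _ _ _ hd ht hA

end MiscFlat6

end
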