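import Mathlib.AlgebraicGeometry.Noetherian
import Mathlib.RingTheory.Ideal.KrullsHeightTheorem
import Mathlib.RingTheory.Ideal.Height
import Mathlib.Topology.JacobsonSpace
import Mathlib.AlgebraicGeometry.Morphisms.QuasiSeparated
import Mathlib.Order.Zorn

/-!
# Induction on quasi-compact opens, antichains of points, punctured spectra
-/

set_option autoImplicit false
universe u

open CategoryTheory Limits AlgebraicGeometry TopologicalSpace

namespace MiscFlat6

theorem qcqs_induction (X : Scheme.{u}) [QuasiSeparatedSpace X] (P : X.Opens → Prop)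
    (ha : ∀ U : X.Opens, IsAffineOpen U → P U)
    (hb : ∀ (U : X.Opens) (n : ℕ) (V : Fin n → X.Opens), IsCompact (U : Set X) → (∀ i, IsAffineOpen (V i)) →
      ⨆ i, V i = U → (∀ i j, P (V i ⊓ V j)) → P U)
    (U : X.Opens) (hU : IsCompact (U : Set X)) : P U := by
  classical
  have step : ∀ (A : X.Opens), IsAffineOpen A → ∀ W ≤ A, IsCompact (W : Set X) → P W := by
    intro A hA W hWA hW
    choose g hg hxg using fun z : (W : Set X) => hA.exists_basicOpen_le (V := W) z (hWA z.2)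
    obtain ⟨t, ht⟩ := hW.elim_finite_subcover (fun z : (W : Set X) => (X.basicOpen (g z) : Set X))
      (fun z => (X.basicOpen (g z)).2) (fun x hx => Set.mem_iUnion.mpr ⟨⟨x, hx⟩, hxg ⟨x, hx⟩⟩)
    let e := t.equivFin
    refine hb W t.card (fun i => X.basicOpen (g (e.symm i).1)) hW (fun i => hA.basicOpen _)
      (le_antisymm (iSup_le fun i => hg _) fun x hx => ?_) fun i j => ?_
    · obtain ⟨z, hzt, hxz⟩ := Set.mem_iUnion₂.mp (ht hx)
      exact Opens.mem_iSup.mpr ⟨e ⟨z, hzt⟩, by rw [Equiv.symm_apply_apply]; exact hxz⟩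
    · rw [← Scheme.basicOpen_mul]
      exact ha _ (hA.basicOpen _)
  choose A hA hxA hAU using fun z : (U : Set X) =>
    exists_isAffineOpen_mem_and_subset (x := (z : X)) (U := U) z.2
  obtain ⟨t, ht⟩ := hU.elim_finite_subcover (fun z : (U : Set X) => (A z : Set X))
    (fun z => (A z).2) (fun x hx => Set.mem_iUnion.mpr ⟨⟨x, hx⟩, hxA ⟨x, hx⟩⟩)
  let e := t.equivFin
  refine hb U t.card (fun i => A (e.symm i).1) hU (fun i => hA _)
    (le_antisymm (iSup_le fun i => hAU _) fun x hx => ?_) fun i j => ?_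
  · obtain ⟨z, hzt, hxz⟩ := Set.mem_iUnion₂.mp (ht hx)
    exact Opens.mem_iSup.mpr ⟨e ⟨z, hzt⟩, by rw [Equiv.symm_apply_apply]; exact hxz⟩
  · exact step (A (e.symm i).1) (hA _) _ inf_le_left
      (QuasiSeparatedSpace.inter_isCompact _ _ (A _).isOpen (hA _).isCompact (A _).isOpen (hA _).isCompact)

section Antichain

variable {R : Type u} [CommRing R] [IsNoetherianRing R]

theorem exists_antichain_spec (T : Set (PrimeSpectrum R)) (hT : T.Infinite) :
    ∃ T' ⊆ T, T'.Infinite ∧ ∀ a ∈ T', ∀ b ∈ T', a ≤ b → a = b := by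
  classical
  -- a minimal closed set meeting `T` in an infinite set
  obtain ⟨Z, hZT, hmin⟩ := wellFounded_lt.has_min {Z : Closeds (PrimeSpectrum R) | ((Z : Set _) ∩ T).Infinite}
    ⟨⊤, by simpa using hT⟩
  have hup : ∀ p ∈ (Z : Set _) ∩ T, PrimeSpectrum.zeroLocus (p.asIdeal : Set R) ≠ (Z : Set _) →
      {q ∈ (Z : Set _) ∩ T | p ≤ q}.Finite := by
    intro p hp hne
    have hsub : PrimeSpectrum.zeroLocus (p.asIdeal : Set R) ⊆ (Z : Set _) := by
      rw [← PrimeSpectrum.closure_singleton]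
      exact Z.isClosed.closure_subset_iff.mpr (Set.singleton_subset_iff.mpr hp.1)
    by_contra hinf
    refine hmin ⟨_, PrimeSpectrum.isClosed_zeroLocus _⟩ (Set.Infinite.mono ?_ hinf)
      (lt_of_le_of_ne hsub fun h => hne (congrArg SetLike.coe h))
    rintro q ⟨hq, hpq⟩
    exact ⟨hpq, hq.2⟩
  let S := {p ∈ (Z : Set _) ∩ T | PrimeSpectrum.zeroLocus (p.asIdeal : Set R) ≠ (Z : Set _)}
  have hS : S.Infinite := by
    have h1 : {p ∈ (Z : Set _) ∩ T | PrimeSpectrum.zeroLocus (p.asIdeal : Set R) = (Z : Set _)}.Subsingleton := by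
      intro p hp q hq
      have h1 : q ∈ PrimeSpectrum.zeroLocus (p.asIdeal : Set R) := hp.2.ge hq.1.1
      have h2 : p ∈ PrimeSpectrum.zeroLocus (q.asIdeal : Set R) := hq.2.ge hp.1.1
      exact PrimeSpectrum.ext (le_antisymm h1 h2)
    refine (Set.Infinite.sdiff hZT h1.finite).mono fun p hp => ⟨hp.1, fun h => hp.2 ⟨hp.1, h⟩⟩
  by_cases hlev : ∃ n : ℕ, {p ∈ S | p.asIdeal.height = n}.Infinite
  · obtain ⟨n, hn⟩ := hlev
    refine ⟨_, fun p hp => hp.1.1.2, hn, fun a ha b hb hab => ?_⟩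
    by_contra hne
    have := Ideal.height_strict_mono_of_isPrime (I := a.asIdeal) (J := b.asIdeal)
      (lt_of_le_of_ne hab fun h => hne (PrimeSpectrum.ext h))
    rw [ha.2, hb.2] at this
    exact lt_irrefl _ this
  push Not at hlev
  have hcomp : ∀ p ∈ S, {q ∈ S | p ≤ q ∨ q ≤ p}.Finite := by
    intro p hp
    obtain ⟨n, hn⟩ := ENat.ne_top_iff_exists.mp (Ideal.height_ne_top p.isPrime.ne_top)
    refine ((hup p hp.1 hp.2).union ((Set.finite_Iic n).biUnion fun m _ => hlev m)).subset ?_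
    rintro q ⟨hq, hpq | hqp⟩
    · exact Or.inl ⟨hq.1, hpq⟩
    · refine Or.inr ?_
      have hle : q.asIdeal.height ≤ p.asIdeal.height := Ideal.height_mono hqp
      obtain ⟨m, hm⟩ := ENat.ne_top_iff_exists.mp (Ideal.height_ne_top q.isPrime.ne_top)
      rw [← hn, ← hm] at hle
      exact Set.mem_iUnion₂.mpr ⟨m, by exact_mod_cast hle, hq, hm.symm⟩
  obtain ⟨A, hA⟩ := zorn_subset {A : Set (PrimeSpectrum R) | A ⊆ S ∧ ∀ a ∈ A, ∀ b ∈ A, a ≤ b → a = b} fun c hc hchain => by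
    refine ⟨⋃₀ c, ⟨Set.sUnion_subset fun A hA => (hc hA).1, ?_⟩, fun A hA => Set.subset_sUnion_of_mem hA⟩
    rintro a ⟨A, hA, ha⟩ b ⟨B, hB, hb⟩ hab
    rcases hchain.total hA hB with h | h
    · exact (hc hB).2 a (h ha) b hb hab
    · exact (hc hA).2 a ha b (h hb) hab
  refine ⟨A, fun p hp => (hA.prop.1 hp).1.2, fun hfin => ?_, hA.prop.2⟩
  refine hS (((hfin.biUnion fun p hp => hcomp p (hA.prop.1 hp))).subset fun q hq => ?_)
  by_contra hne
  have hcomp' : ∀ a ∈ A, ¬ (a ≤ q ∨ q ≤ a) := fun a ha h => hne (Set.mem_iUnion₂.mpr ⟨a, ha, hq, h⟩)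
  have hqA : q ∈ A := by
    refine hA.le_of_ge (y := insert q A) ⟨Set.insert_subset hq hA.prop.1, ?_⟩ (Set.subset_insert q A) (Set.mem_insert q A)
    rintro a (rfl | ha) b (rfl | hb) hab
    · rfl
    · exact absurd (Or.inr hab) (hcomp' b hb)
    · exact absurd (Or.inl hab) (hcomp' a ha)
    · exact hA.prop.2 a ha b hb hab
  exact hcomp' q hqA (Or.inl le_rfl)

end Antichain

theorem exists_antichain (S : Scheme.{u}) [IsNoetherian S] (T : Set S) (hT : T.Infinite) :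
    ∃ T' : Set S, T' ⊆ T ∧ T'.Infinite ∧ ∀ a ∈ T', ∀ b ∈ T', a ⤳ b → a = b := by
  classical
  obtain ⟨t, ht⟩ := isCompact_univ.elim_finite_subcover (fun V : S.affineOpens => (V.1 : Set S))
    (fun V => V.1.2) (fun x _ => by
      obtain ⟨V, hV, hx, -⟩ := exists_isAffineOpen_mem_and_subset (x := x) (U := ⊤) trivial
      exact Set.mem_iUnion.mpr ⟨⟨V, hV⟩, hx⟩)
  obtain ⟨V, -, hV⟩ : ∃ V ∈ t, (T ∩ V.1).Infinite := by
    by_contra h
    push Not at h
    refine hT ((t.finite_toSet.biUnion fun V hV => h V hV).subset fun x hx => ?_)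
    obtain ⟨V, hVt, hxV⟩ := Set.mem_iUnion₂.mp (ht (Set.mem_univ x))
    exact Set.mem_iUnion₂.mpr ⟨V, hVt, hx, hxV⟩
  haveI := IsLocallyNoetherian.component_noetherian V
  have hinf : (V.2.fromSpec ⁻¹' T).Infinite := by
    refine fun hfin => hV ((hfin.image V.2.fromSpec).subset ?_)
    rintro x ⟨hxT, hxV⟩
    obtain ⟨p, rfl⟩ : x ∈ Set.range V.2.fromSpec := by rw [V.2.range_fromSpec]; exact hxV
    exact ⟨p, hxT, rfl⟩
  obtain ⟨T', hT'sub, hT', hanti⟩ := exists_antichain_spec (R := Γ(S, V.1)) _ hinf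
  refine ⟨V.2.fromSpec '' T', by rintro _ ⟨p, hp, rfl⟩; exact hT'sub hp,
    hT'.image V.2.fromSpec.isOpenEmbedding.injective.injOn, ?_⟩
  rintro _ ⟨a, ha, rfl⟩ _ ⟨b, hb, rfl⟩ hab
  rw [hanti a ha b hb ((PrimeSpectrum.le_iff_specializes a b).mpr
    (V.2.fromSpec.isOpenEmbedding.isInducing.specializes_iff.mp hab))]

theorem eq_of_lt_of_forall_mem {A : Type u} [CommRing A] [IsNoetherianRing A] [IsDomain A] (h : A) (h0 : h ≠ 0)
    (hall : ∀ P : Ideal A, P.IsPrime → P ≠ ⊥ → h ∈ P) {P Q : Ideal A} [P.IsPrime] [Q.IsPrime]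
    (hP : P ≠ ⊥) (hPQ : P ≤ Q) : P = Q := by
  classical
  by_contra hne
  have hfin := Ideal.finite_minimalPrimes_of_isNoetherianRing A (Ideal.span {h})
  have hQ1 : ∀ M ∈ (Ideal.span {h}).minimalPrimes, ¬ Q ≤ M := by
    intro M hM hQM
    haveI := hM.1.1
    have h1 : M.height ≤ 1 := Ideal.height_le_one_of_isPrincipal_of_mem_minimalPrimes (Ideal.span {h}) M hM
    have hlt : P < Q := lt_of_le_of_ne hPQ hne
    have h2 : P.height < Q.height := Ideal.height_strict_mono_of_isPrime hlt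
    have h3 : (⊥ : Ideal A).height < P.height :=
      Ideal.height_strict_mono_of_isPrime (bot_lt_iff_ne_bot.mpr hP)
    have h4 : Q.height ≤ 1 := (Ideal.height_mono hQM).trans h1
    have h5 : P.height < 1 := lt_of_lt_of_le h2 h4
    rw [ENat.lt_one_iff_eq_zero] at h5
    exact not_lt_bot (h5 ▸ h3)
  obtain ⟨x, hxQ, hx⟩ : ∃ x ∈ Q, ∀ M ∈ hfin.toFinset, x ∉ M := by
    by_contra hcon
    push Not at hcon
    obtain ⟨M, hM, hle⟩ := (Ideal.subset_union_prime (f := fun M : Ideal A => M) (⊥ : Ideal A) ⊥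
      (fun M hM _ _ => (hfin.mem_toFinset.mp hM).1.1)).mp (fun x hx => by
        obtain ⟨M, hM, hxM⟩ := hcon x hx
        exact Set.mem_iUnion₂.mpr ⟨M, Finset.mem_coe.mpr hM, hxM⟩)
    exact hQ1 M (hfin.mem_toFinset.mp hM) hle
  obtain ⟨M', hM', hM'Q⟩ := Ideal.exists_minimalPrimes_le ((Ideal.span_singleton_le_iff_mem _).mpr hxQ)
  haveI := hM'.1.1
  have hne' : M' ≠ ⊥ := fun e => by
    have hx0 : x ∈ M' := (Ideal.span_singleton_le_iff_mem _).mp hM'.1.2
    rw [e, Ideal.mem_bot] at hx0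
    obtain ⟨M, hM, -⟩ := Ideal.exists_minimalPrimes_le ((Ideal.span_singleton_le_iff_mem _).mpr (hall Q inferInstance
      fun e' => hne (le_antisymm hPQ (e' ▸ bot_le))))
    exact hx M (hfin.mem_toFinset.mpr hM) (hx0 ▸ M.zero_mem)
  have h1 : M'.height ≤ 1 := Ideal.height_le_one_of_isPrincipal_of_mem_minimalPrimes (Ideal.span {x}) M' hM'
  obtain ⟨M, hM, hMM'⟩ := Ideal.exists_minimalPrimes_le ((Ideal.span_singleton_le_iff_mem _).mpr (hall M' inferInstance hne'))
  haveI := hM.1.1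
  have hMne : M ≠ ⊥ := fun e => h0 (Ideal.mem_bot.mp (e ▸ (Ideal.span_singleton_le_iff_mem _).mp hM.1.2))
  rcases eq_or_lt_of_le hMM' with e | hlt
  · exact hx M (hfin.mem_toFinset.mpr hM) (e ▸ (Ideal.span_singleton_le_iff_mem _).mp hM'.1.2)
  · have h2 : (⊥ : Ideal A).height < M.height :=
      Ideal.height_strict_mono_of_isPrime (bot_lt_iff_ne_bot.mpr hMne)
    have h3 : M.height < M'.height := Ideal.height_strict_mono_of_isPrime hlt
    have h5 : M.height < 1 := lt_of_lt_of_le h3 h1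
    rw [ENat.lt_one_iff_eq_zero] at h5
    exact not_lt_bot (h5 ▸ h2)

theorem jacobsonSpace_punctured (R : Type u) [CommRing R] [IsNoetherianRing R] (I : Ideal R)
    (hI : I ≤ (⊥ : Ideal R).jacobson) : JacobsonSpace ↥((PrimeSpectrum.zeroLocus (I : Set R))ᶜ) := by
  classical
  rw [jacobsonSpace_iff_locallyClosed]
  intro Z hZne hZ
  obtain ⟨⟨z, hz⟩, hzZ⟩ := hZne
  obtain ⟨U, C, hU, hC, rfl⟩ := hZ
  obtain ⟨U', hU', rfl⟩ := isOpen_induced_iff.mp hU
  obtain ⟨C', hC', rfl⟩ := isClosed_induced_iff.mp hC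
  obtain ⟨_, ⟨f, rfl⟩, hzf, hfU⟩ := PrimeSpectrum.isTopologicalBasis_basic_opens.exists_subset_of_mem_open hzZ.1 hU'
  obtain ⟨g, hgI, hgz⟩ : ∃ g ∈ I, g ∉ z.asIdeal := by
    by_contra h
    push Not at h
    exact hz h
  obtain ⟨p, hp, hmax⟩ := wellFounded_gt.has_min
    {p : Ideal R | p.IsPrime ∧ z.asIdeal ≤ p ∧ f * g ∉ p}
    ⟨z.asIdeal, z.isPrime, le_rfl, fun h => (z.isPrime.mem_or_mem h).elim hzf hgz⟩
  haveI := hp.1
  have hgp : g ∉ p := fun h => hp.2.2 (p.mul_mem_left f h)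
  let x : ↥((PrimeSpectrum.zeroLocus (I : Set R))ᶜ) := ⟨⟨p, hp.1⟩, fun h => hgp (h hgI)⟩
  refine ⟨x, ⟨hfU (fun h => hp.2.2 (p.mul_mem_right g h)), ?_⟩, ?_⟩
  · show (⟨p, hp.1⟩ : PrimeSpectrum R) ∈ C'
    exact ((PrimeSpectrum.le_iff_specializes z ⟨p, hp.1⟩).mp hp.2.1).mem_closed hC' hzZ.2
  · rw [mem_closedPoints_iff, ← closure_subset_iff_isClosed]
    intro q hq
    have hq' : (x : PrimeSpectrum R) ⤳ q.1 := (specializes_iff_mem_closure.mpr hq).map continuous_subtype_val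
    have hpq : p ≤ q.1.asIdeal := (PrimeSpectrum.le_iff_specializes _ _).mpr hq'
    by_contra hne
    have hlt : p < q.1.asIdeal := lt_of_le_of_ne hpq fun e => hne (Subtype.ext (PrimeSpectrum.ext e.symm))
    obtain ⟨g', hg'I, hg'q⟩ : ∃ g' ∈ I, g' ∉ q.1.asIdeal := by
      by_contra h
      push Not at h
      exact q.2 h
    obtain ⟨m, hm, hqm⟩ := Ideal.exists_le_maximal q.1.asIdeal q.1.isPrime.ne_top
    have hg'm : g' ∈ m := Ideal.mem_sInf.mp (hI hg'I) ⟨bot_le, hm⟩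
    -- pass to the quotient
    let π := Ideal.Quotient.mk p
    have hall : ∀ P : Ideal (R ⧸ p), P.IsPrime → P ≠ ⊥ → π (f * g) ∈ P := by
      intro P hP hP0
      by_contra hfg
      refine hmax (P.comap π) ⟨Ideal.IsPrime.comap _, hp.2.1.trans fun a ha => ?_, hfg⟩ (lt_of_le_of_ne
        (fun a ha => ?_) fun e => hP0 ?_)
      · show π a ∈ P
        rw [Ideal.Quotient.eq_zero_iff_mem.mpr ha]; exact P.zero_mem
      · show π a ∈ P
        rw [Ideal.Quotient.eq_zero_iff_mem.mpr ha]; exact P.zero_mem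
      · rw [← Ideal.map_comap_of_surjective π Ideal.Quotient.mk_surjective P, ← e, Ideal.map_quotient_self]
    have hker : ∀ J : Ideal R, p ≤ J → (J.map π).comap π = J := fun J hJ => by
      rw [Ideal.comap_map_of_surjective π Ideal.Quotient.mk_surjective, ← RingHom.ker_eq_comap_bot,
        Ideal.mk_ker, sup_eq_left]
      exact hJ
    haveI : (q.1.asIdeal.map π).IsPrime :=
      Ideal.map_isPrime_of_surjective Ideal.Quotient.mk_surjective (by rw [Ideal.mk_ker]; exact hpq)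
    haveI : (m.map π).IsPrime :=
      Ideal.map_isPrime_of_surjective Ideal.Quotient.mk_surjective (by rw [Ideal.mk_ker]; exact hpq.trans hqm)
    have heq := eq_of_lt_of_forall_mem (π (f * g)) (fun h => hp.2.2 (Ideal.Quotient.eq_zero_iff_mem.mp h)) hall
      (P := q.1.asIdeal.map π) (Q := m.map π) (fun e => hlt.ne (le_antisymm hpq fun a ha => by
        have : π a ∈ q.1.asIdeal.map π := Ideal.mem_map_of_mem π ha
        rw [e, Ideal.mem_bot] at this
        exact Ideal.Quotient.eq_zero_iff_mem.mp this)) (Ideal.map_mono hqm)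
    have h2 := congrArg (Ideal.comap π) heq
    rw [hker _ hpq, hker _ (hpq.trans hqm)] at h2
    exact hg'q (h2 ▸ hg'm)

end MiscFlat6
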