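import Mathlib
import Groth.Agent.ChevLib.Main

/-!
# Quasi-affineness passes through nilimmersions
-/

universe u

open CategoryTheory Limits AlgebraicGeometry TopologicalSpace ChevLib

namespace MiscFlat6

variable {Z Z0 : Scheme.{u}} (i : Z0 ⟶ Z) [IsClosedImmersion i] [Surjective i]

theorem exists_affine_preimage_eq {V₀ : Z0.Opens} (hV₀ : IsAffineOpen V₀) :
    ∃ V : Z.affineOpens, i ⁻¹ᵁ V.1 = V₀ := by
  have hcl : IsClosed (i '' (V₀ : Set Z0)ᶜ) := i.isClosedMap _ V₀.2.isClosed_compl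
  let V : Z.Opens := ⟨(i '' (V₀ : Set Z0)ᶜ)ᶜ, hcl.isOpen_compl⟩
  have hV : i ⁻¹ᵁ V = V₀ := by
    ext w
    show i w ∉ i '' (V₀ : Set Z0)ᶜ ↔ w ∈ V₀
    rw [i.isClosedEmbedding.injective.mem_set_image]
    exact not_not
  refine ⟨⟨V, ?_⟩, hV⟩
  haveI : IsAffine (i ⁻¹ᵁ V : Scheme.{u}) := by rw [hV]; exact hV₀
  haveI : Surjective (i ∣_ V) := IsZariskiLocalAtTarget.restrict ‹Surjective i› V
  haveI : UniversallyClosed (i ∣_ V) := IsZariskiLocalAtTarget.restrict (inferInstance : UniversallyClosed i) V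
  exact ChevLib.isAffine_of_surjective_universallyClosed (i ∣_ V)

/-- Over a square zero thickening, powers of functions with affine non-vanishing locus lift. -/
theorem exists_pow_lift_of_sq_eq_bot [Z0.IsQuasiAffine] (hsq : i.ker * i.ker = ⊥)
    (g₀ : Γ(Z0, ⊤)) (hg₀ : IsAffineOpen (Z0.basicOpen g₀)) :
    ∃ (K : ℕ) (S : Γ(Z, ⊤)), 0 < K ∧ i.appTop S = g₀ ^ K := by
  classical
  -- a cover by affine opens, the first one is cut out by `g₀`
  obtain ⟨n, g, W, m, hm, hW, hcov⟩ : ∃ (n : ℕ) (g : Fin n → Γ(Z0, ⊤)) (W : Fin n → Z.affineOpens)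
      (m : Fin n), g m = g₀ ∧ (∀ l, i ⁻¹ᵁ (W l).1 = Z0.basicOpen (g l)) ∧
        (⊤ : Z.Opens) ≤ ⨆ l, (W l).1 := by
    have hloc : ∀ w : Z0, ∃ r : Γ(Z0, ⊤), w ∈ Z0.basicOpen r ∧ IsAffineOpen (Z0.basicOpen r) := by
      intro w
      obtain ⟨_, ⟨_, ⟨r, hr, rfl⟩, rfl⟩, hwr, -⟩ :=
        (Scheme.IsQuasiAffine.isBasis_basicOpen Z0).exists_subset_of_mem_open (Set.mem_univ w) isOpen_univ
      exact ⟨r, hwr, hr⟩
    choose r hwr hr using hloc
    obtain ⟨s, hs⟩ := isCompact_univ.elim_finite_subcover (fun w => (Z0.basicOpen (r w) : Set Z0))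
      (fun w => (Z0.basicOpen (r w)).isOpen) (fun w _ => Set.mem_iUnion.mpr ⟨w, hwr w⟩)
    let t : Finset Γ(Z0, ⊤) := insert g₀ (s.image r)
    have ht : ∀ a : t, IsAffineOpen (Z0.basicOpen a.1) := by
      rintro ⟨a, ha⟩
      rcases Finset.mem_insert.mp ha with rfl | ha
      · exact hg₀
      · obtain ⟨w, -, rfl⟩ := Finset.mem_image.mp ha
        exact hr w
    choose W hW using fun a : t => exists_affine_preimage_eq i (ht a)
    refine ⟨t.card, fun l => (t.equivFin.symm l).1, fun l => W (t.equivFin.symm l),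
      t.equivFin ⟨g₀, Finset.mem_insert_self _ _⟩, by simp, fun l => hW _, fun z _ => ?_⟩
    obtain ⟨w, rfl⟩ := i.surjective z
    obtain ⟨v, hv, hwv⟩ := Set.mem_iUnion₂.mp (hs (Set.mem_univ w))
    refine Opens.mem_iSup.mpr
      ⟨t.equivFin ⟨r v, Finset.mem_insert_of_mem (Finset.mem_image_of_mem r hv)⟩, ?_⟩
    simp only [Equiv.symm_apply_apply]
    exact (SetLike.ext_iff.mp (hW _) w).mpr hwv
  let I := i.ker
  have hinj : ∀ {V V' : Z.Opens}, i ⁻¹ᵁ V = i ⁻¹ᵁ V' → V = V' := fun h => ChevLib.preimage_injective i h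
  have hlift : ∀ (a : Γ(Z0, ⊤)) (l : Fin n), ∃ x : Γ(Z, W l),
      (i.app (W l)).hom x = res le_top a := fun a l =>
    i.app_surjective (W l).1 (W l).2 (res le_top a)
  choose L hL using hlift
  let D (l p : Fin n) : Z.affineOpens := ⟨Z.basicOpen (L (g p) l), (W l).2.basicOpen _⟩
  have hD : ∀ l p, (D l p).1 = (W l).1 ⊓ (W p).1 := by
    intro l p
    apply hinj
    simp only [D, Scheme.preimage_basicOpen, Scheme.Hom.preimage_inf]
    rw [hL, hW p]
    exact (Z0.basicOpen_res (g p) (homOfLE le_top).op).trans (by rw [hW l])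
  have hD1 : ∀ l p, (D l p).1 ≤ (W l).1 := fun l p => (hD l p).le.trans inf_le_left
  have hD2 : ∀ l p, (D l p).1 ≤ (W p).1 := fun l p => (hD l p).le.trans inf_le_right
  have hdiff : ∀ (a : Γ(Z0, ⊤)) (l p : Fin n) (U : Z.affineOpens) (h1 : U.1 ≤ (W l).1)
      (h2 : U.1 ≤ (W p).1), res h1 (L a l) - res h2 (L a p) ∈ I.ideal U := by
    intro a l p U h1 h2
    rw [mem_ker_iff, map_sub, app_res i h1, app_res i h2, hL, hL, res_res, res_res, sub_self]
  let d (l p : Fin n) : Γ(Z, D l p) := res (hD1 l p) (L g₀ l) - res (hD2 l p) (L g₀ p)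
  -- extend `G ^ k * d` to `W l`
  have hext : ∀ l, ∃ k : ℕ, ∀ k' ≥ k, ∃ e ∈ I.ideal (W l),
      res (hD1 l m) e = res (hD1 l m) (L (g m) l) ^ k' * d l m := by
    intro l
    have hd : d l m ∈ I.ideal (D l m) := hdiff g₀ l m (D l m) (hD1 l m) (hD2 l m)
    have hmap := I.map_ideal_basicOpen (W l) (L (g m) l)
    let : Algebra Γ(Z, W l) Γ(Z, D l m) := (res (hD1 l m)).toAlgebra
    have : IsLocalization.Away (L (g m) l) Γ(Z, D l m) :=
      (W l).2.isLocalization_of_eq_basicOpen _ _ rfl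
    have hd' : d l m ∈ (I.ideal (W l)).map (algebraMap Γ(Z, W l) Γ(Z, D l m)) := hmap.ge hd
    obtain ⟨⟨⟨e, he⟩, ⟨_, k, rfl⟩⟩, hek⟩ :=
      (IsLocalization.mem_map_algebraMap_iff (Submonoid.powers (L (g m) l)) _).mp hd'
    refine ⟨k, fun k' hk' => ⟨L (g m) l ^ (k' - k) * e, Ideal.mul_mem_left _ _ he, ?_⟩⟩
    have hek' : res (hD1 l m) e = res (hD1 l m) (L (g m) l) ^ k * d l m := by
      rw [← map_pow, mul_comm]; exact hek.symm
    rw [map_mul, map_pow, hek', ← mul_assoc, ← pow_add, Nat.sub_add_cancel hk']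
  choose k hk using hext
  let N := Finset.univ.sup k
  choose e heI he using fun l => hk l N (Finset.le_sup (f := k) (Finset.mem_univ l))
  -- the cocycle defect is killed by a power
  have hdefect : ∀ l p, ∃ M : ℕ, ∀ M' ≥ M, res (hD1 l p) (L (g m) l) ^ M' *
      (res (hD1 l p) (e l) - res (hD2 l p) (e p)) =
        res (hD1 l p) (L (g m) l) ^ (M' + N) * d l p := by
    intro l p
    let G := res (hD1 l p) (L (g m) l)
    let V : Z.affineOpens := ⟨Z.basicOpen G, (D l p).2.basicOpen G⟩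
    have hV : V.1 ≤ (D l p).1 := Z.basicOpen_le G
    have hVm : V.1 ≤ (W m).1 := by
      refine le_trans ?_ (hD2 l m)
      exact (Z.basicOpen_res (L (g m) l) (homOfLE (hD1 l p)).op).trans_le inf_le_right
    have hVlm : V.1 ≤ (D l m).1 := (le_inf (hV.trans (hD1 l p)) hVm).trans (hD l m).ge
    have hVpm : V.1 ≤ (D p m).1 := (le_inf (hV.trans (hD2 l p)) hVm).trans (hD p m).ge
    have key : res hV (res (hD1 l p) (e l) - res (hD2 l p) (e p) - G ^ N * d l p) = 0 := by
      have h1 := congr(res hVlm $(he l))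
      have h2 := congr(res hVpm $(he p))
      simp only [map_sub, map_mul, map_pow, res_res, d, G] at h1 h2 ⊢
      rw [h1, h2, ← pow_mul_congr i hsq V (hdiff (g m) l p V (hV.trans (hD1 l p))
        (hV.trans (hD2 l p))) (hdiff g₀ p m V (hV.trans (hD2 l p)) hVm) N]
      ring
    obtain ⟨M, hM⟩ := exists_pow_mul_eq_zero_of_res_basicOpen_eq_zero_of_isCompact
      Z (D l p).2.isCompact _ G key
    refine ⟨M, fun M' hM' => ?_⟩
    have hM2 : G ^ M' *
        (res (hD1 l p) (e l) - res (hD2 l p) (e p) - G ^ N * d l p) = 0 := by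
      rw [← Nat.sub_add_cancel hM', pow_add, mul_assoc, hM, mul_zero]
    rw [mul_sub, sub_eq_zero, ← mul_assoc, ← pow_add] at hM2
    exact hM2
  choose M hM using hdefect
  let MM := Finset.univ.sup fun p : Fin n × Fin n => M p.1 p.2
  let J := MM + N
  let c (l : Fin n) : Γ(Z, W l) := L g₀ l ^ MM * e l
  have hcI : ∀ l, c l ∈ I.ideal (W l) := fun l => Ideal.mul_mem_left _ _ (heI l)
  let T (l : Fin n) : Γ(Z, W l) := L g₀ l ^ (J + 1) - ((J + 1 : ℕ) : Γ(Z, W l)) * c l
  have hres : ∀ {U V : Z.affineOpens} (hUV : V.1 ≤ U.1) {x : Γ(Z, U)}, x ∈ I.ideal U →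
      res hUV x ∈ I.ideal V := fun {U V} hUV x hx =>
    I.ideal_le_comap_ideal (U := V) (V := U) hUV hx
  have hagree : ∀ l p, res (hD1 l p) (T l) = res (hD2 l p) (T p) := by
    intro l p
    have hab : res (hD1 l p) (L g₀ l) - res (hD2 l p) (L g₀ p) ∈ I.ideal (D l p) :=
      hdiff g₀ l p _ _ _
    have hc : res (hD1 l p) (c l) - res (hD2 l p) (c p) =
        res (hD1 l p) (L g₀ l) ^ J * d l p := by
      have he' := hres (hD2 l p) (heI p)
      simp only [c, map_mul, map_pow]
      rw [← pow_mul_congr i hsq (D l p) hab he' MM, ← mul_sub]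
      have := hM l p MM (Finset.le_sup (f := fun q : Fin n × Fin n => M q.1 q.2) (Finset.mem_univ (l, p)))
      rwa [hm] at this
    have hp : res (hD1 l p) (L g₀ l) ^ (J + 1) - res (hD2 l p) (L g₀ p) ^ (J + 1) =
        ((J + 1 : ℕ) : Γ(Z, D l p)) * (res (hD1 l p) (L g₀ l) ^ J * d l p) := by
      set a := res (hD1 l p) (L g₀ l)
      set b := res (hD2 l p) (L g₀ p)
      rw [← geom_sum₂_mul a b (J + 1), Finset.sum_mul]
      have hterm : ∀ j ∈ Finset.range (J + 1),
          a ^ j * b ^ (J + 1 - 1 - j) * (a - b) = a ^ J * (a - b) := by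
        intro j hj
        have hj' : j ≤ J := Nat.lt_succ_iff.mp (Finset.mem_range.mp hj)
        rw [mul_assoc, show J + 1 - 1 - j = J - j by omega,
          ← pow_mul_congr i hsq (D l p) hab hab (J - j), ← mul_assoc, ← pow_add,
          Nat.add_sub_cancel' hj']
      rw [Finset.sum_congr rfl hterm, Finset.sum_const, Finset.card_range, nsmul_eq_mul]
    simp only [T, map_sub, map_mul, map_pow, map_natCast]
    linear_combination hp - ((J + 1 : ℕ) : Γ(Z, D l p)) * hc
  obtain ⟨S, hS, -⟩ := Z.sheaf.existsUnique_gluing' (fun l => (W l).1) ⊤ (fun l => homOfLE le_top)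
    hcov T (fun l p => by
      have := congr(res (hD l p).ge $(hagree l p))
      simp only [res_res] at this
      exact this)
  refine ⟨J + 1, S, Nat.succ_pos _, ?_⟩
  apply Z0.sheaf.eq_of_locally_eq' (fun l => i ⁻¹ᵁ (W l).1) ⊤ (fun l => homOfLE le_top)
  · intro w _
    obtain ⟨l, hl⟩ := Opens.mem_iSup.mp (hcov (trivial : i w ∈ ⊤))
    exact Opens.mem_iSup.mpr ⟨l, hl⟩
  intro l
  have h1 : res le_top ((i.app ⊤).hom S) = (i.app (W l)).hom (res le_top S) := (app_res i _ S).symm
  have h2 : res le_top S = T l := hS l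
  show res le_top ((i.app ⊤).hom S) = res le_top (g₀ ^ (J + 1))
  rw [h1, h2, map_sub, map_mul, map_pow, hL, (mem_ker_iff i _ _).mp (hcI l), mul_zero, sub_zero,
    map_pow]

/-- A square zero thickening of a quasi-affine scheme is quasi-affine. -/
theorem isQuasiAffine_of_sq_eq_bot [Z0.IsQuasiAffine] (hsq : i.ker * i.ker = ⊥) : Z.IsQuasiAffine := by
  haveI : CompactSpace Z := i.surjective.compactSpace i.continuous
  refine Scheme.IsQuasiAffine.of_forall_exists_mem_basicOpen Z fun z => ?_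
  obtain ⟨w, rfl⟩ := i.surjective z
  obtain ⟨_, ⟨_, ⟨r, hr, rfl⟩, rfl⟩, hwr, -⟩ :=
    (Scheme.IsQuasiAffine.isBasis_basicOpen Z0).exists_subset_of_mem_open (Set.mem_univ w) isOpen_univ
  obtain ⟨K, S, hK, hS⟩ := exists_pow_lift_of_sq_eq_bot i hsq r hr
  obtain ⟨V, hV⟩ := exists_affine_preimage_eq i hr
  have hb : i ⁻¹ᵁ Z.basicOpen S = Z0.basicOpen r := by
    rw [Scheme.preimage_basicOpen]
    exact (congrArg _ hS).trans (Scheme.basicOpen_pow Z0 r hK)
  have hbV : Z.basicOpen S = V.1 := ChevLib.preimage_injective i (hb.trans hV.symm)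
  exact ⟨S, hbV ▸ V.2, (SetLike.ext_iff.mp hb w).mpr hwr⟩

omit [IsClosedImmersion i] in
theorem isQuasiAffine_of_surjective_closedImmersion [IsClosedImmersion i] [Z0.IsQuasiAffine] :
    Z.IsQuasiAffine := by
  haveI : Z.IsSeparated := ChevLib.isSeparated_of_surjective_universallyClosed i
  haveI : CompactSpace Z := i.surjective.compactSpace i.continuous
  by_contra hZ
  let P : Set Z.IdealSheafData :=
    {J | (J.support : Set Z) = Set.univ ∧ ¬ J.subscheme.IsQuasiAffine}
  have hbot : (⊥ : Z.IdealSheafData) ∈ P := ⟨by simp, fun h => hZ (by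
    haveI := h
    exact .of_isAffineHom (inv (Scheme.IdealSheafData.subschemeι ⊥ : _ ⟶ Z)))⟩
  obtain ⟨M, -, hM⟩ := zorn_le_nonempty₀ P (fun c hcP hc y hy => ⟨sSup c, ⟨by
      rw [Scheme.IdealSheafData.support_sSup, Set.eq_univ_iff_forall]
      intro x
      simp only [Closeds.coe_iInf, Set.mem_iInter]
      exact fun J hJ => (Set.eq_univ_iff_forall.mp (hcP hJ).1) x, by
      intro hA
      have : Nonempty ↥c := ⟨⟨y, hy⟩⟩
      have : IsDirectedOrder ↥c := ⟨fun a b => by
        obtain ⟨K, hK, h1, h2⟩ := hc.directedOn _ a.2 _ b.2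
        exact ⟨⟨K, hK⟩, h1, h2⟩⟩
      have : ∀ {I J : (↥c)ᵒᵖ} (φ : I ⟶ J), IsAffineHom ((chainFunctor c).map φ) := fun {I J} φ =>
        (inferInstance : IsAffineHom
          (Scheme.IdealSheafData.inclusion (show J.unop.1 ≤ I.unop.1 from φ.unop.le)))
      have hcp : ∀ J : Z.IdealSheafData, CompactSpace J.subscheme := fun J =>
        QuasiCompact.compactSpace_of_compactSpace J.subschemeι
      have : ∀ I, CompactSpace ((chainFunctor c).obj I) := fun I => hcp I.unop.1
      have hqs : ∀ J : Z.IdealSheafData, QuasiSeparatedSpace J.subscheme := fun J =>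
        quasiSeparatedSpace_of_quasiSeparated J.subschemeι
      have : ∀ I, QuasiSeparatedSpace ((chainFunctor c).obj I) := fun I => hqs I.unop.1
      have : (chainCone c).pt.IsQuasiAffine := hA
      obtain ⟨I, hI⟩ := Scheme.exists_isQuasiAffine_of_isLimit _ _
        (isLimitChainCone c ⟨y, hy⟩ hc.directedOn)
      exact (hcP I.unop.2).2 hI
    ⟩, fun z hz => le_sSup hz⟩) ⊥ hbot
  haveI : Surjective M.subschemeι := ⟨fun z => by
    have h1 : z ∈ Set.range M.subschemeι := by
      rw [Scheme.IdealSheafData.range_subschemeι]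
      exact Set.eq_univ_iff_forall.mp hM.1.1 z
    exact h1⟩
  let Y := M.subscheme
  haveI : Y.IsSeparated := by
    rw [Scheme.isSeparated_iff]
    have : terminal.from Y = M.subschemeι ≫ terminal.from Z := Subsingleton.elim _ _
    rw [this]; infer_instance
  haveI : CompactSpace Y := QuasiCompact.compactSpace_of_compactSpace M.subschemeι
  let iY : pullback i M.subschemeι ⟶ Y := pullback.snd i M.subschemeι
  haveI : Surjective iY := MorphismProperty.pullback_snd _ _ ‹_›
  haveI : IsClosedImmersion iY := MorphismProperty.pullback_snd _ _ ‹_›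
  haveI : (pullback i M.subschemeι).IsQuasiAffine := .of_isAffineHom (pullback.fst i M.subschemeι)
  have hnred : ¬ IsReduced Y := by
    intro _
    apply hM.1.2
    haveI : IsIso iY := by
      rw [IsClosedImmersion.isIso_iff_ker_eq_bot, ← Scheme.IdealSheafData.support_eq_top_iff,
        ← SetLike.coe_injective.eq_iff, Closeds.coe_top, Scheme.Hom.support_ker,
        iY.surjective.range_eq, closure_univ]
    exact .of_isAffineHom (inv iY)
  obtain ⟨J, hJ, hJ2, hJn⟩ := exists_sq_eq_bot hnred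
  haveI : Surjective J.subschemeι := ⟨fun z => by
    have h1 : z ∈ Set.range J.subschemeι := by
      rw [Scheme.IdealSheafData.range_subschemeι]
      have := Scheme.IdealSheafData.support_antitone hJn
      rw [Scheme.support_nilradical] at this
      exact this trivial
    exact h1⟩
  by_cases hJA : J.subscheme.IsQuasiAffine
  · exact hM.1.2 (isQuasiAffine_of_sq_eq_bot J.subschemeι
      (by rw [Scheme.IdealSheafData.ker_subschemeι, hJ2]))
  let M' := (J.subschemeι ≫ M.subschemeι).ker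
  have hiso : M'.subscheme.IsQuasiAffine → J.subscheme.IsQuasiAffine := fun _ =>
    .of_isAffineHom (J.subschemeι ≫ M.subschemeι).toImage
  have hle : M ≤ M' := by
    refine le_trans ?_ (Scheme.Hom.le_ker_comp _ _)
    rw [Scheme.IdealSheafData.ker_subschemeι]
  have hsupp : (M'.support : Set Z) = Set.univ := by
    rw [Scheme.Hom.support_ker, (J.subschemeι ≫ M.subschemeι).surjective.range_eq, closure_univ]
  have hM' : M' ≤ M := hM.2 ⟨hsupp, fun h => hJA (hiso h)⟩ hle
  apply hJ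
  rw [← Scheme.isIso_subschemeι_iff_eq_bot]
  exact IsClosedImmersion.isIso_of_ker_eq (J.subschemeι ≫ M.subschemeι) M.subschemeι J.subschemeι
    rfl (by rw [Scheme.IdealSheafData.ker_subschemeι]; exact le_antisymm hM' hle)

end MiscFlat6
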