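import Mathlib
import Groth.Prelude.Def_MoreMor
import Groth.Prelude.Def_Mor2
import Groth.Agent.RichLib.IndQuasiAffine
import Groth.Agent.AlgSpLib.QAffDescent
import Groth.Agent.MiscFlat6.FpqcDesc

universe u
open CategoryTheory CategoryTheory.Limits AlgebraicGeometry TopologicalSpace

namespace MiscFlat6

/-- Quasi-affineness of a scheme over an affine base descends along a faithfully flat affine base change. -/
theorem isQuasiAffine_of_faithfullyFlat {X S S' X' : Scheme.{u}} [IsAffine S] [IsAffine S']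
    [CompactSpace X] {fst : X' ⟶ X} {snd : X' ⟶ S'} {g : X ⟶ S} {q : S' ⟶ S} [Flat q] [Surjective q]
    (sq : IsPullback fst snd g q) [X'.IsQuasiAffine] : X.IsQuasiAffine := by
  have hq : (@Surjective ⊓ @Flat ⊓ @QuasiCompact : MorphismProperty Scheme.{u}) q :=
    ⟨⟨inferInstance, inferInstance⟩, inferInstance⟩
  haveI := desc_isSeparated.{u}
  haveI : IsSeparated g := MorphismProperty.of_isPullback_of_descendsAlong (P := @IsSeparated)
    (Q := @Surjective ⊓ @Flat ⊓ @QuasiCompact) sq.flip hq inferInstance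
  haveI : QuasiSeparatedSpace X := quasiSeparatedSpace_of_quasiSeparated g
  have hpo := AlgSpLib.isPushout_appTop_of_flat sq
  have hR : IsPullback (Spec.map fst.appTop) (Spec.map snd.appTop) (Spec.map g.appTop) (Spec.map q.appTop) :=
    isPullback_SpecMap_of_isPushout _ _ _ _ hpo
  have hbig : IsPullback fst (X'.toSpecΓ ≫ Spec.map snd.appTop) (X.toSpecΓ ≫ Spec.map g.appTop)
      (Spec.map q.appTop) := by
    rw [← Scheme.toSpecΓ_naturality, ← Scheme.toSpecΓ_naturality]
    exact sq.paste_vert (IsPullback.of_vert_isIso ⟨Scheme.toSpecΓ_naturality q⟩)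
  have key : IsPullback fst X'.toSpecΓ X.toSpecΓ (Spec.map fst.appTop) :=
    IsPullback.of_bot hbig (Scheme.toSpecΓ_naturality fst) hR
  have hf : (@Surjective ⊓ @Flat ⊓ @QuasiCompact : MorphismProperty Scheme.{u}) (Spec.map fst.appTop) := by
    haveI : Flat (Spec.map q.appTop) :=
      (MorphismProperty.arrow_mk_iso_iff @Flat (arrowIsoSpecΓOfIsAffine q)).mp inferInstance
    haveI : Surjective (Spec.map q.appTop) :=
      (MorphismProperty.arrow_mk_iso_iff @Surjective (arrowIsoSpecΓOfIsAffine q)).mp inferInstance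
    exact ⟨⟨MorphismProperty.of_isPullback hR.flip ‹Surjective _›,
      MorphismProperty.of_isPullback hR.flip ‹Flat _›⟩, inferInstance⟩
  haveI : IsOpenImmersion X.toSpecΓ := MorphismProperty.of_isPullback_of_descendsAlong
    (P := @IsOpenImmersion) (Q := @Surjective ⊓ @Flat ⊓ @QuasiCompact) key.flip hf inferInstance
  constructor

theorem indQA_descends {X S X' S' : Scheme.{u}} {f : X ⟶ S} {f' : X' ⟶ S'} {g' : X' ⟶ X} {g : S' ⟶ S}
    [Flat g] [Surjective g] [QuasiCompact g] (hc : IsPullback g' f' f g)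
    (hf' : MoreMor.IsIndQuasiAffineHom f') : MoreMor.IsIndQuasiAffineHom f := by
  refine (RichLib.QA.indQA_iff f).mpr fun V hV U hUV hU => ?_
  haveI : IsAffine V.toScheme := hV
  haveI : CompactSpace U.toScheme := isCompact_iff_compactSpace.mp hU
  let g₀ := g ∣_ V
  haveI : Surjective g₀ := IsZariskiLocalAtTarget.restrict ‹Surjective g› V
  haveI : CompactSpace (g ⁻¹ᵁ V).toScheme :=
    isCompact_iff_compactSpace.mp (QuasiCompact.isCompact_preimage (f := g) _ V.2 hV.isCompact)
  obtain ⟨T, p, hsurj, hloc, hT⟩ :=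
    (g ⁻¹ᵁ V).toScheme.exists_hom_isAffine_of_isZariskiLocalAtSource @IsLocalIso
  haveI : Flat p := (IsLocalIso.le_of_isZariskiLocalAtSource @Flat) _ _ p hloc
  let q := p ≫ g₀
  let b := p ≫ (g ⁻¹ᵁ V).ι
  have hb : b ≫ g = q ≫ V.ι := by simp [b, q, g₀, morphismRestrict_ι]
  -- the base change of `f'` to `T`
  let l : pullback f (q ≫ V.ι) ⟶ X' :=
    hc.lift (pullback.fst _ _) (pullback.snd _ _ ≫ b) (by rw [Category.assoc _ b g, hb]; exact pullback.condition)
  have hl : IsPullback l (pullback.snd f (q ≫ V.ι)) f' b := by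
    refine IsPullback.of_right ?_ (hc.lift_snd _ _ _) hc
    rw [hc.lift_fst, hb]
    exact IsPullback.of_hasPullback _ _
  have h1 : MoreMor.IsIndQuasiAffineHom (pullback.snd f (q ≫ V.ι)) :=
    RichLib.QA.indQA_baseChange f' _ l b hl hf'
  let r := f.resLE V U hUV
  let m : pullback r q ⟶ pullback f (q ≫ V.ι) :=
    pullback.map r q f (q ≫ V.ι) U.ι (𝟙 T) V.ι (Scheme.Hom.resLE_comp_ι f hUV) (by simp)
  have hsq : IsPullback (pullback.fst r q) (pullback.snd r q) r q := IsPullback.of_hasPullback _ _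
  haveI : IsAffineHom q := isAffineHom_of_isAffine q
  haveI : IsAffineHom (pullback.fst r q) := MorphismProperty.pullback_fst _ _ ‹_›
  haveI : CompactSpace ↥(pullback r q) := QuasiCompact.compactSpace_of_compactSpace (pullback.fst r q)
  haveI : IsImmersion m := by
    have hmf : m ≫ pullback.fst f (q ≫ V.ι) = pullback.fst r q ≫ U.ι := pullback.lift_fst _ _ _
    have hbig : IsPullback (pullback.fst r q) (m ≫ pullback.snd f (q ≫ V.ι)) (U.ι ≫ f) (q ≫ V.ι) := by
      rw [pullback.lift_snd, Category.comp_id, ← Scheme.Hom.resLE_comp_ι f hUV]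
      exact ⟨⟨by rw [← Category.assoc, hsq.w, Category.assoc]⟩,
        ⟨PullbackCone.IsLimit.mk _ (fun s => hsq.lift s.fst s.snd
            ((cancel_mono V.ι).mp (by simpa [r] using s.condition)))
          (fun s => hsq.lift_fst _ _ _) (fun s => hsq.lift_snd _ _ _)
          (fun s n h₁ h₂ => hsq.hom_ext (by simpa using h₁) (by simpa using h₂))⟩⟩
    have := IsPullback.of_bot hbig hmf.symm (IsPullback.of_hasPullback f (q ≫ V.ι))
    exact MorphismProperty.of_isPullback this inferInstance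
  have h2 : MoreMor.IsIndQuasiAffineHom (pullback.snd r q) := by
    rw [show pullback.snd r q = m ≫ pullback.snd f (q ≫ V.ι) from
      ((pullback.lift_snd _ _ _).trans (Category.comp_id _)).symm]
    exact RichLib.QA.indQA_comp _ _ (RichLib.QA.indQA_of_isImmersion m) h1
  haveI : Scheme.IsQuasiAffine (pullback r q) := by
    haveI := (RichLib.QA.indQA_iff _).mp h2 ⊤ (isAffineOpen_top T) ⊤ le_top CompactSpace.isCompact_univ
    exact RichLib.QA.isQuasiAffine_of_iso (Scheme.topIso (pullback r q)).inv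
  exact isQuasiAffine_of_faithfullyFlat hsq

theorem desc_isQuasiAffine :
    MorphismProperty.DescendsAlong (fun _ _ f => Mor2.IsQuasiAffine f : MorphismProperty Scheme.{u})
      (@Surjective ⊓ @Flat ⊓ @QuasiCompact : MorphismProperty Scheme.{u}) := by
  refine ⟨fun {A X Y Z fst snd f g} sq hq h => ?_⟩
  haveI := desc_quasiCompact.{u}
  haveI hqc : QuasiCompact g :=
    MorphismProperty.of_isPullback_of_descendsAlong (P := @QuasiCompact) sq hq h.1
  obtain ⟨⟨hs, hfl⟩, hc⟩ := hq
  haveI : Surjective f := hs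
  haveI : Flat f := hfl
  haveI : QuasiCompact f := hc
  have hind := indQA_descends sq.flip (RichLib.QA.indQA_of_qa fst h)
  exact ⟨hqc, fun V hV => (RichLib.QA.indQA_iff g).mp hind V hV _ le_rfl
    (QuasiCompact.isCompact_preimage (f := g) _ V.2 hV.isCompact)⟩

theorem isPullback_toSpecΓ {U V : Scheme.{u}} (j : U ⟶ V) [IsOpenImmersion j] [U.IsQuasiAffine]
    [V.IsQuasiAffine] :
    IsPullback (𝟙 U) U.toSpecΓ (j ≫ V.toSpecΓ) (Spec.map j.appTop) := by
  have hw : 𝟙 U ≫ j ≫ V.toSpecΓ = U.toSpecΓ ≫ Spec.map j.appTop := by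
    rw [Category.id_comp, Scheme.toSpecΓ_naturality]
  have key : ∀ (u : U) (P : Spec Γ(U, ⊤)), Spec.map j.appTop P = (j ≫ V.toSpecΓ) u →
      P ∈ Set.range U.toSpecΓ := by
    intro u P hP
    obtain ⟨_, ⟨_, ⟨f, hf, rfl⟩, rfl⟩, huf, hfU⟩ :=
      (Scheme.IsQuasiAffine.isBasis_basicOpen V).exists_subset_of_mem_open
        (show j u ∈ (j.opensRange : Set V) from ⟨u, rfl⟩) j.opensRange.2
    let s := j.appTop f
    have hUs : IsAffineOpen (U.basicOpen s) := by
      rw [← Scheme.preimage_basicOpen_top j f]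
      exact hf.preimage_of_isOpenImmersion j hfU
    have hPs : P ∈ (PrimeSpectrum.basicOpen s : Set (PrimeSpectrum Γ(U, ⊤))) := by
      intro hs
      have h1 : j u ∈ V.basicOpen f := huf
      rw [← V.toSpecΓ_preimage_basicOpen] at h1
      apply h1
      have h2 : f ∈ (Spec.map j.appTop P).asIdeal := hs
      rw [hP] at h2
      exact h2
    haveI := isLocalization_basicOpen_of_qcqs (X := U) isCompact_univ isQuasiSeparated_univ s
    have hrange := PrimeSpectrum.localization_away_comap_range Γ(U, U.basicOpen s) s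
    rw [← hrange] at hPs
    obtain ⟨Q, hQ⟩ := hPs
    refine ⟨(U.basicOpen s).ι (hUs.isoSpec.inv Q), ?_⟩
    rw [← Scheme.Hom.comp_apply, ← Scheme.Hom.comp_apply,
      ← Scheme.Opens.toSpecΓ_SpecMap_presheaf_map_top, ← IsAffineOpen.isoSpec_hom hUs,
      Iso.inv_hom_id_assoc]
    exact hQ
  refine ⟨⟨hw⟩, ⟨PullbackCone.IsLimit.mk _ (fun s => s.fst) (fun s => Category.comp_id _) (fun s => ?_)
    (fun s m h₁ _ => by simpa using h₁)⟩⟩
  have hsub : Set.range s.snd ⊆ Set.range U.toSpecΓ := by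
    rintro _ ⟨z, rfl⟩
    exact key (s.fst z) (s.snd z) (by
      rw [← Scheme.Hom.comp_apply, ← Scheme.Hom.comp_apply, s.condition])
  let c := IsOpenImmersion.lift U.toSpecΓ s.snd hsub
  have hc : c ≫ U.toSpecΓ = s.snd := IsOpenImmersion.lift_fac _ _ _
  have hcs : c = s.fst := by
    refine (cancel_mono (j ≫ V.toSpecΓ)).mp ?_
    exact ((congrArg (c ≫ ·) (Scheme.toSpecΓ_naturality j)).trans
      ((Category.assoc _ _ _).symm.trans (congrArg (· ≫ Spec.map j.appTop) hc))).trans s.condition.symm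
  rw [← hcs, hc]

end MiscFlat6
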