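import Groth.Agent.MiscFlat6.RelAmpleLocal
import Groth.Agent.MiscFlat6.RelAmpleComp

/-!
# Relative ampleness on a disjoint union
-/

universe u
open CategoryTheory CategoryTheory.Limits AlgebraicGeometry TopologicalSpace Opposite
open AmpleLib AmpleThLib
open KFlatLib (pb)

noncomputable section

namespace MiscFlat6

theorem isInvertible_of_restrict_cover {X : Scheme.{u}} {L : X.Modules}
    (h : ∀ x : X, ∃ (A : Scheme.{u}) (j : A ⟶ X) (_ : IsOpenImmersion j) (a : A),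
      j a = x ∧ PicF.IsInvertible (L.restrict j)) : PicF.IsInvertible L := by
  intro x
  obtain ⟨U, j, hj, a, ha, hI⟩ := h x
  obtain ⟨A, hxA, ⟨e⟩⟩ := hI a
  let k := j.isoImage A
  have hk : k.inv ≫ A.ι ≫ j = (j ''ᵁ A).ι := by
    rw [Iso.inv_comp_eq]
    exact (j.isoImage_hom_ι A).symm
  obtain ⟨e₀⟩ := nonempty_restrict_structureModule (X := (A : Scheme.{u})) k.inv
  exact ⟨j ''ᵁ A, ⟨a, hxA, ha⟩,
    ⟨(Scheme.Modules.restrictFunctorCongr hk.symm).app L ≪≫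
      (Scheme.Modules.restrictFunctorComp k.inv (A.ι ≫ j)).app L ≪≫
      (Scheme.Modules.restrictFunctor k.inv).mapIso
        ((Scheme.Modules.restrictFunctorComp A.ι j).app L ≪≫ e) ≪≫ e₀⟩⟩

theorem invertible_congr {X : Scheme.{u}} {L L' : X.Modules} (hL : PicF.IsInvertible L) (e : L ≅ L') :
    PicF.IsInvertible L' := fun x => by
  obtain ⟨U, hx, ⟨i⟩⟩ := hL x
  exact ⟨U, hx, ⟨(Scheme.Modules.restrictFunctor U.ι).mapIso e.symm ≪≫ i⟩⟩

theorem exists_section_basicOpen_of_isCompl {X : Scheme.{u}} (A B : X.Opens) (hd : A ⊓ B = ⊥)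
    (hc : A ⊔ B = ⊤) : ∃ q : Γ(X, ⊤), X.basicOpen q = A := by
  let U : ULift.{u} Bool → X.Opens := fun b => cond b.down A B
  let sf : ∀ b, Γ(X, U b) := fun b => match b with
    | ⟨true⟩ => 1
    | ⟨false⟩ => 0
  have hsub : ∀ W : X.Opens, W ≤ ⊥ → Subsingleton Γ(X, W) := fun W hW => by
    rw [le_bot_iff.mp hW]
    exact CommRingCat.subsingleton_of_isTerminal X.sheaf.isTerminalOfEmpty
  have hcov : ⊤ ≤ iSup U := hc.ge.trans (sup_le (le_iSup U ⟨true⟩) (le_iSup U ⟨false⟩))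
  obtain ⟨q, hq, -⟩ := X.sheaf.existsUnique_gluing' U ⊤ (fun b => homOfLE le_top) hcov sf (by
    rintro ⟨_ | _⟩ ⟨_ | _⟩
    · rfl
    · exact @Subsingleton.elim _ (hsub (U ⟨false⟩ ⊓ U ⟨true⟩) (le_of_eq ((inf_comm _ _).trans hd))) _ _
    · exact @Subsingleton.elim _ (hsub (U ⟨true⟩ ⊓ U ⟨false⟩) hd.le) _ _
    · rfl)
  refine ⟨q, le_antisymm (fun y hy => ?_) fun y hy => ?_⟩
  · rcases (hc.ge (show y ∈ (⊤ : X.Opens) from trivial) : y ∈ A ∨ y ∈ B) with h | h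
    · exact h
    · have h2 : y ∈ B ⊓ X.basicOpen q := ⟨h, hy⟩
      rw [← X.basicOpen_res q (homOfLE (le_top : B ≤ ⊤)).op,
        show X.presheaf.map (homOfLE (le_top : B ≤ ⊤)).op q = 0 from hq ⟨false⟩,
        Scheme.basicOpen_zero] at h2
      exact absurd h2 id
  · have h2 : y ∈ X.basicOpen (X.presheaf.map (homOfLE (le_top : A ≤ ⊤)).op q) := by
      rw [show X.presheaf.map (homOfLE (le_top : A ≤ ⊤)).op q = 1 from hq ⟨true⟩,
        X.basicOpen_of_isUnit isUnit_one]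
      exact hy
    rw [Scheme.basicOpen_res] at h2
    exact h2.2

theorem isQuasiSeparated_union {X : Type*} [TopologicalSpace X] {s t : Set X} (hs : IsOpen s) (ht : IsOpen t)
    (hd : Disjoint s t) (h1 : IsQuasiSeparated s) (h2 : IsQuasiSeparated t) : IsQuasiSeparated (s ∪ t) := by
  have key : ∀ {a b : Set X}, IsOpen b → Disjoint a b → ∀ {W : Set X}, W ⊆ a ∪ b → IsCompact W →
      IsCompact (W ∩ a) := by
    intro a b hb hab W hW hWc
    rw [show W ∩ a = W ∩ bᶜ from Set.ext fun z =>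
      ⟨fun h => ⟨h.1, Set.disjoint_left.mp hab h.2⟩, fun h => ⟨h.1, (hW h.1).resolve_right h.2⟩⟩]
    exact hWc.inter_right hb.isClosed_compl
  intro U V hU hUo hUc hV hVo hVc
  have hu : IsCompact ((U ∩ s) ∩ (V ∩ s)) := h1 _ _ Set.inter_subset_right (hUo.inter hs)
    (key ht hd hU hUc) Set.inter_subset_right (hVo.inter hs) (key ht hd hV hVc)
  have hU' : U ⊆ t ∪ s := Set.union_comm s t ▸ hU
  have hV' : V ⊆ t ∪ s := Set.union_comm s t ▸ hV
  have hv : IsCompact ((U ∩ t) ∩ (V ∩ t)) := h2 _ _ Set.inter_subset_right (hUo.inter ht)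
    (key hs hd.symm hU' hUc) Set.inter_subset_right (hVo.inter ht) (key hs hd.symm hV' hVc)
  rw [show U ∩ V = (U ∩ s) ∩ (V ∩ s) ∪ (U ∩ t) ∩ (V ∩ t) from Set.ext fun z =>
    ⟨fun h => (hU h.1).elim (fun hz => Or.inl ⟨⟨h.1, hz⟩, h.2, hz⟩) (fun hz => Or.inr ⟨⟨h.1, hz⟩, h.2, hz⟩),
      fun h => h.elim (fun hz => ⟨hz.1.1, hz.2.1⟩) (fun hz => ⟨hz.1.1, hz.2.1⟩)⟩]
  exact hu.union hv

variable {X X' Y : Scheme.{u}} (f : X ⟶ Y) (f' : X' ⟶ Y)

theorem isAmple_restrict_image_iff {Z : Scheme.{u}} {M : Z.Modules} (hM : PicF.IsInvertible M) {A : Scheme.{u}}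
    (j : A ⟶ Z) [IsOpenImmersion j] (hp : PicF.IsInvertible (pb j M)) (W : A.Opens) :
    CohB1.IsAmple ((pb j M).restrict W.ι) ↔ CohB1.IsAmple (M.restrict (j ''ᵁ W).ι) := by
  let e := (Scheme.Modules.restrictFunctor W.ι).mapIso ((Scheme.Modules.restrictFunctorIsoPullback j).app M)
  have h1 := restrict_isInvertible (restrict_isInvertible hM j) W.ι
  have h2 := restrict_isInvertible hp W.ι
  have hr : (W.ι ≫ j).opensRange = (j ''ᵁ W).ι.opensRange := by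
    rw [Scheme.Hom.opensRange_comp, Scheme.Opens.opensRange_ι, Scheme.Opens.opensRange_ι]
  refine Iff.trans ⟨AmpleDevLib.isAmple_of_iso h2 h1 e.symm, AmpleDevLib.isAmple_of_iso h1 h2 e⟩ ?_
  rw [isAmple_restrict_restrict hM]
  exact ⟨isAmple_restrict_congr hM _ _ hr, isAmple_restrict_congr hM _ _ hr.symm⟩

theorem preimage_desc_eq (V : Y.Opens) :
    coprod.desc f f' ⁻¹ᵁ V = (coprod.inl : X ⟶ X ⨿ X') ''ᵁ (f ⁻¹ᵁ V) ⊔
      (coprod.inr : X' ⟶ X ⨿ X') ''ᵁ (f' ⁻¹ᵁ V) := by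
  have hl : (coprod.inl : X ⟶ X ⨿ X') ⁻¹ᵁ coprod.desc f f' ⁻¹ᵁ V = f ⁻¹ᵁ V := by
    rw [← Scheme.Hom.comp_preimage, coprod.inl_desc]
  have hr : (coprod.inr : X' ⟶ X ⨿ X') ⁻¹ᵁ coprod.desc f f' ⁻¹ᵁ V = f' ⁻¹ᵁ V := by
    rw [← Scheme.Hom.comp_preimage, coprod.inr_desc]
  rw [← hl, ← hr, Scheme.Hom.image_preimage_eq_opensRange_inf, Scheme.Hom.image_preimage_eq_opensRange_inf,
    ← inf_sup_right, (isCompl_opensRange_inl_inr X X').sup_eq_top, top_inf_eq]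

instance quasiCompact_coprodDesc [QuasiCompact f] [QuasiCompact f'] : QuasiCompact (coprod.desc f f') := by
  rw [quasiCompact_iff_forall_isAffineOpen]
  intro V hV
  rw [preimage_desc_eq f f' V]
  exact IsCompact.union ((f.isCompact_preimage hV.isCompact).image (coprod.inl : X ⟶ X ⨿ X').continuous)
    ((f'.isCompact_preimage hV.isCompact).image (coprod.inr : X' ⟶ X ⨿ X').continuous)

theorem isRelAmple_coprod_iff [QuasiCompact f] [QuasiCompact f'] (M : (X ⨿ X').Modules)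
    (hL : PicF.IsInvertible (pb (coprod.inl : X ⟶ X ⨿ X') M))
    (hL' : PicF.IsInvertible (pb (coprod.inr : X' ⟶ X ⨿ X') M)) :
    RelAmple.IsRelAmple (coprod.desc f f') M ↔
      RelAmple.IsRelAmple f (pb (coprod.inl : X ⟶ X ⨿ X') M) ∧
        RelAmple.IsRelAmple f' (pb (coprod.inr : X' ⟶ X ⨿ X') M) := by
  let i₁ : X ⟶ X ⨿ X' := coprod.inl
  let i₂ : X' ⟶ X ⨿ X' := coprod.inr
  have hM : PicF.IsInvertible M := isInvertible_of_restrict_cover fun z => by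
    rcases ((isCompl_opensRange_inl_inr X X').sup_eq_top.ge (show z ∈ (⊤ : (X ⨿ X').Opens) from trivial) :
      z ∈ i₁.opensRange ∨ z ∈ i₂.opensRange) with ⟨a, rfl⟩ | ⟨a, rfl⟩
    · exact ⟨X, i₁, inferInstance, a, rfl,
        invertible_congr hL ((Scheme.Modules.restrictFunctorIsoPullback i₁).app M).symm⟩
    · exact ⟨X', i₂, inferInstance, a, rfl,
        invertible_congr hL' ((Scheme.Modules.restrictFunctorIsoPullback i₂).app M).symm⟩
  constructor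
  · intro h
    refine ⟨⟨‹_›, fun V => ?_⟩, ⟨‹_›, fun V => ?_⟩⟩
    · rw [isAmple_restrict_image_iff hM i₁ hL]
      exact isAmple_restrict_of_le hM (le_sup_left.trans (preimage_desc_eq f f' V.1).ge)
        ((f.isCompact_preimage V.2.isCompact).image i₁.continuous) (h.2 V)
    · rw [isAmple_restrict_image_iff hM i₂ hL']
      exact isAmple_restrict_of_le hM (le_sup_right.trans (preimage_desc_eq f f' V.1).ge)
        ((f'.isCompact_preimage V.2.isCompact).image i₂.continuous) (h.2 V)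
  rintro ⟨h1, h2⟩
  refine ⟨inferInstance, fun V => ?_⟩
  let A : (X ⨿ X').Opens := i₁ ''ᵁ (f ⁻¹ᵁ V.1)
  let B : (X ⨿ X').Opens := i₂ ''ᵁ (f' ⁻¹ᵁ V.1)
  let T : (X ⨿ X').Opens := coprod.desc f f' ⁻¹ᵁ V.1
  have hT : T = A ⊔ B := preimage_desc_eq f f' V.1
  have hA : CohB1.IsAmple (M.restrict A.ι) := (isAmple_restrict_image_iff hM i₁ hL _).mp (h1.2 V)
  have hB : CohB1.IsAmple (M.restrict B.ι) := (isAmple_restrict_image_iff hM i₂ hL' _).mp (h2.2 V)
  have hAB : A ⊓ B = ⊥ := le_bot_iff.mp ((inf_le_inf (i₁.image_le_opensRange (f ⁻¹ᵁ V.1))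
    (i₂.image_le_opensRange (f' ⁻¹ᵁ V.1))).trans (isCompl_opensRange_inl_inr X X').inf_eq_bot.le)
  have hdisj : Disjoint (A : Set ↥(X ⨿ X')) (B : Set ↥(X ⨿ X')) := Set.disjoint_iff_inter_eq_empty.mpr
    (congrArg SetLike.coe hAB)
  haveI : CompactSpace (T : Scheme.{u}) := isCompact_iff_compactSpace.mp
    ((coprod.desc f f').isCompact_preimage V.2.isCompact)
  haveI : QuasiSeparatedSpace (T : Scheme.{u}) := by
    have e1 : IsQuasiSeparated (A : Set ↥(X ⨿ X')) := (isQuasiSeparated_iff_quasiSeparatedSpace _ A.2).mpr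
      (AmpleThLib.quasiSeparatedSpace_of_isAmple hA)
    have e2 : IsQuasiSeparated (B : Set ↥(X ⨿ X')) := (isQuasiSeparated_iff_quasiSeparatedSpace _ B.2).mpr
      (AmpleThLib.quasiSeparatedSpace_of_isAmple hB)
    refine (isQuasiSeparated_iff_quasiSeparatedSpace _ T.2).mp ?_
    rw [hT]
    show IsQuasiSeparated ((A : Set ↥(X ⨿ X')) ∪ (B : Set ↥(X ⨿ X')))
    exact isQuasiSeparated_union A.2 B.2 hdisj e1 e2
  refine isAmple_of_basicOpen_cover (restrict_isInvertible hM T.ι) fun x => ?_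
  have hx : x.1 ∈ A ∨ x.1 ∈ B := hT.le x.2
  have hpre : T.ι ⁻¹ᵁ A ⊓ T.ι ⁻¹ᵁ B = ⊥ := by
    refine eq_bot_iff.mpr fun z hz => ?_
    exact (hAB.le hz : T.ι z ∈ (⊥ : (X ⨿ X').Opens))
  have hsup : T.ι ⁻¹ᵁ A ⊔ T.ι ⁻¹ᵁ B = ⊤ := eq_top_iff.mpr fun z _ => hT.le z.2
  obtain ⟨qA, hqA⟩ := exists_section_basicOpen_of_isCompl _ _ hpre hsup
  obtain ⟨qB, hqB⟩ := exists_section_basicOpen_of_isCompl _ _
    ((inf_comm _ _).trans hpre) ((sup_comm _ _).trans hsup)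
  have key : ∀ C : (X ⨿ X').Opens, C ≤ T → CohB1.IsAmple (M.restrict C.ι) →
      CohB1.IsAmple ((M.restrict T.ι).restrict (T.ι ⁻¹ᵁ C).ι) := fun C hC h => by
    rw [isAmple_restrict_restrict hM]
    refine isAmple_restrict_congr hM C.ι _ ?_ h
    rw [Scheme.Opens.opensRange_ι, Scheme.Hom.opensRange_comp, Scheme.Opens.opensRange_ι,
      Scheme.Hom.image_preimage_eq_opensRange_inf, Scheme.Opens.opensRange_ι, inf_eq_right.mpr hC]
  rcases hx with hx | hx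
  · exact ⟨qA, hqA.symm ▸ hx, hqA.symm ▸ key A (le_sup_left.trans hT.ge) hA⟩
  · exact ⟨qB, hqB.symm ▸ hx, hqB.symm ▸ key B (le_sup_right.trans hT.ge) hB⟩

end MiscFlat6
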