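import Groth.Agent.GrModLib6.RelExist

/-!
# The open of a relative Proj where a global homogeneous section does not vanish
-/

set_option autoImplicit false
universe u
open CategoryTheory CategoryTheory.Limits AlgebraicGeometry TopologicalSpace Opposite
open scoped HomogeneousIdeal
open GrModLib6 (Aff IsBasic pmap)

noncomputable section

namespace MiscFlat6

variable {S P : Scheme.{u}} {𝒮 : RelProj.QCGrAlg S} {p : P ⟶ S}
  {chart : ∀ (U : S.Opens) (hU : IsAffineOpen U), (((p ⁻¹ᵁ U : P.Opens) : Scheme.{u}) ≅ Proj (𝒮.deg U hU))}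

variable (p chart) in
/-- the open where a global section of the algebra does not vanish -/
def relBasicOpen (f : 𝒮.presheaf.obj (op ⊤)) : P.Opens :=
  ⨆ i : Aff S, RelProj.emb p chart i.1 i.2 ''ᵁ
    Proj.basicOpen (𝒮.deg i.1 i.2) ((𝒮.presheaf.map (homOfLE (le_top : i.1 ≤ ⊤)).op).hom f)

theorem mem_basicOpen_pmap {i j : Aff S} (h : IsBasic i j) (f : 𝒮.presheaf.obj (op ⊤))
    (w : Proj (𝒮.deg j.1 j.2)) :
    pmap 𝒮 h w ∈ Proj.basicOpen (𝒮.deg i.1 i.2) ((𝒮.presheaf.map (homOfLE (le_top : i.1 ≤ ⊤)).op).hom f) ↔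
      w ∈ Proj.basicOpen (𝒮.deg j.1 j.2) ((𝒮.presheaf.map (homOfLE (le_top : j.1 ≤ ⊤)).op).hom f) := by
  have e : 𝒮.res i.2 j.2 h.le ((𝒮.presheaf.map (homOfLE (le_top : i.1 ≤ ⊤)).op).hom f) =
      (𝒮.presheaf.map (homOfLE (le_top : j.1 ≤ ⊤)).op).hom f := by
    show (𝒮.presheaf.map _).hom ((𝒮.presheaf.map _).hom f) = _
    rw [← RingHom.comp_apply, ← CommRingCat.hom_comp, ← Functor.map_comp]; rfl
  rw [← e]
  rfl

theorem relBasicOpen_inf_preimage (hP : RelProj.IsRelProj 𝒮 p chart) (f : 𝒮.presheaf.obj (op ⊤))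
    (U : S.Opens) (hU : IsAffineOpen U) :
    relBasicOpen p chart f ⊓ p ⁻¹ᵁ U = RelProj.emb p chart U hU ''ᵁ
      Proj.basicOpen (𝒮.deg U hU) ((𝒮.presheaf.map (homOfLE (le_top : U ≤ ⊤)).op).hom f) := by
  refine le_antisymm ?_ (le_inf ?_ ?_)
  · rintro z ⟨hz, hzU⟩
    obtain ⟨j, hj⟩ := Opens.mem_iSup.mp hz
    obtain ⟨y, hy, rfl⟩ := hj
    have hzj : p (RelProj.emb p chart j.1 j.2 y) ∈ j.1 :=
      (MiscFlat6.emb_opensRange (chart := chart) j.1 j.2).le ⟨y, rfl⟩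
    obtain ⟨k, hUk, hjk, hzk⟩ := GrModLib6.exists_isBasic_inter (i := ⟨U, hU⟩) (j := j) hzU hzj
    obtain ⟨w, hw⟩ := (MiscFlat6.emb_opensRange (chart := chart) k.1 k.2).ge hzk
    have hyw : pmap 𝒮 hjk w = y := (RelProj.emb p chart j.1 j.2).isOpenEmbedding.injective (by
      rw [← Scheme.Hom.comp_apply, GrModLib6.pmap_emb hP hjk]; exact hw)
    refine ⟨pmap 𝒮 hUk w, (mem_basicOpen_pmap hUk f w).mpr ((mem_basicOpen_pmap hjk f w).mp (hyw ▸ hy)), ?_⟩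
    exact ((Scheme.Hom.comp_apply _ _ _).symm.trans
      (congrArg (fun φ : Proj (𝒮.deg k.1 k.2) ⟶ P => φ w) (GrModLib6.pmap_emb hP hUk))).trans hw
  · exact le_iSup (fun i : Aff S => RelProj.emb p chart i.1 i.2 ''ᵁ
      Proj.basicOpen (𝒮.deg i.1 i.2) ((𝒮.presheaf.map (homOfLE (le_top : i.1 ≤ ⊤)).op).hom f)) ⟨U, hU⟩
  · exact ((RelProj.emb p chart U hU).image_le_opensRange _).trans (MiscFlat6.emb_opensRange U hU).le

theorem exists_relBasicOpen (hP : RelProj.IsRelProj 𝒮 p chart) {d : ℕ} (hd : 0 < d)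
    (f : 𝒮.presheaf.obj (op ⊤))
    (hf : ∀ (U : S.Opens) (hU : IsAffineOpen U), (𝒮.presheaf.map (homOfLE le_top).op).hom f ∈ 𝒮.deg U hU d) :
    ∃ Xf : P.Opens,
      (∀ (U : S.Opens) (hU : IsAffineOpen U),
        Xf ⊓ p ⁻¹ᵁ U =
          (p ⁻¹ᵁ U).ι ''ᵁ ((chart U hU).hom ⁻¹ᵁ
            Proj.basicOpen (𝒮.deg U hU) ((𝒮.presheaf.map (homOfLE le_top).op).hom f))) ∧
      IsAffineHom (Xf.ι ≫ p) := by
  let Xf := relBasicOpen p chart f
  refine ⟨Xf, fun U hU => ?_, ⟨fun U hU => ?_⟩⟩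
  · rw [relBasicOpen_inf_preimage hP f U hU]
    show ((chart U hU).inv ≫ (p ⁻¹ᵁ U).ι) ''ᵁ _ = _
    rw [Scheme.Hom.comp_image]
    congr 1
    ext x
    simp only [SetLike.mem_coe]
    constructor
    · rintro ⟨y, hy, rfl⟩
      show (chart U hU).hom ((chart U hU).inv y) ∈ Proj.basicOpen (𝒮.deg U hU) _
      rw [← Scheme.Hom.comp_apply, Iso.inv_hom_id]
      exact hy
    · intro hx
      refine ⟨(chart U hU).hom x, hx, ?_⟩
      show (chart U hU).inv ((chart U hU).hom x) = x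
      rw [← Scheme.Hom.comp_apply, Iso.hom_inv_id]; rfl
  · have h1 : IsAffineOpen (Xf ⊓ p ⁻¹ᵁ U) := by
      rw [relBasicOpen_inf_preimage hP f U hU]
      exact (Proj.isAffineOpen_basicOpen (𝒮.deg U hU) _ (hf U hU) hd).image_of_isOpenImmersion _
    have h2 : Xf.ι ''ᵁ ((Xf.ι ≫ p) ⁻¹ᵁ U) = Xf ⊓ p ⁻¹ᵁ U := by
      rw [Scheme.Hom.comp_preimage, Scheme.Hom.image_preimage_eq_opensRange_inf, Scheme.Opens.opensRange_ι]
    exact (Xf.ι.isAffineOpen_iff_of_isOpenImmersion).mp (h2.symm ▸ h1)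

end MiscFlat6

end
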