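import Groth.Agent.MiscFlat6.RelProjExist
import Groth.Agent.GrModLib6.RelExist

/-!
# Integrality of the algebra of an integral relative Proj
-/

set_option autoImplicit false
universe u
open CategoryTheory CategoryTheory.Limits AlgebraicGeometry TopologicalSpace Opposite
open scoped HomogeneousIdeal

noncomputable section

namespace MiscFlat6

theorem domain_of_relProj {Y P : Scheme.{u}} [IsIntegral Y] (𝒮 : RelProj.QCGrAlg Y)
    (h0 : ∀ (U : Y.Opens) (hU : IsAffineOpen U), Function.Bijective (𝒮.strZero U hU).hom)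
    (hred : ∀ (U : Y.Opens) (hU : IsAffineOpen U) (x : 𝒮.presheaf.obj (op U)),
      x ∈ (𝒮.deg U hU)₊ → IsNilpotent x → x = 0)
    (p : P ⟶ Y)
    (chart : ∀ (U : Y.Opens) (hU : IsAffineOpen U), (((p ⁻¹ᵁ U : P.Opens) : Scheme.{u}) ≅ Proj (𝒮.deg U hU)))
    (hP : RelProj.IsRelProj 𝒮 p chart) [IsIntegral P] (hdom : DenseRange p.base)
    (U : Y.Opens) (hU : IsAffineOpen U) (hne : (U : Set Y).Nonempty) :
    IsDomain (𝒮.presheaf.obj (op U)) ∧ ((𝒮.deg U hU)₊).toIdeal ≠ ⊥ := by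
  classical
  let A := 𝒮.presheaf.obj (op U)
  let e := RelProj.emb p chart U hU
  have hmeet : ∀ (r : Γ(Y, U)), r ≠ 0 →
      ∃ y : Proj (𝒮.deg U hU), y ∈ Proj.basicOpen (𝒮.deg U hU) ((𝒮.str.app (op U)).hom r) := by
    intro r hr
    have hne' : ((Y.basicOpen r : Y.Opens) : Set Y).Nonempty := by
      refine Set.nonempty_iff_ne_empty.mpr fun he => hr ?_
      exact (AlgebraicGeometry.basicOpen_eq_bot_iff r).mp (Opens.ext he)
    obtain ⟨z, hzr⟩ := hdom.exists_mem_open (Y.basicOpen r).2 hne'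
    obtain ⟨y, rfl⟩ := (MiscFlat6.emb_opensRange (chart := chart) U hU).ge
      (show z ∈ p ⁻¹ᵁ U from Y.basicOpen_le r hzr)
    refine ⟨y, (chartBase_preimage 𝒮 ⟨U, hU⟩ r).le ?_⟩
    show chartBase 𝒮 ⟨U, hU⟩ y ∈ U.ι ⁻¹ᵁ Y.basicOpen r
    show U.ι (chartBase 𝒮 ⟨U, hU⟩ y) ∈ Y.basicOpen r
    rw [← Scheme.Hom.comp_apply, chartBase_ι 𝒮 ⟨U, hU⟩]
    have hover : e ≫ p = Proj.toSpecZero (𝒮.deg U hU) ≫ Spec.map (𝒮.strZero U hU) ≫ hU.fromSpec := by
      show ((chart U hU).inv ≫ (p ⁻¹ᵁ U).ι) ≫ p = _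
      rw [Category.assoc, ← hP.chart_over U hU, Iso.inv_hom_id_assoc]
    rw [← hover]
    exact hzr
  haveI : Nonempty (Proj (𝒮.deg U hU)) := by
    obtain ⟨z, hzU⟩ := hdom.exists_mem_open U.2 hne
    exact ⟨(chart U hU).hom ⟨z, hzU⟩⟩
  haveI : IsIntegral (Proj (𝒮.deg U hU)) := isIntegral_of_isOpenImmersion e
  have hpt : ∀ (d : ℕ) (x : A), x ∈ 𝒮.deg U hU d → x ≠ 0 →
      ∃ y : Proj (𝒮.deg U hU), y ∈ Proj.basicOpen (𝒮.deg U hU) x := by
    intro d x hx hx0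
    rcases Nat.eq_zero_or_pos d with rfl | hd
    · obtain ⟨r, hr⟩ := (h0 U hU).2 ⟨x, hx⟩
      have hrx : (𝒮.str.app (op U)).hom r = x := congrArg Subtype.val hr
      refine hrx ▸ hmeet r fun h => hx0 ?_
      rw [← hrx, h, map_zero]
    · by_contra hne'
      push Not at hne'
      refine hx0 (hred U hU x (GrModLib6.mem_irrelevant_of_mem _ hd hx) ?_)
      rw [← GrModLib6.basicOpen_eq_bot_iff _ (GrModLib6.mem_irrelevant_of_mem _ hd hx)]
      exact le_bot_iff.mp fun y hy => absurd hy (hne' y)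
  have hA : Nontrivial A := by
    refine ⟨0, 1, fun h01 => ?_⟩
    obtain ⟨y⟩ := (inferInstance : Nonempty (Proj (𝒮.deg U hU)))
    refine y.isPrime.ne_top ((Ideal.eq_top_iff_one _).mpr ?_)
    rw [← h01]; exact Ideal.zero_mem _
  have hprime : (⊥ : Ideal A).IsPrime := by
    refine Ideal.IsHomogeneous.isPrime_of_homogeneous_mem_or_mem (Ideal.IsHomogeneous.bot (𝒮.deg U hU))
      bot_ne_top fun {x y} ⟨i, hx⟩ ⟨j, hy⟩ hxy => ?_
    simp only [Ideal.mem_bot] at hxy ⊢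
    by_contra! hne'
    obtain ⟨a, ha⟩ := hpt i x hx hne'.1
    obtain ⟨b, hb⟩ := hpt j y hy hne'.2
    obtain ⟨c, hca, hcb⟩ := nonempty_preirreducible_inter (Proj.basicOpen _ x).2 (Proj.basicOpen _ y).2
      ⟨a, ha⟩ ⟨b, hb⟩
    have hc : c ∈ Proj.basicOpen (𝒮.deg U hU) (x * y) := by rw [Proj.basicOpen_mul]; exact ⟨hca, hcb⟩
    rw [hxy, Proj.basicOpen_zero] at hc
    exact hc
  refine ⟨IsDomain.of_bot_isPrime A (hbp := hprime), fun hbot => ?_⟩
  obtain ⟨y⟩ := (inferInstance : Nonempty (Proj (𝒮.deg U hU)))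
  refine y.not_irrelevant_le fun a ha => ?_
  have h2 : a ∈ (⊥ : Ideal A) := hbot ▸ ha
  rw [Ideal.mem_bot] at h2
  rw [h2]; exact zero_mem _

end MiscFlat6

end
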