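import Groth.Agent.MiscFlat6.RelProjEasy
import Groth.Agent.QCohLib.QCoh

/-!
# More on Proj: covers, schematic density
-/

set_option autoImplicit false
universe u
open CategoryTheory CategoryTheory.Limits AlgebraicGeometry TopologicalSpace Opposite
open HomogeneousLocalization
open scoped HomogeneousIdeal

noncomputable section

namespace MiscFlat6

theorem exists_notMem_of_eventually_le {A σ : Type u} [CommRing A] [SetLike σ A] [AddSubgroupClass σ A]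
    (𝒜 : ℕ → σ) [GradedRing 𝒜] {ι : Type u} (g : ι → A) {n₀ : ℕ}
    (h : ∀ n, n₀ ≤ n → (𝒜 n : Set A) ⊆ (Ideal.span (Set.range g) : Set A)) (z : Proj 𝒜) :
    ∃ a, z ∈ Proj.basicOpen 𝒜 (g a) := by
  by_contra! H
  replace H : ∀ a, g a ∈ z.asHomogeneousIdeal := fun a => not_not.mp (H a)
  have hle : Ideal.span (Set.range g) ≤ z.asHomogeneousIdeal.toIdeal :=
    Ideal.span_le.mpr (Set.range_subset_iff.mpr H)
  refine z.not_irrelevant_le ((HomogeneousIdeal.irrelevant_le _).mpr fun i hi x hx => ?_)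
  refine z.isPrime.mem_of_pow_mem (n₀ + 1) (hle (h ((n₀ + 1) • i) ?_ (SetLike.pow_mem_graded (n₀ + 1) hx)))
  rw [smul_eq_mul]
  exact le_trans (Nat.le_succ _) (Nat.le_mul_of_pos_right _ hi)

theorem relProj_iSup_eq_top {Y P : Scheme.{u}} (𝒮 : RelProj.QCGrAlg Y) (p : P ⟶ Y)
    (chart : ∀ (U : Y.Opens) (hU : IsAffineOpen U), (((p ⁻¹ᵁ U : P.Opens) : Scheme.{u}) ≅ Proj (𝒮.deg U hU)))
    {ι : Type u} (f : ι → 𝒮.presheaf.obj (op ⊤))
    (hgen : ∀ (U : Y.Opens) (hU : IsAffineOpen U), ∃ n₀ : ℕ, ∀ n, n₀ ≤ n →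
      (𝒮.deg U hU n : Set (𝒮.presheaf.obj (op U))) ⊆
        (Ideal.span (Set.range fun a => (𝒮.presheaf.map (homOfLE (le_top : U ≤ ⊤)).op).hom (f a)) :
          Set (𝒮.presheaf.obj (op U))))
    (X : ι → P.Opens)
    (hX : ∀ (a : ι) (U : Y.Opens) (hU : IsAffineOpen U),
      X a ⊓ p ⁻¹ᵁ U =
        (p ⁻¹ᵁ U).ι ''ᵁ ((chart U hU).hom ⁻¹ᵁ
          Proj.basicOpen (𝒮.deg U hU) ((𝒮.presheaf.map (homOfLE le_top).op).hom (f a)))) :
    ⨆ a, X a = ⊤ := by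
  refine eq_top_iff.mpr fun z _ => ?_
  obtain ⟨U, hU, hzU, -⟩ := exists_isAffineOpen_mem_and_subset (TopologicalSpace.Opens.mem_top (p z))
  obtain ⟨n₀, h⟩ := hgen U hU
  obtain ⟨a, ha⟩ := exists_notMem_of_eventually_le (𝒮.deg U hU) _ h ((chart U hU).hom ⟨z, hzU⟩)
  refine Opens.mem_iSup.mpr ⟨a, ?_⟩
  have : z ∈ X a ⊓ p ⁻¹ᵁ U := (hX a U hU).ge ⟨⟨z, hzU⟩, ha, rfl⟩
  exact this.1

theorem basicOpen_ι_ker_eq_bot {A σ : Type u} [CommRing A] [SetLike σ A] [AddSubgroupClass σ A]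
    (𝒜 : ℕ → σ) [GradedRing 𝒜] {d : ℕ} (hd : 0 < d) (g : A) (hg : g ∈ 𝒜 d) (hnz : g ∈ nonZeroDivisors A) :
    (Proj.basicOpen 𝒜 g).ι.ker = ⊥ := by
  haveI : IsAffine (Proj.basicOpen 𝒜 g : Scheme.{u}) := Proj.isAffineOpen_basicOpen 𝒜 g hg hd
  haveI : QuasiCompact (Proj.basicOpen 𝒜 g).ι := inferInstance
  let U : (Σ i : ℕ+, 𝒜 i) → (Proj 𝒜).affineOpens := fun i =>
    ⟨Proj.basicOpen 𝒜 (i.2 : A), Proj.isAffineOpen_basicOpen 𝒜 _ i.2.2 i.1.2⟩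
  refine Scheme.IdealSheafData.ext_of_iSup_eq_top U ?_ fun i => ?_
  · refine Proj.iSup_basicOpen_eq_top 𝒜 (fun i : Σ i : ℕ+, 𝒜 i => (i.2 : A)) ?_
    refine (HomogeneousIdeal.toIdeal_irrelevant_le 𝒜).mpr fun n hn x hx => ?_
    show x ∈ Ideal.span (Set.range fun i : Σ i : ℕ+, 𝒜 i => (i.2 : A))
    exact Ideal.subset_span ⟨(⟨⟨n, hn⟩, ⟨x, hx⟩⟩ : Σ i : ℕ+, 𝒜 i), rfl⟩
  obtain ⟨⟨n, hn⟩, f, hf⟩ := i
  rw [Scheme.Hom.ker_apply, Scheme.IdealSheafData.ideal_bot]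
  show RingHom.ker ((Proj.basicOpen 𝒜 g).ι.app (Proj.basicOpen 𝒜 f)).hom = ⊥
  rw [RingHom.ker_eq_bot_iff_eq_zero]
  intro s hs
  obtain ⟨a, rfl⟩ := (Proj.basicOpenIsoAway 𝒜 f hf hn).commRingCatIsoToRingEquiv.surjective s
  have hle : Proj.basicOpen 𝒜 (f * g) ≤ (Proj.basicOpen 𝒜 g).ι ''ᵁ ((Proj.basicOpen 𝒜 g).ι ⁻¹ᵁ Proj.basicOpen 𝒜 f) := by
    rw [Scheme.Hom.image_preimage_eq_opensRange_inf, Scheme.Opens.opensRange_ι, Proj.basicOpen_mul]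
    exact le_inf inf_le_right inf_le_left
  have h1 : (Proj 𝒜).presheaf.map (homOfLE (Proj.basicOpen_mono 𝒜 _ _ ⟨g, rfl⟩)).op
      (Proj.awayToSection 𝒜 f a) = 0 := by
    have h := congrArg (fun t => ((Proj 𝒜).presheaf.map (homOfLE hle).op).hom t) hs
    exact h.trans (map_zero _)
  rw [← CommRingCat.comp_apply, ← Proj.awayMap_awayToSection 𝒜 hg rfl, CommRingCat.comp_apply] at h1
  have h2 : awayMap 𝒜 hg rfl a = 0 :=
    (Proj.basicOpenIsoAway 𝒜 (f * g) (SetLike.mul_mem_graded hf hg)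
      (Nat.add_pos_left hn d)).commRingCatIsoToRingEquiv.injective (h1.trans (map_zero _).symm)
  obtain ⟨k, b, hb, rfl⟩ := Away.mk_surjective 𝒜 hf a
  have h3 := congrArg HomogeneousLocalization.val h2
  rw [awayMap_mk, Away.val_mk, val_zero, ← Localization.mk_zero 1, Localization.mk_eq_mk_iff,
    Localization.r_iff_exists] at h3
  obtain ⟨⟨c, l, rfl⟩, hc⟩ := h3
  simp only [Submonoid.coe_one, one_mul, mul_zero] at hc
  have h4 : Away.mk 𝒜 hf k b hb = 0 := by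
    apply HomogeneousLocalization.val_injective
    rw [Away.val_mk, val_zero, ← Localization.mk_zero 1, Localization.mk_eq_mk_iff, Localization.r_iff_exists]
    refine ⟨⟨f ^ l, l, rfl⟩, ?_⟩
    simp only [Submonoid.coe_one, one_mul, mul_zero]
    refine (mul_right_mem_nonZeroDivisors_eq_zero_iff (pow_mem hnz (l + k))).mp ?_
    rw [mul_pow] at hc
    refine Eq.trans ?_ hc
    ring
  rw [h4, map_zero]

end MiscFlat6
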