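import Groth.Agent.GrModLib6.FT
import Groth.Agent.GrModLib6.Twist
import Groth.Agent.MiscFlat6.RelProjEasy
import Groth.Agent.FlatLib.QStalk
import Mathlib.RingTheory.Flat.EquationalCriterion

/-!
# Flatness of a relative homogeneous spectrum and of its twisting sheaves
-/

set_option autoImplicit false
universe u
open CategoryTheory CategoryTheory.Limits AlgebraicGeometry TopologicalSpace Opposite

noncomputable section

namespace MiscFlat6

section Fractions

variable {R A M : Type u} [CommRing R] [CommRing A] [Algebra R A] [AddCommGroup M] [Module R M]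

/-- A module of fractions `m / f ^ k` with numerators in flat modules is flat. -/
theorem flat_of_fractions (N : ℕ → Submodule R A) (hN : ∀ k, Module.Flat R (N k)) (f : A)
    (hf : ∀ (k e : ℕ) (m : A), m ∈ N k → f ^ e * m ∈ N (k + e)) (φ : ∀ k, N k →ₗ[R] M)
    (hraise : ∀ (k e : ℕ) (m : N k), φ (k + e) ⟨f ^ e * m.1, hf k e m.1 m.2⟩ = φ k m)
    (hsurj : ∀ x : M, ∃ (k : ℕ) (m : N k), φ k m = x)
    (hzero : ∀ (k : ℕ) (m : N k), φ k m = 0 → ∃ e, f ^ e * m.1 = 0) : Module.Flat R M := by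
  classical
  refine Module.Flat.of_forall_isTrivialRelation fun {l r x} h => ?_
  choose k m hm using fun i => hsurj (x i)
  let K := Finset.univ.sup k
  have hK : ∀ i, ∃ e, K = k i + e := fun i =>
    ⟨K - k i, (Nat.add_sub_cancel' (Finset.le_sup (Finset.mem_univ i))).symm⟩
  have hm' : ∀ i, ∃ m' : N K, φ K m' = x i := fun i => by
    obtain ⟨e, he⟩ := hK i
    rw [he]
    exact ⟨_, (hraise (k i) e (m i)).trans (hm i)⟩
  choose m' hm'' using hm'
  obtain ⟨e, he⟩ := hzero K (∑ i, r i • m' i) (by simp only [map_sum, map_smul, hm'', h])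
  let n : Fin l → N (K + e) := fun i => ⟨f ^ e * (m' i).1, hf K e _ (m' i).2⟩
  have hrel : ∑ i, r i • n i = 0 := by
    refine Subtype.ext ?_
    rw [AddSubmonoidClass.coe_finsetSum, ZeroMemClass.coe_zero, ← he, AddSubmonoidClass.coe_finsetSum,
      Finset.mul_sum]
    exact Finset.sum_congr rfl fun i _ => (mul_smul_comm _ _ _).symm
  haveI := hN (K + e)
  obtain ⟨p, a, y, hy, ha⟩ := Module.Flat.isTrivialRelation_of_sum_smul_eq_zero hrel
  refine ⟨p, a, fun j => φ (K + e) (y j), fun i => ?_, ha⟩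
  rw [← hm'' i, ← hraise K e (m' i)]
  change φ (K + e) (n i) = _
  rw [hy i, map_sum]
  simp only [map_smul]

end Fractions

section Graded

open HomogeneousLocalization

variable {R A σ : Type u} [CommRing R] [CommRing A] [SetLike σ A] [AddSubgroupClass σ A] {𝒜 : ℕ → σ} [GradedRing 𝒜]
  [Algebra R A] (ρ : R →+* 𝒜 0) (hρ : ∀ r, algebraMap R A r = ρ r)

include hρ in
theorem mem_of_mem_span {j : ℕ} {m : A} (hm : m ∈ Submodule.span R (𝒜 j : Set A)) : m ∈ 𝒜 j := by
  induction hm using Submodule.span_induction with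
  | mem a ha => exact ha
  | zero => exact zero_mem _
  | add a b _ _ ha hb => exact add_mem ha hb
  | smul r a _ ha =>
    rw [Algebra.smul_def, hρ]
    simpa only [zero_add] using SetLike.mul_mem_graded (ρ r).2 ha

include hρ in
theorem pow_mul_mem_span {d : ℕ} {f : A} (hf : f ∈ 𝒜 d) {j k e : ℕ} {m : A}
    (hm : m ∈ Submodule.span R (𝒜 (j + k * d) : Set A)) :
    f ^ e * m ∈ Submodule.span R (𝒜 (j + (k + e) * d) : Set A) := by
  refine Submodule.subset_span ?_
  have h := SetLike.mul_mem_graded (SetLike.pow_mem_graded e hf) (mem_of_mem_span ρ hρ hm)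
  rwa [smul_eq_mul, show e * d + (j + k * d) = j + (k + e) * d by ring] at h

include hρ in
/-- The degree zero part of `A_f` is flat when the graded pieces of high degree are. -/
theorem flat_away {d : ℕ} (hd : 0 < d) {f : A} (hf : f ∈ 𝒜 d)
    (hflat : ∃ d₀, ∀ j, d₀ ≤ j → Module.Flat R (Submodule.span R (𝒜 j : Set A))) :
    ((fromZeroRingHom 𝒜 (Submonoid.powers f)).comp ρ).Flat := by
  obtain ⟨d₀, hd₀⟩ := hflat
  letI : Algebra R (Away 𝒜 f) := ((fromZeroRingHom 𝒜 (Submonoid.powers f)).comp ρ).toAlgebra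
  have hmem : ∀ k (m : Submodule.span R (𝒜 (d₀ * d + k * d) : Set A)), m.1 ∈ 𝒜 ((d₀ + k) • d) := fun k m => by
    have h := mem_of_mem_span ρ hρ m.2
    simpa only [smul_eq_mul, add_mul] using h
  let φ : ∀ k, Submodule.span R (𝒜 (d₀ * d + k * d) : Set A) →ₗ[R] Away 𝒜 f := fun k =>
    { toFun := fun m => Away.mk 𝒜 hf (d₀ + k) m.1 (hmem k m)
      map_add' := fun a b => val_injective _ (by
        simp only [val_add, Away.val_mk, Localization.add_mk_self]
        rfl)
      map_smul' := fun r a => val_injective _ (by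
        change _ = (fromZeroRingHom 𝒜 (Submonoid.powers f) (ρ r) * Away.mk 𝒜 hf (d₀ + k) a.1 (hmem k a)).val
        simp only [val_mul, Away.val_mk, SetLike.val_smul, Algebra.smul_def, hρ]
        rw [show (fromZeroRingHom 𝒜 (Submonoid.powers f) (ρ r)).val = Localization.mk (ρ r : A) 1 from rfl,
          Localization.mk_mul]
        congr 1
        exact Subtype.ext (one_mul _).symm) }
  refine flat_of_fractions (fun k => Submodule.span R (𝒜 (d₀ * d + k * d) : Set A))
    (fun k => hd₀ _ (le_add_right (Nat.le_mul_of_pos_right d₀ hd))) f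
    (fun k e m hm => pow_mul_mem_span ρ hρ hf hm) φ (fun k e m => val_injective _ ?_) (fun x => ?_)
    fun k m hm => ?_
  · change (Away.mk 𝒜 hf _ _ _).val = (Away.mk 𝒜 hf _ _ _).val
    simp only [Away.val_mk]
    refine Localization.mk_eq_mk_iff.mpr (Localization.r_iff_exists.mpr ⟨1, ?_⟩)
    simp only [OneMemClass.coe_one, one_mul, ← mul_assoc, ← pow_add]
    congr 2
    omega
  · obtain ⟨k, a, ha, rfl⟩ := Away.mk_surjective 𝒜 hf x
    have h1 : f ^ d₀ * a ∈ 𝒜 (d₀ * d + k * d) := by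
      simpa only [smul_eq_mul] using SetLike.mul_mem_graded (SetLike.pow_mem_graded d₀ hf) ha
    refine ⟨k, ⟨_, Submodule.subset_span h1⟩, val_injective _ ?_⟩
    change (Away.mk 𝒜 hf _ _ _).val = (Away.mk 𝒜 hf _ _ _).val
    simp only [Away.val_mk]
    refine Localization.mk_eq_mk_iff.mpr (Localization.r_iff_exists.mpr ⟨1, ?_⟩)
    simp only [OneMemClass.coe_one, one_mul, ← mul_assoc, ← pow_add]
    congr 2
    omega
  · have h1 := congrArg HomogeneousLocalization.val hm
    change (Away.mk 𝒜 hf (d₀ + k) m.1 (hmem k m)).val = _ at h1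
    rw [Away.val_mk, val_zero, ← Localization.mk_zero 1, Localization.mk_eq_mk_iff,
      Localization.r_iff_exists] at h1
    obtain ⟨⟨_, e, rfl⟩, he⟩ := h1
    refine ⟨e, ?_⟩
    simpa using he

include hρ in
/-- The sections of `O(n)` over `D₊(f)` are flat when the graded pieces of high degree are. -/
theorem flat_twist_sections {d : ℕ} (hd : 0 < d) {f : A} (hf : f ∈ 𝒜 d) (n : ℤ)
    [Module R Γ(GrTwist.twist 𝒜 n, Proj.basicOpen 𝒜 f)]
    (hsmul : ∀ (r : R) (t : Γ(GrTwist.twist 𝒜 n, Proj.basicOpen 𝒜 f)), r • t =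
      Proj.awayToSection 𝒜 f (fromZeroRingHom 𝒜 (Submonoid.powers f) (ρ r)) • t)
    (hflat : ∃ d₀, ∀ j, d₀ ≤ j → Module.Flat R (Submodule.span R (𝒜 j : Set A))) :
    Module.Flat R Γ(GrTwist.twist 𝒜 n, Proj.basicOpen 𝒜 f) := by
  classical
  obtain ⟨d₀, hd₀⟩ := hflat
  let k₀ := d₀ + n.natAbs
  let j₀ := ((k₀ : ℤ) * d + n).toNat
  have hk₀ : (k₀ : ℤ) ≤ k₀ * d := le_mul_of_one_le_right (by positivity) (by exact_mod_cast hd)
  have hk₀' : (k₀ : ℤ) = d₀ + n.natAbs := by simp [k₀]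
  have hj₀ : (j₀ : ℤ) = k₀ * d + n := Int.toNat_of_nonneg (by omega)
  have hdeg : ∀ k, ((j₀ + k * d : ℕ) : ℤ) = ((k₀ + k) * d : ℕ) + n := fun k => by push_cast; rw [hj₀]; ring
  let φ : ∀ k, Submodule.span R (𝒜 (j₀ + k * d) : Set A) →ₗ[R] Γ(GrTwist.twist 𝒜 n, Proj.basicOpen 𝒜 f) :=
    fun k =>
    { toFun := fun m => GrModLib6.ofTilde (GrModLib6.fracSec (mem_of_mem_span ρ hρ m.2)
        (SetLike.pow_mem_graded (k₀ + k) hf) (by rw [smul_eq_mul]; exact hdeg k)
        (fun x => GrModLib6.pow_nin x _))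
      map_add' := fun a b => GrTwistLib.sec_ext fun x => by
        change Localization.mk _ _ = Localization.mk _ _ + Localization.mk _ _
        exact (Localization.add_mk_self _ _ _).symm
      map_smul' := fun r a => GrTwistLib.sec_ext fun x => by
        rw [RingHom.id_apply, hsmul]
        refine Eq.trans ?_ (GrTwistLib.val_smul _ _ x).symm
        have h1 : fromZeroRingHom 𝒜 (Submonoid.powers f) (ρ r) =
            Away.mk 𝒜 hf 0 (ρ r : A) (by rw [zero_smul]; exact (ρ r).2) :=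
          val_injective _ (by
            rw [Away.val_mk]
            change Localization.mk (ρ r : A) 1 = _
            congr 1
            exact Subtype.ext (pow_zero f).symm)
        rw [h1, GrModLib6.val_awayToSection hf _ x]
        change Localization.mk (r • a.1) _ = Localization.mk (ρ r : A) _ * Localization.mk a.1 _
        rw [Localization.mk_mul, Algebra.smul_def, hρ]
        congr 1
        exact Subtype.ext (by simp) }
  refine flat_of_fractions (fun k => Submodule.span R (𝒜 (j₀ + k * d) : Set A))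
    (fun k => hd₀ _ (by omega)) f (fun k e m hm => pow_mul_mem_span ρ hρ hf hm) φ
    (fun k e m => GrTwistLib.sec_ext fun x => ?_) (fun t => ?_) fun k m hm => ?_
  · change Localization.mk _ _ = Localization.mk _ _
    refine Localization.mk_eq_mk_iff.mpr (Localization.r_iff_exists.mpr ⟨1, ?_⟩)
    simp only [OneMemClass.coe_one, one_mul, ← mul_assoc, ← pow_add]
    congr 2
    omega
  · obtain ⟨k, i, m, hm, hi, hval⟩ := GrModLib6.exists_eq_frac hd hf (GrModLib6.toTilde t)
    have h1 : f ^ k₀ * m ∈ 𝒜 (j₀ + k * d) := by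
      have h := SetLike.mul_mem_graded (SetLike.pow_mem_graded k₀ hf) hm
      rwa [smul_eq_mul, show k₀ * d + i = j₀ + k * d by
        have := hdeg k; push_cast at this ⊢; zify; rw [this, hi]; ring] at h
    refine ⟨k, ⟨_, Submodule.subset_span h1⟩, GrTwistLib.sec_ext fun x => ?_⟩
    refine Eq.trans ?_ (hval x).symm
    change Localization.mk _ _ = Localization.mk _ _
    refine Localization.mk_eq_mk_iff.mpr (Localization.r_iff_exists.mpr ⟨1, ?_⟩)
    simp only [OneMemClass.coe_one, one_mul, ← mul_assoc, ← pow_add]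
    congr 2
    omega
  · obtain ⟨e, he⟩ := GrModLib6.exists_pow_smul_eq_zero 𝒜 𝒜 hd hf (mem_of_mem_span ρ hρ m.2)
      fun x hx => ⟨⟨f ^ (k₀ + k), GrModLib6.pow_nin ⟨x, hx⟩ _⟩,
        congrArg (fun z => GrTwistLib.val z ⟨x, hx⟩) hm⟩
    exact ⟨e, he⟩

end Graded

section Geometry

open HomogeneousLocalization

variable {S P : Scheme.{u}} (𝒮 : RelProj.QCGrAlg S) {p : P ⟶ S}
  {chart : ∀ (U : S.Opens) (hU : IsAffineOpen U), (((p ⁻¹ᵁ U : P.Opens) : Scheme.{u}) ≅ Proj (𝒮.deg U hU))}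

/-- High degree pieces are flat over the base. -/
def FlatHighDeg : Prop :=
  ∃ d₀ : ℕ, ∀ d : ℕ, d₀ ≤ d → ∀ (U : S.Opens) (hU : IsAffineOpen U),
    letI := (𝒮.str.app (op U)).hom.toAlgebra
    Module.Flat Γ(S, U) ↥(Submodule.span Γ(S, U) (𝒮.deg U hU d : Set (𝒮.presheaf.obj (op U))))

variable {𝒮}

theorem relProj_flat (hflat : FlatHighDeg 𝒮) (hP : RelProj.IsRelProj 𝒮 p chart) : Flat p := by
  obtain ⟨d₀, hd₀⟩ := hflat
  refine relProj_of_local hP @Flat fun U hU => ?_
  letI := (𝒮.str.app (op U)).hom.toAlgebra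
  let I := Σ d : {d : ℕ // 0 < d}, 𝒮.deg U hU d.1
  let 𝒰 := Proj.affineOpenCoverOfIrrelevantLESpan (𝒮.deg U hU) (fun t : I => (t.2 : 𝒮.presheaf.obj (op U)))
    (fun t => t.2.2) (fun t => t.1.2) (by
      rw [HomogeneousIdeal.toIdeal_irrelevant_le]
      exact fun i hi x hx => Ideal.subset_span ⟨⟨⟨i, hi⟩, ⟨x, hx⟩⟩, rfl⟩)
  refine (IsZariskiLocalAtSource.iff_of_openCover (P := @Flat) 𝒰.openCover).mpr fun t => ?_
  change Flat (Proj.awayι (𝒮.deg U hU) _ t.2.2 t.1.2 ≫ _)
  rw [Proj.awayι_toSpecZero_assoc, ← Spec.map_comp]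
  exact (HasRingHomProperty.Spec_iff (P := @Flat)).mpr
    (flat_away (𝒮.strZero U hU).hom (fun r => rfl) t.1.2 t.2.2 ⟨d₀, fun j hj => hd₀ j hj U hU⟩)

theorem chart_appLE (hP : RelProj.IsRelProj 𝒮 p chart) {U : S.Opens} (hU : IsAffineOpen U)
    {d : ℕ} (hd : 0 < d) {f : 𝒮.presheaf.obj (op U)} (hf : f ∈ 𝒮.deg U hU d)
    (h : Proj.basicOpen (𝒮.deg U hU) f ≤ (RelProj.emb p chart U hU ≫ p) ⁻¹ᵁ U) :
    (RelProj.emb p chart U hU ≫ p).appLE U (Proj.basicOpen (𝒮.deg U hU) f) h =
      𝒮.strZero U hU ≫ CommRingCat.ofHom (fromZeroRingHom (𝒮.deg U hU) (Submonoid.powers f)) ≫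
        Proj.awayToSection (𝒮.deg U hU) f := by
  set g := RelProj.emb p chart U hU ≫ p with hg
  have hV := Proj.isAffineOpen_basicOpen (𝒮.deg U hU) f hf hd
  have hg' : g = Proj.toSpecZero (𝒮.deg U hU) ≫ Spec.map (𝒮.strZero U hU) ≫ hU.fromSpec := by
    rw [hg, RelProj.emb, Category.assoc, Iso.inv_comp_eq]
    exact (hP.chart_over U hU).symm
  refine Spec.map_injective ?_
  rw [← cancel_mono hU.fromSpec, IsAffineOpen.SpecMap_appLE_fromSpec g hU hV h, hg', Spec.map_comp, Spec.map_comp]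
  simp only [Category.assoc]
  have h1 : hV.fromSpec = Spec.map (Proj.awayToSection (𝒮.deg U hU) f) ≫
      Proj.awayι (𝒮.deg U hU) f hf hd := by
    rw [← cancel_epi hV.isoSpec.hom, IsAffineOpen.isoSpec_hom_fromSpec, IsAffineOpen.isoSpec_hom,
      ← Category.assoc]
    change _ = Proj.basicOpenToSpec _ f ≫ _
    rw [Proj.awayι, ← Proj.basicOpenIsoSpec_hom _ f hf hd, Iso.hom_inv_id_assoc]
  rw [h1, Category.assoc, Proj.awayι_toSpecZero_assoc]

theorem relTwist_flat (hflat : FlatHighDeg 𝒮) (hP : RelProj.IsRelProj 𝒮 p chart) (n : ℤ) {L : P.Modules}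
    {lam : ∀ (U : S.Opens) (hU : IsAffineOpen U),
      L ⟶ (Scheme.Modules.pushforward (RelProj.emb p chart U hU)).obj (GrTwist.twist (𝒮.deg U hU) n)}
    (hL : RelProj.IsRelTwist 𝒮 p chart n L lam) : FlatMod.IsFlatOver p L := by
  intro x
  obtain ⟨_, ⟨U, hU, rfl⟩, hxU, -⟩ :=
    S.isBasis_affineOpens.exists_subset_of_mem_open (Set.mem_univ (p x)) isOpen_univ
  obtain ⟨x', hx'⟩ : ∃ x', RelProj.emb p chart U hU x' = x :=
    ⟨(chart U hU).hom ⟨x, hxU⟩, by
      rw [RelProj.emb, Scheme.Hom.comp_apply, ← Scheme.Hom.comp_apply (chart U hU).hom (chart U hU).inv,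
        Iso.hom_inv_id]
      rfl⟩
  obtain ⟨d, f, hd, hf, hfx⟩ := GrModLib6.exists_pos_not_mem (𝒮.deg U hU) x'
  set ι := RelProj.emb p chart U hU
  let D := Proj.basicOpen (𝒮.deg U hU) f
  have hD : IsAffineOpen D := Proj.isAffineOpen_basicOpen (𝒮.deg U hU) f hf hd
  let V := ι ''ᵁ D
  have hV : IsAffineOpen V := hD.image_of_isOpenImmersion ι
  have hxV : x ∈ V := ⟨x', hfx, hx'⟩
  have hVU : V ≤ p ⁻¹ᵁ U := by
    rintro _ ⟨y, -, rfl⟩
    exact ((chart U hU).inv y).2
  have hDV : D ≤ ι ⁻¹ᵁ V := (Scheme.Hom.preimage_image_eq ι D).ge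
  haveI := GrModLib6.isQCoh_relTwist hL
  letI : Algebra Γ(S, U) Γ(P, V) := (p.appLE U V hVU).hom.toAlgebra
  letI : Module Γ(S, U) Γ(L, V) := Module.compHom _ (algebraMap Γ(S, U) Γ(P, V))
  haveI : IsScalarTower Γ(S, U) Γ(P, V) Γ(L, V) := IsScalarTower.of_algebraMap_smul fun _ _ => rfl
  refine (FlatLib.isFlatOverAt_iff p L U hU V hV hVU hxV rfl).mpr ?_
  let σ : Γ(S, U) →+* Γ(Proj (𝒮.deg U hU), D) :=
    (p.appLE U V hVU ≫ ι.appLE V D hDV).hom
  letI : Module Γ(S, U) Γ(GrTwist.twist (𝒮.deg U hU) n, D) := Module.compHom _ σ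
  letI := (𝒮.str.app (op U)).hom.toAlgebra
  haveI : Module.Flat Γ(S, U) Γ(GrTwist.twist (𝒮.deg U hU) n, D) := by
    refine flat_twist_sections (𝒮.strZero U hU).hom (fun r => rfl) hd hf n (fun r t => ?_)
      (let ⟨d₀, hd₀⟩ := hflat; ⟨d₀, fun j hj => hd₀ j hj U hU⟩)
    change σ r • t = _
    congr 1
    change (p.appLE U V hVU ≫ ι.appLE V D hDV).hom r = _
    rw [Scheme.Hom.appLE_comp_appLE, chart_appLE hP hU hd hf]
    rfl
  have hbij := hL.bijective U hU V hVU
  let N := GrTwist.twist (𝒮.deg U hU) n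
  let e : Γ(L, V) →ₗ[Γ(S, U)] Γ(N, D) :=
    { toFun := fun m => N.presheaf.map (homOfLE hDV).op ((lam U hU).app V m)
      map_add' := fun a b => by
        rw [map_add]
        exact map_add (N.presheaf.map (homOfLE hDV).op).hom _ _
      map_smul' := fun r m => by
        change N.presheaf.map (homOfLE hDV).op ((lam U hU).app V ((p.appLE U V hVU).hom r • m)) = σ r • _
        rw [QCohLib.app_smul]
        exact QCohLib.map_smul' N (homOfLE hDV) (ι.app V ((p.appLE U V hVU).hom r)) _ }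
  have he : Function.Bijective e := by
    have h1 : Function.Bijective (N.presheaf.map (homOfLE hDV).op) := by
      haveI : IsIso (homOfLE hDV).op := by
        rw [show homOfLE hDV = eqToHom (Scheme.Hom.preimage_image_eq ι D).symm from Subsingleton.elim _ _]
        infer_instance
      exact ConcreteCategory.bijective_of_isIso _
    exact h1.comp hbij
  haveI : Module.Flat Γ(S, U) Γ(L, V) := Module.Flat.of_linearEquiv (LinearEquiv.ofBijective e he)
  exact FlatLib.flat_localized (hV.primeIdealOf ⟨x, hxV⟩).asIdeal.primeCompl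
    (LocalizedModule.mkLinearMap _ Γ(L, V))

end Geometry

end MiscFlat6

end
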