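import Groth.Agent.GrModLib6.RelExist
import Groth.Agent.MiscFlat6.RelProjEasy
import Mathlib.AlgebraicGeometry.Properties

/-!
# The relative Proj of an integral algebra
-/

set_option autoImplicit false
universe u
open CategoryTheory CategoryTheory.Limits AlgebraicGeometry TopologicalSpace Opposite
open scoped HomogeneousIdeal
open GrModLib6 (Aff IsBasic pmap)

noncomputable section

namespace MiscFlat6

/-- the generic point of the homogeneous spectrum of a domain -/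
def genPt {A σ : Type u} [CommRing A] [SetLike σ A] [AddSubgroupClass σ A] (𝒜 : ℕ → σ) [GradedRing 𝒜]
    [IsDomain A] (h : (HomogeneousIdeal.irrelevant 𝒜).toIdeal ≠ ⊥) : ProjectiveSpectrum 𝒜 :=
  ⟨⊥, by simpa using (Ideal.isPrime_bot : (⊥ : Ideal A).IsPrime), fun hle => h (le_bot_iff.mp (by
    intro a ha
    have h2 : a ∈ (⊥ : HomogeneousIdeal 𝒜).toIdeal := hle ha
    rwa [HomogeneousIdeal.toIdeal_bot] at h2))⟩

theorem genPt_mem {A σ : Type u} [CommRing A] [SetLike σ A] [AddSubgroupClass σ A] (𝒜 : ℕ → σ) [GradedRing 𝒜]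
    [IsDomain A] (h : (HomogeneousIdeal.irrelevant 𝒜).toIdeal ≠ ⊥) {V : (Proj 𝒜).Opens} {x : Proj 𝒜}
    (hx : x ∈ V) : (genPt 𝒜 h : Proj 𝒜) ∈ V := by
  obtain ⟨d, g, hd, hg, hxg, hle⟩ := GrModLib6.exists_pos_basicOpen 𝒜 hx
  refine hle fun h0 => hxg ?_
  have : g ∈ (⊥ : HomogeneousIdeal 𝒜).toIdeal := h0
  rw [HomogeneousIdeal.toIdeal_bot, Ideal.mem_bot] at this
  rw [this]
  exact zero_mem _

theorem relProj_integral {Y P : Scheme.{u}} [IsIntegral Y] (𝒮 : RelProj.QCGrAlg Y)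
    (h0 : ∀ (U : Y.Opens) (hU : IsAffineOpen U), Function.Bijective (𝒮.strZero U hU).hom)
    (hint : ∀ (U : Y.Opens) (hU : IsAffineOpen U), (U : Set Y).Nonempty →
      IsDomain (𝒮.presheaf.obj (op U)) ∧ ((𝒮.deg U hU)₊).toIdeal ≠ ⊥)
    (p : P ⟶ Y)
    (chart : ∀ (U : Y.Opens) (hU : IsAffineOpen U), (((p ⁻¹ᵁ U : P.Opens) : Scheme.{u}) ≅ Proj (𝒮.deg U hU)))
    (hP : RelProj.IsRelProj 𝒮 p chart) : IsIntegral P ∧ DenseRange p.base := by
  have hdom : ∀ i : {i : Aff Y // (i.1 : Set Y).Nonempty}, IsDomain (𝒮.presheaf.obj (op i.1.1)) := fun i =>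
    (hint i.1.1 i.1.2 i.2).1
  let η : ∀ i : {i : Aff Y // (i.1 : Set Y).Nonempty}, P := fun i =>
    haveI := hdom i
    RelProj.emb p chart i.1.1 i.1.2 (genPt (𝒮.deg i.1.1 i.1.2) (hint i.1.1 i.1.2 i.2).2)
  have hbasic : ∀ (i k : {i : Aff Y // (i.1 : Set Y).Nonempty}), IsBasic i.1 k.1 → η k = η i := by
    intro i k h
    haveI := hdom i
    haveI := hdom k
    show RelProj.emb p chart k.1.1 k.1.2 _ = _
    have hg : pmap 𝒮 h (genPt (𝒮.deg k.1.1 k.1.2) (hint k.1.1 k.1.2 k.2).2) =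
        genPt (𝒮.deg i.1.1 i.1.2) (hint i.1.1 i.1.2 i.2).2 := by
      refine ProjectiveSpectrum.ext (HomogeneousIdeal.ext (Ideal.ext fun a => ?_))
      show 𝒮.res i.1.2 k.1.2 h.le a ∈ (⊥ : HomogeneousIdeal (𝒮.deg k.1.1 k.1.2)).toIdeal ↔
        a ∈ (⊥ : HomogeneousIdeal (𝒮.deg i.1.1 i.1.2)).toIdeal
      rw [HomogeneousIdeal.toIdeal_bot, HomogeneousIdeal.toIdeal_bot, Ideal.mem_bot, Ideal.mem_bot]
      refine ⟨fun ha => ?_, fun ha => by rw [ha, map_zero]⟩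
      obtain ⟨⟨U, hU⟩, hne⟩ := i
      obtain ⟨⟨V, hV⟩, hne'⟩ := k
      obtain ⟨r, hr⟩ := id h
      dsimp only at r hr
      subst hr
      let ρ := (𝒮.presheaf.map (homOfLE (Y.basicOpen_le r)).op).hom
      letI := ρ.toAlgebra
      haveI : IsLocalization.Away ((𝒮.str.app (op U)).hom r) (𝒮.presheaf.obj (op (Y.basicOpen r))) :=
        𝒮.isQC U hU r
      obtain ⟨⟨_, M, rfl⟩, hM⟩ := (IsLocalization.map_eq_zero_iff
        (Submonoid.powers ((𝒮.str.app (op U)).hom r)) (𝒮.presheaf.obj (op (Y.basicOpen r))) a).mp ha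
      refine (mul_eq_zero.mp hM).resolve_left (pow_ne_zero M fun hc => ?_)
      have hr0 : r = 0 := (h0 U hU).1 (Subtype.ext (by
        rw [RelProj.QCGrAlg.strZero_apply_coe, RelProj.QCGrAlg.strZero_apply_coe, map_zero]; exact hc))
      obtain ⟨x, hx⟩ : ((Y.basicOpen r : Y.Opens) : Set Y).Nonempty := hne'
      rw [hr0, Scheme.basicOpen_zero] at hx
      exact hx
    show _ = RelProj.emb p chart i.1.1 i.1.2 (genPt (𝒮.deg i.1.1 i.1.2) (hint i.1.1 i.1.2 i.2).2)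
    refine Eq.trans ?_ (congrArg (fun z : Proj (𝒮.deg i.1.1 i.1.2) => RelProj.emb p chart i.1.1 i.1.2 z) hg)
    exact ((Scheme.Hom.comp_apply _ _ _).symm.trans
      (congrArg (fun φ : Proj (𝒮.deg k.1.1 k.1.2) ⟶ P => φ (genPt (𝒮.deg k.1.1 k.1.2) (hint k.1.1 k.1.2 k.2).2))
        (GrModLib6.pmap_emb hP h))).symm
  have hall : ∀ i j, η i = η j := by
    intro i j
    obtain ⟨x, hxi, hxj⟩ := nonempty_preirreducible_inter i.1.1.2 j.1.1.2 i.2 j.2
    obtain ⟨k, hik, hjk, hxk⟩ := GrModLib6.exists_isBasic_inter hxi hxj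
    exact (hbasic i ⟨k, x, hxk⟩ hik).symm.trans (hbasic j ⟨k, x, hxk⟩ hjk)
  obtain ⟨U₀, hU₀, hxU₀, -⟩ := exists_isAffineOpen_mem_and_subset
    (TopologicalSpace.Opens.mem_top (Classical.arbitrary Y))
  let i₀ : {i : Aff Y // (i.1 : Set Y).Nonempty} := ⟨⟨U₀, hU₀⟩, _, hxU₀⟩
  let ξ := η i₀
  have hξ : ∀ (V : P.Opens) (z : P), z ∈ V → ξ ∈ V := by
    intro V z hz
    obtain ⟨U, hU, hzU⟩ := GrModLib6.exists_chart_open (p := p) z
    let i : {i : Aff Y // (i.1 : Set Y).Nonempty} := ⟨⟨U, hU⟩, p z, hzU⟩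
    haveI := hdom i
    obtain ⟨y, rfl⟩ := (MiscFlat6.emb_opensRange (chart := chart) U hU).ge hzU
    show η i₀ ∈ V
    rw [hall i₀ i]
    exact genPt_mem (𝒮.deg U hU) (hint U hU i.2).2 (V := RelProj.emb p chart U hU ⁻¹ᵁ V) (x := y) hz
  have hcl : closure ({ξ} : Set P) = Set.univ := Set.eq_univ_of_forall fun z => mem_closure_iff.mpr
    fun V hV hzV => ⟨ξ, hξ ⟨V, hV⟩ z hzV, rfl⟩
  haveI : IrreducibleSpace P := by
    haveI : Nonempty P := ⟨ξ⟩
    haveI : PreirreducibleSpace P := ⟨by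
      rw [← hcl]; exact isIrreducible_singleton.isPreirreducible.closure⟩
    exact IrreducibleSpace.mk ‹_›
  have hred : IsReduced P := relProj_isReduced hP fun U hU x hx hn => by
    rcases (U : Set Y).eq_empty_or_nonempty with he | hne
    · have hU0 : U = Y.basicOpen (0 : Γ(Y, U)) := by
        rw [Scheme.basicOpen_zero]; exact Opens.ext he
      have hr : (0 : Γ(Y, U)) = 1 := by
        have : Subsingleton Γ(Y, U) := by
          rw [show U = ⊥ from Opens.ext he]; infer_instance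
        exact Subsingleton.elim _ _
      have h1 : (1 : 𝒮.presheaf.obj (op U)) = 0 := by
        rw [← map_one (𝒮.str.app (op U)).hom, ← hr, map_zero]
      rw [← one_mul x, h1, zero_mul]
    · haveI := (hint U hU hne).1
      exact hn.eq_zero
  refine ⟨isIntegral_of_irreducibleSpace_of_isReduced P, ?_⟩
  refine dense_iff_inter_open.mpr fun W hW ⟨x, hx⟩ => ⟨p ξ, ?_, ξ, rfl⟩
  obtain ⟨U, hU, hxU, hUW⟩ := exists_isAffineOpen_mem_and_subset (U := ⟨W, hW⟩) (x := x) hx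
  let i : {i : Aff Y // (i.1 : Set Y).Nonempty} := ⟨⟨U, hU⟩, x, hxU⟩
  haveI := hdom i
  refine hUW ?_
  show p (η i₀) ∈ U
  rw [hall i₀ i]
  exact (MiscFlat6.emb_opensRange (chart := chart) U hU).le ⟨_, rfl⟩

end MiscFlat6

end
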