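import Groth.Agent.GrModLib6.RelTensor
import Groth.Agent.GrTildeLib.TensLift

/-!
# `ℳ(p)~ ⊗ O(n) ≅ ℳ(p + n)~` on a relative Proj
-/

set_option autoImplicit false
universe u
open CategoryTheory CategoryTheory.Limits AlgebraicGeometry TopologicalSpace Opposite
open scoped HomogeneousIdeal
open GrTwistLib (Unit' powUnit)

noncomputable section

namespace GrModLib6

section Proj

variable {A σ : Type u} [CommRing A] [SetLike σ A] [AddSubgroupClass σ A] {𝒜 : ℕ → σ} [GradedRing 𝒜]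
  {M τ : Type u} [AddCommGroup M] [Module A M] [SetLike τ M] [AddSubgroupClass τ M] {ℳ : ℕ → τ} [SetLike.GradedSMul 𝒜 ℳ]

/-- multiplication by a section of a twist -/
def mulSec {p n q : ℤ} (hq : p + n = q) {V : (Proj 𝒜).Opens} (t : Γ(GrMod.tilde 𝒜 ℳ p, V))
    (w : Γ(GrTwist.twist 𝒜 n, V)) : Γ(GrMod.tilde 𝒜 ℳ q, V) :=
  (⟨fun x => ⟨GrTwistLib.val w x • val t x, by
      obtain ⟨W, hxW, hW, i, j, m, s, hm, hs, hnin, hd, hv⟩ := val_exists t x
      obtain ⟨W', hxW', hW', i', j', a, b, ha, hb, hnin', hd', hv'⟩ := GrTwistLib.val_exists w x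
      refine Set.mem_of_eq_of_mem (((congr_arg₂ (· • ·) (hv' ⟨x.1, hxW'⟩) (hv ⟨x.1, hxW⟩)).trans
        (LocalizedModule.mk_smul_mk _ _ _ _))) ?_
      have hz : ((i' + i : ℕ) : ℤ) = (j' + j : ℕ) + q ∨ a • m = 0 := by
        rcases hd with hd | hd
        · rcases hd' with hd' | hd'
          · exact Or.inl (by push_cast; omega)
          · exact Or.inr (by rw [hd', zero_smul])
        · exact Or.inr (by rw [hd, smul_zero])
      rcases hz with hz | hz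
      · exact Submodule.subset_span ⟨i' + i, j' + j, ⟨a • m, SetLike.GradedSMul.smul_mem ha hm⟩,
          ⟨b * s, SetLike.mul_mem_graded hb hs⟩, _, hz, rfl⟩
      · rw [hz, LocalizedModule.zero_mk]; exact zero_mem _⟩,
    fun x => by
      obtain ⟨W, hxW, hW, i, j, m, s, hm, hs, hnin, hd, hv⟩ := val_exists t x
      obtain ⟨W', hxW', hW', i', j', a, b, ha, hb, hnin', hd', hv'⟩ := GrTwistLib.val_exists w x
      refine ⟨W ⊓ W', ⟨hxW, hxW'⟩, homOfLE (inf_le_left.trans hW), i' + i, j' + j,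
        ⟨a • m, SetLike.GradedSMul.smul_mem ha hm⟩, ⟨b * s, SetLike.mul_mem_graded hb hs⟩,
        fun y h => (y.1.isPrime.mem_or_mem h).elim (hnin' ⟨y.1, y.2.2⟩) (hnin ⟨y.1, y.2.1⟩), ?_, fun y => ?_⟩
      · rcases hd with hd | hd
        · rcases hd' with hd' | hd'
          · exact Or.inl (by push_cast; omega)
          · exact Or.inr (show a • m = 0 by rw [hd', zero_smul])
        · exact Or.inr (show a • m = 0 by rw [hd, smul_zero])
      · exact (congr_arg₂ (· • ·) (hv' ⟨y.1, y.2.2⟩) (hv ⟨y.1, y.2.1⟩)).trans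
          (LocalizedModule.mk_smul_mk _ _ _ _)⟩ : GrMod.sect 𝒜 ℳ q (op V))

lemma val_mulSec {p n q : ℤ} (hq : p + n = q) {V : (Proj 𝒜).Opens} (t : Γ(GrMod.tilde 𝒜 ℳ p, V))
    (w : Γ(GrTwist.twist 𝒜 n, V)) (x : V) : val (mulSec hq t w) x = GrTwistLib.val w x • val t x := rfl

/-- the inverse fraction -/
def unitInv {n : ℤ} {U : (Proj 𝒜).Opens} (g : Unit' 𝒜 n U) : Unit' 𝒜 (-n) U :=
  ⟨g.j, g.i, g.den, g.num, g.den_mem, g.num_mem, by have := g.deg; omega, g.den_nin, g.num_nin⟩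

theorem mulSec_gen_bijective {p n q : ℤ} (hq : p + n = q) {U : (Proj 𝒜).Opens} (g : Unit' 𝒜 n U)
    (V : (Proj 𝒜).Opens) (hV : V ≤ U) :
    Function.Bijective fun a : Γ(GrMod.tilde 𝒜 ℳ p, V) =>
      mulSec hq a (AmpleLib.res (GrTwist.twist 𝒜 n) hV g.sec) := by
  have hinv : ∀ x : V, GrTwistLib.val (AmpleLib.res (GrTwist.twist 𝒜 (-n)) hV (unitInv g).sec) x *
      GrTwistLib.val (AmpleLib.res (GrTwist.twist 𝒜 n) hV g.sec) x = 1 := fun x => by
    rw [GrTwistLib.val_res, GrTwistLib.val_res, Unit'.sec, Unit'.sec, GrTwistLib.val_fracSec,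
      GrTwistLib.val_fracSec, Localization.mk_mul, ← Localization.mk_one, Localization.mk_eq_mk_iff,
      Localization.r_iff_exists]
    exact ⟨1, by simp [unitInv, mul_comm]⟩
  refine ⟨fun a a' h => sec_ext fun x => ?_, fun b =>
    ⟨mulSec (q := p) (by omega) b (AmpleLib.res (GrTwist.twist 𝒜 (-n)) hV (unitInv g).sec), sec_ext fun x => ?_⟩⟩
  · have e := congrArg (fun z => GrTwistLib.val (AmpleLib.res (GrTwist.twist 𝒜 (-n)) hV (unitInv g).sec) x •
      val z x) h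
    simpa only [val_mulSec, ← mul_smul, hinv, one_smul] using e
  · simp only [val_mulSec, ← mul_smul]
    rw [mul_comm, hinv, one_smul]

theorem nonempty_unit_one {g : A} (hg : g ∈ 𝒜 1) (n : ℤ) : Nonempty (Unit' 𝒜 n (Proj.basicOpen 𝒜 g)) :=
  ⟨cast (congrArg (fun m => Unit' 𝒜 m (Proj.basicOpen 𝒜 g)) (by simp : n * ((1 : ℕ) : ℤ) = n)) (powUnit 𝒜 hg n)⟩

theorem twistVal_add {n : ℤ} {V : (Proj 𝒜).Opens} (w w' : Γ(GrTwist.twist 𝒜 n, V)) (x : V) :
    GrTwistLib.val (w + w') x = GrTwistLib.val w x + GrTwistLib.val w' x := rfl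

end Proj

variable {S P : Scheme.{u}} {𝒮 : RelProj.QCGrAlg S} {p : P ⟶ S}
  {chart : ∀ (U : S.Opens) (hU : IsAffineOpen U), (((p ⁻¹ᵁ U : P.Opens) : Scheme.{u}) ≅ Proj (𝒮.deg U hU))}
  {ℳ : RelProj.GrModule 𝒮} {a n q : ℤ} {F F' L : P.Modules}
  {lam : ∀ (U : S.Opens) (hU : IsAffineOpen U),
    F ⟶ (Scheme.Modules.pushforward (RelProj.emb p chart U hU)).obj (GrMod.tilde (𝒮.deg U hU) (ℳ.deg U hU) a)}
  {lam' : ∀ (U : S.Opens) (hU : IsAffineOpen U),
    F' ⟶ (Scheme.Modules.pushforward (RelProj.emb p chart U hU)).obj (GrMod.tilde (𝒮.deg U hU) (ℳ.deg U hU) q)}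
  {lamL : ∀ (U : S.Opens) (hU : IsAffineOpen U),
    L ⟶ (Scheme.Modules.pushforward (RelProj.emb p chart U hU)).obj (GrTwist.twist (𝒮.deg U hU) n)}

/-- the value in a chart of a section of the sheaf of a graded module -/
abbrev mval (lam : ∀ (U : S.Opens) (hU : IsAffineOpen U),
    F ⟶ (Scheme.Modules.pushforward (RelProj.emb p chart U hU)).obj (GrMod.tilde (𝒮.deg U hU) (ℳ.deg U hU) a))
    (i : Aff S) {D : P.Opens} (σ : Γ(F, D)) (y : (RelProj.emb p chart i.1 i.2 ⁻¹ᵁ D : (Proj (𝒮.deg i.1 i.2)).Opens)) :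
    GrMod.LocMod (𝒮.deg i.1 i.2) (M := ℳ.mod.val.obj (op i.1)) y.1 :=
  val (𝒜 := 𝒮.deg i.1 i.2) (ℳ := ℳ.deg i.1 i.2) (n := a) (V := RelProj.emb p chart i.1 i.2 ⁻¹ᵁ D)
    ((lam i.1 i.2).app D σ) y

theorem mval_res (i : Aff S) {W D : P.Opens} (h : W ≤ D) (σ : Γ(F, D))
    (y : (RelProj.emb p chart i.1 i.2 ⁻¹ᵁ W : (Proj (𝒮.deg i.1 i.2)).Opens)) :
    mval lam i (AmpleLib.res F h σ) y = mval lam i σ ⟨y.1, h y.2⟩ :=
  congrArg (fun z => val (𝒜 := 𝒮.deg i.1 i.2) (ℳ := ℳ.deg i.1 i.2) (n := a)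
    (V := RelProj.emb p chart i.1 i.2 ⁻¹ᵁ W) z y) (QCohLib.app_map (lam i.1 i.2) (homOfLE h) σ)

theorem eq_of_mval (hF : RelProj.IsRelTilde 𝒮 p chart ℳ a F lam) {W : P.Opens} (s t : Γ(F, W))
    (h : ∀ (i : Aff S) (y : (RelProj.emb p chart i.1 i.2 ⁻¹ᵁ W : (Proj (𝒮.deg i.1 i.2)).Opens)),
      mval lam i s y = mval lam i t y) : s = t := by
  refine ModGlueLib.eq_of_locally s t fun x hx => ?_
  obtain ⟨U, hU, hxU⟩ := exists_chart_open (p := p) x
  refine ⟨W ⊓ p ⁻¹ᵁ U, inf_le_left, ⟨hx, hxU⟩, (hF.bijective U hU _ inf_le_right).1 (sec_ext fun y => ?_)⟩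
  exact (mval_res ⟨U, hU⟩ inf_le_left s y).trans ((h ⟨U, hU⟩ _).trans (mval_res ⟨U, hU⟩ inf_le_left t y).symm)

theorem mval_smul (i : Aff S) {D : P.Opens} (r : Γ(P, D)) (σ : Γ(F, D))
    (y : (RelProj.emb p chart i.1 i.2 ⁻¹ᵁ D : (Proj (𝒮.deg i.1 i.2)).Opens)) :
    mval lam i (r • σ) y =
      ((show GrTwist.O (op (RelProj.emb p chart i.1 i.2 ⁻¹ᵁ D)) from
        (RelProj.emb p chart i.1 i.2).app D r).1 y).val • mval lam i σ y := by
  show val ((lam i.1 i.2).app D (r • σ)) y = _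
  rw [QCohLib.app_smul]
  exact val_smul _ _ y

theorem mval_add (i : Aff S) {D : P.Opens} (σ τ : Γ(F, D))
    (y : (RelProj.emb p chart i.1 i.2 ⁻¹ᵁ D : (Proj (𝒮.deg i.1 i.2)).Opens)) :
    mval lam i (σ + τ) y = mval lam i σ y + mval lam i τ y := by
  show val ((lam i.1 i.2).app D (σ + τ)) y = _
  rw [map_add]
  exact val_add _ _ y

theorem cval_add (i : Aff S) {D : P.Opens} (σ τ : Γ(L, D))
    (y : (RelProj.emb p chart i.1 i.2 ⁻¹ᵁ D : (Proj (𝒮.deg i.1 i.2)).Opens)) :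
    cval lamL i (σ + τ) y = cval lamL i σ y + cval lamL i τ y := by
  show GrTwistLib.val ((lamL i.1 i.2).app D (σ + τ)) y = _
  rw [map_add]
  exact twistVal_add _ _ y

theorem exists_tilde_of_charts (hP : RelProj.IsRelProj 𝒮 p chart)
    (hℳ : Coh.IsQCoh ((AMod.toOS 𝒮.toQCAlg).obj ℳ.mod)) (hF : RelProj.IsRelTilde 𝒮 p chart ℳ a F lam) (Z : P.Opens)
    (t : ∀ i : Aff S, Γ(GrMod.tilde (𝒮.deg i.1 i.2) (ℳ.deg i.1 i.2) a, RelProj.emb p chart i.1 i.2 ⁻¹ᵁ Z))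
    (ht : ∀ (i j : Aff S) (h : IsBasic i j), (δT ℳ hP a h).app Z (t i) = t j) :
    ∃ σ : Γ(F, Z), ∀ i : Aff S, (lam i.1 i.2).app Z σ = t i := by
  let D := datum ℳ hP hℳ a
  obtain ⟨e, he⟩ := ModGlueLib.exists_lift (D := D) (fun i => lam i.1 i.2) (compat_of_isRelTilde hP hℳ hF)
  haveI : IsIso e := ModGlueLib.isIso_of_compat (D := D) (fun i => ModGlueLib.π D i)
    (fun i _ hW => ModGlueLib.π_bijective D i hW) (fun i => lam i.1 i.2)
    (fun i W hW => hF.bijective i.1 i.2 W hW) e he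
  obtain ⟨c, hc⟩ := (DiscExtLib.pi_sections D.T Z).2 t
  have hmem : (ModGlueLib.sub D).mem Z c := by
    intro i j h
    rw [show (Pi.π D.T i).app Z c = t i from congrFun hc i, show (Pi.π D.T j).app Z c = t j from congrFun hc j]
    exact ht i j h
  let b : Γ(ModGlueLib.glue D, Z) := (ModGlueLib.sub D).lift c hmem
  refine ⟨(inv e).app Z b, fun i => ?_⟩
  have h1 : inv e ≫ lam i.1 i.2 = ModGlueLib.π D i := (IsIso.inv_comp_eq e).mpr (he i).symm
  exact (congrArg (fun θ => θ.app Z b) h1).trans (congrFun hc i)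

theorem exists_product (hP : RelProj.IsRelProj 𝒮 p chart) (hℳ : Coh.IsQCoh ((AMod.toOS 𝒮.toQCAlg).obj ℳ.mod))
    (hF : RelProj.IsRelTilde 𝒮 p chart ℳ a F lam) (hL : RelProj.IsRelTwist 𝒮 p chart n L lamL)
    (hF' : RelProj.IsRelTilde 𝒮 p chart ℳ q F' lam') (hq : a + n = q) (W : P.Opens) (m : Γ(F, W)) (l : Γ(L, W)) :
    ∃ c : Γ(F', W), ∀ (i : Aff S) (y : (RelProj.emb p chart i.1 i.2 ⁻¹ᵁ W : (Proj (𝒮.deg i.1 i.2)).Opens)),
      mval lam' i c y = cval lamL i l y • mval lam i m y := by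
  obtain ⟨c, hc⟩ := exists_tilde_of_charts hP hℳ hF' W
    (fun i => mulSec hq (show Γ(GrMod.tilde (𝒮.deg i.1 i.2) (ℳ.deg i.1 i.2) a, RelProj.emb p chart i.1 i.2 ⁻¹ᵁ W) from
        (lam i.1 i.2).app W m)
      (show Γ(GrTwist.twist (𝒮.deg i.1 i.2) n, RelProj.emb p chart i.1 i.2 ⁻¹ᵁ W) from (lamL i.1 i.2).app W l))
    (fun i j h => sec_ext fun y => by
      have hy := (preimage_pmap hP h W).le y.2
      refine (δT_val ℳ hP q h W _ y hy).trans ?_
      refine (GrMod.locModMap_smul _ _ _ _ _ _).trans ?_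
      refine Eq.trans (congr_arg₂ (· • ·) ?_ ?_) (val_mulSec hq _ _ y).symm
      · exact (cval_basic hP hL h l y hy).symm
      · have e : (δT ℳ hP a h).app W ((lam i.1 i.2).app W m) = (lam j.1 j.2).app W m :=
          congrArg (fun φ => φ.app W m) (compat_of_isRelTilde hP hℳ hF i j h)
        exact (δT_val ℳ hP a h W _ y hy).symm.trans (congrArg (fun z => val z y) e))
  exact ⟨c, fun i y => congrArg (fun z => val z y) (hc i)⟩

theorem nonempty_tensor_twist_iso (hP : RelProj.IsRelProj 𝒮 p chart) (hgen : 𝒮.IsGenDegOne)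
    (hℳ : Coh.IsQCoh ((AMod.toOS 𝒮.toQCAlg).obj ℳ.mod))
    (hF : RelProj.IsRelTilde 𝒮 p chart ℳ a F lam) (hL : RelProj.IsRelTwist 𝒮 p chart n L lamL)
    (hF' : RelProj.IsRelTilde 𝒮 p chart ℳ q F' lam') (hq : a + n = q) :
    Nonempty (CohB1.tensorMod F L ≅ F') := by
  choose b hb using exists_product hP hℳ hF hL hF' hq
  refine GrTildeLib.exists_tens_iso b (fun V m m' l => eq_of_mval hF' _ _ fun i y => ?_)
    (fun V m l l' => eq_of_mval hF' _ _ fun i y => ?_) (fun V r m l => eq_of_mval hF' _ _ fun i y => ?_)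
    (fun V r m l => eq_of_mval hF' _ _ fun i y => ?_) (fun V W h m l => eq_of_mval hF' _ _ fun i y => ?_) fun x => ?_
  · simp only [hb, mval_add, smul_add]
  · simp only [hb, mval_add, cval_add, add_smul]
  · simp only [hb, mval_smul]
    exact smul_comm _ _ _
  · simp only [hb, mval_smul, cval_smul, mul_smul]
  · simp only [hb, mval_res, cval_res]
  · obtain ⟨U, hU, hxU⟩ := exists_chart_open (p := p) x
    obtain ⟨z, rfl⟩ := (MiscFlat6.emb_opensRange (chart := chart) U hU).ge hxU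
    obtain ⟨g, hg, hz⟩ := GrTwistLib.exists_basicOpen_of_genDegOne _ (hgen U hU) z
    obtain ⟨unit⟩ := nonempty_unit_one hg n
    set e := RelProj.emb p chart U hU
    let i : Aff S := ⟨U, hU⟩
    have hle : e ''ᵁ Proj.basicOpen (𝒮.deg U hU) g ≤ p ⁻¹ᵁ U :=
      (e.image_le_opensRange _).trans (MiscFlat6.emb_opensRange (chart := chart) _ _).le
    have hpre : e ⁻¹ᵁ (e ''ᵁ Proj.basicOpen (𝒮.deg U hU) g) ≤ Proj.basicOpen (𝒮.deg U hU) g :=
      (e.preimage_image_eq _).le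
    obtain ⟨σ, hσ, hgen'⟩ := exists_gen_chart hL i hle hpre unit
    refine ⟨e ''ᵁ Proj.basicOpen (𝒮.deg U hU) g, ⟨z, hz, rfl⟩, σ, hgen'.genAt _, fun V hV => ?_⟩
    have h2 := mulSec_gen_bijective (ℳ := ℳ.deg U hU) hq unit (e ⁻¹ᵁ V) ((e.preimage_mono hV).trans hpre)
    have h1 := hF.bijective U hU V (hV.trans hle)
    refine ((hF'.bijective U hU V (hV.trans hle)).of_comp_iff' _).mp ?_
    refine (congrArg Function.Bijective (funext fun m => sec_ext fun y => ?_)).mpr (h2.comp h1)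
    refine (hb V m _ i y).trans ((congrArg (· • _) ((cval_res i hV σ y).trans ?_)).trans (val_mulSec hq _ _ y).symm)
    exact (hσ _).trans (GrTwistLib.val_res ((e.preimage_mono hV).trans hpre) unit.sec y).symm

end GrModLib6

end
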