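import Groth.Agent.MiscFlat6.RelTwist
import Groth.Agent.MiscFlat6.AmpleFamilyRel

/-!
# The locus of a homogeneous section of a twisting sheaf
-/

set_option autoImplicit false
universe u
open CategoryTheory CategoryTheory.Limits AlgebraicGeometry TopologicalSpace Opposite
open scoped HomogeneousIdeal
open AmpleLib AmpleThLib
open TwistLib (genSet)

noncomputable section

namespace MiscFlat6

theorem relTwist_genLocus {Y P : Scheme.{u}} {𝒮 : RelProj.QCGrAlg Y} {p : P ⟶ Y}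
    {chart : ∀ (U : Y.Opens) (hU : IsAffineOpen U), (((p ⁻¹ᵁ U : P.Opens) : Scheme.{u}) ≅ Proj (𝒮.deg U hU))}
    (hgen : 𝒮.IsGenDegOne) {d : ℕ}
    (f : 𝒮.presheaf.obj (op ⊤))
    (hf : ∀ (U : Y.Opens) (hU : IsAffineOpen U), (𝒮.presheaf.map (homOfLE le_top).op).hom f ∈ 𝒮.deg U hU d)
    (Xf : P.Opens)
    (hXf : ∀ (U : Y.Opens) (hU : IsAffineOpen U),
      Xf ⊓ p ⁻¹ᵁ U =
        (p ⁻¹ᵁ U).ι ''ᵁ ((chart U hU).hom ⁻¹ᵁ
          Proj.basicOpen (𝒮.deg U hU) ((𝒮.presheaf.map (homOfLE le_top).op).hom f)))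
    (L : P.Modules)
    (lam : ∀ (U : Y.Opens) (hU : IsAffineOpen U),
      L ⟶ (Scheme.Modules.pushforward (RelProj.emb p chart U hU)).obj (GrTwist.twist (𝒮.deg U hU) (d : ℤ)))
    (hL : RelProj.IsRelTwist 𝒮 p chart (d : ℤ) L lam) (s : Coh.structureModule P ⟶ L)
    (hs : ∀ (U : Y.Opens) (hU : IsAffineOpen U) (y : Proj (𝒮.deg U hU)),
      GrTwist.val (V := RelProj.emb p chart U hU ⁻¹ᵁ ⊤)
        ((lam U hU).app ⊤ (s.app ⊤ (show Γ(Coh.structureModule P, ⊤) from (1 : Γ(P, ⊤))))) ⟨y, Set.mem_univ _⟩ =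
        Localization.mk ((𝒮.presheaf.map (homOfLE le_top).op).hom f) 1) :
    Xf = CohB1.genLocus L s := by
  have hLi := relTwist_genDegOne_isInvertible hgen hL
  rw [genLocus_hom hLi]
  let σ : Γ(L, ⊤) := s.app ⊤ (1 : Γ(P, ⊤))
  ext x
  obtain ⟨U, hU, hxU, -⟩ := exists_isAffineOpen_mem_and_subset (TopologicalSpace.Opens.mem_top (p x))
  let e := RelProj.emb p chart U hU
  obtain ⟨φ, hφ⟩ := exists_restrict_twistIso hL U hU
  obtain ⟨y, rfl⟩ := (emb_opensRange (chart := chart) U hU).ge hxU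
  let fU := (𝒮.presheaf.map (homOfLE (le_top : U ≤ ⊤)).op).hom f
  let σ' : Γ(L.restrict e, ⊤) := res L (le_top : e ''ᵁ ⊤ ≤ ⊤) σ
  have hT : PicF.IsInvertible (GrTwist.twist (𝒮.deg U hU) (d : ℤ)) := by
    have h : (d : ℤ) * ((1 : ℕ) : ℤ) = d := by simp
    rw [← h]
    exact GrTwistLib.twist_isInvertible_deg _ (GrTwistLib.exists_basicOpen_of_genDegOne _ (hgen U hU)) _
  have hcov : ∀ z : Proj (𝒮.deg U hU), ∃ g ∈ 𝒮.deg U hU d, z ∈ Proj.basicOpen (𝒮.deg U hU) g := fun z => by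
    obtain ⟨g, hg, hz⟩ := GrTwistLib.exists_basicOpen_of_genDegOne _ (hgen U hU) z
    refine ⟨g ^ d, by simpa using SetLike.pow_mem_graded d hg, fun hm => hz (z.isPrime.mem_of_pow_mem d hm)⟩
  have hval : φ.hom.app ⊤ σ' = (show Γ(GrTwist.twist (𝒮.deg U hU) (d : ℤ), ⊤) from
      GrTwist.globalOf (𝒮.deg U hU) ⟨fU, hf U hU⟩) := by
    refine GrTwistLib.sec_ext fun z => ?_
    rw [hφ ⊤ σ', show (lam U hU).app (e ''ᵁ ⊤) σ' =
      ((Scheme.Modules.pushforward e).obj (GrTwist.twist (𝒮.deg U hU) (d : ℤ))).presheaf.map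
        (homOfLE (le_top : e ''ᵁ ⊤ ≤ ⊤)).op ((lam U hU).app ⊤ σ) from QCohLib.app_map (lam U hU) _ σ]
    exact hs U hU z.1
  have h1 : e y ∈ genSet hLi σ ↔ y ∈ Proj.basicOpen (𝒮.deg U hU) fU := by
    rw [← GrTwistLib.genSet_globalOf _ hT hcov ⟨fU, hf U hU⟩, ← hval,
      genSet_iso (restrict_isInvertible hLi e) hT φ σ', genAt_restrict_iff hLi e σ' y]
    exact (genAt_res (le_top : e ''ᵁ ⊤ ≤ ⊤) σ (x := e y) ⟨y, trivial, rfl⟩).symm
  have h2 : e y ∈ Xf ↔ y ∈ Proj.basicOpen (𝒮.deg U hU) fU := by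
    have h3 := SetLike.ext_iff.mp (hXf U hU) (e y)
    refine Iff.trans ⟨fun h => h3.mp ⟨h, hxU⟩, fun h => (h3.mpr h).1⟩ ?_
    have he : e y = (p ⁻¹ᵁ U).ι ((chart U hU).inv y) := Scheme.Hom.comp_apply _ _ _
    constructor
    · rintro ⟨z, hz, hzy⟩
      have hz' : z = (chart U hU).inv y := (p ⁻¹ᵁ U).ι.isOpenEmbedding.injective (hzy.trans he)
      have hyy : (chart U hU).hom z = y := by
        rw [hz', ← Scheme.Hom.comp_apply, Iso.inv_hom_id]; rfl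
      exact hyy ▸ hz
    · intro h
      refine ⟨(chart U hU).inv y, ?_, he.symm⟩
      show (chart U hU).hom ((chart U hU).inv y) ∈ Proj.basicOpen (𝒮.deg U hU) fU
      rw [← Scheme.Hom.comp_apply, Iso.inv_hom_id]
      exact h
  exact h2.trans h1.symm

end MiscFlat6
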