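import Groth.Agent.MiscFlat6.RelTwistOne
import Groth.Agent.MiscFlat6.QARelAmple
import Groth.Agent.SymGenLib.Basic
import Groth.Agent.AmpleThLib.Restr
import Groth.Agent.MiscFlat6.CoprodQProj

/-!
# Relatively very ample modules are relatively ample
-/

set_option autoImplicit false
universe u
open CategoryTheory CategoryTheory.Limits AlgebraicGeometry TopologicalSpace Opposite
open scoped HomogeneousIdeal

noncomputable section

namespace MiscFlat6

theorem twist_restrict_isAmple {A σ : Type u} [CommRing A] [SetLike σ A] [AddSubgroupClass σ A] (𝒜 : ℕ → σ)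
    [GradedRing 𝒜] (hcov : ∀ x : Proj 𝒜, ∃ f ∈ 𝒜 1, x ∈ Proj.basicOpen 𝒜 f)
    (s : Finset A) (hs : ∀ f ∈ s, f ∈ 𝒜 1) :
    CohB1.IsAmple ((GrTwist.twist 𝒜 ((1 : ℕ) : ℤ)).restrict (⨆ f : (s : Set A), Proj.basicOpen 𝒜 (f : A)).ι) := by
  have hL := GrTwistLib.twist_isInvertible_self 𝒜 hcov
  let Q : (Proj 𝒜).Opens := ⨆ f : (s : Set A), Proj.basicOpen 𝒜 (f : A)
  haveI : CompactSpace (Q : Scheme.{u}) := by
    refine isCompact_iff_compactSpace.mp ?_
    show IsCompact ((⨆ f : (s : Set A), Proj.basicOpen 𝒜 (f : A) : (Proj 𝒜).Opens) : Set (Proj 𝒜))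
    rw [TopologicalSpace.Opens.coe_iSup]
    exact isCompact_iUnion fun f => (Proj.isAffineOpen_basicOpen 𝒜 f.1 (hs f.1 f.2) Nat.one_pos).isCompact
  refine (AmpleThLib.isAmple_iff (hL := AmpleThLib.restrict_isInvertible hL Q.ι)).mpr ⟨inferInstance, fun x => ?_⟩
  obtain ⟨⟨f, hf⟩, hx⟩ := Opens.mem_iSup.mp x.2
  have hloc : AmpleThLib.IsLocus hL 1 (Proj.basicOpen 𝒜 f) :=
    ⟨AmpleThLib.pS (show Γ(GrTwist.twist 𝒜 ((1 : ℕ) : ℤ), ⊤) from GrTwist.globalOf 𝒜 ⟨f, hs f hf⟩) 1,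
      (AmpleThLib.genSet_pS hL _ one_pos).trans (GrTwistLib.genSet_globalOf 𝒜 hL hcov ⟨f, hs f hf⟩)⟩
  refine ⟨1, Q.ι ⁻¹ᵁ Proj.basicOpen 𝒜 f, one_pos, AmpleThLib.IsLocus.restrict hL Q.ι hloc, hx, ?_⟩
  rw [← Q.ι.isAffineOpen_iff_of_isOpenImmersion, Scheme.Hom.image_preimage_eq_opensRange_inf,
    Scheme.Opens.opensRange_ι, inf_eq_right.mpr (le_iSup (fun f : (s : Set A) => Proj.basicOpen 𝒜 (f : A)) ⟨f, hf⟩)]
  exact Proj.isAffineOpen_basicOpen 𝒜 f (hs f hf) Nat.one_pos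

theorem isRelAmple_pullback_relTwist {S P X : Scheme.{u}} {𝒮 : RelProj.QCGrAlg S} {p : P ⟶ S}
    {chart : ∀ (U : S.Opens) (hU : IsAffineOpen U), (((p ⁻¹ᵁ U : P.Opens) : Scheme.{u}) ≅ Proj (𝒮.deg U hU))}
    {L : P.Modules} {lam : ∀ (U : S.Opens) (hU : IsAffineOpen U),
      L ⟶ (Scheme.Modules.pushforward (RelProj.emb p chart U hU)).obj (GrTwist.twist (𝒮.deg U hU) 1)}
    (hgen : 𝒮.IsGenDegOne) (hL : RelProj.IsRelTwist 𝒮 p chart 1 L lam) (g : X ⟶ P) [QuasiCompact (g ≫ p)]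
    (hg : Topology.IsEmbedding g.base) :
    RelAmple.IsRelAmple (g ≫ p) ((Scheme.Modules.pullback g).obj L) := by
  classical
  let f := g ≫ p
  refine (isRelAmple_iff_openCover (g ≫ p) _ (fun U : S.affineOpens => U.1) (iSup_affineOpens_eq_top S)).mpr
    fun U => ?_
  haveI : IsAffine (U.1 : Scheme.{u}) := U.2
  haveI : QuasiCompact ((g ≫ p) ∣_ U.1) := inferInstance
  refine (isRelAmple_iff_isAmple _ _).mpr ?_
  let W : X.Opens := (g ≫ p) ⁻¹ᵁ U.1
  haveI : CompactSpace (W : Scheme.{u}) := isCompact_iff_compactSpace.mp ((g ≫ p).isCompact_preimage U.2.isCompact)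
  let e := RelProj.emb p chart U.1 U.2
  have hrange : Set.range (W.ι ≫ g) ⊆ Set.range e := by
    rintro _ ⟨w, rfl⟩
    exact (emb_opensRange (chart := chart) U.1 U.2).ge (show g (W.ι w) ∈ p ⁻¹ᵁ U.1 from w.2)
  let h := IsOpenImmersion.lift e (W.ι ≫ g) hrange
  have hh : h ≫ e = W.ι ≫ g := IsOpenImmersion.lift_fac _ _ _
  have hcov := GrTwistLib.exists_basicOpen_of_genDegOne (𝒮.deg U.1 U.2) (hgen U.1 U.2)
  choose F hF hxF using hcov
  obtain ⟨t, ht⟩ := (isCompact_range h.continuous).elim_finite_subcover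
    (fun x => (Proj.basicOpen (𝒮.deg U.1 U.2) (F x) : Set (Proj (𝒮.deg U.1 U.2))))
    (fun x => (Proj.basicOpen (𝒮.deg U.1 U.2) (F x)).2) fun x _ => Set.mem_iUnion.mpr ⟨x, hxF x⟩
  let s : Finset (𝒮.presheaf.obj (op U.1)) := t.image F
  have hs : ∀ a ∈ s, a ∈ 𝒮.deg U.1 U.2 1 := fun a ha => by
    obtain ⟨x, -, rfl⟩ := Finset.mem_image.mp ha; exact hF x
  let Q : (Proj (𝒮.deg U.1 U.2)).Opens :=
    ⨆ a : (s : Set (𝒮.presheaf.obj (op U.1))), Proj.basicOpen (𝒮.deg U.1 U.2) (a : 𝒮.presheaf.obj (op U.1))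
  have hQ : Set.range h ⊆ Set.range Q.ι := by
    rw [Scheme.Opens.range_ι]
    rintro z hz
    obtain ⟨x, hx, hzx⟩ := Set.mem_iUnion₂.mp (ht hz)
    exact Opens.mem_iSup.mpr ⟨⟨F x, Finset.mem_image_of_mem _ hx⟩, hzx⟩
  let h' := IsOpenImmersion.lift Q.ι h hQ
  have hh' : h' ≫ Q.ι = h := IsOpenImmersion.lift_fac _ _ _
  have hemb : Topology.IsEmbedding h'.base := by
    have h2 : Topology.IsEmbedding (g.base ∘ W.ι.base) := hg.comp W.ι.isOpenEmbedding.isEmbedding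
    have h3 : (e.base ∘ Q.ι.base) ∘ h'.base = g.base ∘ W.ι.base := funext fun w => by
      show e (Q.ι (h' w)) = g (W.ι w)
      rw [← Scheme.Hom.comp_apply h', hh', ← Scheme.Hom.comp_apply, hh, Scheme.Hom.comp_apply]
    rw [← h3] at h2
    exact Topology.IsEmbedding.of_comp (by fun_prop) (by fun_prop) h2
  have hT := twist_restrict_isAmple (𝒮.deg U.1 U.2) (GrTwistLib.exists_basicOpen_of_genDegOne _ (hgen U.1 U.2)) s hs
  haveI : CompactSpace (Q : Scheme.{u}) := hT.2.1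
  haveI := AmpleThLib.quasiSeparatedSpace_of_isAmple hT
  haveI : QuasiCompact h' := quasiCompact_of_compactSpace _
  have hA := isAmple_pb_of_isQuasiAffine h' (RichLib.QA.of_isEmbedding h' hemb) hT
  obtain ⟨φ, -⟩ := exists_restrict_twistIso hL U.1 U.2
  let ψ : (Scheme.Modules.pullback h').obj ((GrTwist.twist (𝒮.deg U.1 U.2) ((1 : ℕ) : ℤ)).restrict Q.ι) ≅
      ((Scheme.Modules.pullback g).obj L).restrict W.ι :=
    (Scheme.Modules.pullback h').mapIso ((Scheme.Modules.restrictFunctorIsoPullback Q.ι).app _) ≪≫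
      (Scheme.Modules.pullbackComp h' Q.ι).app _ ≪≫ (Scheme.Modules.pullbackCongr hh').app _ ≪≫
      (Scheme.Modules.pullback h).mapIso (φ.symm ≪≫ (Scheme.Modules.restrictFunctorIsoPullback e).app L) ≪≫
      (Scheme.Modules.pullbackComp h e).app L ≪≫ (Scheme.Modules.pullbackCongr hh).app L ≪≫
      ((Scheme.Modules.pullbackComp W.ι g).app L).symm ≪≫
      ((Scheme.Modules.restrictFunctorIsoPullback W.ι).app _).symm
  have hLi := relTwist_genDegOne_isInvertible hgen hL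
  exact AmpleDevLib.isAmple_of_iso hA.1
    (AmpleThLib.restrict_isInvertible (AmpleDevLib.isInvertible_pb g hLi) W.ι) ψ hA

theorem isRelAmple_of_isRelVeryAmple {X Y : Scheme.{u}} {f : X ⟶ Y} [QuasiCompact f] {L : X.Modules}
    (h : RelProj.IsRelVeryAmple f L) : RelAmple.IsRelAmple f L := by
  obtain ⟨E, hE, 𝒮, j, hj, P, p, chart, hP, O1, lam, hO1, i, hi, rfl, ⟨e⟩⟩ := h
  haveI := hE
  haveI : IsImmersion i := hi
  exact isRelAmple_of_iso e.symm
    (isRelAmple_pullback_relTwist (SymGenLib.isGenDegOne hj) hO1 i i.isEmbedding)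

end MiscFlat6

end
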