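import Groth.Agent.QCohLib.Extend
import Groth.Agent.QCohLib.Push
import Groth.Agent.QCohLib.AffineFinite
import Mathlib.AlgebraicGeometry.Normalization

/-!
# Subalgebras of `f_* O_X` generated by finite type submodules
-/

set_option autoImplicit false
universe u

open CategoryTheory CategoryTheory.Limits TopologicalSpace Opposite AlgebraicGeometry

namespace MiscFlat6

variable {X S : Scheme.{u}} (h : X ⟶ S)

/-- The direct image of the structure sheaf as a module. -/
noncomputable abbrev pushUnit : S.Modules :=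
  (Scheme.Modules.pushforward h).obj (Coh.structureModule X)

/-- A section of `X` over a preimage, as a section of the direct image. -/
def toPush (U : S.Opens) (z : Γ(X, h ⁻¹ᵁ U)) : Γ(pushUnit h, U) := z

/-- Finitely many finite type submodules of the direct image of the structure sheaf. -/
structure GenData where
  /-- the index type -/
  n : ℕ
  /-- the submodules -/
  L : Fin n → QCohLib.LocSub (pushUnit h)
  ft : ∀ i, QCohLib.LocSub.FTBelow (L i) ⊤

variable {h}

/-- The generators over `U`. -/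
def GenData.gens (G : GenData h) (U : S.Opens) : Set Γ(X, h ⁻¹ᵁ U) :=
  {z | ∃ i, (G.L i).mem U (toPush h U z)}

/-- The subalgebra generated over `U`. -/
noncomputable def GenData.alg (G : GenData h) (U : S.Opens) : Subring Γ(X, h ⁻¹ᵁ U) :=
  Subring.closure (Set.range (h.app U) ∪ G.gens U)

/-- Restriction between preimages. -/
noncomputable def resX (h : X ⟶ S) {U V : S.Opens} (e : V ≤ U) : Γ(X, h ⁻¹ᵁ U) →+* Γ(X, h ⁻¹ᵁ V) :=
  (X.presheaf.map (homOfLE (h.preimage_mono e)).op).hom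

theorem resX_app {U V : S.Opens} (e : V ≤ U) (r : Γ(S, U)) :
    resX h e (h.app U r) = h.app V (S.presheaf.map (homOfLE e).op r) :=
  (QCohLib.app_res h e r).symm

theorem GenData.mem_app (G : GenData h) (U : S.Opens) (r : Γ(S, U)) : h.app U r ∈ G.alg U :=
  Subring.subset_closure (Or.inl ⟨r, rfl⟩)

theorem GenData.mem_gen (G : GenData h) {U : S.Opens} {z : Γ(X, h ⁻¹ᵁ U)} (hz : z ∈ G.gens U) :
    z ∈ G.alg U :=
  Subring.subset_closure (Or.inr hz)

theorem GenData.resX_gens (G : GenData h) {U V : S.Opens} (e : V ≤ U) {z : Γ(X, h ⁻¹ᵁ U)}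
    (hz : z ∈ G.gens U) : resX h e z ∈ G.gens V := by
  obtain ⟨i, hi⟩ := hz
  exact ⟨i, (G.L i).res e hi⟩

theorem GenData.resX_mem (G : GenData h) {U V : S.Opens} (e : V ≤ U) {z : Γ(X, h ⁻¹ᵁ U)}
    (hz : z ∈ G.alg U) : resX h e z ∈ G.alg V := by
  suffices G.alg U ≤ (G.alg V).comap (resX h e) from this hz
  rw [GenData.alg, Subring.closure_le]
  rintro z (⟨r, rfl⟩ | hz)
  · show resX h e (h.app U r) ∈ G.alg V
    rw [resX_app]
    exact G.mem_app V _
  · exact G.mem_gen (G.resX_gens e hz)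

variable [QuasiCompact h] [QuasiSeparated h]

theorem isQCoh_pushUnit : Coh.IsQCoh (pushUnit h) :=
  haveI : Coh.IsQCoh (Coh.structureModule X) := QCohLib.isQCoh_unit
  QCohLib.isQCoh_pushforward h _

/-- Denominators of generators may be cleared. -/
theorem GenData.exists_pow_gens (G : GenData h) {U : S.Opens} (hU : IsAffineOpen U) (r : Γ(S, U))
    {z : Γ(X, h ⁻¹ᵁ S.basicOpen r)} (hz : z ∈ G.gens (S.basicOpen r)) :
    ∃ (k : ℕ) (w : Γ(X, h ⁻¹ᵁ U)), w ∈ G.gens U ∧
      resX h (S.basicOpen_le r) w = resX h (S.basicOpen_le r) (h.app U r) ^ k * z := by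
  obtain ⟨i, hi⟩ := hz
  haveI := isQCoh_pushUnit (h := h)
  obtain ⟨N, m, hm⟩ := (QCohLib.localizingAt_of_isQCoh hU (pushUnit h) r).exists_extend
    (toPush h _ z)
  obtain ⟨k, hk⟩ := QCohLib.LocSub.exists_pow_smul_mem (G.L i) (QCohLib.LocSub.canon_top _) (G.ft i) hU
    (by rw [inf_top_eq]; exact hU.isCompact) r m (by
      have h1 := (G.L i).res (inf_le_left : S.basicOpen r ⊓ ⊤ ≤ S.basicOpen r)
        (hm ▸ (G.L i).smul _ hi)
      rw [QCohLib.map_map'] at h1
      exact h1)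
  refine ⟨k + N, h.app U r ^ k * (show Γ(X, h ⁻¹ᵁ U) from m), ⟨i, ?_⟩, ?_⟩
  · have h2 : toPush h U (h.app U r ^ k * (show Γ(X, h ⁻¹ᵁ U) from m)) = r ^ k • m := by
      rw [QCohLib.push_smul, map_pow]
      rfl
    rw [h2]
    exact hk
  · rw [map_mul, map_pow, pow_add, mul_assoc]
    congr 1
    have h3 : resX h (S.basicOpen_le r) (show Γ(X, h ⁻¹ᵁ U) from m) =
        h.app _ ((S.presheaf.map (homOfLE (S.basicOpen_le r)).op r) ^ N) * z := hm
    rw [h3, map_pow, resX_app]

/-- Denominators in the subalgebra may be cleared. -/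
theorem GenData.exists_pow_alg (G : GenData h) {U : S.Opens} (hU : IsAffineOpen U) (r : Γ(S, U))
    {z : Γ(X, h ⁻¹ᵁ S.basicOpen r)} (hz : z ∈ G.alg (S.basicOpen r)) :
    ∃ (k : ℕ) (w : Γ(X, h ⁻¹ᵁ U)), w ∈ G.alg U ∧
      resX h (S.basicOpen_le r) w = resX h (S.basicOpen_le r) (h.app U r) ^ k * z := by
  induction hz using Subring.closure_induction with
  | mem z hz =>
    rcases hz with ⟨c, rfl⟩ | hz
    · haveI := hU.isLocalization_basicOpen r
      obtain ⟨k, c', hc⟩ := IsLocalization.Away.surj r c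
      refine ⟨k, h.app U c', G.mem_app U c', ?_⟩
      have hc' : c * S.presheaf.map (homOfLE (S.basicOpen_le r)).op r ^ k =
          S.presheaf.map (homOfLE (S.basicOpen_le r)).op c' := hc
      rw [resX_app, resX_app, ← hc', map_mul, map_pow, mul_comm]
    · obtain ⟨k, w, hw, e⟩ := G.exists_pow_gens hU r hz
      exact ⟨k, w, G.mem_gen hw, e⟩
  | zero => exact ⟨0, 0, zero_mem _, by simp⟩
  | one => exact ⟨0, 1, one_mem _, by simp⟩
  | add x y _ _ hx hy =>
    obtain ⟨k, v, hv, ev⟩ := hx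
    obtain ⟨l, w, hw, ew⟩ := hy
    refine ⟨k + l, h.app U r ^ l * v + h.app U r ^ k * w,
      add_mem (mul_mem (pow_mem (G.mem_app U r) _) hv) (mul_mem (pow_mem (G.mem_app U r) _) hw), ?_⟩
    rw [map_add, map_mul, map_mul, map_pow, map_pow, ev, ew, pow_add]
    ring
  | neg x _ hx =>
    obtain ⟨k, v, hv, ev⟩ := hx
    exact ⟨k, -v, neg_mem hv, by rw [map_neg, ev, mul_neg]⟩
  | mul x y _ _ hx hy =>
    obtain ⟨k, v, hv, ev⟩ := hx
    obtain ⟨l, w, hw, ew⟩ := hy
    refine ⟨k + l, v * w, mul_mem hv hw, ?_⟩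
    rw [map_mul, ev, ew, pow_add]
    ring

/-- If all generators are integral, the subalgebra is finite over the base. -/
theorem GenData.finite_alg (G : GenData h) {U : S.Opens} (hU : IsAffineOpen U)
    (hint : (h.app U).hom.IsIntegral) :
    ((h.app U).hom.codRestrict (G.alg U) (G.mem_app U)).Finite := by
  classical
  haveI := isQCoh_pushUnit (h := h)
  have hg : ∀ i, ∃ T : Finset Γ(X, h ⁻¹ᵁ U), ∀ z : Γ(X, h ⁻¹ᵁ U), (G.L i).mem U (toPush h U z) →
      (∀ A : Subring Γ(X, h ⁻¹ᵁ U), Set.range (h.app U) ⊆ A → (T : Set Γ(X, h ⁻¹ᵁ U)) ⊆ A → z ∈ A) ∧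
      (∀ t ∈ T, (G.L i).mem U (toPush h U t)) := by
    intro i
    haveI := QCohLib.LocSub.isQCoh_toModules (G.L i) (G.ft i)
    haveI := QCohLib.finite_of_isFT (QCohLib.LocSub.isFT_toModules (G.L i) (G.ft i)) hU
    obtain ⟨k, s, hs⟩ := Module.Finite.exists_fin (R := Γ(S, U)) (M := Γ((G.L i).toModules, U))
    let e : Γ((G.L i).toModules, U) → Γ(X, h ⁻¹ᵁ U) := fun a => (G.L i).ι.app U a
    refine ⟨Finset.univ.image fun j => e (s j), fun z hz => ⟨fun A hA hT => ?_, fun t ht => ?_⟩⟩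
    · obtain ⟨c, hc⟩ := Submodule.mem_span_range_iff_exists_fun Γ(S, U) |>.mp
        (hs.ge (Submodule.mem_top : (G.L i).lift (toPush h U z) hz ∈ ⊤))
      have hz' : z = ∑ j, h.app U (c j) * e (s j) := by
        have h1 := congrArg ((G.L i).ι.app U) hc
        rw [map_sum] at h1
        refine (h1.trans (QCohLib.LocSub.ι_lift _ _ _)).symm.trans (Finset.sum_congr rfl fun j _ => ?_)
        rw [QCohLib.app_smul]
        rfl
      rw [hz']
      exact sum_mem fun j _ => mul_mem (hA ⟨_, rfl⟩)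
        (hT (Finset.mem_coe.mpr (Finset.mem_image_of_mem _ (Finset.mem_univ j))))
    · obtain ⟨j, -, rfl⟩ := Finset.mem_image.mp ht
      exact (G.L i).ι_app_mem (s j)
  choose T hT using hg
  algebraize [(h.app U).hom]
  have hTgen : ∀ i, ∀ t ∈ T i, t ∈ G.gens U := fun i t ht =>
    ⟨i, (hT i 0 ((G.L i).zero U)).2 t ht⟩
  let Tall : Finset Γ(X, h ⁻¹ᵁ U) := Finset.univ.biUnion T
  let A : Subalgebra Γ(S, U) Γ(X, h ⁻¹ᵁ U) := Algebra.adjoin Γ(S, U) (Tall : Set Γ(X, h ⁻¹ᵁ U))
  have hle : A.toSubring = G.alg U := by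
    refine le_antisymm ?_ ?_
    · intro z hz
      change z ∈ A at hz
      induction hz using Algebra.adjoin_induction with
      | mem t ht =>
        obtain ⟨i, -, hi⟩ := Finset.mem_biUnion.mp ht
        exact G.mem_gen (hTgen i t hi)
      | algebraMap c => exact G.mem_app U c
      | add x y _ _ hx hy => exact add_mem hx hy
      | mul x y _ _ hx hy => exact mul_mem hx hy
    · rw [GenData.alg, Subring.closure_le]
      rintro z (⟨c, rfl⟩ | ⟨i, hi⟩)
      · exact A.algebraMap_mem c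
      · refine (hT i z hi).1 A.toSubring (fun _ ⟨c, hc⟩ => hc ▸ A.algebraMap_mem c) fun t ht => ?_
        exact Algebra.subset_adjoin (Finset.mem_biUnion.mpr ⟨i, Finset.mem_univ i, ht⟩)
  have hfg : A.toSubmodule.FG :=
    fg_adjoin_of_finite Tall.finite_toSet fun t _ => hint t
  haveI : Module.Finite Γ(S, U) A := Module.Finite.iff_fg.mpr hfg
  have hA : (algebraMap Γ(S, U) A).Finite := RingHom.finite_algebraMap.mpr inferInstance
  let eq : A →+* G.alg U := (A.val.toRingHom.codRestrict (G.alg U) fun x => hle.le x.2)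
  have heq : Function.Surjective eq := fun x => ⟨⟨x.1, hle.ge x.2⟩, Subtype.ext rfl⟩
  have : (h.app U).hom.codRestrict (G.alg U) (G.mem_app U) = eq.comp (algebraMap Γ(S, U) A) := rfl
  rw [this]
  exact (RingHom.Finite.of_surjective eq heq).comp hA

end MiscFlat6
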