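import Groth.Agent.MiscFlat6.SubalgData

/-!
# The scheme glued from a subalgebra of `h_* O_X`
-/

set_option autoImplicit false
universe u

open CategoryTheory CategoryTheory.Limits TopologicalSpace Opposite AlgebraicGeometry
open AlgebraicGeometry.Scheme AlgebraicGeometry.Scheme.AffineZariskiSite

namespace MiscFlat6

variable {X S : Scheme.{u}} {h : X ⟶ S} (G : GenData h)

/-- The presheaf of subalgebras on affine opens. -/
noncomputable def GenData.diagram : S.AffineZariskiSiteᵒᵖ ⥤ CommRingCat.{u} where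
  obj U := .of (G.alg U.unop.1)
  map {U V} i := CommRingCat.ofHom ((resX h (toOpens_mono i.unop.le)).restrict _ _
    fun _ hz => G.resX_mem _ hz)
  map_id U := by
    ext x
    exact ConcreteCategory.congr_hom (X.presheaf.map_id _) x.1
  map_comp i j := by
    ext x
    exact ConcreteCategory.congr_hom (X.presheaf.map_comp
      (homOfLE (h.preimage_mono (toOpens_mono i.unop.le))).op
      (homOfLE (h.preimage_mono (toOpens_mono j.unop.le))).op) x.1

/-- The structure map of the presheaf of subalgebras. -/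
noncomputable def GenData.diagramMap : (toOpensFunctor S).op ⋙ S.presheaf ⟶ G.diagram where
  app U := CommRingCat.ofHom ((h.app U.unop.1).hom.codRestrict (G.alg U.unop.1) (G.mem_app _))
  naturality U V i := by
    ext x
    exact Subtype.ext (resX_app (h := h) (U := U.unop.1) (V := V.unop.1) (toOpens_mono i.unop.le) x).symm

variable [QuasiCompact h] [QuasiSeparated h]

theorem GenData.coequifibered : G.diagramMap.Coequifibered := by
  refine coequifibered_iff_forall_isLocalizationAway.mpr fun U r => ?_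
  let e : S.basicOpen r ≤ U.1 := S.basicOpen_le r
  let ρ := resX h e
  haveI hamb : @IsLocalization.Away _ _ (h.app U.1 r) Γ(X, h ⁻¹ᵁ S.basicOpen r) _ ρ.toAlgebra := by
    have h0 := isLocalization_basicOpen_of_qcqs (h.isCompact_preimage U.2.isCompact)
      (h.isQuasiSeparated_preimage U.2.isQuasiSeparated) (h.app U.1 r)
    let : Algebra Γ(X, h ⁻¹ᵁ U.1) Γ(X, X.basicOpen (h.app U.1 r)) :=
      (X.presheaf.map (homOfLE (X.basicOpen_le _)).op).hom.toAlgebra
    dsimp +instances [ρ, resX]
    rw! (castMode := .all) [h.preimage_basicOpen r]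
    exact h0
  let := ρ.toAlgebra
  let := (G.diagram.map (homOfLE (U.basicOpen_le r)).op).hom.toAlgebra
  refine (isLocalization_iff _ _).mpr ⟨?_, fun z => ?_, fun {a b} hab => ?_⟩
  · rintro ⟨_, n, rfl⟩
    rw [map_pow]
    refine IsUnit.pow n (show IsUnit ((G.diagram.map _).hom _) from ?_)
    have := congr($(G.diagramMap.naturality (homOfLE (U.basicOpen_le r)).op) r)
    refine Eq.subst (motive := IsUnit) this ?_
    exact (RingedSpace.isUnit_res_basicOpen _ r).map (G.diagramMap.app (op (U.basicOpen r))).hom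
  · obtain ⟨k, w, hw, ew⟩ := G.exists_pow_alg U.2 r z.2
    refine ⟨(⟨w, hw⟩, ⟨_, k, rfl⟩), Subtype.ext ?_⟩
    let z' : Γ(X, h ⁻¹ᵁ S.basicOpen r) := z.1
    show z' * ρ ((h.app U.1 r) ^ k) = ρ w
    rw [map_pow, mul_comm]
    exact ew.symm
  · have hab' : ρ a.1 = ρ b.1 := congrArg Subtype.val hab
    obtain ⟨⟨_, n, rfl⟩, hn⟩ := IsLocalization.exists_of_eq (M := Submonoid.powers (h.app U.1 r)) hab'
    exact ⟨⟨_, n, rfl⟩, Subtype.ext hn⟩

/-- The gluing data. -/
noncomputable def GenData.glueData := relativeGluingData G.coequifibered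

instance : (G.glueData.functor ⋙ Scheme.forget).IsLocallyDirected :=
  Scheme.Cover.RelativeGluingData.instIsLocallyDirectedI₀CompFunctorForgetOfIsThin ..

/-- The glued scheme. -/
noncomputable def GenData.model : Scheme.{u} := G.glueData.glued

/-- Its cover. -/
noncomputable def GenData.modelCover : G.model.OpenCover := G.glueData.cover

/-- The structure morphism. -/
noncomputable def GenData.toBase : G.model ⟶ S := G.glueData.toBase

theorem GenData.ι_toBase (U : S.affineOpens) :
    G.modelCover.f U ≫ G.toBase = Spec.map (G.diagramMap.app (op U)) ≫ U.2.fromSpec :=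
  colimit.ι_desc _ _

theorem GenData.toBase_preimage (U : S.affineOpens) :
    G.toBase ⁻¹ᵁ U = (G.modelCover.f U).opensRange := by
  simpa using! G.glueData.toBase_preimage_eq_opensRange_ι U

set_option backward.defeqAttrib.useBackward true in
set_option backward.isDefEq.respectTransparency false in
/-- The morphism from `X` to the model. -/
noncomputable def GenData.toModel : X ⟶ G.model :=
  Scheme.OpenCover.glueMorphismsOfLocallyDirected
    ((directedCover S).pullback₁ h)
    (fun U => (pullbackRestrictIsoRestrict h _).hom ≫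
      (h ⁻¹ᵁ U.1).toSpecΓ ≫ Spec.map (CommRingCat.ofHom (G.alg U.1).subtype) ≫ G.modelCover.f U)
    fun {U V : S.AffineZariskiSite} i => by
  have : (pullbackRestrictIsoRestrict h U.1).inv ≫
      Scheme.Cover.trans ((directedCover S).pullback₁ h) i ≫
      (pullbackRestrictIsoRestrict h V.1).hom = X.homOfLE
        (h.preimage_mono (toOpens_mono i.1.1)) := by
    rw [← cancel_mono (Scheme.Opens.ι _)]
    simp +instances [Scheme.Cover.trans, Scheme.Cover.locallyDirectedPullbackCover]
  rw [← Iso.inv_comp_eq, reassoc_of% this, ← Scheme.Opens.toSpecΓ_SpecMap_presheaf_map_assoc,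
    ← Spec.map_comp_assoc]
  dsimp [GenData.modelCover]
  rw [← colimit.w G.glueData.functor i]
  dsimp [GenData.glueData, relativeGluingData]
  rw [← Spec.map_comp_assoc]
  rfl

set_option backward.defeqAttrib.useBackward true in
theorem GenData.ι_toModel (U : S.affineOpens) :
    (h ⁻¹ᵁ U.1).ι ≫ G.toModel = (h ⁻¹ᵁ U.1).toSpecΓ ≫
      Spec.map (CommRingCat.ofHom (G.alg U.1).subtype) ≫ G.modelCover.f U := by
  rw [← cancel_epi (pullbackRestrictIsoRestrict h U.1).hom, ← Category.assoc]
  trans ((directedCover S).pullback₁ h).f U ≫ G.toModel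
  · congr 1; simp
  delta GenData.toModel
  generalize_proofs _ _ _ _ H
  exact Scheme.OpenCover.map_glueMorphismsOfLocallyDirected _ _ H _

set_option backward.isDefEq.respectTransparency false in
theorem GenData.toModel_toBase : G.toModel ≫ G.toBase = h := by
  refine Scheme.Cover.hom_ext (X.openCoverOfIsOpenCover _
    (.comap (iSup_affineOpens_eq_top S) h.base.1)) _ _ fun U => ?_
  show (h ⁻¹ᵁ U.1).ι ≫ _ = (h ⁻¹ᵁ U.1).ι ≫ _
  rw [← Category.assoc, G.ι_toModel, Category.assoc, Category.assoc, G.ι_toBase, ← Spec.map_comp_assoc]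
  change (h ⁻¹ᵁ U.1).toSpecΓ ≫ Spec.map (h.app _) ≫ U.2.fromSpec = _
  simp

/-- The model is finite over the base when the generators are integral. -/
theorem GenData.isFinite_toBase [IsIntegralHom h] : IsFinite G.toBase := by
  rw [IsZariskiLocalAtTarget.iff_of_iSup_eq_top (P := @IsFinite) _ (iSup_affineOpens_eq_top S)]
  intro U
  let e := IsOpenImmersion.isoOfRangeEq (G.toBase ⁻¹ᵁ U).ι (G.modelCover.f U)
      (by simpa using congr($(G.toBase_preimage U).1))
  rw [← MorphismProperty.cancel_left_of_respectsIso @IsFinite e.inv,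
    ← MorphismProperty.cancel_right_of_respectsIso @IsFinite _ U.2.isoSpec.hom]
  convert! (IsFinite.SpecMap_iff _).mpr
    (show (G.diagramMap.app (op U)).hom.Finite from G.finite_alg U.2 (IsIntegralHom.isIntegral_app h _ U.2))
  rw [← cancel_mono U.2.fromSpec]
  simp [IsAffineOpen.isoSpec_hom, e, G.ι_toBase]
  rfl

set_option backward.isDefEq.respectTransparency false in
/-- Sections of the model over an affine piece. -/
theorem GenData.exists_objIso (U : S.affineOpens) :
    ∃ θ : Γ(G.model, G.toBase ⁻¹ᵁ U) ≅ CommRingCat.of (G.alg U.1),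
      G.toModel.appLE (G.toBase ⁻¹ᵁ U) (h ⁻¹ᵁ U.1)
          (by rw [← Scheme.Hom.comp_preimage, G.toModel_toBase]) =
        θ.hom ≫ CommRingCat.ofHom (G.alg U.1).subtype := by
  let θ : Γ(G.model, G.toBase ⁻¹ᵁ U) ≅ CommRingCat.of (G.alg U.1) :=
    G.model.presheaf.mapIso (eqToIso (by simpa using! (G.toBase_preimage U).symm)).op ≪≫
      (G.modelCover.f U).appIso ⊤ ≪≫ Scheme.ΓSpecIso _
  refine ⟨θ, ?_⟩
  have H : G.toModel ⁻¹ᵁ G.toBase ⁻¹ᵁ U =
      (h ⁻¹ᵁ U).ι ''ᵁ (((h ⁻¹ᵁ U).ι ≫ G.toModel) ⁻¹ᵁ G.toBase ⁻¹ᵁ U) := by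
    simp [← Scheme.Hom.comp_preimage, G.toModel_toBase]
  have H' : G.toModel.app (G.toBase ⁻¹ᵁ U) = θ.hom ≫ CommRingCat.ofHom (G.alg U.1).subtype ≫
      X.presheaf.map (eqToHom (by rw [← Scheme.Hom.comp_preimage, G.toModel_toBase])).op := by
    dsimp [θ]
    change _ = G.model.presheaf.map (eqToHom (by simp [G.toBase_preimage])).op ≫
        ((G.modelCover.f U).appIso _).hom ≫
        (Scheme.ΓSpecIso _).hom ≫
        CommRingCat.ofHom (G.alg U.1).subtype ≫
        X.presheaf.map (eqToHom (by rw [← Scheme.Hom.comp_preimage, G.toModel_toBase])).op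
    convert! congr($(Scheme.Hom.congr_app (G.ι_toModel U) (G.toBase ⁻¹ᵁ U)) ≫
      X.presheaf.map (eqToHom H).op) using 1
    · simp [Scheme.Hom.app_eq_appLE]
    dsimp
    simp only [eqToHom_op, Scheme.Hom.appIso_hom, Category.assoc, Scheme.Hom.naturality_assoc,
      eqToHom_unop, ← Functor.map_comp_assoc, eqToHom_map (TopologicalSpace.Opens.map _), eqToHom_trans]
    congr 1
    rw [← IsIso.eq_inv_comp, ← Functor.map_inv, inv_eqToHom]
    simp [← Functor.map_comp, Scheme.Opens.toSpecΓ_appTop,
      Scheme.ΓSpecIso_naturality_assoc (CommRingCat.ofHom _)]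
    rfl
  rw [Scheme.Hom.appLE, H', Category.assoc, Category.assoc, ← Functor.map_comp]
  simp
  exact Category.comp_id _

end MiscFlat6
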