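import Mathlib

/-!
# Closed immersions from one fibre
-/

set_option autoImplicit false
universe u

open CategoryTheory Limits AlgebraicGeometry TensorProduct

namespace MiscFlat6

/-- A finite algebra equal to the base in one fibre is generated by the base near that prime. -/
theorem exists_notMem_mul_mem_range {A B : Type u} [CommRing A] [CommRing B] [Algebra A B] [Module.Finite A B]
    (p : Ideal A) [p.IsPrime] (h : Function.Surjective (algebraMap p.ResidueField (p.Fiber B))) :
    ∃ a ∉ p, ∀ b : B, algebraMap A B a * b ∈ (algebraMap A B).range := by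
  let R₀ := LinearMap.range (Algebra.linearMap A B)
  have hsub : Subsingleton (p.ResidueField ⊗[A] (B ⧸ R₀)) := by
    refine subsingleton_of_forall_eq 0 fun z => ?_
    obtain ⟨w, rfl⟩ := LinearMap.lTensor_surjective p.ResidueField (Submodule.mkQ_surjective R₀) z
    obtain ⟨r, hr⟩ := h w
    rw [← hr, Algebra.TensorProduct.algebraMap_apply, LinearMap.lTensor_tmul]
    rw [show R₀.mkQ (1 : B) = 0 from (Submodule.Quotient.mk_eq_zero _).mpr ⟨1, (algebraMap A B).map_one⟩, tmul_zero]
  have hp : (⟨p, ‹_›⟩ : PrimeSpectrum A) ∉ Module.support A (B ⧸ R₀) := fun hp =>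
    not_nontrivial_iff_subsingleton.mpr hsub
      ((Module.mem_support_iff_nontrivial_residueField_tensorProduct _).mp hp)
  rw [Module.support_eq_zeroLocus, PrimeSpectrum.mem_zeroLocus, Set.not_subset] at hp
  obtain ⟨a, ha, hap⟩ := hp
  refine ⟨a, hap, fun b => ?_⟩
  obtain ⟨r, hr⟩ := (Submodule.Quotient.mk_eq_zero R₀).mp
    (show (Submodule.Quotient.mk (a • b) : B ⧸ R₀) = 0 from
      (Submodule.Quotient.mk_smul R₀ a b).trans (Module.mem_annihilator.mp ha _))
  exact ⟨r, hr.trans (Algebra.smul_def _ _)⟩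

/-- A finite morphism to an affine scheme is a closed immersion near a point with trivial fibre. -/
theorem exists_isClosedImmersion {X Y : Scheme.{u}} (f : X ⟶ Y) {U : Y.Opens} (hU : IsAffineOpen U)
    (hfin : IsFinite (f ∣_ U)) (y : Y) (hy : y ∈ U) (hiso : IsIso (f.fiberToSpecResidueField y)) :
    ∃ U' : Y.Opens, y ∈ U' ∧ IsClosedImmersion (f ∣_ U') := by
  haveI : IsAffine (U : Scheme.{u}) := hU
  have hW : IsAffineOpen (f ⁻¹ᵁ U) := isAffine_of_isAffineHom (f ∣_ U)
  haveI : IsAffine (f ⁻¹ᵁ U : Scheme.{u}) := hW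
  have hfinapp : (f.app U).hom.Finite := by
    have h := (f ∣_ U).finite_appTop
    rw [Scheme.Hom.app_eq_appLE]
    simp only [Scheme.Hom.appTop, morphismRestrict_app', TopologicalSpace.Opens.map_top] at h
    exact (Scheme.Hom.appLE_congr f _ U.ι_image_top (Scheme.Opens.ι_image_top _) (fun φ => φ.hom.Finite)).mp h
  letI := (f.app U).hom.toAlgebra
  haveI : Module.Finite Γ(Y, U) Γ(X, f ⁻¹ᵁ U) := hfinapp
  let g := Spec.map (CommRingCat.ofHom (algebraMap Γ(Y, U) Γ(X, f ⁻¹ᵁ U)))
  have hg : g ≫ hU.fromSpec = hW.fromSpec ≫ f := by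
    have e := IsAffineOpen.SpecMap_appLE_fromSpec f hU hW le_rfl
    rw [← Scheme.Hom.app_eq_appLE] at e
    exact e
  have hsq : IsPullback hW.fromSpec g f hU.fromSpec := by
    refine IsPullback.of_iso (isPullback_morphismRestrict f U).flip hW.isoSpec (Iso.refl _) hU.isoSpec (Iso.refl _)
      ?_ ?_ (by simp) ?_
    · simp [IsAffineOpen.isoSpec_hom_fromSpec]
    · rw [← cancel_mono hU.fromSpec, Category.assoc, IsAffineOpen.isoSpec_hom_fromSpec, morphismRestrict_ι,
        Category.assoc, hg, IsAffineOpen.isoSpec_hom_fromSpec_assoc]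
    · simp [IsAffineOpen.isoSpec_hom_fromSpec]
  let p := hU.primeIdealOf ⟨y, hy⟩
  have hp : hU.fromSpec p = y := hU.fromSpec_primeIdealOf ⟨y, hy⟩
  have h1 : IsIso (g.fiberToSpecResidueField p) := by
    haveI : IsIso (f.fiberToSpecResidueField (hU.fromSpec p)) := hp.symm ▸ hiso
    exact MorphismProperty.of_isPullback (P := MorphismProperty.isomorphisms Scheme)
      (isPullback_fiberToSpecResidueField_of_isPullback hsq p) ‹_›
  have h2 := ((MorphismProperty.isomorphisms Scheme).arrow_mk_iso_iff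
    (Spec.fiberToSpecResidueFieldIso Γ(Y, U) Γ(X, f ⁻¹ᵁ U) p)).mp h1
  haveI : IsIso (CommRingCat.ofHom (algebraMap p.asIdeal.ResidueField (p.asIdeal.Fiber Γ(X, f ⁻¹ᵁ U)))) := by
    haveI : IsIso (Scheme.Spec.map (CommRingCat.ofHom (algebraMap p.asIdeal.ResidueField
      (p.asIdeal.Fiber Γ(X, f ⁻¹ᵁ U)))).op) := h2
    haveI := isIso_of_fully_faithful Scheme.Spec (CommRingCat.ofHom (algebraMap p.asIdeal.ResidueField
      (p.asIdeal.Fiber Γ(X, f ⁻¹ᵁ U)))).op
    exact isIso_of_op _
  obtain ⟨a, ha, hab⟩ := exists_notMem_mul_mem_range p.asIdeal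
    (ConcreteCategory.bijective_of_isIso (CommRingCat.ofHom (algebraMap p.asIdeal.ResidueField
      (p.asIdeal.Fiber Γ(X, f ⁻¹ᵁ U))))).2
  refine ⟨Y.basicOpen a, ?_, ?_⟩
  · have h3 : p ∈ hU.fromSpec ⁻¹ᵁ Y.basicOpen a := by rw [hU.fromSpec_preimage_basicOpen]; exact ha
    exact hp ▸ (h3 : hU.fromSpec p ∈ Y.basicOpen a)
  · haveI : IsAffine (Y.basicOpen a : Scheme.{u}) := hU.basicOpen a
    have hW' : IsAffineOpen (f ⁻¹ᵁ Y.basicOpen a) := by rw [Scheme.preimage_basicOpen]; exact hW.basicOpen _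
    haveI : IsAffine (f ⁻¹ᵁ Y.basicOpen a : Scheme.{u}) := hW'
    have hsurj : Function.Surjective (f.appLE (Y.basicOpen a) (f ⁻¹ᵁ Y.basicOpen a) le_rfl).hom := by
      intro z
      let rX := (X.presheaf.map (homOfLE (f.preimage_mono (Y.basicOpen_le a))).op).hom
      let rY := (Y.presheaf.map (homOfLE (Y.basicOpen_le a)).op).hom
      let θ := (f.appLE (Y.basicOpen a) (f ⁻¹ᵁ Y.basicOpen a) le_rfl).hom
      have hcomm : θ.comp rY = rX.comp (f.app U).hom := by
        have : Y.presheaf.map (homOfLE (Y.basicOpen_le a)).op ≫ f.appLE (Y.basicOpen a) _ le_rfl =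
            f.app U ≫ X.presheaf.map (homOfLE (f.preimage_mono (Y.basicOpen_le a))).op := Scheme.Hom.map_appLE f le_rfl _
        exact congrArg CommRingCat.Hom.hom this
      letI : Algebra Γ(X, f ⁻¹ᵁ U) Γ(X, f ⁻¹ᵁ Y.basicOpen a) := rX.toAlgebra
      haveI : IsLocalization.Away (f.app U a) Γ(X, f ⁻¹ᵁ Y.basicOpen a) :=
        hW.isLocalization_of_eq_basicOpen (f.app U a) (homOfLE _) (Scheme.preimage_basicOpen f a)
      obtain ⟨⟨b, ⟨_, n, rfl⟩⟩, hb⟩ := IsLocalization.surj (Submonoid.powers (f.app U a)) z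
      obtain ⟨r, hr⟩ := hab b
      haveI := hU.isLocalization_basicOpen a
      obtain ⟨ua, hua⟩ : IsUnit (rY a) := IsLocalization.Away.algebraMap_isUnit (S := Γ(Y, Y.basicOpen a)) a
      refine ⟨rY r * (↑ua⁻¹ : Γ(Y, Y.basicOpen a)) ^ (n + 1), ?_⟩
      have hb' : z * rX (f.app U a) ^ n = rX b := by rw [← map_pow]; exact hb
      have h4 : θ (rY r) = z * θ (ua : Γ(Y, Y.basicOpen a)) ^ (n + 1) := by
        rw [hua, show θ (rY r) = rX (f.app U r) from congr($hcomm r),
          show θ (rY a) = rX (f.app U a) from congr($hcomm a)]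
        rw [show f.app U r = f.app U a * b from hr, map_mul, ← hb', pow_succ]
        ring
      show θ _ = z
      rw [map_mul, map_pow, h4, mul_assoc, ← mul_pow, ← map_mul, Units.mul_inv, map_one, one_pow, mul_one]
    refine (HasAffineProperty.iff_of_isAffine (P := @IsClosedImmersion)).mpr ⟨inferInstance, ?_⟩
    simp only [Scheme.Hom.appTop, morphismRestrict_app', TopologicalSpace.Opens.map_top]
    exact (Scheme.Hom.appLE_congr f _ (Y.basicOpen a).ι_image_top (Scheme.Opens.ι_image_top _)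
      (fun φ => Function.Surjective φ.hom)).mpr hsurj

end MiscFlat6
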