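import Groth.Agent.MiscFlat6.InvDual
import Groth.Agent.PerfLib.Strict
import Groth.Agent.PerfLib.Restrict
import Groth.Agent.QCohLib.QCoh
import Groth.Agent.QCohLib.Local

/-!
# Twisting a module by a cocycle of functions
-/

set_option autoImplicit false
universe u
open CategoryTheory CategoryTheory.Limits AlgebraicGeometry TopologicalSpace Opposite
open AmpleLib AmpleThLib

noncomputable section

namespace MiscFlat6

variable {X : Scheme.{u}}

/-- a multiplicative cocycle of functions on a cover -/
structure Cocycle (G : Type u) (D : G → X.Opens) where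
  c : ∀ a b, Γ(X, D a ⊓ D b)
  self : ∀ a, c a a = 1
  trans : ∀ (a b d : G) (V : X.Opens) (ha : V ≤ D a) (hb : V ≤ D b) (hd : V ≤ D d),
    rX (le_inf ha hb) (c a b) * rX (le_inf hb hd) (c b d) = rX (le_inf ha hd) (c a d)

variable {G : Type u} {D : G → X.Opens}

/-- the inverse cocycle -/
def Cocycle.inv (C : Cocycle G D) : Cocycle G D where
  c a b := rX (le_inf inf_le_right inf_le_left) (C.c b a)
  self a := by rw [C.self]; exact map_one (X.presheaf.map _).hom
  trans a b d V ha hb hd := by
    rw [rX_rX, rX_rX, rX_rX, mul_comm]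
    exact C.trans d b a V hd hb ha

variable (C : Cocycle G D) (M : X.Modules)

/-- compatible families of sections -/
def twSec (W : X.Opens) : AddSubgroup (∀ a : G, Γ(M, W ⊓ D a)) where
  carrier := {f | ∀ (a b : G) (V : X.Opens) (ha : V ≤ W ⊓ D a) (hb : V ≤ W ⊓ D b),
    res M ha (f a) = rX (le_inf (ha.trans inf_le_right) (hb.trans inf_le_right)) (C.c a b) • res M hb (f b)}
  zero_mem' := fun a b V ha hb => by simp [AmpleLib.res]
  add_mem' := fun {f g} hf hg a b V ha hb => by
    simp only [Pi.add_apply, AmpleLib.res, map_add, smul_add]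
    exact congr_arg₂ (· + ·) (hf a b V ha hb) (hg a b V ha hb)
  neg_mem' := fun {f} hf a b V ha hb => by
    simp only [Pi.neg_apply, AmpleLib.res, map_neg, smul_neg]
    exact congrArg Neg.neg (hf a b V ha hb)

instance twSMul (U : (Opens X)ᵒᵖ) : SMul (X.ringCatSheaf.obj.obj U) (twSec C M U.unop) :=
  ⟨fun r f => ⟨fun a => rX (inf_le_left : U.unop ⊓ D a ≤ U.unop) (show Γ(X, U.unop) from r) • f.1 a, fun a b V ha hb => by
    rw [res_smul, res_smul, f.2 a b V ha hb, smul_smul, smul_smul]
    refine congrArg (fun t : Γ(X, V) => t • res M hb (f.1 b)) ?_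
    have h : X.presheaf.map (homOfLE ha).op (rX inf_le_left (show Γ(X, U.unop) from r)) =
        X.presheaf.map (homOfLE hb).op (rX inf_le_left (show Γ(X, U.unop) from r)) :=
      (rX_rX _ _ _).trans (rX_rX _ _ _).symm
    exact (congrArg (· * _) h).trans (mul_comm _ _)⟩⟩

theorem twSMul_val (U : (Opens X)ᵒᵖ) (r : X.ringCatSheaf.obj.obj U) (f : twSec C M U.unop) (a : G) :
    (r • f).1 a = rX (inf_le_left : U.unop ⊓ D a ≤ U.unop) (show Γ(X, U.unop) from r) • f.1 a := rfl

instance twModule (U : (Opens X)ᵒᵖ) : Module (X.ringCatSheaf.obj.obj U) (twSec C M U.unop) where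
  one_smul f := Subtype.ext (funext fun a => by
    rw [twSMul_val]
    exact (congrArg (· • f.1 a) (map_one (X.presheaf.map _).hom)).trans (one_smul _ _))
  mul_smul r s f := Subtype.ext (funext fun a => by
    rw [twSMul_val, twSMul_val, twSMul_val]
    exact (congrArg (· • f.1 a) (map_mul (X.presheaf.map _).hom _ _)).trans (mul_smul _ _ _))
  smul_zero r := Subtype.ext (funext fun a => by rw [twSMul_val]; exact smul_zero _)
  smul_add r f g := Subtype.ext (funext fun a => by rw [twSMul_val]; exact smul_add _ _ _)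
  add_smul r s f := Subtype.ext (funext fun a => by
    rw [twSMul_val]
    exact (congrArg (· • f.1 a) (map_add (X.presheaf.map _).hom _ _)).trans (add_smul _ _ _))
  zero_smul f := Subtype.ext (funext fun a => by
    rw [twSMul_val]
    exact (congrArg (· • f.1 a) (map_zero (X.presheaf.map _).hom)).trans (zero_smul _ _))

/-- the underlying presheaf -/
def twAb : TopCat.Presheaf AddCommGrpCat.{u} X.toTopCat where
  obj U := AddCommGrpCat.of (twSec C M U.unop)
  map {U V} i := AddCommGrpCat.ofHom
    { toFun := fun f => ⟨fun a => res M (inf_le_inf_right (D a) i.unop.le) (f.1 a), fun a b T ha hb => by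
        rw [res_res, res_res]
        exact f.2 a b T _ _⟩
      map_zero' := Subtype.ext (funext fun a => map_zero (M.presheaf.map _).hom)
      map_add' := fun f g => Subtype.ext (funext fun a => map_add (M.presheaf.map _).hom _ _) }
  map_id U := ConcreteCategory.hom_ext _ _ fun f => Subtype.ext (funext fun a => res_refl M (f.1 a))
  map_comp {U V W} i j := ConcreteCategory.hom_ext _ _ fun f => Subtype.ext (funext fun a => by
    exact (res_res M _ _ _).symm)

instance twAbModule (U : (Opens X)ᵒᵖ) : Module (X.ringCatSheaf.obj.obj U) ((twAb C M).obj U) :=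
  twModule C M U

theorem twAb_map_smul {U V : (Opens X)ᵒᵖ} (i : U ⟶ V) (r : X.ringCatSheaf.obj.obj U)
    (f : (twAb C M).obj U) :
    (twAb C M).map i (r • f) = X.ringCatSheaf.obj.map i r • (twAb C M).map i f := by
  refine Subtype.ext (funext fun a => ?_)
  refine (res_smul M _ _ _).trans ?_
  refine congr_arg₂ (· • ·) ?_ rfl
  exact (rX_rX _ _ _).trans (rX_rX _ i.unop.le _).symm

theorem twAb_isSheaf : TopCat.Presheaf.IsSheaf (twAb C M) := by
  classical
  rw [TopCat.Presheaf.isSheaf_iff_isSheafUniqueGluing]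
  intro ι U sf hsf
  let f : ∀ i, twSec C M (U i) := fun i => sf i
  let F : TopCat.Sheaf AddCommGrpCat.{u} X.toTopCat := ⟨M.presheaf, M.isSheaf⟩
  have hcov : ∀ a : G, iSup U ⊓ D a ≤ ⨆ i, U i ⊓ D a := fun a => (iSup_inf_eq U (D a)).le
  choose g hg hguniq using fun a : G => TopCat.Sheaf.existsUnique_gluing' (F := F) (fun i => U i ⊓ D a)
    (iSup U ⊓ D a) (fun i => homOfLE (inf_le_inf_right (D a) (le_iSup U i))) (hcov a)
    (fun i => (f i).1 a) (fun i j => by
      have hle : (U i ⊓ D a) ⊓ (U j ⊓ D a) ≤ (U i ⊓ U j) ⊓ D a :=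
        le_inf (le_inf (inf_le_left.trans inf_le_left) (inf_le_right.trans inf_le_left))
          (inf_le_left.trans inf_le_right)
      have h1 := congrArg (res M hle) (congr_fun (congrArg Subtype.val (hsf i j)) a)
      exact ((res_res M _ _ _).symm.trans h1).trans (res_res M _ _ _))
  have hmem : g ∈ twSec C M (iSup U) := by
    intro a b V ha hb
    refine TopCat.Sheaf.eq_of_locally_eq' (F := F) (fun i => V ⊓ U i) V (fun i => homOfLE inf_le_left)
      (fun y hy => ?_) _ _ fun i => ?_
    · obtain ⟨i, hi⟩ := Opens.mem_iSup.mp (ha hy).1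
      exact Opens.mem_iSup.mpr ⟨i, hy, hi⟩
    · have ha' : V ⊓ U i ≤ U i ⊓ D a := le_inf inf_le_right (inf_le_left.trans (ha.trans inf_le_right))
      have hb' : V ⊓ U i ≤ U i ⊓ D b := le_inf inf_le_right (inf_le_left.trans (hb.trans inf_le_right))
      have h3 := (f i).2 a b (V ⊓ U i) ha' hb'
      rw [← show res M (inf_le_inf_right (D b) (le_iSup U i)) (g b) = (f i).1 b from hg b i,
        ← show res M (inf_le_inf_right (D a) (le_iSup U i)) (g a) = (f i).1 a from hg a i, res_res, res_res] at h3
      show res M inf_le_left (res M ha (g a)) = res M inf_le_left (_ • res M hb (g b))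
      rw [res_res, res_smul, res_res]
      refine h3.trans (congrArg (· • _) (rX_rX _ _ _).symm)
  refine ⟨⟨g, hmem⟩, fun i => Subtype.ext (funext fun a => hg a i), fun s hs => Subtype.ext (funext fun a => ?_)⟩
  exact hguniq a (s.1 a) fun i => congr_fun (congrArg Subtype.val (hs i)) a

/-- the twisted module -/
def tw : X.Modules :=
  { val := PresheafOfModules.ofPresheaf (R := X.ringCatSheaf.obj) (twAb C M)
      (fun _ _ i r f => twAb_map_smul C M i r f)
    isSheaf := twAb_isSheaf C M }

variable {C M}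

/-- the component of a section of the twist -/
def twVal {W : X.Opens} (f : Γ(tw C M, W)) (a : G) : Γ(M, W ⊓ D a) := (show twSec C M W from f).1 a

theorem tw_ext {W : X.Opens} {f g : Γ(tw C M, W)} (h : ∀ a, twVal f a = twVal g a) : f = g :=
  Subtype.ext (funext h)

theorem twVal_smul {W : X.Opens} (r : Γ(X, W)) (f : Γ(tw C M, W)) (a : G) :
    twVal (r • f) a = rX (inf_le_left : W ⊓ D a ≤ W) r • twVal f a := rfl

theorem twVal_add {W : X.Opens} (f g : Γ(tw C M, W)) (a : G) : twVal (f + g) a = twVal f a + twVal g a := rfl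

theorem twVal_zero {W : X.Opens} (a : G) : twVal (0 : Γ(tw C M, W)) a = 0 := rfl

theorem twVal_res {V W : X.Opens} (h : V ≤ W) (f : Γ(tw C M, W)) (a : G) :
    twVal (res (tw C M) h f) a = res M (inf_le_inf_right (D a) h) (twVal f a) := rfl

theorem twVal_compat {W : X.Opens} (f : Γ(tw C M, W)) (a b : G) {V : X.Opens} (ha : V ≤ W ⊓ D a)
    (hb : V ≤ W ⊓ D b) :
    res M ha (twVal f a) =
      rX (le_inf (ha.trans inf_le_right) (hb.trans inf_le_right)) (C.c a b) • res M hb (twVal f b) :=
  (show twSec C M W from f).2 a b V ha hb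

/-- a section from a compatible family -/
def twMk {W : X.Opens} (f : ∀ a, Γ(M, W ⊓ D a))
    (h : ∀ (a b : G) (V : X.Opens) (ha : V ≤ W ⊓ D a) (hb : V ≤ W ⊓ D b),
      res M ha (f a) = rX (le_inf (ha.trans inf_le_right) (hb.trans inf_le_right)) (C.c a b) • res M hb (f b)) :
    Γ(tw C M, W) := (show twSec C M W from ⟨f, h⟩)

theorem twVal_mk {W : X.Opens} (f : ∀ a, Γ(M, W ⊓ D a)) (h) (a : G) : twVal (twMk (C := C) f h) a = f a := rfl

/-- sections of the twist below a chart -/
def twUntriv {W : X.Opens} (a : G) (hW : W ≤ D a) (m : Γ(M, W)) : Γ(tw C M, W) :=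
  twMk (fun b => rX (le_inf inf_le_right (inf_le_left.trans hW)) (C.c b a) • res M inf_le_left m)
    fun b d V hb hd => by
      rw [res_smul, res_smul, res_res, res_res, smul_smul]
      refine congrArg (fun r : Γ(X, V) => r • res M _ m) ?_
      show rX hb (rX _ (C.c b a)) = rX _ (C.c b d) * rX hd (rX _ (C.c d a))
      rw [rX_rX, rX_rX]
      exact (C.trans b d a V (hb.trans inf_le_right) (hd.trans inf_le_right)
        ((hb.trans inf_le_left).trans hW)).symm

theorem twVal_untriv_self {W : X.Opens} (a : G) (hW : W ≤ D a) (m : Γ(M, W)) :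
    twVal (twUntriv (C := C) a hW m) a = res M inf_le_left m := by
  rw [twUntriv, twVal_mk, C.self, show rX _ (1 : Γ(X, D a ⊓ D a)) = 1 from map_one (X.presheaf.map _).hom, one_smul]

theorem twUntriv_val {W : X.Opens} (a : G) (hW : W ≤ D a) (f : Γ(tw C M, W)) :
    twUntriv a hW (res M (le_inf le_rfl hW) (twVal f a)) = f :=
  tw_ext fun b => by
    rw [twUntriv, twVal_mk, res_res]
    exact ((twVal_compat f b a (V := W ⊓ D b) le_rfl (le_inf inf_le_left (inf_le_left.trans hW))).symm).trans
      (res_refl M _)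

variable (C)

/-- functoriality of twisting -/
def twMap {M M' : X.Modules} (q : M ⟶ M') : tw C M ⟶ tw C M' :=
  ⟨PresheafOfModules.homMk (M₁ := (tw C M).val) (M₂ := (tw C M').val)
    { app := fun U => AddCommGrpCat.ofHom
        { toFun := fun f => twMk (fun a => q.app _ (twVal f a)) fun a b V ha hb => by
            have h := congrArg (q.app V) (twVal_compat f a b ha hb)
            rw [QCohLib.app_smul] at h
            exact (QCohLib.app_map q (homOfLE ha) _).symm.trans (h.trans
              (congrArg (_ • ·) (QCohLib.app_map q (homOfLE hb) _)))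
          map_zero' := tw_ext fun a => map_zero (q.app _).hom
          map_add' := fun f g => tw_ext fun a => map_add (q.app _).hom _ _ }
      naturality := fun U V i => by
        refine ConcreteCategory.hom_ext _ _ fun f => tw_ext fun a => ?_
        exact QCohLib.app_map q (homOfLE (inf_le_inf_right (D a) i.unop.le)) (twVal f a) }
    (fun U r f => tw_ext fun a => QCohLib.app_smul q _ _ _)⟩

theorem twVal_map {M M' : X.Modules} (q : M ⟶ M') {W : X.Opens} (f : Γ(tw C M, W)) (a : G) :
    twVal ((twMap C q).app W f) a = q.app _ (twVal f a) := rfl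

variable (M)

theorem image_le_opens {U : X.Opens} (W : (U : Scheme.{u}).Opens) : U.ι ''ᵁ W ≤ U :=
  (U.ι.image_mono le_top).trans U.ι_image_top.le

/-- the trivialisation over a chart -/
def twTriv (a : G) : (tw C M).restrict (D a).ι ⟶ M.restrict (D a).ι :=
  ⟨PresheafOfModules.homMk (M₁ := ((tw C M).restrict (D a).ι).val) (M₂ := (M.restrict (D a).ι).val)
    { app := fun U => AddCommGrpCat.ofHom
        { toFun := fun f => res M (le_inf le_rfl (image_le_opens U.unop))
            (twVal (show Γ(tw C M, (D a).ι ''ᵁ U.unop) from f) a)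
          map_zero' := map_zero (M.presheaf.map _).hom
          map_add' := fun f g => map_add (M.presheaf.map _).hom _ _ }
      naturality := fun U V i => by
        refine ConcreteCategory.hom_ext _ _ fun f => ?_
        have h1 : (D a).ι ''ᵁ V.unop ≤ (D a).ι ''ᵁ U.unop := (D a).ι.image_mono i.unop.le
        show res M (le_inf le_rfl (image_le_opens V.unop)) (res M (inf_le_inf_right (D a) h1)
            (twVal (show Γ(tw C M, (D a).ι ''ᵁ U.unop) from f) a)) =
          res M h1 (res M (le_inf le_rfl (image_le_opens U.unop))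
            (twVal (show Γ(tw C M, (D a).ι ''ᵁ U.unop) from f) a))
        rw [res_res, res_res] }
    (fun U r f => by
      refine (res_smul M _ _ _).trans ?_
      refine congr_arg₂ (fun (s : Γ(X, (D a).ι ''ᵁ U.unop)) (m : Γ(M, (D a).ι ''ᵁ U.unop)) => s • m) ?_ rfl
      exact (rX_rX _ _ _).trans (congr($(X.presheaf.map_id _) _)))⟩

theorem twTriv_bijective (a : G) (W : (D a : Scheme.{u}).Opens) :
    Function.Bijective ((twTriv C M a).app W) := by
  let V : X.Opens := (D a).ι ''ᵁ W
  have hV : V ≤ D a := image_le_opens W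
  constructor
  · intro f g h
    rw [← twUntriv_val a hV (show Γ(tw C M, V) from f), ← twUntriv_val a hV (show Γ(tw C M, V) from g)]
    exact congrArg (twUntriv a hV) h
  · intro m
    refine ⟨twUntriv a hV (show Γ(M, V) from m), ?_⟩
    show res M (le_inf le_rfl hV) (twVal (twUntriv (C := C) a hV (show Γ(M, V) from m)) a) = (show Γ(M, V) from m)
    rw [twVal_untriv_self, res_res, res_refl]

theorem nonempty_twTrivIso (a : G) : Nonempty ((tw C M).restrict (D a).ι ≅ M.restrict (D a).ι) :=
  ⟨@asIso _ _ _ _ (twTriv C M a) (QCohLib.isIso_of_bijective_affine _ fun W _ => twTriv_bijective C M a W)⟩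

theorem isQCoh_tw (hcov : ∀ x, ∃ a, x ∈ D a) [Coh.IsQCoh M] : Coh.IsQCoh (tw C M) := by
  refine QCohLib.isQCoh_of_cover _ D (eq_top_iff.mpr fun x _ => Opens.mem_iSup.mpr (hcov x)) fun a => ?_
  exact QCohLib.isQCoh_of_iso (nonempty_twTrivIso C M a).some.symm

theorem isFinLocFree_tw (hcov : ∀ x, ∃ a, x ∈ D a) (hM : FlatMod.IsFinLocFree M) :
    FlatMod.IsFinLocFree (tw C M) := by
  intro x
  obtain ⟨a, ha⟩ := hcov x
  obtain ⟨U, n, hxU, ⟨e⟩⟩ := hM x
  let T : X.Opens := U ⊓ D a
  obtain ⟨n', ⟨e'⟩⟩ := Groth.Agent.PerfLib.isFinFree_res_le (inf_le_left : T ≤ U) ⟨n, ⟨e⟩⟩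
  obtain ⟨i⟩ := nonempty_twTrivIso C M a
  have hT : T ≤ D a := inf_le_right
  exact ⟨T, n', ⟨hxU, ha⟩, ⟨(Scheme.Modules.restrictFunctorCongr (X.homOfLE_ι hT)).symm.app _ ≪≫
    (Scheme.Modules.restrictFunctorComp (X.homOfLE hT) (D a).ι).app _ ≪≫
    (Scheme.Modules.restrictFunctor (X.homOfLE hT)).mapIso i ≪≫
    ((Scheme.Modules.restrictFunctorComp (X.homOfLE hT) (D a).ι).app _).symm ≪≫
    (Scheme.Modules.restrictFunctorCongr (X.homOfLE_ι hT)).app _ ≪≫ e'⟩⟩

end MiscFlat6
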